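import Mathlib

set_option autoImplicit false
universe u
open CategoryTheory CategoryTheory.Limits

namespace Groth.Agent.H10.AbEx

theorem exact_mk₂ {A B C' : Type u} [AddCommGroup A] [AddCommGroup B] [AddCommGroup C']
    (f : A →+ B) (g : B →+ C') (hz : ∀ a, g (f a) = 0)
    (he : ∀ b, g b = 0 → ∃ a, f a = b) :
    (ComposableArrows.mk₂ (AddCommGrpCat.ofHom f) (AddCommGrpCat.ofHom g)).Exact := by
  have hzero : AddCommGrpCat.ofHom f ≫ AddCommGrpCat.ofHom g = 0 := by
    ext a
    exact hz a
  have hex : (ShortComplex.mk _ _ hzero).Exact := by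
    rw [ShortComplex.ab_exact_iff]
    intro b hb
    exact he b hb
  exact hex.exact_toComposableArrows

end Groth.Agent.H10.AbEx
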