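import Mathlib

/-!
# Acyclicity by dimension shifting (helper10)

`ext_eq_zero_of_class`: if a class `P` of objects of an abelian category with enough injectives
contains the injectives, is closed under cokernels of monomorphisms, and `Hom(G, -)` is exact on
short exact sequences with kernel in `P`, then `Ext^{n+1}(G, F) = 0` for `F` in `P`.
-/

set_option autoImplicit false
universe w v u
open CategoryTheory CategoryTheory.Limits CategoryTheory.Abelian

namespace Groth.Agent.H10.Acyc

variable {C : Type u} [Category.{v} C] [Abelian C] [HasExt.{w} C] [EnoughInjectives C]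

theorem ext_eq_zero_of_class (P : ObjectProperty C) (G : C)
    (hinj : ∀ I : C, Injective I → P I)
    (hcok : ∀ S : ShortComplex C, S.ShortExact → P S.X₁ → P S.X₂ → P S.X₃)
    (hlift : ∀ S : ShortComplex C, S.ShortExact → P S.X₁ →
      ∀ φ : G ⟶ S.X₃, ∃ ψ : G ⟶ S.X₂, ψ ≫ S.g = φ) :
    ∀ (n : ℕ) (F : C), P F → ∀ x : Ext.{w} G F (n + 1), x = 0 := by
  intro n
  induction n with
  | zero =>
    intro F hF x
    let S := ShortComplex.mk _ _ (cokernel.condition (Injective.ι F))
    have hS : S.ShortExact :=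
      { exact := ShortComplex.exact_of_g_is_cokernel _ (cokernelIsCokernel S.f) }
    obtain ⟨x₃, hx₃⟩ := Ext.covariant_sequence_exact₁ G hS x (Ext.eq_zero_of_injective _) rfl
    obtain ⟨ψ, hψ⟩ := hlift S hS hF (Ext.homEquiv₀ x₃)
    have e : x₃ = (Ext.mk₀ ψ).comp (Ext.mk₀ S.g) (zero_add 0) := by
      rw [Ext.mk₀_comp_mk₀, hψ, Ext.mk₀_homEquiv₀_apply]
    rw [← hx₃, e, Ext.comp_assoc _ _ _ (zero_add 0) (zero_add 1) (by lia), hS.comp_extClass,
      Ext.comp_zero]
  | succ n ih =>
    intro F hF x
    let S := ShortComplex.mk _ _ (cokernel.condition (Injective.ι F))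
    have hS : S.ShortExact :=
      { exact := ShortComplex.exact_of_g_is_cokernel _ (cokernelIsCokernel S.f) }
    obtain ⟨x₃, hx₃⟩ := Ext.covariant_sequence_exact₁ G hS x (Ext.eq_zero_of_injective _) rfl
    have hQ : P S.X₃ := hcok S hS hF (hinj _ inferInstance)
    rw [← hx₃, ih S.X₃ hQ x₃, Ext.zero_comp]

end Groth.Agent.H10.Acyc
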