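import Mathlib
import Groth.Agent.H10.Acyc

/-!
# Comparison of Ext groups along an exact functor, by dimension shifting (helper10)
-/

set_option autoImplicit false
universe w w' v v' u u'
open CategoryTheory CategoryTheory.Limits CategoryTheory.Abelian

namespace Groth.Agent.H10.Acyc

variable {C : Type u} [Category.{v} C] [Abelian C] [HasExt.{w} C] [EnoughInjectives C]
  {D : Type u'} [Category.{v'} D] [Abelian D] [HasExt.{w'} D]
  (T : C ⥤ D) [T.Additive]

theorem ext_addEquiv (P : ObjectProperty C) (G : C) (G' : D)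
    (hT : ∀ S : ShortComplex C, S.ShortExact → (ShortComplex.mk (T.map S.f) (T.map S.g)
      (by rw [← T.map_comp, S.zero, T.map_zero])).ShortExact)
    (hinj : ∀ I : C, Injective I → P I)
    (hG : ∀ (n : ℕ) (F : C), P F → ∀ x : Ext.{w} G F (n + 1), x = 0)
    (hG' : ∀ (n : ℕ) (F : C), P F → ∀ x : Ext.{w'} G' (T.obj F) (n + 1), x = 0)
    (e : ∀ F : C, Ext.{w} G F 0 ≃+ Ext.{w'} G' (T.obj F) 0)
    (he : ∀ {F F' : C} (g : F ⟶ F') (x : Ext.{w} G F 0),
      e F' (x.comp (Ext.mk₀ g) (add_zero 0)) =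
        (e F x).comp (Ext.mk₀ (T.map g)) (add_zero 0)) :
    ∀ (n : ℕ) (F : C), Nonempty (Ext.{w} G F n ≃+ Ext.{w'} G' (T.obj F) n) := by
  -- δ-isomorphisms
  have δiso : ∀ (S : ShortComplex C) (hS : S.ShortExact) (_ : P S.X₂) (m : ℕ),
      Function.Bijective (hS.extClass.postcomp G (rfl : (m + 1) + 1 = m + 2)) := by
    intro S hS hI m
    constructor
    · rw [injective_iff_map_eq_zero]
      intro x₃ hx₃
      obtain ⟨x₂, hx₂⟩ := Ext.covariant_sequence_exact₃ G hS x₃ rfl hx₃
      rw [← hx₂, hG m S.X₂ hI x₂, Ext.zero_comp]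
    · intro x₁
      exact Ext.covariant_sequence_exact₁ G hS x₁ (hG (m + 1) S.X₂ hI _) rfl
  have δiso' : ∀ (S : ShortComplex C) (hS : S.ShortExact) (_ : P S.X₂) (m : ℕ),
      Function.Bijective ((hT S hS).extClass.postcomp G' (rfl : (m + 1) + 1 = m + 2)) := by
    intro S hS hI m
    constructor
    · rw [injective_iff_map_eq_zero]
      intro x₃ hx₃
      obtain ⟨x₂, hx₂⟩ := Ext.covariant_sequence_exact₃ G' (hT S hS) x₃ rfl hx₃
      have h0 : x₂ = 0 := hG' m S.X₂ hI x₂
      subst h0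
      rw [← hx₂]
      exact Ext.zero_comp _ _ _ _ _
    · intro x₁
      exact Ext.covariant_sequence_exact₁ G' (hT S hS) x₁ (hG' (m + 1) S.X₂ hI _) rfl
  -- degree one
  have one : ∀ F : C, Nonempty (Ext.{w} G F 1 ≃+ Ext.{w'} G' (T.obj F) 1) := by
    intro F
    let S := ShortComplex.mk _ _ (cokernel.condition (Injective.ι F))
    have hS : S.ShortExact :=
      { exact := ShortComplex.exact_of_g_is_cokernel _ (cokernelIsCokernel S.f) }
    have hI : P S.X₂ := hinj _ inferInstance
    have hs : Function.Surjective (hS.extClass.postcomp G (rfl : 0 + 1 = 1)) := fun x₁ =>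
      Ext.covariant_sequence_exact₁ G hS x₁ (hG 0 S.X₂ hI _) rfl
    have hs' : Function.Surjective ((hT S hS).extClass.postcomp G' (rfl : 0 + 1 = 1)) :=
      fun x₁ => Ext.covariant_sequence_exact₁ G' (hT S hS) x₁ (hG' 0 S.X₂ hI _) rfl
    refine ⟨(QuotientAddGroup.quotientKerEquivOfSurjective _ hs).symm.trans
      ((QuotientAddGroup.congr _ _ (e S.X₃) ?_).trans
        (QuotientAddGroup.quotientKerEquivOfSurjective _ hs'))⟩
    ext y
    rw [AddSubgroup.mem_map]
    constructor
    · rintro ⟨x, hx, rfl⟩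
      have hx' : x.comp hS.extClass (rfl : 0 + 1 = 1) = 0 := AddMonoidHom.mem_ker.mp hx
      obtain ⟨x₂, hx₂⟩ := Ext.covariant_sequence_exact₃ G hS x rfl hx'
      rw [AddMonoidHom.mem_ker]
      show ((e S.X₃) x).comp (hT S hS).extClass (rfl : 0 + 1 = 1) = 0
      have h1 : (Ext.mk₀ (T.map S.g)).comp (hT S hS).extClass (zero_add 1) = 0 :=
        (hT S hS).comp_extClass
      have h2 : (e S.X₃) x = ((e S.X₂) x₂).comp (Ext.mk₀ (T.map S.g)) (add_zero 0) := by
        rw [← hx₂]; exact he S.g x₂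
      calc ((e S.X₃) x).comp (hT S hS).extClass (rfl : 0 + 1 = 1)
          = (((e S.X₂) x₂).comp (Ext.mk₀ (T.map S.g)) (add_zero 0)).comp
              (hT S hS).extClass (rfl : 0 + 1 = 1) := by rw [h2]
        _ = ((e S.X₂) x₂).comp ((Ext.mk₀ (T.map S.g)).comp (hT S hS).extClass (zero_add 1))
              (zero_add 1) := Ext.comp_assoc _ _ _ (add_zero 0) (zero_add 1) (by lia)
        _ = 0 := by rw [h1, Ext.comp_zero]
    · intro hy
      have hy' : y.comp (hT S hS).extClass (rfl : 0 + 1 = 1) = 0 := AddMonoidHom.mem_ker.mp hy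
      obtain ⟨y₂, hy₂⟩ := Ext.covariant_sequence_exact₃ G' (hT S hS) y rfl hy'
      refine ⟨((e S.X₂).symm y₂).comp (Ext.mk₀ S.g) (add_zero 0), ?_, ?_⟩
      · rw [AddMonoidHom.mem_ker]
        show (((e S.X₂).symm y₂).comp (Ext.mk₀ S.g) (add_zero 0)).comp hS.extClass
          (rfl : 0 + 1 = 1) = 0
        rw [Ext.comp_assoc _ _ _ (add_zero 0) (zero_add 1) (by lia), hS.comp_extClass,
          Ext.comp_zero]
      · show (e S.X₃) (((e S.X₂).symm y₂).comp (Ext.mk₀ S.g) (add_zero 0)) = y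
        rw [he, AddEquiv.apply_symm_apply]
        exact hy₂
  -- induction
  have all : ∀ (m : ℕ) (F : C), Nonempty (Ext.{w} G F (m + 1) ≃+ Ext.{w'} G' (T.obj F) (m + 1)) := by
    intro m
    induction m with
    | zero => exact one
    | succ m ih =>
      intro F
      let S := ShortComplex.mk _ _ (cokernel.condition (Injective.ι F))
      have hS : S.ShortExact :=
        { exact := ShortComplex.exact_of_g_is_cokernel _ (cokernelIsCokernel S.f) }
      have hI : P S.X₂ := hinj _ inferInstance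
      obtain ⟨a₂⟩ := ih S.X₃
      exact ⟨(AddEquiv.ofBijective _ (δiso S hS hI m)).symm.trans
        (a₂.trans (AddEquiv.ofBijective _ (δiso' S hS hI m)))⟩
  intro n F
  cases n with
  | zero => exact ⟨e F⟩
  | succ m => exact all m F

end Groth.Agent.H10.Acyc
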