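import Mathlib

/-!
# Abstract lemmas on adjunctions, fans and jointly conservative families (helper10)
-/

set_option autoImplicit false
universe w v u
open CategoryTheory CategoryTheory.Limits

namespace Groth.Agent.H10.AdjFan

variable {𝒜 : Type*} [Category 𝒜] {ℬ : Type*} [Category ℬ]

/-- If the right adjoint `H` of `G` is, objectwise, the product of right adjoints `R f` through
natural projections, then `G a` is the coproduct of the `L f a`. -/
theorem exists_cofan {G : 𝒜 ⥤ ℬ} {H : ℬ ⥤ 𝒜} (adj : G ⊣ H) {I : Type*}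
    {L : I → (𝒜 ⥤ ℬ)} {R : I → (ℬ ⥤ 𝒜)} (adjf : ∀ f, L f ⊣ R f) (π : ∀ f, H ⟶ R f)
    (hlim : ∀ b : ℬ, Nonempty (IsLimit (Fan.mk (H.obj b) (fun f => (π f).app b)))) (a : 𝒜) :
    ∃ c : Cofan (fun f => (L f).obj a), Nonempty (IsColimit c) ∧ Nonempty (c.pt ≅ G.obj a) := by
  let inj : ∀ f, (L f).obj a ⟶ G.obj a := fun f =>
    ((adjf f).homEquiv a (G.obj a)).symm (adj.unit.app a ≫ (π f).app (G.obj a))
  have key : ∀ (b : ℬ) (m : G.obj a ⟶ b) (f : I),
      (adjf f).homEquiv a b (inj f ≫ m) = adj.homEquiv a b m ≫ (π f).app b := by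
    intro b m f
    calc (adjf f).homEquiv a b (inj f ≫ m)
        = (adjf f).homEquiv a (G.obj a) (inj f) ≫ (R f).map m :=
          (adjf f).homEquiv_naturality_right _ _
      _ = (adj.unit.app a ≫ (π f).app (G.obj a)) ≫ (R f).map m := by
          rw [Equiv.apply_symm_apply]
      _ = adj.unit.app a ≫ (π f).app (G.obj a) ≫ (R f).map m := Category.assoc _ _ _
      _ = adj.unit.app a ≫ H.map m ≫ (π f).app b := by rw [(π f).naturality m]
      _ = (adj.unit.app a ≫ H.map m) ≫ (π f).app b := (Category.assoc _ _ _).symm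
      _ = adj.homEquiv a b m ≫ (π f).app b := by rw [Adjunction.homEquiv_unit]
  refine ⟨Cofan.mk (G.obj a) inj, ⟨Cofan.IsColimit.mk _ (fun t =>
    (adj.homEquiv a t.pt).symm (Fan.IsLimit.lift (hlim t.pt).some
      (fun f => (adjf f).homEquiv a t.pt (t.inj f)))) ?_ ?_⟩, ⟨Iso.refl _⟩⟩
  · intro t f
    apply ((adjf f).homEquiv a t.pt).injective
    show (adjf f).homEquiv a t.pt (inj f ≫ _) = _
    rw [key, Equiv.apply_symm_apply]
    exact Fan.IsLimit.fac _ _ f
  · intro t m hm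
    apply (adj.homEquiv a t.pt).injective
    rw [Equiv.apply_symm_apply]
    apply Fan.IsLimit.hom_ext (hlim t.pt).some
    intro f
    rw [Fan.IsLimit.fac]
    show adj.homEquiv a t.pt m ≫ (π f).app t.pt = _
    rw [← key]
    exact congrArg _ (hm f)

theorem isIso_proj_of_unique {𝒞 : Type*} [Category 𝒞] {I : Type*} [Unique I] {Z : I → 𝒞}
    {c : Fan Z} (hc : IsLimit c) : IsIso (c.proj default) := by
  refine ⟨Fan.IsLimit.lift hc (fun f => eqToHom (by rw [Subsingleton.elim f default])), ?_, ?_⟩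
  · apply Fan.IsLimit.hom_ext hc
    intro f
    obtain rfl : f = default := Subsingleton.elim _ _
    rw [Category.assoc, Fan.IsLimit.fac, Category.id_comp]
    simp
  · rw [Fan.IsLimit.fac]
    simp

/-- a family of functors that jointly reflects isomorphisms and preserves finite limits detects
preservation of finite limits -/
theorem preservesFiniteLimits_of_jointly {𝒯 : Type*} [Category 𝒯] (Λ : 𝒜 ⥤ 𝒯) {ι : Type*}
    {ℬ' : ι → Type u} [∀ j, Category.{v} (ℬ' j)] (ρ : ∀ j, 𝒯 ⥤ ℬ' j)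
    [HasFiniteLimits 𝒜] [HasFiniteLimits 𝒯] [∀ j, HasFiniteLimits (ℬ' j)]
    [∀ j, PreservesFiniteLimits (ρ j)]
    (hcons : ∀ {X Y : 𝒯} (g : X ⟶ Y), (∀ j, IsIso ((ρ j).map g)) → IsIso g)
    (h : ∀ j, PreservesFiniteLimits (Λ ⋙ ρ j)) : PreservesFiniteLimits Λ := by
  refine ⟨fun K _ _ => ⟨fun {D} => ?_⟩⟩
  have : IsIso (limit.post D Λ) := by
    apply hcons
    intro j
    have h1 : (ρ j).map (limit.post D Λ) ≫ limit.post (D ⋙ Λ) (ρ j) =
        limit.post D (Λ ⋙ ρ j) := limit.post_post D Λ (ρ j)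
    have h2 : IsIso (limit.post D (Λ ⋙ ρ j)) := inferInstance
    have h3 : IsIso (limit.post (D ⋙ Λ) (ρ j)) := inferInstance
    rw [← h1] at h2
    exact IsIso.of_isIso_comp_right _ (limit.post (D ⋙ Λ) (ρ j))
  exact preservesLimit_of_isIso_post _ _

end Groth.Agent.H10.AdjFan
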