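import Mathlib

set_option autoImplicit false

open CategoryTheory Limits

namespace Groth.Agent.H10.BCIso

variable {𝒞 : Type*} [Category 𝒞] [HasPullbacks 𝒞] {T S T' S' : 𝒞} {f : T ⟶ S} {g : S' ⟶ S}
  {g' : T' ⟶ T} {f' : T' ⟶ S'}

theorem isPullback_paste (c : IsPullback g' f' f g) (V : Over S') :
    IsPullback (pullback.fst V.hom f') (pullback.snd V.hom f' ≫ g') (V.hom ≫ g) f :=
  ((IsPullback.of_hasPullback V.hom f').flip.paste_horiz c).flip

/-- Beck–Chevalley isomorphism for `Over` categories. -/
noncomputable def bcIso (c : IsPullback g' f' f g) :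
    Over.pullback f' ⋙ Over.map g' ≅ Over.map g ⋙ Over.pullback f :=
  NatIso.ofComponents
    (fun V => Over.isoMk (isPullback_paste c V).isoPullback (by simp))
    (by
      intro V W k
      ext
      apply pullback.hom_ext
      · simp
        rw [pullback.lift_fst]
        erw [pullback.lift_fst]
        rw [IsPullback.isoPullback_hom_fst_assoc]
      · simp
        rw [pullback.lift_snd_assoc]
        erw [pullback.lift_snd]
        rw [IsPullback.isoPullback_hom_snd])

end Groth.Agent.H10.BCIso
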