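import Mathlib

set_option autoImplicit false

universe w v₁ v₂ v₃ u₁ u₂ u₃

open CategoryTheory Limits Opposite

namespace Groth.Agent.H10.ShriekEx

section Lifts

variable {C : Type u₁} [Category.{v₁} C] {D : Type u₂} [Category.{v₂} D] (G : C ⥤ D)

/-- `G` looks like a discrete fibration over `V`: every map `V ⟶ G W` factors uniquely through
one of a family of "universal" maps `e i : V ⟶ G (c i)`. -/
structure Lifts (V : D) where
  I : Type w
  c : I → C
  e : ∀ i, V ⟶ G.obj (c i)
  uniq : ∀ (W : C) (g : V ⟶ G.obj W), ∃! (p : Σ i, c i ⟶ W), e p.1 ≫ G.map p.2 = g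

variable {G} {V : D} (L : Lifts.{w} G V)

/-- the functor from the discrete index category to structured arrows -/
def Lifts.ι : Discrete L.I ⥤ StructuredArrow V G :=
  Discrete.functor (fun i => StructuredArrow.mk (L.e i))

set_option backward.isDefEq.respectTransparency false in
instance Lifts.ι_initial : L.ι.Initial := by
  constructor
  intro d
  obtain ⟨p, hp, hu⟩ := L.uniq d.right d.hom
  let x₀ : CostructuredArrow L.ι d :=
    CostructuredArrow.mk (S := L.ι) (T := d) (Y := Discrete.mk p.1)
      (StructuredArrow.homMk (f := StructuredArrow.mk (L.e p.1)) (f' := d) p.2 hp)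
  have key : ∀ x : CostructuredArrow L.ι d, x = x₀ := by
    intro x
    obtain ⟨⟨i⟩, ⟨⟨⟩⟩, m⟩ := x
    have h1 := hu ⟨i, m.right⟩ (StructuredArrow.w m)
    subst h1
    rfl
  have : Nonempty (CostructuredArrow L.ι d) := ⟨x₀⟩
  refine zigzag_isConnected (fun j₁ j₂ => ?_)
  rw [key j₁, key j₂]

/-- the final functor to costructured arrows of `G.op` -/
noncomputable def Lifts.φ : Discrete L.I ⥤ CostructuredArrow G.op (op V) :=
  (Discrete.opposite L.I).inverse ⋙ L.ι.op ⋙ (structuredArrowOpEquivalence G V).functor

instance Lifts.φ_final : L.φ.Final := by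
  unfold Lifts.φ
  infer_instance

end Lifts

section Lan

variable {C : Type u₁} [Category.{v₁} C] {D : Type u₂} [Category.{v₂} D]
  (E : Type u₃) [Category.{v₃} E]

set_option backward.defeqAttrib.useBackward true in
set_option backward.isDefEq.respectTransparency false in
/-- universe-general version of `lanEvaluationIsoColim`. -/
noncomputable def lanEvaluationIsoColim' (F : C ⥤ D) (X : D)
    [∀ X : D, HasColimitsOfShape (CostructuredArrow F X) E] :
    F.lan ⋙ (evaluation D E).obj X ≅
      (Functor.whiskeringLeft _ _ E).obj (CostructuredArrow.proj F X) ⋙ colim :=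
  NatIso.ofComponents (fun G =>
    IsColimit.coconePointUniqueUpToIso
    (Functor.isPointwiseLeftKanExtensionLeftKanExtensionUnit F G X)
    (colimit.isColimit _)) (fun {G₁ G₂} φ => by
      apply (Functor.isPointwiseLeftKanExtensionLeftKanExtensionUnit F G₁ X).hom_ext
      intro T
      have h₁ := fun (G : C ⥤ E) => IsColimit.comp_coconePointUniqueUpToIso_hom
        (Functor.isPointwiseLeftKanExtensionLeftKanExtensionUnit F G X) (colimit.isColimit _) T
      have h₂ := congr_app (F.lanUnit.naturality φ) T.left
      dsimp at h₁ h₂ ⊢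
      simp only [Category.assoc] at h₁ ⊢
      simp only [Functor.lan, Functor.lanUnit] at h₂ ⊢
      rw [reassoc_of% h₁, NatTrans.naturality_assoc, ← reassoc_of% h₂, h₁,
        ι_colimMap, Functor.whiskerLeft_app]
      rfl)

theorem lan_preservesFiniteLimits (G : C ⥤ D) [HasFiniteLimits E]
    [∀ K : Dᵒᵖ, HasColimitsOfShape (CostructuredArrow G.op K) E]
    [∀ I : Type w, HasColimitsOfShape (Discrete I) E]
    [∀ I : Type w, HasExactColimitsOfShape (Discrete I) E]
    (L : ∀ V : D, Lifts.{w} G V) :
    PreservesFiniteLimits (G.op.lan : (Cᵒᵖ ⥤ E) ⥤ (Dᵒᵖ ⥤ E)) := by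
  constructor
  intro J _ _
  apply preservesLimitsOfShape_of_evaluation (G.op.lan : (Cᵒᵖ ⥤ E) ⥤ Dᵒᵖ ⥤ E) J
  intro K
  have : HasExactColimitsOfShape (CostructuredArrow G.op K) E :=
    hasExactColimitsOfShape_of_final E (L K.unop).φ
  have : PreservesFiniteLimits (colim : (CostructuredArrow G.op K ⥤ E) ⥤ E) :=
    HasExactColimitsOfShape.preservesFiniteLimits
  exact preservesLimitsOfShape_of_natIso (lanEvaluationIsoColim' E G.op K).symm

end Lan

section Sheaf

variable {C : Type u₁} [Category.{v₁} C] {D : Type u₂} [Category.{v₂} D]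
  (G : C ⥤ D) (A : Type u₃) [Category.{v₃} A]
  (J : GrothendieckTopology C) (K : GrothendieckTopology D) [G.IsContinuous J K]

theorem sheafPullback_preservesFiniteLimits [HasFiniteLimits A]
    [∀ K : Dᵒᵖ, HasColimitsOfShape (CostructuredArrow G.op K) A]
    [HasSheafify K A]
    [(G.sheafPushforwardContinuous A J K).IsRightAdjoint]
    [∀ I : Type w, HasColimitsOfShape (Discrete I) A]
    [∀ I : Type w, HasExactColimitsOfShape (Discrete I) A]
    (L : ∀ V : D, Lifts.{w} G V) :
    PreservesFiniteLimits (G.sheafPullback A J K) := by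
  have := lan_preservesFiniteLimits.{w} A G L
  have : PreservesFiniteLimits (G.op.lan ⋙ presheafToSheaf K A) :=
    comp_preservesFiniteLimits _ _
  have : PreservesFiniteLimits (Functor.sheafPullbackConstruction.sheafPullback G A J K) := by
    unfold Functor.sheafPullbackConstruction.sheafPullback
    apply comp_preservesFiniteLimits
  exact preservesFiniteLimits_of_natIso
    (Functor.sheafPullbackConstruction.sheafPullbackIso G A J K).symm

end Sheaf


section OverMap

variable {𝒞 : Type u₁} [Category.{v₁} 𝒞] {S T : 𝒞} (f : T ⟶ S)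

/-- `Over.map f` is a discrete fibration. -/
def liftsOverMap (V : Over S) : Lifts.{v₁} (Over.map f) V where
  I := {φ : V.left ⟶ T // φ ≫ f = V.hom}
  c φ := Over.mk φ.1
  e φ := Over.homMk (𝟙 _) (by simpa using φ.2)
  uniq W g := by
    have hg : g.left ≫ W.hom ≫ f = V.hom := by simpa using Over.w g
    refine ⟨⟨⟨g.left ≫ W.hom, by simpa using hg⟩, Over.homMk g.left rfl⟩, ?_, ?_⟩
    · ext; simp
    · rintro ⟨⟨φ, hφ⟩, h⟩ hp
      have hl : h.left = g.left := by
        have := congrArg CommaMorphism.left hp
        simpa using this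
      have hφ' : φ = g.left ≫ W.hom := by rw [← hl]; exact (Over.w h).symm
      subst hφ'
      refine Sigma.ext rfl (heq_of_eq ?_)
      ext
      exact hl

end OverMap

section MPOverMap

variable {𝒞 : Type u₁} [Category.{v₁} 𝒞] (P : MorphismProperty 𝒞) [P.IsStableUnderComposition]
  [P.HasOfPostcompProperty P] {U X : 𝒞} {j : U ⟶ X} (hj : P j)

set_option backward.isDefEq.respectTransparency false in
/-- `MorphismProperty.Over.map ⊤ hj` is a discrete fibration. -/
def liftsMPOverMap (V : P.Over ⊤ X) : Lifts.{v₁} (MorphismProperty.Over.map ⊤ hj) V where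
  I := {φ : V.left ⟶ U // φ ≫ j = V.hom}
  c φ := MorphismProperty.Over.mk ⊤ φ.1
    (P.of_postcomp (W' := P) φ.1 j hj (by rw [φ.2]; exact V.prop))
  e φ := MorphismProperty.Over.homMk (𝟙 _) (by simpa using φ.2) trivial
  uniq W g := by
    have hg : g.left ≫ W.hom ≫ j = V.hom := by simpa using MorphismProperty.Over.w g
    refine ⟨⟨⟨g.left ≫ W.hom, by simpa using hg⟩,
      MorphismProperty.Over.homMk g.left rfl trivial⟩, ?_, ?_⟩
    · ext; simp
    · rintro ⟨⟨φ, hφ⟩, h⟩ hp
      have hl : h.left = g.left := by
        have := congrArg (fun k => k.left) hp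
        simpa using this
      have hφ' : φ = g.left ≫ W.hom := by
        rw [← hl]; exact (MorphismProperty.Over.w h).symm
      subst hφ'
      refine Sigma.ext rfl (heq_of_eq ?_)
      ext
      exact hl

end MPOverMap


section Triple

variable {C : Type u₁} [Category.{v₁} C] {D : Type u₂} [Category.{v₂} D]
  {G : C ⥤ D} {R : D ⥤ C} (adj : G ⊣ R) (A : Type u₃) [Category.{v₃} A]
  (J : GrothendieckTopology C) (K : GrothendieckTopology D)
  [G.IsContinuous J K] [R.IsContinuous K J]

theorem isIso_counit_of_isIso_unit [IsIso adj.unit] :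
    IsIso (adj.sheafPushforwardContinuous (E := A) J K).counit := by
  have : ∀ P, IsIso ((adj.sheafPushforwardContinuous (E := A) J K).counit.app P) := by
    intro P
    have : IsIso ((sheafToPresheaf J A).map
        ((adj.sheafPushforwardContinuous (E := A) J K).counit.app P)) := by
      have : ∀ X, IsIso (((sheafToPresheaf J A).map
          ((adj.sheafPushforwardContinuous (E := A) J K).counit.app P)).app X) := by
        intro X
        simp
        have h1 : IsIso (adj.unit.app (unop X)) := inferInstance
        have h2 : IsIso (adj.unit.app (unop X)).op := inferInstance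
        exact Functor.map_isIso _ _
      exact NatIso.isIso_of_isIso_app _
    exact isIso_of_reflects_iso _ (sheafToPresheaf J A)
  exact NatIso.isIso_of_isIso_app _

theorem isIso_unit_of_leftAdj [IsIso adj.unit] {L : Sheaf J A ⥤ Sheaf K A}
    (adj₁ : L ⊣ G.sheafPushforwardContinuous A J K) : IsIso adj₁.unit :=
  (Adjunction.Triple.isIso_unit_iff_isIso_counit
    ⟨adj₁, adj.sheafPushforwardContinuous (E := A) J K⟩).2 (isIso_counit_of_isIso_unit adj A J K)

theorem isIso_counit_of_leftAdj [IsIso adj.unit] {L : Sheaf K A ⥤ Sheaf J A}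
    (adj₂ : L ⊣ R.sheafPushforwardContinuous A K J) : IsIso adj₂.counit := by
  have := isIso_counit_of_isIso_unit adj A J K
  let ff := (adj.sheafPushforwardContinuous (E := A) J K).fullyFaithfulROfIsIsoCounit
  have := ff.full
  have := ff.faithful
  infer_instance

end Triple

section MPOverMapFF

variable {𝒞 : Type u₁} [Category.{v₁} 𝒞] (P : MorphismProperty 𝒞) [P.IsStableUnderComposition]
  {U X : 𝒞} {j : U ⟶ X} (hj : P j)

set_option backward.isDefEq.respectTransparency false in
theorem full_MPOverMap [Mono j] : (MorphismProperty.Over.map ⊤ hj).Full where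
  map_surjective {V W} g := by
    have e : ((g.left : V.left ⟶ W.left) ≫ W.hom) ≫ j = V.hom ≫ j := by
      rw [Category.assoc]; exact MorphismProperty.Over.w g
    exact ⟨MorphismProperty.Over.homMk g.left ((cancel_mono j).1 e),
      MorphismProperty.Over.Hom.ext rfl⟩

set_option backward.isDefEq.respectTransparency false in
theorem faithful_MPOverMap : (MorphismProperty.Over.map ⊤ hj).Faithful where
  map_injective {_ _} _ _ h :=
    MorphismProperty.Over.Hom.ext (congrArg (fun k => k.left) h :)

end MPOverMapFF

end Groth.Agent.H10.ShriekEx
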