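import Mathlib
import Groth.Agent.H10.ShriekEx

set_option autoImplicit false

universe w v₁ v₂ v₃ u₁ u₂ u₃

open CategoryTheory Limits Opposite

namespace Groth.Agent.H10.FlatLan

open Groth.Agent.H10.ShriekEx

section Lan

variable {C : Type u₁} [Category.{v₁} C] {D : Type u₂} [Category.{v₂} D]
  (E : Type u₃) [Category.{v₃} E]

/-- universe-general version of `lan_preservesFiniteLimits_of_flat`. -/
theorem lan_preservesFiniteLimits_of_flat (G : C ⥤ D) [RepresentablyFlat G] [HasFiniteLimits E]
    [∀ K : Dᵒᵖ, HasColimitsOfShape (CostructuredArrow G.op K) E]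
    [∀ K : Dᵒᵖ, HasExactColimitsOfShape (CostructuredArrow G.op K) E] :
    PreservesFiniteLimits (G.op.lan : (Cᵒᵖ ⥤ E) ⥤ (Dᵒᵖ ⥤ E)) := by
  constructor
  intro J _ _
  apply preservesLimitsOfShape_of_evaluation (G.op.lan : (Cᵒᵖ ⥤ E) ⥤ Dᵒᵖ ⥤ E) J
  intro K
  have : PreservesFiniteLimits (colim : (CostructuredArrow G.op K ⥤ E) ⥤ E) :=
    HasExactColimitsOfShape.preservesFiniteLimits
  exact preservesLimitsOfShape_of_natIso (lanEvaluationIsoColim' E G.op K).symm

end Lan

section Sheaf

variable {C : Type u₁} [Category.{v₁} C] {D : Type u₂} [Category.{v₂} D]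
  (G : C ⥤ D) (A : Type u₃) [Category.{v₃} A]
  (J : GrothendieckTopology C) (K : GrothendieckTopology D) [G.IsContinuous J K]

theorem sheafPullback_preservesFiniteLimits_of_flat [RepresentablyFlat G] [HasFiniteLimits A]
    [∀ K : Dᵒᵖ, HasColimitsOfShape (CostructuredArrow G.op K) A]
    [∀ K : Dᵒᵖ, HasExactColimitsOfShape (CostructuredArrow G.op K) A]
    [HasSheafify K A]
    [(G.sheafPushforwardContinuous A J K).IsRightAdjoint] :
    PreservesFiniteLimits (G.sheafPullback A J K) := by
  have := lan_preservesFiniteLimits_of_flat A G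
  have : PreservesFiniteLimits (G.op.lan ⋙ presheafToSheaf K A) :=
    comp_preservesFiniteLimits _ _
  have : PreservesFiniteLimits (Functor.sheafPullbackConstruction.sheafPullback G A J K) := by
    unfold Functor.sheafPullbackConstruction.sheafPullback
    apply comp_preservesFiniteLimits
  exact preservesFiniteLimits_of_natIso
    (Functor.sheafPullbackConstruction.sheafPullbackIso G A J K).symm

end Sheaf

end Groth.Agent.H10.FlatLan
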