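import Mathlib
import Groth.Prelude.Def_BigSite
import Groth.Agent.H10.FlatLan

set_option autoImplicit false
universe u
open CategoryTheory Limits Opposite AlgebraicGeometry

namespace Groth.Agent.H10.BigEx

theorem piEtPull_exact (S : Scheme.{u}) :
    PreservesFiniteLimits (BigSite.piEtPull Scheme.etalePrecoverage S) := by
  have : PreservesFiniteLimits (EtFppf.a S) :=
    inferInstanceAs (PreservesFiniteLimits (Scheme.Etale.forget S))
  have : RepresentablyFlat (EtFppf.a S) := flat_of_preservesFiniteLimits _
  have : AB5OfSize.{u, u + 1} AddCommGrpCat.{u + 1} :=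
    AB5OfSize_shrink.{u, u + 1, u + 1, u + 1} _
  have : ∀ K : (Over S)ᵒᵖ,
      HasExactColimitsOfShape (CostructuredArrow (EtFppf.a S).op K) AddCommGrpCat.{u + 1} := by
    intro K
    have : IsFiltered (CostructuredArrow (EtFppf.a S).op K) :=
      IsFiltered.of_equivalence (structuredArrowOpEquivalence (EtFppf.a S) (unop K))
    exact AB5OfSize.ofShape _
  exact FlatLan.sheafPullback_preservesFiniteLimits_of_flat (EtFppf.a S) AddCommGrpCat.{u + 1}
    S.smallEtaleTopology (QuotSh.J Scheme.etalePrecoverage S)

end Groth.Agent.H10.BigEx
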