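import Mathlib
import Groth.Prelude.Def_CohTop
import Groth.Agent.H10.Acyc

/-!
# Basics on cohomology of abelian sheaves on a space (helper10)

`freeFunctor X : Opens X ⥤ Ab X` (`U ↦ ℤ_U`), `secEquiv U F : (ℤ_U ⟶ F) ≃ F(U)` with its
naturalities, `ℤ_V ⟶ ℤ_U` is a monomorphism, injective sheaves are flasque, flasque sheaves are
acyclic.
-/

set_option autoImplicit false
universe u
open CategoryTheory CategoryTheory.Limits Opposite TopologicalSpace CategoryTheory.Abelian

namespace Groth.Agent.H10.CohTopB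

variable {X : TopCat.{u}}

/-- the functor `U ↦ ℤ_U` -/
noncomputable abbrev freeFunctor (X : TopCat.{u}) : Opens X ⥤ CohTop.Ab X :=
  yoneda ⋙ (Functor.whiskeringRight _ _ _).obj AddCommGrpCat.free ⋙
    presheafToSheaf (Opens.grothendieckTopology X) AddCommGrpCat.{u}

/-- the free abelian sheaf adjunction -/
noncomputable def freeAdj (X : TopCat.{u}) :
    (Functor.whiskeringRight (Opens X)ᵒᵖ _ _).obj AddCommGrpCat.free.{u} ⋙
        presheafToSheaf (Opens.grothendieckTopology X) AddCommGrpCat.{u} ⊣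
      sheafToPresheaf (Opens.grothendieckTopology X) AddCommGrpCat.{u} ⋙
        (Functor.whiskeringRight (Opens X)ᵒᵖ _ _).obj (forget AddCommGrpCat.{u}) :=
  (Adjunction.whiskerRight _ AddCommGrpCat.adj).comp (sheafificationAdjunction _ _)

/-- morphisms out of `ℤ_U` are sections over `U` -/
noncomputable def secEquiv (U : Opens X) (F : CohTop.Ab X) :
    ((freeFunctor X).obj U ⟶ F) ≃ F.obj.obj (op U) :=
  ((freeAdj X).homEquiv (yoneda.obj U) F).trans yonedaEquiv

lemma secEquiv_comp (U : Opens X) {F F' : CohTop.Ab X} (φ : (freeFunctor X).obj U ⟶ F)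
    (g : F ⟶ F') : secEquiv U F' (φ ≫ g) = g.hom.app (op U) (secEquiv U F φ) := by
  have h := (freeAdj X).homEquiv_naturality_right φ g
  show yonedaEquiv ((freeAdj X).homEquiv (yoneda.obj U) F' (φ ≫ g)) = _
  rw [h, yonedaEquiv_comp]
  rfl

lemma secEquiv_map {U V : Opens X} (i : V ⟶ U) {F : CohTop.Ab X}
    (φ : (freeFunctor X).obj U ⟶ F) :
    secEquiv V F ((freeFunctor X).map i ≫ φ) = F.obj.map i.op (secEquiv U F φ) := by
  have h := (freeAdj X).homEquiv_naturality_left (yoneda.map i) φ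
  show yonedaEquiv ((freeAdj X).homEquiv (yoneda.obj V) F ((freeFunctor X).map i ≫ φ)) = _
  have h' : (freeAdj X).homEquiv (yoneda.obj V) F ((freeFunctor X).map i ≫ φ) =
      yoneda.map i ≫ (freeAdj X).homEquiv (yoneda.obj U) F φ := h
  rw [h', ← yonedaEquiv_naturality]
  rfl

instance mono_freeFunctor_map {U V : Opens X} (i : V ⟶ U) : Mono ((freeFunctor X).map i) := by
  have h1 : ∀ W : (Opens X)ᵒᵖ, Mono ((yoneda.map i).app W) := fun W =>
    (mono_iff_injective _).mpr (fun (a b : W.unop ⟶ V) _ => Subsingleton.elim a b)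
  have h2 : Mono (Functor.whiskerRight (yoneda.map i) AddCommGrpCat.free.{u}) := by
    have : ∀ W : (Opens X)ᵒᵖ,
        Mono ((Functor.whiskerRight (yoneda.map i) AddCommGrpCat.free.{u}).app W) := fun W => by
      have := h1 W
      show Mono (AddCommGrpCat.free.map ((yoneda.map i).app W))
      infer_instance
    exact NatTrans.mono_of_mono_app _
  show Mono ((presheafToSheaf (Opens.grothendieckTopology X) AddCommGrpCat.{u}).map
    (Functor.whiskerRight (yoneda.map i) AddCommGrpCat.free.{u}))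
  infer_instance

/-- injective abelian sheaves are flasque -/
theorem isFlasque_of_injective (F : CohTop.Ab X) [Injective F] : TopCat.Sheaf.IsFlasque F where
  epi {U V} i := by
    refine (AddCommGrpCat.epi_iff_surjective _).mpr (fun s => ?_)
    let φ : (freeFunctor X).obj V.unop ⟶ F := (secEquiv V.unop F).symm s
    let m : (freeFunctor X).obj V.unop ⟶ (freeFunctor X).obj U.unop :=
      (freeFunctor X).map i.unop
    refine ⟨secEquiv U.unop F (Injective.factorThru φ m), ?_⟩
    have h := secEquiv_map i.unop (Injective.factorThru φ m)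
    have h2 : (freeFunctor X).map i.unop ≫ Injective.factorThru φ m = φ :=
      Injective.comp_factorThru φ m
    rw [h2] at h
    exact h.symm.trans ((secEquiv V.unop F).apply_symm_apply s)

/-- the class of flasque sheaves -/
def flasque (X : TopCat.{u}) : ObjectProperty (CohTop.Ab X) := fun F => TopCat.Sheaf.IsFlasque F

lemma flasque_lift (U : Opens X) (S : ShortComplex (CohTop.Ab X)) (hS : S.ShortExact)
    (h1 : flasque X S.X₁) (φ : (freeFunctor X).obj U ⟶ S.X₃) :
    ∃ ψ : (freeFunctor X).obj U ⟶ S.X₂, ψ ≫ S.g = φ := by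
  have : TopCat.Sheaf.IsFlasque S.X₁ := h1
  have hepi : Epi (S.g.1.app (op U)) := TopCat.Sheaf.IsFlasque.epi_of_shortExact hS
  obtain ⟨t, ht⟩ := (AddCommGrpCat.epi_iff_surjective _).mp hepi (secEquiv U S.X₃ φ)
  refine ⟨(secEquiv U S.X₂).symm t, ?_⟩
  apply (secEquiv U S.X₃).injective
  rw [secEquiv_comp, Equiv.apply_symm_apply]
  exact ht

lemma flasque_cok (S : ShortComplex (CohTop.Ab X)) (hS : S.ShortExact)
    (h1 : flasque X S.X₁) (h2 : flasque X S.X₂) : flasque X S.X₃ := by
  have : TopCat.Sheaf.IsFlasque S.X₁ := h1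
  have : TopCat.Sheaf.IsFlasque S.X₂ := h2
  exact TopCat.Sheaf.IsFlasque.of_shortExact_of_isFlasque₁₂ hS

/-- flasque sheaves have no higher cohomology on opens -/
theorem ext_free_eq_zero (U : Opens X) (n : ℕ) (F : CohTop.Ab X) [TopCat.Sheaf.IsFlasque F]
    (x : Ext.{u} ((freeFunctor X).obj U) F (n + 1)) : x = 0 :=
  Acyc.ext_eq_zero_of_class (flasque X) ((freeFunctor X).obj U)
    (fun I hI => by have := hI; exact isFlasque_of_injective I)
    flasque_cok (flasque_lift U) n F ‹_› x

lemma flasque_lift_const (S : ShortComplex (CohTop.Ab X)) (hS : S.ShortExact)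
    (h1 : flasque X S.X₁)
    (φ : (constantSheaf (Opens.grothendieckTopology X) AddCommGrpCat.{u}).obj
      (AddCommGrpCat.of (ULift ℤ)) ⟶ S.X₃) :
    ∃ ψ : (constantSheaf (Opens.grothendieckTopology X) AddCommGrpCat.{u}).obj
      (AddCommGrpCat.of (ULift ℤ)) ⟶ S.X₂, ψ ≫ S.g = φ := by
  have : TopCat.Sheaf.IsFlasque S.X₁ := h1
  have hT : IsTerminal (⊤ : Opens X) := isTerminalTop
  have hepi : Epi (S.g.1.app (op ⊤)) := TopCat.Sheaf.IsFlasque.epi_of_shortExact hS
  obtain ⟨t, ht⟩ := (AddCommGrpCat.epi_iff_surjective _).mp hepi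
    (Sheaf.H.equiv₀.{u} S.X₃ hT (Ext.mk₀ φ))
  refine ⟨Ext.homEquiv₀ ((Sheaf.H.equiv₀.{u} S.X₂ hT).symm t), ?_⟩
  apply (Ext.mk₀_bijective _ _).injective
  rw [← Ext.mk₀_comp_mk₀, Ext.mk₀_homEquiv₀_apply]
  have h := Sheaf.H.equiv₀_symm_naturality.{u} hT S.g t
  rw [ht, AddEquiv.symm_apply_apply] at h
  exact h

/-- flasque sheaves have no higher cohomology -/
theorem ext_const_eq_zero (n : ℕ) (F : CohTop.Ab X) [TopCat.Sheaf.IsFlasque F]
    (x : CohTop.H F (n + 1)) : x = 0 :=
  Acyc.ext_eq_zero_of_class (flasque X) _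
    (fun I hI => by have := hI; exact isFlasque_of_injective I)
    flasque_cok flasque_lift_const n F ‹_› x

end Groth.Agent.H10.CohTopB
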