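import Mathlib
import Groth.Prelude.Def_CohTop
import Groth.Agent.H10.CohTopB
import Groth.Agent.H10.AcycCmp

/-!
# Cohomology over an open and restriction to the open subspace (helper10)
-/

set_option autoImplicit false
universe u
open CategoryTheory CategoryTheory.Limits Opposite TopologicalSpace CategoryTheory.Abelian

namespace Groth.Agent.H10.CohTopB

variable {X : TopCat.{u}}

/-- image functor on opens of the open subspace -/
noncomputable abbrev jF (U : Opens X) : Opens (TopCat.of U) ⥤ Opens X :=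
  U.isOpenEmbedding.isOpenMap.functor

lemma jF_top (U : Opens X) : (jF U).obj ⊤ = U := by
  ext x
  constructor
  · rintro ⟨y, -, rfl⟩
    exact y.2
  · intro hx
    exact ⟨⟨x, hx⟩, trivial, rfl⟩

theorem restr_shortExact (U : Opens X)
    (S : ShortComplex (CohTop.Ab X)) (hS : S.ShortExact) :
    (ShortComplex.mk ((CohTop.restrFunctor U).map S.f) ((CohTop.restrFunctor U).map S.g)
      (by rw [← Functor.map_comp, S.zero, Functor.map_zero])).ShortExact := by
  have hmono : Mono S.f := hS.mono_f
  have hpl : PreservesLimitsOfSize.{0, 0} (CohTop.restrFunctor U) :=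
    (Adjunction.ofIsRightAdjoint (CohTop.restrFunctor U)).rightAdjoint_preservesLimits
  have hex : (S.map (CohTop.restrFunctor U)).Exact :=
    hS.exact.map_of_mono_of_preservesKernel (CohTop.restrFunctor U) hS.mono_f inferInstance
  have hls : TopCat.Presheaf.IsLocallySurjective S.g.hom :=
    (TopCat.Sheaf.isLocallySurjective_iff_epi S.g).mpr hS.epi_g
  have hepi : Epi ((CohTop.restrFunctor U).map S.g) := by
    refine (TopCat.Sheaf.isLocallySurjective_iff_epi _).mp ?_
    refine (TopCat.Presheaf.isLocallySurjective_iff _).mpr ?_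
    intro W t x hx
    obtain ⟨W', hW'V, ⟨s', hs'⟩, hxW'⟩ :=
      (TopCat.Presheaf.isLocallySurjective_iff _).mp hls ((jF U).obj W) t (x : X)
        ⟨x, hx, rfl⟩
    let W'' : Opens (TopCat.of U) := (Opens.map U.inclusion').obj W'
    have hjW'' : (jF U).obj W'' ≤ W' := by
      rintro _ ⟨y, hy, rfl⟩
      exact hy
    have hW''W : W'' ≤ W := by
      intro y hy
      obtain ⟨z, hz, hzy⟩ := hW'V (show U.inclusion' y ∈ W' from hy)
      have hzy' : z = y := U.isOpenEmbedding.injective hzy
      exact hzy' ▸ hz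
    refine ⟨W'', hW''W, ⟨S.X₂.obj.map (homOfLE hjW'').op s', ?_⟩, hxW'⟩
    have hn := NatTrans.naturality_apply S.g.hom (homOfLE hjW'').op s'
    show S.g.hom.app (op ((jF U).obj W'')) (S.X₂.obj.map (homOfLE hjW'').op s') =
      S.X₃.obj.map ((jF U).map (homOfLE hW''W)).op t
    rw [hn, hs']
    show S.X₃.obj.map (homOfLE hjW'').op (S.X₃.obj.map (homOfLE hW'V).op t) = _
    rw [← Functor.map_comp_apply]
    exact congrArg (fun i => S.X₃.obj.map i t) (Subsingleton.elim _ _)
  exact { exact := hex
          mono_f := by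
            show Mono ((CohTop.restrFunctor U).map S.f)
            infer_instance
          epi_g := hepi }

instance restr_isFlasque (U : Opens X) (F : CohTop.Ab X) [TopCat.Sheaf.IsFlasque F] :
    TopCat.Sheaf.IsFlasque ((CohTop.restrFunctor U).obj F) where
  epi {V W} i := by
    exact TopCat.Presheaf.IsFlasque.epi (F := F.obj) ((jF U).map i.unop).op

lemma secEquiv_eq_app (U : Opens X) (F : CohTop.Ab X) (φ : (freeFunctor X).obj U ⟶ F) :
    secEquiv U F φ =
      φ.hom.app (op U) (secEquiv U _ (𝟙 ((freeFunctor X).obj U))) := by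
  have h := secEquiv_comp U (𝟙 ((freeFunctor X).obj U)) φ
  rwa [Category.id_comp] at h

/-- additive version of `secEquiv` -/
noncomputable def secAddEquiv (U : Opens X) (F : CohTop.Ab X) :
    ((freeFunctor X).obj U ⟶ F) ≃+ F.obj.obj (op U) :=
  { secEquiv U F with
    map_add' := fun φ ψ => by
      show secEquiv U F (φ + ψ) = secEquiv U F φ + secEquiv U F ψ
      rw [secEquiv_eq_app U F (φ + ψ), secEquiv_eq_app U F φ, secEquiv_eq_app U F ψ]
      rfl }

lemma secAddEquiv_apply (U : Opens X) (F : CohTop.Ab X) (φ : (freeFunctor X).obj U ⟶ F) :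
    secAddEquiv U F φ = secEquiv U F φ := rfl

/-- sections over `U` are global sections of the restriction -/
noncomputable def resTop (U : Opens X) (F : CohTop.Ab X) :
    F.obj.obj (op U) ≃+ ((CohTop.restrFunctor U).obj F).obj.obj (op ⊤) :=
  (F.obj.mapIso (eqToIso (congrArg op (jF_top U).symm))).addCommGroupIsoToAddEquiv

lemma resTop_nat (U : Opens X) {F F' : CohTop.Ab X} (g : F ⟶ F') (s : F.obj.obj (op U)) :
    resTop U F' (g.hom.app (op U) s) =
      ((CohTop.restrFunctor U).map g).hom.app (op ⊤) (resTop U F s) :=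
  (NatTrans.naturality_apply g.hom (eqToHom (congrArg op (jF_top U).symm)) s).symm

lemma addEquiv₀_comp_mk₀ {G F F' : CohTop.Ab X} (x : Ext.{u} G F 0) (g : F ⟶ F') :
    Ext.addEquiv₀ (x.comp (Ext.mk₀ g) (add_zero 0)) = Ext.addEquiv₀ x ≫ g := by
  apply (Ext.mk₀_bijective _ _).injective
  rw [Ext.mk₀_addEquiv₀_apply, ← Ext.mk₀_comp_mk₀, Ext.mk₀_addEquiv₀_apply]

/-- degree zero comparison -/
noncomputable def eRestr (U : Opens X) (F : CohTop.Ab X) :
    Ext.{u} ((freeFunctor X).obj U) F 0 ≃+
      Ext.{u} ((constantSheaf (Opens.grothendieckTopology (TopCat.of U)) AddCommGrpCat.{u}).obj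
        (AddCommGrpCat.of (ULift ℤ))) ((CohTop.restrFunctor U).obj F) 0 :=
  Ext.addEquiv₀.trans ((secAddEquiv U F).trans ((resTop U F).trans
    (Sheaf.H.equiv₀.{u} ((CohTop.restrFunctor U).obj F)
      (isTerminalTop : IsTerminal (⊤ : Opens (TopCat.of U)))).symm))

lemma eRestr_apply (U : Opens X) (F : CohTop.Ab X) (x : Ext.{u} ((freeFunctor X).obj U) F 0) :
    eRestr U F x = (Sheaf.H.equiv₀.{u} ((CohTop.restrFunctor U).obj F)
      (isTerminalTop : IsTerminal (⊤ : Opens (TopCat.of U)))).symm
        (resTop U F (secEquiv U F (Ext.addEquiv₀ x))) := rfl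

theorem HU_restr_addEquiv (F : CohTop.Ab X) (U : Opens X) (n : ℕ) :
    Nonempty (CohTop.HU F n U ≃+ CohTop.H (CohTop.restr F U) n) := by
  have hTU : IsTerminal (⊤ : Opens (TopCat.of U)) := isTerminalTop
  refine Acyc.ext_addEquiv (CohTop.restrFunctor U) (flasque X) ((freeFunctor X).obj U)
    ((constantSheaf (Opens.grothendieckTopology (TopCat.of U)) AddCommGrpCat.{u}).obj
        (AddCommGrpCat.of (ULift ℤ))) (restr_shortExact U)
    (fun I hI => by have := hI; exact isFlasque_of_injective I)
    (fun n F hF x => by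
      have : TopCat.Sheaf.IsFlasque F := hF
      exact ext_free_eq_zero U n F x)
    (fun n F hF x => by
      have : TopCat.Sheaf.IsFlasque F := hF
      exact ext_const_eq_zero n ((CohTop.restrFunctor U).obj F) x)
    (eRestr U) ?_ n F
  intro F F' g x
  have h1 := addEquiv₀_comp_mk₀ x g
  have h2 := secEquiv_comp U (Ext.addEquiv₀ x) g
  have h3 := resTop_nat U g (secEquiv U F (Ext.addEquiv₀ x))
  have h4 := Sheaf.H.equiv₀_symm_naturality.{u} hTU ((CohTop.restrFunctor U).map g)
    (resTop U F (secEquiv U F (Ext.addEquiv₀ x)))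
  rw [eRestr_apply, eRestr_apply, h1, h2, h3]
  exact h4.symm

end Groth.Agent.H10.CohTopB
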