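import Mathlib
import Groth.Prelude.Def_CohTop
import Groth.Agent.H10.CohTopB
import Groth.Agent.H10.CohTopE

set_option autoImplicit false
universe u
open CategoryTheory CategoryTheory.Limits TopologicalSpace Opposite

namespace Groth.Agent.H10.KerFlasque

open Groth.Agent.H10.CohTopB

variable {X : TopCat.{u}}

lemma map_map_apply (A : CohTop.Ab X) {V₁ V₂ V₃ : Opens X} (i : V₁ ⟶ V₂) (j : V₂ ⟶ V₃)
    (k : V₁ ⟶ V₃) (s : A.obj.obj (op V₃)) :
    A.obj.map i.op (A.obj.map j.op s) = A.obj.map k.op s := by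
  have : k = i ≫ j := Subsingleton.elim _ _
  subst this
  rw [op_comp, A.obj.map_comp]
  rfl

/-- binary gluing for abelian sheaves -/
lemma glue₂ (A : CohTop.Ab X) (V₁ V₂ W : Opens X) (i₁ : V₁ ⟶ W) (i₂ : V₂ ⟶ W) (hW : W ≤ V₁ ⊔ V₂)
    (s₁ : A.obj.obj (op V₁)) (s₂ : A.obj.obj (op V₂))
    (h : A.obj.map (homOfLE (inf_le_left : V₁ ⊓ V₂ ≤ V₁)).op s₁ =
      A.obj.map (homOfLE (inf_le_right : V₁ ⊓ V₂ ≤ V₂)).op s₂) :
    ∃ s : A.obj.obj (op W), A.obj.map i₁.op s = s₁ ∧ A.obj.map i₂.op s = s₂ := by
  let U : Bool → Opens X := fun b => if b then V₁ else V₂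
  let sf : ∀ b : Bool, ToType (A.obj.obj (op (U b))) := fun b =>
    match b with
    | true => s₁
    | false => s₂
  have hcomp : TopCat.Presheaf.IsCompatible A.obj U sf := by
    rintro (_ | _) (_ | _)
    · rfl
    · have h' := congrArg (A.obj.map (homOfLE (le_inf inf_le_right inf_le_left :
        V₂ ⊓ V₁ ≤ V₁ ⊓ V₂)).op) h
      rw [map_map_apply A _ _ (homOfLE (inf_le_right : V₂ ⊓ V₁ ≤ V₁)),
        map_map_apply A _ _ (homOfLE (inf_le_left : V₂ ⊓ V₁ ≤ V₂))] at h'
      exact h'.symm
    · exact h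
    · rfl
  have hcover : W ≤ iSup U := by
    refine hW.trans (sup_le ?_ ?_)
    · exact le_iSup U true
    · exact le_iSup U false
  let iUV : ∀ b : Bool, U b ⟶ W := fun b =>
    match b with
    | true => i₁
    | false => i₂
  obtain ⟨s, hs, -⟩ := TopCat.Sheaf.existsUnique_gluing' A U W iUV hcover sf hcomp
  exact ⟨s, hs true, hs false⟩

lemma secEquiv_zero (U : Opens X) (F : CohTop.Ab X) : secEquiv U F 0 = 0 :=
  map_zero (secAddEquiv U F)

/-- the kernel of a map out of a flasque sheaf, when vanishing of the image of a section over `V`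
is detected by restriction to an open `c V ≤ V` -/
theorem kernel_flasque {A B : CohTop.Ab X} [TopCat.Sheaf.IsFlasque A] (φ : A ⟶ B)
    (c : Opens X → Opens X) (hc : ∀ V, c V ≤ V)
    (hφ : ∀ (V : Opens X) (s : A.obj.obj (op V)),
      φ.hom.app (op V) s = 0 ↔ A.obj.map (homOfLE (hc V)).op s = 0)
    (hc2 : ∀ V V' : Opens X, V ≤ V' → V ⊓ c V' ≤ c V) :
    TopCat.Sheaf.IsFlasque (kernel φ) where
  epi {V' V} i := by
    refine (AddCommGrpCat.epi_iff_surjective _).mpr (fun t => ?_)
    -- t : sections of kernel over V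
    let τ₀ : (freeFunctor X).obj V.unop ⟶ kernel φ := (secEquiv V.unop _).symm t
    let s₀ : A.obj.obj (op V.unop) := secEquiv V.unop A (τ₀ ≫ kernel.ι φ)
    have hs₀ : φ.hom.app (op V.unop) s₀ = 0 := by
      rw [← secEquiv_comp, Category.assoc, kernel.condition, comp_zero]
      exact secEquiv_zero _ _
    have hs₀' := (hφ V.unop s₀).mp hs₀
    -- glue s₀ with 0 over c V'
    let W : Opens X := V.unop ⊔ c V'.unop
    have hWV' : W ≤ V'.unop := sup_le i.unop.le (hc _)
    obtain ⟨s₁, h1, h2⟩ := glue₂ A V.unop (c V'.unop) W (homOfLE le_sup_left) (homOfLE le_sup_right)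
      le_rfl s₀ 0 (by
        rw [map_zero]
        have := congrArg (A.obj.map (homOfLE (hc2 V.unop V'.unop i.unop.le)).op) hs₀'
        rw [map_zero, map_map_apply A _ _ (homOfLE inf_le_left)] at this
        exact this)
    have hepi : Epi (A.obj.map (homOfLE hWV').op) := TopCat.Presheaf.IsFlasque.epi _
    obtain ⟨s, hs⟩ := (AddCommGrpCat.epi_iff_surjective _).mp hepi s₁
    have hsV : A.obj.map i s = s₀ := by
      rw [← h1, ← hs]
      exact (map_map_apply A _ _ i.unop s).symm
    have hsc : A.obj.map (homOfLE (hc V'.unop)).op s = 0 := by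
      rw [← h2, ← hs]
      exact (map_map_apply A _ _ _ s).symm
    have hφs := (hφ V'.unop s).mpr hsc
    let σ : (freeFunctor X).obj V'.unop ⟶ A := (secEquiv V'.unop A).symm s
    have hσ : σ ≫ φ = 0 := by
      apply (secEquiv V'.unop B).injective
      rw [secEquiv_comp, Equiv.apply_symm_apply, secEquiv_zero]
      exact hφs
    refine ⟨secEquiv V'.unop _ (kernel.lift φ σ hσ), ?_⟩
    have h3 := secEquiv_map i.unop (kernel.lift φ σ hσ)
    refine h3.symm.trans ?_
    have h4 : (freeFunctor X).map i.unop ≫ kernel.lift φ σ hσ = τ₀ := by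
      rw [← cancel_mono (kernel.ι φ), Category.assoc, kernel.lift_ι]
      apply (secEquiv V.unop A).injective
      rw [secEquiv_map, Equiv.apply_symm_apply]
      exact hsV
    rw [h4]
    exact (secEquiv V.unop _).apply_symm_apply t


theorem unit_app_eq_zero_iff {X Y : TopCat.{u}} (f : Y ⟶ X) (hf : Topology.IsOpenEmbedding f)
    [hc : hf.isOpenMap.functor.IsContinuous (Opens.grothendieckTopology Y)
      (Opens.grothendieckTopology X)]
    (F : CohTop.Ab X) (V : Opens X) (s : F.obj.obj (op V)) :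
    ((TopCat.Sheaf.pullbackPushforwardAdjunction AddCommGrpCat.{u} f).unit.app F).hom.app (op V) s = 0
      ↔ F.obj.map (hf.isOpenMap.adjunction.counit.app V).op s = 0 := by
  let adjS : hf.isOpenMap.functor ⊣ Opens.map f := hf.isOpenMap.adjunction
  let adjR := adjS.sheafPushforwardContinuous (E := AddCommGrpCat.{u})
    (Opens.grothendieckTopology Y) (Opens.grothendieckTopology X)
  let adj : CohTop.pull f ⊣ CohTop.push f :=
    TopCat.Sheaf.pullbackPushforwardAdjunction AddCommGrpCat.{u} f
  let e : CohTop.pull f ≅ _ := adj.leftAdjointUniq adjR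
  have h1 : adj.unit.app F ≫ (CohTop.push f).map (e.hom.app F) = adjR.unit.app F :=
    Adjunction.unit_leftAdjointUniq_hom_app adj adjR F
  have h2 : (adjR.unit.app F).hom.app (op V) = F.obj.map (adjS.counit.app V).op := by
    simp [adjR]
  have h3 : (adj.unit.app F).hom.app (op V) ≫ ((CohTop.push f).map (e.hom.app F)).hom.app (op V) =
      F.obj.map (adjS.counit.app V).op := by
    rw [← h2, ← h1]
    rfl
  have h4 : IsIso (((CohTop.push f).map (e.hom.app F)).hom.app (op V)) := by
    have : IsIso ((CohTop.push f).map (e.hom.app F)) := inferInstance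
    have : IsIso ((sheafToPresheaf _ _).map ((CohTop.push f).map (e.hom.app F))) := inferInstance
    exact NatIso.isIso_app_of_isIso ((sheafToPresheaf _ _).map ((CohTop.push f).map (e.hom.app F))) (op V)
  constructor
  · intro h
    rw [← h3]
    show ((CohTop.push f).map (e.hom.app F)).hom.app (op V) ((adj.unit.app F).hom.app (op V) s) = 0
    erw [h]
    exact map_zero _
  · intro h
    rw [← h3] at h
    have h6 : ((CohTop.push f).map (e.hom.app F)).hom.app (op V) ((adj.unit.app F).hom.app (op V) s) = 0 := h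
    have h7 := congrArg (inv (((CohTop.push f).map (e.hom.app F)).hom.app (op V))) h6
    rw [map_zero] at h7
    rw [← h7]
    have h8 := ConcreteCategory.congr_hom
      (IsIso.hom_inv_id (((CohTop.push f).map (e.hom.app F)).hom.app (op V)))
      ((adj.unit.app F).hom.app (op V) s)
    exact h8.symm


theorem kernel_unit_flasque {X Y : TopCat.{u}} (f : Y ⟶ X) (hf : Topology.IsOpenEmbedding f)
    [hc : hf.isOpenMap.functor.IsContinuous (Opens.grothendieckTopology Y)
      (Opens.grothendieckTopology X)]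
    (A : CohTop.Ab X) [TopCat.Sheaf.IsFlasque A] :
    TopCat.Sheaf.IsFlasque
      (kernel ((TopCat.Sheaf.pullbackPushforwardAdjunction AddCommGrpCat.{u} f).unit.app A)) := by
  have hA : TopCat.Sheaf.IsFlasque ((𝟭 (CohTop.Ab X)).obj A) := ‹_›
  refine @kernel_flasque X _ _ hA _ (fun V => hf.isOpenMap.functor.obj ((Opens.map f).obj V))
    (fun V => (hf.isOpenMap.adjunction.counit.app V).le) (fun V s => ?_) ?_
  · exact unit_app_eq_zero_iff f hf A V s
  · rintro V V' hVV' x ⟨hxV, y, hy, rfl⟩
    exact ⟨y, hxV, rfl⟩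

end Groth.Agent.H10.KerFlasque
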