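import Mathlib
import Groth.Prelude.Def_CohTop
import Groth.Agent.H10.CohTopB
import Groth.Agent.H10.KerFlasque

set_option autoImplicit false
universe u
open CategoryTheory CategoryTheory.Limits TopologicalSpace Opposite

namespace Groth.Agent.H10.ClosedEmb

variable {X Z : TopCat.{u}} (i : Z ⟶ X)

/-- the largest open of `X` whose preimage is contained in `W` -/
def Bobj (W : Opens Z) : Opens X := sSup {V | (Opens.map i).obj V ≤ W}

lemma gc : GaloisConnection (Opens.map i).obj (Bobj i) := by
  intro V W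
  constructor
  · intro h
    exact le_sSup h
  · intro h x hx
    have hx' : i x ∈ Bobj i W := h hx
    obtain ⟨V', hV', hxV'⟩ := Opens.mem_sSup.mp hx'
    exact hV' hxV'

/-- `B` as a functor -/
def B : Opens Z ⥤ Opens X := (gc i).monotone_u.functor

/-- the adjunction `i⁻¹ ⊣ B` on opens -/
def adjS : Opens.map i ⊣ B i :=
  Adjunction.mkOfHomEquiv
    { homEquiv := fun V W =>
        { toFun := fun f => homOfLE ((gc i V W).mp f.le)
          invFun := fun g => homOfLE ((gc i V W).mpr g.le)
          left_inv := fun _ => Subsingleton.elim _ _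
          right_inv := fun _ => Subsingleton.elim _ _ }
      homEquiv_naturality_left_symm := fun _ _ => Subsingleton.elim _ _
      homEquiv_naturality_right := fun _ _ => Subsingleton.elim _ _ }

variable (hi : Topology.IsInducing i)

include hi in
lemma map_B (W : Opens Z) : (Opens.map i).obj ((B i).obj W) = W := by
  apply le_antisymm
  · exact (gc i _ _).mpr le_rfl
  · obtain ⟨V₀, hV₀o, hV₀⟩ := hi.isOpen_iff.mp W.isOpen
    have h1 : (Opens.map i).obj ⟨V₀, hV₀o⟩ = W := by
      ext x
      show x ∈ i ⁻¹' V₀ ↔ x ∈ (W : Set Z)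
      rw [hV₀]
    have h2 : (⟨V₀, hV₀o⟩ : Opens X) ≤ (B i).obj W := (gc i _ _).mp h1.le
    calc W = (Opens.map i).obj ⟨V₀, hV₀o⟩ := h1.symm
      _ ≤ (Opens.map i).obj ((B i).obj W) := (Opens.map i).monotone h2

/-- presheaf-level adjunction `i_* ⊣ B^*` -/
def adjP : (Functor.whiskeringLeft _ _ AddCommGrpCat.{u}).obj (Opens.map i).op ⊣
    (Functor.whiskeringLeft _ _ AddCommGrpCat.{u}).obj (B i).op :=
  Adjunction.whiskerLeft (C := AddCommGrpCat.{u}) (adjS i).op

include hi in
lemma isIso_adjP_unit : IsIso (adjP i).unit := by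
  have h : ∀ Q, IsIso ((adjP i).unit.app Q) := by
    intro Q
    have h2 : ∀ W, IsIso (((adjP i).unit.app Q).app W) := by
      intro W
      have e : (Opens.map i).obj ((B i).obj W.unop) = W.unop := map_B i hi W.unop
      have h3 : IsIso ((adjS i).op.unit.app W) :=
        ⟨⟨(homOfLE e.ge).op, Subsingleton.elim _ _, Subsingleton.elim _ _⟩⟩
      simp only [adjP, Adjunction.whiskerLeft_unit_app_app]
      infer_instance
    exact NatIso.isIso_of_isIso_app _
  exact NatIso.isIso_of_isIso_app _

/-- `i_*` on presheaves is fully faithful -/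
noncomputable def ffP :
    ((Functor.whiskeringLeft _ _ AddCommGrpCat.{u}).obj (Opens.map i).op).FullyFaithful :=
  have := isIso_adjP_unit i hi
  (adjP i).fullyFaithfulLOfIsIsoUnit

/-- `i_*` on sheaves is fully faithful -/
noncomputable def ffPush : (CohTop.push i).FullyFaithful :=
  Functor.FullyFaithful.ofCompFaithful (G := sheafToPresheaf (Opens.grothendieckTopology X) AddCommGrpCat.{u})
    (show (CohTop.push i ⋙ sheafToPresheaf _ _).FullyFaithful from
      (fullyFaithfulSheafToPresheaf (Opens.grothendieckTopology Z) AddCommGrpCat.{u}).comp (ffP i hi))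

section Support

variable (hr : IsClosed (Set.range i))

include hr in
lemma mem_B_bot_of_not_mem_range (x : X) (hx : x ∉ Set.range i) : x ∈ (B i).obj ⊥ := by
  have h1 : (Opens.map i).obj ⟨(Set.range i)ᶜ, hr.isOpen_compl⟩ ≤ ⊥ := by
    intro z hz
    exact (hz ⟨z, rfl⟩).elim
  exact ((gc i _ _).mp h1) hx

include hi hr in
/-- `B (⨆ W) ≤ B ⊥ ⊔ ⨆ B W` -/
lemma B_iSup_le {κ : Type*} (W : κ → Opens Z) :
    (B i).obj (iSup W) ≤ (B i).obj ⊥ ⊔ ⨆ k, (B i).obj (W k) := by
  intro x hx
  by_cases hxr : x ∈ Set.range i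
  · obtain ⟨z, rfl⟩ := hxr
    have hz : z ∈ (Opens.map i).obj ((B i).obj (iSup W)) := hx
    rw [map_B i hi] at hz
    obtain ⟨k, hk⟩ := Opens.mem_iSup.mp hz
    have hzk : z ∈ (Opens.map i).obj ((B i).obj (W k)) := by
      rw [map_B i hi]; exact hk
    exact Or.inr (Opens.mem_iSup.mpr ⟨k, hzk⟩)
  · exact Or.inl (mem_B_bot_of_not_mem_range i hr x hxr)

include hr in
/-- `B (i⁻¹ V) ≤ V ⊔ B ⊥` -/
lemma B_map_le (V : Opens X) : (B i).obj ((Opens.map i).obj V) ≤ V ⊔ (B i).obj ⊥ := by
  intro x hx
  by_cases hxr : x ∈ Set.range i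
  · obtain ⟨z, rfl⟩ := hxr
    have hz : z ∈ (Opens.map i).obj ((B i).obj ((Opens.map i).obj V)) := hx
    have h2 : (Opens.map i).obj ((B i).obj ((Opens.map i).obj V)) ≤ (Opens.map i).obj V :=
      (gc i _ _).mpr le_rfl
    exact Or.inl (h2 hz)
  · exact Or.inr (mem_B_bot_of_not_mem_range i hr x hxr)

variable (H : CohTop.Ab X)
  (hH : ∀ V' : Opens X, V' ≤ (B i).obj ⊥ → Subsingleton (H.obj.obj (op V')))

/-- the presheaf `W ↦ H(B W)` on `Z` -/
def Q : (Opens Z)ᵒᵖ ⥤ AddCommGrpCat.{u} := (B i).op ⋙ H.obj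

lemma map_map_apply {V₁ V₂ V₃ : Opens X} (a : V₁ ⟶ V₂) (b : V₂ ⟶ V₃)
    (c : V₁ ⟶ V₃) (s : H.obj.obj (op V₃)) :
    H.obj.map a.op (H.obj.map b.op s) = H.obj.map c.op s := by
  have : c = a ≫ b := Subsingleton.elim _ _
  subst this
  rw [op_comp, H.obj.map_comp]
  rfl

include hi hr hH in
lemma Q_isSheaf : TopCat.Presheaf.IsSheaf (Q i H) := by
  rw [TopCat.Presheaf.isSheaf_iff_isSheafUniqueGluing]
  intro κ W sf hsf
  -- the family of opens of `X` indexed by `Option κ`
  let V' : Option κ → Opens X := fun o => Option.elim o ((B i).obj ⊥) (fun k => (B i).obj (W k))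
  let tf : ∀ o : Option κ, ToType (H.obj.obj (op (V' o))) := fun o =>
    match o with
    | none => (0 : H.obj.obj (op ((B i).obj ⊥)))
    | some k => sf k
  have hV' : ∀ o, V' o ≤ (B i).obj (iSup W) := by
    intro o
    cases o with
    | none => exact (B i).monotone bot_le
    | some k => exact (B i).monotone (le_iSup W k)
  have hcover : (B i).obj (iSup W) ≤ iSup V' := by
    refine (B_iSup_le i hi hr W).trans (sup_le ?_ (iSup_le fun k => ?_))
    · exact le_iSup V' none
    · exact le_iSup V' (some k)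
  have hcompat : TopCat.Presheaf.IsCompatible H.obj V' tf := by
    intro o o'
    cases o with
    | none =>
      have := hH (V' none ⊓ V' o') inf_le_left
      exact Subsingleton.elim _ _
    | some k =>
      cases o' with
      | none =>
        have := hH (V' (some k) ⊓ V' none) inf_le_right
        exact Subsingleton.elim _ _
      | some l =>
        have h1 := hsf k l
        have hle : (B i).obj (W k) ⊓ (B i).obj (W l) ≤ (B i).obj (W k ⊓ W l) :=
          ((gc i).u_inf (b₁ := W k) (b₂ := W l)).ge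
        have h2 := congrArg (H.obj.map (homOfLE hle).op) h1
        have e1 : H.obj.map (homOfLE hle).op
            ((Q i H).map (Opens.infLELeft (W k) (W l)).op (sf k)) =
            H.obj.map (Opens.infLELeft ((B i).obj (W k)) ((B i).obj (W l))).op (sf k) :=
          map_map_apply H _ ((B i).map (Opens.infLELeft (W k) (W l))) _ (sf k)
        have e2 : H.obj.map (homOfLE hle).op
            ((Q i H).map (Opens.infLERight (W k) (W l)).op (sf l)) =
            H.obj.map (Opens.infLERight ((B i).obj (W k)) ((B i).obj (W l))).op (sf l) :=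
          map_map_apply H _ ((B i).map (Opens.infLERight (W k) (W l))) _ (sf l)
        exact e1.symm.trans (h2.trans e2)
  obtain ⟨s, hs, hsu⟩ := TopCat.Sheaf.existsUnique_gluing' H V' ((B i).obj (iSup W))
    (fun o => homOfLE (hV' o)) hcover tf hcompat
  refine ⟨s, fun k => ?_, fun s' hs' => ?_⟩
  · exact hs (some k)
  · apply hsu
    intro o
    cases o with
    | none =>
      have := hH (V' none) le_rfl
      exact Subsingleton.elim _ _
    | some k => exact hs' k

/-- the sheaf `W ↦ H(B W)` on `Z` -/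
def G' : CohTop.Ab Z := ⟨Q i H, Q_isSheaf i hi hr H hH⟩

include hi hr hH in
/-- a sheaf supported on the closed image is a direct image -/
theorem nonempty_iso_push : Nonempty ((CohTop.push i).obj (G' i hi hr H hH) ≅ H) := by
  let θ : (CohTop.push i).obj (G' i hi hr H hH) ⟶ H := ⟨(adjP i).counit.app H.obj⟩
  have hθ : ∀ V : (Opens X)ᵒᵖ, θ.hom.app V =
      H.obj.map ((adjS i).unit.app V.unop).op := by
    intro V
    simp only [θ, adjP, Adjunction.whiskerLeft_counit_app_app]
    rfl
  suffices h : IsIso θ from ⟨asIso θ⟩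
  have h1 : ∀ V : (Opens X)ᵒᵖ, IsIso (θ.hom.app V) := by
    intro V
    rw [hθ, ConcreteCategory.isIso_iff_bijective]
    have hle : (B i).obj ((Opens.map i).obj V.unop) ≤ V.unop ⊔ (B i).obj ⊥ := B_map_le i hr V.unop
    have hsub : ∀ V'' : Opens X, V'' ≤ (B i).obj ⊥ → ∀ a b : H.obj.obj (op V''), a = b := by
      intro V'' h a b
      have := hH V'' h
      exact Subsingleton.elim a b
    constructor
    · intro s s' hss
      refine TopCat.Sheaf.eq_of_locally_eq₂ H ((adjS i).unit.app V.unop)
        ((B i).map (homOfLE bot_le)) hle s s' hss ?_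
      exact hsub _ le_rfl _ _
    · intro t
      obtain ⟨s, hs1, -⟩ := KerFlasque.glue₂ H V.unop ((B i).obj ⊥) _
        ((adjS i).unit.app V.unop) ((B i).map (homOfLE bot_le)) hle t 0
        (hsub _ inf_le_right _ _)
      exact ⟨s, hs1⟩
  have h2 : IsIso θ.hom := NatIso.isIso_of_isIso_app _
  exact (isIso_iff_of_reflects_iso θ (sheafToPresheaf _ _)).mp h2

end Support

end Groth.Agent.H10.ClosedEmb
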