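import Mathlib
import Groth.Prelude.Def_CohTop
import Groth.Agent.H10.CohTopB
import Groth.Agent.H10.AcycCmp

/-!
# Cohomology and closed embeddings (helper10)
-/

set_option autoImplicit false
universe u
open CategoryTheory CategoryTheory.Limits Opposite TopologicalSpace CategoryTheory.Abelian
open AlgebraicGeometry

namespace Groth.Agent.H10.CohTopB

variable {X Y : TopCat.{u}}

lemma subsingleton_of_isEmpty (F : CohTop.Ab X) (W : Opens X) (hW : (W : Set X) = ∅) :
    Subsingleton (F.obj.obj (op W)) := by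
  refine ⟨fun a b => ?_⟩
  refine TopCat.Sheaf.eq_of_locally_eq' F (fun i : PEmpty.{u + 1} => i.elim) W
    (fun i => i.elim) ?_ a b (fun i => i.elim)
  intro x hx
  have h : x ∈ (W : Set X) := hx
  rw [hW] at h
  exact h.elim

theorem push_shortExact (f : X ⟶ Y) (hf : Topology.IsClosedEmbedding f)
    (S : ShortComplex (CohTop.Ab X)) (hS : S.ShortExact) :
    (ShortComplex.mk ((CohTop.push f).map S.f) ((CohTop.push f).map S.g)
      (by rw [← Functor.map_comp, S.zero, Functor.map_zero])).ShortExact := by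
  have hmono : Mono S.f := hS.mono_f
  have hpl : PreservesLimitsOfSize.{0, 0} (CohTop.push f) :=
    (TopCat.Sheaf.pullbackPushforwardAdjunction AddCommGrpCat.{u} f).rightAdjoint_preservesLimits
  have hex : (S.map (CohTop.push f)).Exact :=
    hS.exact.map_of_mono_of_preservesKernel (CohTop.push f) hS.mono_f inferInstance
  have hls : TopCat.Presheaf.IsLocallySurjective S.g.hom :=
    (TopCat.Sheaf.isLocallySurjective_iff_epi S.g).mpr hS.epi_g
  have hepi : Epi ((CohTop.push f).map S.g) := by
    refine (TopCat.Sheaf.isLocallySurjective_iff_epi _).mp ?_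
    refine (TopCat.Presheaf.isLocallySurjective_iff _).mpr ?_
    intro V t y hy
    by_cases hyr : y ∈ Set.range f
    · obtain ⟨x, rfl⟩ := hyr
      obtain ⟨W', hW'V, ⟨s', hs'⟩, hxW'⟩ :=
        (TopCat.Presheaf.isLocallySurjective_iff _).mp hls ((Opens.map f).obj V) t x hy
      obtain ⟨W₀, hW₀o, hW₀⟩ := hf.isInducing.isOpen_iff.mp W'.isOpen
      have hWW' : (Opens.map f).obj ((⟨W₀, hW₀o⟩ : Opens Y) ⊓ V) ≤ W' := by
        intro z hz
        have h1 : z ∈ f ⁻¹' W₀ := hz.1
        rw [hW₀] at h1
        exact h1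
      refine ⟨(⟨W₀, hW₀o⟩ : Opens Y) ⊓ V, inf_le_right,
        ⟨S.X₂.obj.map (homOfLE hWW').op s', ?_⟩, ?_⟩
      · have hn := NatTrans.naturality_apply S.g.hom (homOfLE hWW').op s'
        show S.g.hom.app (op ((Opens.map f).obj ((⟨W₀, hW₀o⟩ : Opens Y) ⊓ V)))
            (S.X₂.obj.map (homOfLE hWW').op s') =
          S.X₃.obj.map ((Opens.map f).map (homOfLE inf_le_right)).op t
        rw [hn, hs']
        show S.X₃.obj.map (homOfLE hWW').op (S.X₃.obj.map (homOfLE hW'V).op t) = _
        rw [← Functor.map_comp_apply]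
        exact congrArg (fun i => S.X₃.obj.map i t) (Subsingleton.elim _ _)
      · have h1 : x ∈ f ⁻¹' W₀ := by rw [hW₀]; exact hxW'
        exact ⟨h1, hy⟩
    · have hemp : (((Opens.map f).obj ((⟨(Set.range f)ᶜ, hf.isClosed_range.isOpen_compl⟩ :
          Opens Y) ⊓ V) : Opens X) : Set X) = ∅ := by
        ext z
        constructor
        · intro hz
          exact (hz.1 ⟨z, rfl⟩).elim
        · intro hz
          exact hz.elim
      have : Subsingleton (((CohTop.push f).obj S.X₃).obj.obj
          (op ((⟨(Set.range f)ᶜ, hf.isClosed_range.isOpen_compl⟩ : Opens Y) ⊓ V))) :=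
        subsingleton_of_isEmpty S.X₃ _ hemp
      exact ⟨(⟨(Set.range f)ᶜ, hf.isClosed_range.isOpen_compl⟩ : Opens Y) ⊓ V, inf_le_right,
        ⟨0, Subsingleton.elim _ _⟩, ⟨hyr, hy⟩⟩
  exact { exact := hex
          mono_f := by
            show Mono ((CohTop.push f).map S.f)
            infer_instance
          epi_g := hepi }

theorem H_push_addEquiv (f : X ⟶ Y) (hf : Topology.IsClosedEmbedding f) (F : CohTop.Ab X)
    (p : ℕ) : Nonempty (CohTop.H F p ≃+ CohTop.H ((CohTop.push f).obj F) p) := by
  have hTX : IsTerminal (⊤ : Opens X) := isTerminalTop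
  have hTY : IsTerminal (⊤ : Opens Y) := isTerminalTop
  refine Acyc.ext_addEquiv (CohTop.push f) (flasque X) _ _ (push_shortExact f hf)
    (fun I hI => by have := hI; exact isFlasque_of_injective I)
    (fun n F hF x => by
      have : TopCat.Sheaf.IsFlasque F := hF
      exact ext_const_eq_zero n F x)
    (fun n F hF x => by
      have : TopCat.Sheaf.IsFlasque F := hF
      have : TopCat.Sheaf.IsFlasque ((CohTop.push f).obj F) := inferInstance
      exact ext_const_eq_zero n _ x)
    (fun F => (Sheaf.H.equiv₀.{u} F hTX).trans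
      (Sheaf.H.equiv₀.{u} ((CohTop.push f).obj F) hTY).symm)
    ?_ p F
  intro F F' g x
  have h1 := Sheaf.H.equiv₀_naturality.{u} hTX g x
  have h2 := Sheaf.H.equiv₀_symm_naturality.{u} hTY ((CohTop.push f).map g)
    (Sheaf.H.equiv₀.{u} F hTX x)
  exact (congrArg (Sheaf.H.equiv₀.{u} ((CohTop.push f).obj F') hTY).symm h1.symm).trans h2.symm

end Groth.Agent.H10.CohTopB
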