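import Mathlib

set_option autoImplicit false
universe w v₁ v₂ u₁ u₂
open CategoryTheory Limits Opposite

namespace Groth.Agent.H10.FlasqueInj

section C1

variable {C : Type u₁} [Category.{v₁} C] (J : GrothendieckTopology C)
  [HasSheafify J AddCommGrpCat.{max w v₁}]

/-- free abelian sheaf functor on presheaves of types -/
noncomputable def freeSh : (Cᵒᵖ ⥤ Type (max w v₁)) ⥤ Sheaf J AddCommGrpCat.{max w v₁} :=
  (Functor.whiskeringRight Cᵒᵖ _ _).obj AddCommGrpCat.free ⋙ presheafToSheaf J _

/-- the free/forget adjunction between presheaves of types and abelian sheaves -/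
noncomputable def freeShAdj : freeSh.{w} J ⊣ sheafToPresheaf J _ ⋙
    (Functor.whiskeringRight Cᵒᵖ _ _).obj (forget AddCommGrpCat.{max w v₁}) :=
  (AddCommGrpCat.adj.whiskerRight Cᵒᵖ).comp (sheafificationAdjunction J _)

instance : (freeSh.{w} J).PreservesMonomorphisms := by
  have h1 : ((Functor.whiskeringRight Cᵒᵖ _ _).obj AddCommGrpCat.free.{max w v₁}).PreservesMonomorphisms := by
    constructor
    intro P Q f hf
    have : ∀ X, Mono (f.app X) := fun X => inferInstance
    apply NatTrans.mono_of_mono_app
  have h2 : (presheafToSheaf J AddCommGrpCat.{max w v₁}).PreservesMonomorphisms := inferInstance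
  unfold freeSh
  infer_instance

theorem surjective_map_of_injective (I : Sheaf J AddCommGrpCat.{max w v₁}) [Injective I]
    {V' V : C} (f : V' ⟶ V) [Mono f] :
    Function.Surjective (I.obj.map f.op) := by
  intro s'
  let UI : Cᵒᵖ ⥤ Type (max w v₁) := I.obj ⋙ forget AddCommGrpCat.{max w v₁}
  have hm : Mono (uliftYoneda.{w}.map f) := by
    have : ∀ X, Mono ((uliftYoneda.{w}.map f).app X) := by
      intro X
      rw [mono_iff_injective]
      rintro ⟨a⟩ ⟨b⟩ h
      have h' : a ≫ f = b ≫ f := congrArg ULift.down h
      exact congrArg ULift.up ((cancel_mono f).1 h')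
    apply NatTrans.mono_of_mono_app
  let t' : uliftYoneda.{w}.obj V' ⟶ UI := uliftYonedaEquiv.{w}.symm s'
  let g := ((freeShAdj.{w} J).homEquiv _ I).symm t'
  let h := Injective.factorThru g ((freeSh.{w} J).map (uliftYoneda.{w}.map f))
  have hh : (freeSh.{w} J).map (uliftYoneda.{w}.map f) ≫ h = g := Injective.comp_factorThru _ _
  let t : uliftYoneda.{w}.obj V ⟶ UI := (freeShAdj.{w} J).homEquiv _ I h
  refine ⟨uliftYonedaEquiv.{w} t, ?_⟩
  have e1 : uliftYoneda.{w}.map f ≫ t = t' := by
    dsimp only [t]
    rw [← Adjunction.homEquiv_naturality_left, hh]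
    exact Equiv.apply_symm_apply _ _
  have e2 := uliftYonedaEquiv_naturality.{w} t f.op
  change UI.map f.op (uliftYonedaEquiv.{w} t) = s'
  rw [e2]
  change uliftYonedaEquiv.{w} (uliftYoneda.{w}.map f ≫ t) = s'
  rw [e1]
  exact Equiv.apply_symm_apply _ _

end C1

section C2

variable {C : Type u₁} [Category.{v₁} C] {D : Type u₂} [Category.{v₂} D]
  (J : GrothendieckTopology C) (K : GrothendieckTopology D)
  {G : C ⥤ D} {B : D ⥤ C} (adj : G ⊣ B) [G.IsContinuous J K] [B.IsContinuous K J]
  [HasSheafify K AddCommGrpCat.{max w v₂}]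

/-- the unit of the site-level adjunction is an epimorphism at an injective sheaf -/
theorem epi_unit_site (hmono : ∀ V : D, Mono (adj.counit.app V))
    (I : Sheaf K AddCommGrpCat.{max w v₂}) [Injective I] :
    Epi ((adj.sheafPushforwardContinuous (E := AddCommGrpCat.{max w v₂}) J K).unit.app I) := by
  apply (sheafToPresheaf K AddCommGrpCat.{max w v₂}).epi_of_epi_map
  have : ∀ V : Dᵒᵖ, Epi (((sheafToPresheaf K AddCommGrpCat.{max w v₂}).map
      ((adj.sheafPushforwardContinuous (E := AddCommGrpCat.{max w v₂}) J K).unit.app I)).app V) := by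
    intro V
    rw [AddCommGrpCat.epi_iff_surjective]
    have := hmono V.unop
    have h := surjective_map_of_injective.{w} K I (adj.counit.app V.unop)
    have e : ((sheafToPresheaf K AddCommGrpCat.{max w v₂}).map
      ((adj.sheafPushforwardContinuous (E := AddCommGrpCat.{max w v₂}) J K).unit.app I)).app V =
        I.obj.map (adj.counit.app V.unop).op := by
      simp [Adjunction.sheafPushforwardContinuous, Adjunction.whiskerLeft] <;> rfl
    rw [e]
    exact h
  apply NatTrans.epi_of_epi_app

/-- the unit of the pullback-pushforward adjunction is an epimorphism at an injective sheaf -/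
theorem epi_unit (hmono : ∀ V : D, Mono (adj.counit.app V))
    [(B.sheafPushforwardContinuous AddCommGrpCat.{max w v₂} K J).IsRightAdjoint]
    (I : Sheaf K AddCommGrpCat.{max w v₂}) [Injective I] :
    Epi ((B.sheafAdjunctionContinuous AddCommGrpCat.{max w v₂} K J).unit.app I) := by
  have h1 := epi_unit_site.{w} J K adj hmono I
  have h2 := Adjunction.unit_leftAdjointUniq_hom_app
    (adj.sheafPushforwardContinuous (E := AddCommGrpCat.{max w v₂}) J K)
    (B.sheafAdjunctionContinuous AddCommGrpCat.{max w v₂} K J) I
  rw [← h2]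
  infer_instance

end C2

section C3

variable {C : Type u₁} [Category.{v₁} C] {D : Type u₂} [Category.{v₂} D]
  (J : GrothendieckTopology C) (K : GrothendieckTopology D)
  {G : C ⥤ D} {B : D ⥤ C} (adj : G ⊣ B) [G.IsContinuous J K] [B.IsContinuous K J]

/-- the unit of the site-level adjunction is an epimorphism at a sheaf whose restriction maps along
the counit are surjective -/
theorem epi_unit_site_of_surjective (I : Sheaf K AddCommGrpCat.{w})
    (h : ∀ V : D, Function.Surjective (I.obj.map (adj.counit.app V).op)) :
    Epi ((adj.sheafPushforwardContinuous (E := AddCommGrpCat.{w}) J K).unit.app I) := by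
  haveI : (sheafToPresheaf K AddCommGrpCat.{w}).ReflectsEpimorphisms :=
    Functor.reflectsEpimorphisms_of_faithful _
  apply (sheafToPresheaf K AddCommGrpCat.{w}).epi_of_epi_map
  have : ∀ V : Dᵒᵖ, Epi (((sheafToPresheaf K AddCommGrpCat.{w}).map
      ((adj.sheafPushforwardContinuous (E := AddCommGrpCat.{w}) J K).unit.app I)).app V) := by
    intro V
    rw [AddCommGrpCat.epi_iff_surjective]
    have e : ((sheafToPresheaf K AddCommGrpCat.{w}).map
      ((adj.sheafPushforwardContinuous (E := AddCommGrpCat.{w}) J K).unit.app I)).app V =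
        I.obj.map (adj.counit.app V.unop).op := by
      simp [Adjunction.sheafPushforwardContinuous, Adjunction.whiskerLeft] <;> rfl
    rw [e]
    exact h V.unop
  apply NatTrans.epi_of_epi_app

/-- the unit of the pullback-pushforward adjunction is an epimorphism at a sheaf whose restriction
maps along the counit are surjective -/
theorem epi_unit_of_surjective
    [(B.sheafPushforwardContinuous AddCommGrpCat.{w} K J).IsRightAdjoint]
    (I : Sheaf K AddCommGrpCat.{w})
    (h : ∀ V : D, Function.Surjective (I.obj.map (adj.counit.app V).op)) :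
    Epi ((B.sheafAdjunctionContinuous AddCommGrpCat.{w} K J).unit.app I) := by
  have h1 := epi_unit_site_of_surjective.{w} J K adj I h
  have h2 := Adjunction.unit_leftAdjointUniq_hom_app
    (adj.sheafPushforwardContinuous (E := AddCommGrpCat.{w}) J K)
    (B.sheafAdjunctionContinuous AddCommGrpCat.{w} K J) I
  rw [← h2]
  infer_instance

end C3

end Groth.Agent.H10.FlasqueInj
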