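import Mathlib

set_option autoImplicit false

open CategoryTheory Limits

namespace Groth.Agent.H10.RDBase

variable {A₁ A₂ B₁ B₂ : Type*} [Category A₁] [Category A₂] [Category B₁] [Category B₂]
  [Abelian A₁] [Abelian A₂] [Abelian B₁] [Abelian B₂]

/-- an exact functor preserving injectives maps injective resolutions to injective resolutions -/
noncomputable def mapInjectiveResolution (P : A₁ ⥤ A₂) [P.Additive] [PreservesFiniteLimits P]
    [PreservesFiniteColimits P] (hP : ∀ X : A₁, Injective X → Injective (P.obj X)) {X : A₁}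
    (I : InjectiveResolution X) : InjectiveResolution (P.obj X) where
  cocomplex := (P.mapHomologicalComplex _).obj I.cocomplex
  injective n := hP _ (I.injective n)
  ι := ((HomologicalComplex.singleMapHomologicalComplex P (ComplexShape.up ℕ) 0).inv.app X) ≫
    (P.mapHomologicalComplex _).map I.ι
  quasiIso := by
    have : QuasiIso ((P.mapHomologicalComplex (ComplexShape.up ℕ)).map I.ι) := inferInstance
    infer_instance

variable [HasInjectiveResolutions A₁] [HasInjectiveResolutions A₂]

/-- base change for right derived functors along exact functors -/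
theorem nonempty_rightDerived_baseChange (F : A₁ ⥤ B₁) (F' : A₂ ⥤ B₂) (P : A₁ ⥤ A₂)
    (Q : B₁ ⥤ B₂) [F.Additive] [F'.Additive] [P.Additive] [Q.Additive]
    [PreservesFiniteLimits P] [PreservesFiniteColimits P]
    [PreservesFiniteLimits Q] [PreservesFiniteColimits Q]
    (hP : ∀ X : A₁, Injective X → Injective (P.obj X)) (φ : F ⋙ Q ≅ P ⋙ F') (X : A₁) (q : ℕ) :
    Nonempty (Q.obj ((F.rightDerived q).obj X) ≅ (F'.rightDerived q).obj (P.obj X)) := by
  let I : InjectiveResolution X := injectiveResolution X
  let K := (F.mapHomologicalComplex (ComplexShape.up ℕ)).obj I.cocomplex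
  let i1 : (F.rightDerived q).obj X ≅ K.homology q := I.isoRightDerivedObj F q
  let i2 : ((Q.mapHomologicalComplex (ComplexShape.up ℕ)).obj K).homology q ≅
      Q.obj (K.homology q) := (K.sc q).mapHomologyIso Q
  let PI := mapInjectiveResolution P hP I
  let K' := (F'.mapHomologicalComplex (ComplexShape.up ℕ)).obj PI.cocomplex
  let i3 : (Q.mapHomologicalComplex (ComplexShape.up ℕ)).obj K ≅ K' :=
    HomologicalComplex.Hom.isoOfComponents (fun n => φ.app (I.cocomplex.X n))
      (fun i j _ => (φ.hom.naturality (I.cocomplex.d i j)).symm)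
  let i4 : (F'.rightDerived q).obj (P.obj X) ≅ K'.homology q := PI.isoRightDerivedObj F' q
  exact ⟨Q.mapIso i1 ≪≫ i2.symm ≪≫
    (HomologicalComplex.homologyFunctor B₂ (ComplexShape.up ℕ) q).mapIso i3 ≪≫ i4.symm⟩

end Groth.Agent.H10.RDBase
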