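import Mathlib
import Groth.Agent.H10.RDBase

set_option autoImplicit false

open CategoryTheory Limits

namespace Groth.Agent.H10.RDComp

universe v₁ v₂ v₃ u₁ u₂ u₃ w

variable {A : Type u₁} {B : Type u₂} {C : Type u₃} [Category.{v₁} A] [Category.{v₂} B]
  [Category.{v₃} C] [Abelian A] [Abelian B] [Abelian C]

/-- `mapHomologicalComplex` of a composite -/
noncomputable def mapHCCompIso (P : A ⥤ B) (G : B ⥤ C) [P.Additive] [G.Additive]
    {ι : Type w} (c : ComplexShape ι) :
    (P ⋙ G).mapHomologicalComplex c ≅ P.mapHomologicalComplex c ⋙ G.mapHomologicalComplex c :=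
  NatIso.ofComponents
    (fun K => HomologicalComplex.Hom.isoOfComponents (fun n => Iso.refl _) (by
      intro i j _
      dsimp
      erw [Category.id_comp, Category.comp_id]
      rfl))
    (by
      intro K L f
      ext n
      dsimp
      erw [Category.id_comp, Category.comp_id]
      rfl)

variable [HasInjectiveResolutions A] [HasInjectiveResolutions B]

section

variable (P : A ⥤ B) (G : B ⥤ C) [P.Additive] [G.Additive]
    [PreservesFiniteLimits P] [PreservesFiniteColimits P]
    (hP : ∀ X : A, Injective X → Injective (P.obj X)) (q : ℕ)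

/-- auxiliary: `R^q G (P X)` computed through `P` of an injective resolution of `X`. -/
noncomputable def bIso {X : A} (I : InjectiveResolution X) :
    (G.rightDerived q).obj (P.obj X) ≅
      (HomologicalComplex.homologyFunctor C (ComplexShape.up ℕ) q).obj
        ((P.mapHomologicalComplex (ComplexShape.up ℕ) ⋙
          G.mapHomologicalComplex (ComplexShape.up ℕ)).obj I.cocomplex) :=
  (RDBase.mapInjectiveResolution P hP I).isoRightDerivedObj G q

include hP in
lemma bIso_naturality {X Y : A} (f : X ⟶ Y) (I : InjectiveResolution X)
    (J : InjectiveResolution Y) (φ : I.cocomplex ⟶ J.cocomplex)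
    (w : I.ι ≫ φ = (CochainComplex.single₀ A).map f ≫ J.ι) :
    (G.rightDerived q).map (P.map f) = (bIso P G hP q I).hom ≫
      (HomologicalComplex.homologyFunctor C (ComplexShape.up ℕ) q).map
        ((P.mapHomologicalComplex (ComplexShape.up ℕ) ⋙
          G.mapHomologicalComplex (ComplexShape.up ℕ)).map φ) ≫ (bIso P G hP q J).inv := by
  have w' : (RDBase.mapInjectiveResolution P hP I).ι ≫
      (P.mapHomologicalComplex _).map φ =
      (CochainComplex.single₀ B).map (P.map f) ≫ (RDBase.mapInjectiveResolution P hP J).ι := by
    dsimp only [RDBase.mapInjectiveResolution]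
    rw [Category.assoc, ← Functor.map_comp, w, Functor.map_comp]
    exact ((HomologicalComplex.singleMapHomologicalComplex P (ComplexShape.up ℕ)
      0).inv.naturality_assoc f _).symm
  exact Functor.rightDerived_map_eq G q (P.map f)
    (P := RDBase.mapInjectiveResolution P hP I) (Q := RDBase.mapInjectiveResolution P hP J)
    ((P.mapHomologicalComplex _).map φ) w'

/-- `R^q (P ⋙ G) ≅ P ⋙ R^q G` for `P` exact and preserving injectives. -/
noncomputable def rightDerivedCompIso :
    (P ⋙ G).rightDerived q ≅ P ⋙ G.rightDerived q :=
  NatIso.ofComponents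
    (fun X => (injectiveResolution X).isoRightDerivedObj (P ⋙ G) q ≪≫
      (HomologicalComplex.homologyFunctor C (ComplexShape.up ℕ) q).mapIso
        ((mapHCCompIso P G (ComplexShape.up ℕ)).app (injectiveResolution X).cocomplex) ≪≫
      (bIso P G hP q (injectiveResolution X)).symm)
    (by
      intro X Y f
      generalize hI : injectiveResolution X = I
      generalize hJ : injectiveResolution Y = J
      let φ : I.cocomplex ⟶ J.cocomplex := InjectiveResolution.desc f J I
      have w : I.ι ≫ φ = (CochainComplex.single₀ A).map f ≫ J.ι :=
        InjectiveResolution.desc_commutes f J I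
      have e1 := Functor.rightDerived_map_eq (P ⋙ G) q f φ w
      have e2 := bIso_naturality P G hP q f I J φ w
      have e3 := (mapHCCompIso P G (ComplexShape.up ℕ)).hom.naturality φ
      have e4 := congrArg (fun t => (HomologicalComplex.homologyFunctor C _ q).map t) e3
      simp only [Functor.map_comp] at e4
      simp only [Iso.trans_hom, Iso.symm_hom, Functor.mapIso_hom, Iso.app_hom, Category.assoc,
        Functor.comp_map]
      rw [e1, e2]
      simp only [Category.assoc, Iso.inv_hom_id_assoc, Iso.hom_inv_id_assoc, Functor.comp_map]
      rw [reassoc_of% e4])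

end

end Groth.Agent.H10.RDComp
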