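import Mathlib

set_option autoImplicit false

open CategoryTheory Limits

namespace Groth.Agent.H10.RDExact

variable {A B : Type*} [Category A] [Category B] [Abelian A] [Abelian B]
  [HasInjectiveResolutions A]

/-- the higher right derived functors of an exact functor vanish -/
theorem isZero_rightDerived_succ_of_exact (F : A ⥤ B) [F.Additive] [PreservesFiniteLimits F]
    [PreservesFiniteColimits F] (X : A) (n : ℕ) : IsZero ((F.rightDerived (n + 1)).obj X) := by
  let I : InjectiveResolution X := injectiveResolution X
  let K := (F.mapHomologicalComplex (ComplexShape.up ℕ)).obj I.cocomplex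
  refine IsZero.of_iso ?_ (I.isoRightDerivedObj F (n + 1))
  have h : I.cocomplex.ExactAt (n + 1) := I.cocomplex_exactAt_succ n
  have hK : K.ExactAt (n + 1) := by
    show ((I.cocomplex.sc (n + 1)).map F).Exact
    exact ShortComplex.Exact.map h F
  exact hK.isZero_homology

end Groth.Agent.H10.RDExact
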