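import Mathlib

set_option autoImplicit false

open CategoryTheory Limits

namespace Groth.Agent.H10.RDShift

universe v₁ v₂ u₁ u₂

variable {A : Type u₁} {A' : Type u₂} [Category.{v₁} A] [Category.{v₂} A'] [Abelian A]
  [Abelian A'] [HasInjectiveResolutions A]

/-- a sequence of additive functors `G₁ ⟶ G₂ ⟶ G₃` which is short exact on injective objects and
such that the higher right derived functors of `G₂` vanish. -/
structure Data (G₁ G₂ G₃ : A ⥤ A') [G₁.Additive] [G₂.Additive] [G₃.Additive] where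
  ι : G₁ ⟶ G₂
  η : G₂ ⟶ G₃
  w : ∀ X : A, ι.app X ≫ η.app X = 0
  hS : ∀ I : A, Injective I → (ShortComplex.mk (ι.app I) (η.app I) (w I)).ShortExact
  hG₂ : ∀ (X : A) (n : ℕ), IsZero ((G₂.rightDerived (n + 1)).obj X)

variable {G₁ G₂ G₃ : A ⥤ A'} [G₁.Additive] [G₂.Additive] [G₃.Additive] (d : Data G₁ G₂ G₃)

/-- the short complex of cochain complexes -/
noncomputable abbrev SC (K : CochainComplex A ℕ) : ShortComplex (CochainComplex A' ℕ) :=
  ShortComplex.mk ((NatTrans.mapHomologicalComplex d.ι (ComplexShape.up ℕ)).app K)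
    ((NatTrans.mapHomologicalComplex d.η (ComplexShape.up ℕ)).app K) (by
      ext n
      exact d.w (K.X n))

/-- functoriality of `SC` -/
noncomputable abbrev SCmap {K L : CochainComplex A ℕ} (φ : K ⟶ L) : SC d K ⟶ SC d L where
  τ₁ := (G₁.mapHomologicalComplex _).map φ
  τ₂ := (G₂.mapHomologicalComplex _).map φ
  τ₃ := (G₃.mapHomologicalComplex _).map φ
  comm₁₂ := ((NatTrans.mapHomologicalComplex d.ι (ComplexShape.up ℕ)).naturality φ)
  comm₂₃ := ((NatTrans.mapHomologicalComplex d.η (ComplexShape.up ℕ)).naturality φ)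

lemma SC_shortExact {X : A} (I : InjectiveResolution X) : (SC d I.cocomplex).ShortExact :=
  HomologicalComplex.shortExact_of_degreewise_shortExact (SC d I.cocomplex) (fun n =>
    d.hS (I.cocomplex.X n) (I.injective n))

lemma isZero_homology₂ {X : A} (I : InjectiveResolution X) (n : ℕ) :
    IsZero ((SC d I.cocomplex).X₂.homology (n + 1)) :=
  IsZero.of_iso (d.hG₂ X n) (I.isoRightDerivedObj G₂ (n + 1)).symm

/-- the objectwise shift isomorphism -/
noncomputable def shiftIsoObj {X : A} (I : InjectiveResolution X) (n : ℕ) :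
    (G₃.rightDerived (n + 1)).obj X ≅ (G₁.rightDerived (n + 2)).obj X :=
  I.isoRightDerivedObj G₃ (n + 1) ≪≫
    (SC_shortExact d I).δIso (n + 1) (n + 2) rfl (isZero_homology₂ d I n)
      (isZero_homology₂ d I (n + 1)) ≪≫
    (I.isoRightDerivedObj G₁ (n + 2)).symm

lemma shiftIsoObj_naturality {X Y : A} (f : X ⟶ Y) (I : InjectiveResolution X)
    (J : InjectiveResolution Y) (φ : I.cocomplex ⟶ J.cocomplex)
    (comm : I.ι ≫ φ = (CochainComplex.single₀ A).map f ≫ J.ι) (n : ℕ) :
    (G₃.rightDerived (n + 1)).map f ≫ (shiftIsoObj d J n).hom =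
      (shiftIsoObj d I n).hom ≫ (G₁.rightDerived (n + 2)).map f := by
  have e1 := Functor.rightDerived_map_eq G₃ (n + 1) f φ comm
  have e2 := Functor.rightDerived_map_eq G₁ (n + 2) f φ comm
  have e3 := HomologicalComplex.HomologySequence.δ_naturality (SCmap d φ)
    (SC_shortExact d I) (SC_shortExact d J) (n + 1) (n + 2) rfl
  rw [e1, e2]
  dsimp only [shiftIsoObj, Iso.trans_hom, Iso.symm_hom, ShortComplex.ShortExact.δIso, asIso_hom]
  simp only [Category.assoc, Iso.inv_hom_id_assoc]
  congr 1
  erw [← reassoc_of% e3, Iso.inv_hom_id_assoc]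
  rfl

/-- `R^{n+1} G₃ ≅ R^{n+2} G₁`. -/
noncomputable def shiftIso (n : ℕ) : G₃.rightDerived (n + 1) ≅ G₁.rightDerived (n + 2) :=
  NatIso.ofComponents (fun X => shiftIsoObj d (injectiveResolution X) n) (by
    intro X Y f
    exact shiftIsoObj_naturality d f _ _ (InjectiveResolution.desc f _ _)
      (InjectiveResolution.desc_commutes f _ _) n)

section Zero

/-- `G X ≅ H⁰(G I)` for a left exact functor `G` and an injective resolution `I` of `X`. -/
noncomputable def zeroIso (G : A ⥤ A') [G.Additive] [PreservesFiniteLimits G] {X : A}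
    (I : InjectiveResolution X) :
    G.obj X ≅ ((G.mapHomologicalComplex (ComplexShape.up ℕ)).obj I.cocomplex).homology 0 :=
  asIso (I.toRightDerivedZero' G) ≪≫ CochainComplex.isoHomologyπ₀ _

lemma zeroIso_hom (G : A ⥤ A') [G.Additive] [PreservesFiniteLimits G] {X : A}
    (I : InjectiveResolution X) :
    (zeroIso G I).hom = I.toRightDerivedZero' G ≫ HomologicalComplex.homologyπ _ 0 := rfl

lemma zeroIso_nat_functor {G G' : A ⥤ A'} [G.Additive] [G'.Additive] [PreservesFiniteLimits G]
    [PreservesFiniteLimits G'] (α : G ⟶ G') {X : A} (I : InjectiveResolution X) :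
    α.app X ≫ (zeroIso G' I).hom = (zeroIso G I).hom ≫ HomologicalComplex.homologyMap
      ((NatTrans.mapHomologicalComplex α (ComplexShape.up ℕ)).app I.cocomplex) 0 := by
  rw [zeroIso_hom, zeroIso_hom, Category.assoc, HomologicalComplex.homologyπ_naturality,
    ← Category.assoc, ← Category.assoc]
  congr 1
  rw [← cancel_mono (HomologicalComplex.iCycles _ _)]
  simp only [Category.assoc, InjectiveResolution.toRightDerivedZero'_comp_iCycles,
    HomologicalComplex.cyclesMap_i, InjectiveResolution.toRightDerivedZero'_comp_iCycles_assoc,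
    NatTrans.mapHomologicalComplex_app_f]
  exact (α.naturality _).symm

lemma zeroIso_nat_obj (G : A ⥤ A') [G.Additive] [PreservesFiniteLimits G] {X Y : A} (f : X ⟶ Y)
    (I : InjectiveResolution X) (J : InjectiveResolution Y) (φ : I.cocomplex ⟶ J.cocomplex)
    (comm : I.ι ≫ φ = (CochainComplex.single₀ A).map f ≫ J.ι) :
    G.map f ≫ (zeroIso G J).hom = (zeroIso G I).hom ≫ HomologicalComplex.homologyMap
      ((G.mapHomologicalComplex (ComplexShape.up ℕ)).map φ) 0 := by
  rw [zeroIso_hom, zeroIso_hom, Category.assoc, HomologicalComplex.homologyπ_naturality,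
    ← Category.assoc, ← Category.assoc]
  congr 1
  exact InjectiveResolution.toRightDerivedZero'_naturality f I J φ
    (by simpa using HomologicalComplex.congr_hom comm 0) G

variable [PreservesFiniteLimits G₂] [PreservesFiniteLimits G₃]

/-- the map `G₃ X ⟶ R¹G₁ X` -/
noncomputable def toR1 {X : A} (I : InjectiveResolution X) :
    G₃.obj X ⟶ (G₁.rightDerived 1).obj X :=
  (zeroIso G₃ I).hom ≫ (SC_shortExact d I).δ 0 1 rfl ≫ (I.isoRightDerivedObj G₁ 1).inv

lemma η_toR1 {X : A} (I : InjectiveResolution X) : d.η.app X ≫ toR1 d I = 0 := by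
  have h := (SC_shortExact d I).comp_δ 0 1 rfl
  have h2 : d.η.app X ≫ (zeroIso G₃ I).hom =
      (zeroIso G₂ I).hom ≫ HomologicalComplex.homologyMap (SC d I.cocomplex).g 0 :=
    zeroIso_nat_functor d.η I
  calc d.η.app X ≫ toR1 d I
      = (d.η.app X ≫ (zeroIso G₃ I).hom) ≫ (SC_shortExact d I).δ 0 1 rfl ≫
          (I.isoRightDerivedObj G₁ 1).inv := by
        dsimp only [toR1]; rw [Category.assoc]
    _ = (zeroIso G₂ I).hom ≫ (HomologicalComplex.homologyMap (SC d I.cocomplex).g 0 ≫
          (SC_shortExact d I).δ 0 1 rfl) ≫ (I.isoRightDerivedObj G₁ 1).inv := by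
        rw [h2]; simp only [Category.assoc]
    _ = 0 := by rw [h, zero_comp, comp_zero]

lemma toR1_exact {X : A} (I : InjectiveResolution X) :
    (ShortComplex.mk (d.η.app X) (toR1 d I) (η_toR1 d I)).Exact := by
  have h := (SC_shortExact d I).homology_exact₃ 0 1 rfl
  refine ShortComplex.exact_of_iso ?_ h
  refine (ShortComplex.isoMk (zeroIso G₂ I) (zeroIso G₃ I) (I.isoRightDerivedObj G₁ 1) ?_ ?_).symm
  · exact (zeroIso_nat_functor d.η I).symm
  · dsimp only [toR1]
    simp only [Category.assoc, Iso.inv_hom_id, Category.comp_id]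

instance epi_toR1 {X : A} (I : InjectiveResolution X) : Epi (toR1 d I) := by
  have := (SC_shortExact d I).epi_δ 0 1 rfl (isZero_homology₂ d I 0)
  dsimp only [toR1]
  infer_instance

/-- `toR1` is a cokernel of `η` -/
noncomputable def toR1IsCokernel {X : A} (I : InjectiveResolution X) :
    IsColimit (CokernelCofork.ofπ (toR1 d I) (η_toR1 d I)) :=
  (toR1_exact d I).gIsCokernel

lemma toR1_naturality {X Y : A} (f : X ⟶ Y) (I : InjectiveResolution X)
    (J : InjectiveResolution Y) (φ : I.cocomplex ⟶ J.cocomplex)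
    (comm : I.ι ≫ φ = (CochainComplex.single₀ A).map f ≫ J.ι) :
    G₃.map f ≫ toR1 d J = toR1 d I ≫ (G₁.rightDerived 1).map f := by
  have e0 := zeroIso_nat_obj G₃ f I J φ comm
  have e2 := Functor.rightDerived_map_eq G₁ 1 f φ comm
  have e3 := HomologicalComplex.HomologySequence.δ_naturality (SCmap d φ)
    (SC_shortExact d I) (SC_shortExact d J) 0 1 rfl
  rw [e2]
  dsimp only [toR1]
  rw [reassoc_of% e0]
  simp only [Category.assoc]
  congr 1
  erw [← reassoc_of% e3, Iso.inv_hom_id_assoc]
  rfl

/-- the natural transformation `G₃ ⟶ R¹G₁` -/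
noncomputable def toR1Nat : G₃ ⟶ G₁.rightDerived 1 where
  app X := toR1 d (injectiveResolution X)
  naturality X Y f := toR1_naturality d f _ _ (InjectiveResolution.desc f _ _)
      (InjectiveResolution.desc_commutes f _ _)

/-- objectwise: `coker (G₂ X ⟶ G₃ X) ≅ R¹G₁ X` -/
noncomputable def cokerIsoObj (X : A) : cokernel (d.η.app X) ≅ (G₁.rightDerived 1).obj X :=
  IsColimit.coconePointUniqueUpToIso (colimit.isColimit _) (toR1IsCokernel d (injectiveResolution X))

lemma η_toR1Nat : d.η ≫ toR1Nat d = 0 := by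
  ext X
  exact η_toR1 d _

/-- `toR1Nat` is a cokernel of `η` in the functor category -/
noncomputable def toR1NatIsCokernel : IsColimit (CokernelCofork.ofπ (toR1Nat d) (η_toR1Nat d)) := by
  apply evaluationJointlyReflectsColimits
  intro X
  exact (isColimitMapCoconeCoforkEquiv' ((evaluation A A').obj X) _).symm
    (toR1IsCokernel d (injectiveResolution X))

/-- `coker (G₂ ⟶ G₃) ≅ R¹G₁` as functors -/
noncomputable def cokerIso : cokernel d.η ≅ G₁.rightDerived 1 :=
  IsColimit.coconePointUniqueUpToIso (colimit.isColimit _) (toR1NatIsCokernel d)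

end Zero

end Groth.Agent.H10.RDShift
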