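import Mathlib
import Groth.Agent.H10.RDShift
import Groth.Agent.H10.RDComp
import Groth.Agent.H10.RDExact

set_option autoImplicit false

open CategoryTheory Limits

namespace Groth.Agent.H10.LocCohAbs

universe v₁ v₂ u₁ u₂

variable {𝒜 : Type u₁} {ℬ : Type u₂} [Category.{v₁} 𝒜] [Category.{v₂} ℬ] [Abelian 𝒜] [Abelian ℬ]
  [HasInjectiveResolutions 𝒜] [HasInjectiveResolutions ℬ]
  {L : 𝒜 ⥤ ℬ} {R : ℬ ⥤ 𝒜} (adj : L ⊣ R) [L.Additive] [R.Additive]
  [PreservesFiniteLimits L] [PreservesFiniteColimits L]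
  (hL : ∀ X : 𝒜, Injective X → Injective (L.obj X))
  (hepi : ∀ I : 𝒜, Injective I → Epi (adj.unit.app I))
  {Γ : 𝒜 ⥤ 𝒜} [Γ.Additive] (ι : Γ ⟶ 𝟭 𝒜) (w : ∀ X, ι.app X ≫ adj.unit.app X = 0)
  (hΓ : ∀ X, IsLimit (KernelFork.ofι (ι.app X) (w X)))

/-- the data `Γ ⟶ 𝟭 ⟶ L ⋙ R` -/
noncomputable def data : RDShift.Data Γ (𝟭 𝒜) (L ⋙ R) where
  ι := ι
  η := adj.unit
  w := w
  hS I hI := by
    have := hepi I hI
    have : Mono (ι.app I) := mono_of_isLimit_fork (hΓ I)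
    exact
      { exact := ShortComplex.exact_of_f_is_kernel _ (hΓ I)
        mono_f := ‹_›
        epi_g := ‹_› }
  hG₂ X n := RDExact.isZero_rightDerived_succ_of_exact (𝟭 𝒜) X n

include hL hepi hΓ in
theorem main :
    Nonempty (cokernel adj.unit ≅ Γ.rightDerived 1) ∧
    (∀ F : 𝒜, Nonempty (cokernel (adj.unit.app F) ≅ (Γ.rightDerived 1).obj F)) ∧
    ∀ n : ℕ, Nonempty (L ⋙ R.rightDerived (n + 1) ≅ Γ.rightDerived (n + 2)) := by
  have : PreservesFiniteLimits R :=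
    have : PreservesLimitsOfSize.{0, 0} R := adj.rightAdjoint_preservesLimits
    PreservesLimitsOfSize.preservesFiniteLimits _
  have : PreservesFiniteLimits (L ⋙ R) := comp_preservesFiniteLimits _ _
  let d := data adj hepi ι w hΓ
  refine ⟨⟨RDShift.cokerIso d⟩, fun F => ⟨RDShift.cokerIsoObj d F⟩, fun n => ?_⟩
  exact ⟨(RDComp.rightDerivedCompIso L R hL (n + 1)).symm ≪≫ RDShift.shiftIso d n⟩

end Groth.Agent.H10.LocCohAbs
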