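import Mathlib
import Groth.Prelude.Def_CohTop
import Groth.Agent.H10.FlasqueInj
import Groth.Agent.H10.LocCohAbs

set_option autoImplicit false
universe u
open CategoryTheory CategoryTheory.Limits TopologicalSpace

namespace Groth.Agent.H10.LocCohTop

theorem key {X Y : TopCat.{u}} (f : Y ⟶ X) (hf : Topology.IsOpenEmbedding f)
    [hc : hf.isOpenMap.functor.IsContinuous (Opens.grothendieckTopology Y)
      (Opens.grothendieckTopology X)]
    (hlim : PreservesFiniteLimits (hf.isOpenMap.functor.sheafPushforwardContinuous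
      AddCommGrpCat.{u} (Opens.grothendieckTopology Y) (Opens.grothendieckTopology X)))
    (hinj : ∀ I : CohTop.Ab X, Injective I →
      Injective ((hf.isOpenMap.functor.sheafPushforwardContinuous
        AddCommGrpCat.{u} (Opens.grothendieckTopology Y) (Opens.grothendieckTopology X)).obj I))
    {Γ : CohTop.Ab X ⥤ CohTop.Ab X} [Γ.Additive] (ι : Γ ⟶ 𝟭 (CohTop.Ab X))
    (w : ∀ G : CohTop.Ab X,
      ι.app G ≫ (TopCat.Sheaf.pullbackPushforwardAdjunction AddCommGrpCat.{u} f).unit.app G = 0)
    (hΓ : ∀ G : CohTop.Ab X, IsLimit (KernelFork.ofι (ι.app G) (w G))) :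
    Nonempty (Γ.rightDerived 1 ≅
      cokernel (TopCat.Sheaf.pullbackPushforwardAdjunction AddCommGrpCat.{u} f).unit) ∧
      ∀ i : ℕ, 1 ≤ i →
        Nonempty (Γ.rightDerived (i + 1) ≅ CohTop.pull f ⋙ CohTop.Rpush f i) := by
  let adjS : hf.isOpenMap.functor ⊣ Opens.map f := hf.isOpenMap.adjunction
  let adjR := adjS.sheafPushforwardContinuous (E := AddCommGrpCat.{u})
    (Opens.grothendieckTopology Y) (Opens.grothendieckTopology X)
  let adj : CohTop.pull f ⊣ CohTop.push f :=
    TopCat.Sheaf.pullbackPushforwardAdjunction AddCommGrpCat.{u} f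
  let e : CohTop.pull f ≅ _ := adj.leftAdjointUniq adjR
  have hlim' : PreservesFiniteLimits (CohTop.pull f) :=
    preservesFiniteLimits_of_natIso e.symm
  have hcolim : PreservesFiniteColimits (CohTop.pull f) := by
    have : PreservesColimitsOfSize.{0, 0} (CohTop.pull f) :=
      adj.leftAdjoint_preservesColimits
    exact PreservesColimitsOfSize.preservesFiniteColimits _
  have hadd : (CohTop.pull f).Additive := adj.left_adjoint_additive
  have hL : ∀ I : CohTop.Ab X, Injective I → Injective ((CohTop.pull f).obj I) := by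
    intro I hI
    exact Injective.of_iso (e.app I).symm (hinj I hI)
  have hmono : ∀ V : Opens X, Mono (adjS.counit.app V) :=
    fun V => ⟨fun _ _ _ => Subsingleton.elim _ _⟩
  have hepi : ∀ I : CohTop.Ab X, Injective I → Epi (adj.unit.app I) := by
    intro I hI
    exact Groth.Agent.H10.FlasqueInj.epi_unit.{u} (Opens.grothendieckTopology _)
      (Opens.grothendieckTopology _) adjS hmono I
  obtain ⟨⟨h0⟩, -, h2⟩ := Groth.Agent.H10.LocCohAbs.main adj hL hepi ι w hΓ
  refine ⟨⟨h0.symm⟩, ?_⟩
  intro p hp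
  obtain ⟨n, rfl⟩ : ∃ n, p = n + 1 := ⟨p - 1, by omega⟩
  obtain ⟨φ⟩ := h2 n
  exact ⟨φ.symm⟩

theorem isFlasque_of_iso {X : TopCat.{u}} {F G : CohTop.Ab X} (α : F ≅ G)
    [TopCat.Sheaf.IsFlasque F] : TopCat.Sheaf.IsFlasque G where
  epi {U V} i := by
    let β : F.obj ≅ G.obj :=
      (sheafToPresheaf (Opens.grothendieckTopology X) AddCommGrpCat.{u}).mapIso α
    have e : G.obj.map i = (β.app U).inv ≫ F.obj.map i ≫ (β.app V).hom := by
      rw [Iso.eq_inv_comp]
      exact (β.hom.naturality i).symm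
    have h3 : Epi (F.obj.map i) := TopCat.Presheaf.IsFlasque.epi i
    rw [e]
    infer_instance

theorem flasque_isZero {X Y : TopCat.{u}} (f : Y ⟶ X) (hf : Topology.IsOpenEmbedding f)
    [hc : hf.isOpenMap.functor.IsContinuous (Opens.grothendieckTopology Y)
      (Opens.grothendieckTopology X)]
    (hlim : PreservesFiniteLimits (hf.isOpenMap.functor.sheafPushforwardContinuous
      AddCommGrpCat.{u} (Opens.grothendieckTopology Y) (Opens.grothendieckTopology X)))
    (hinj : ∀ I : CohTop.Ab X, Injective I →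
      Injective ((hf.isOpenMap.functor.sheafPushforwardContinuous
        AddCommGrpCat.{u} (Opens.grothendieckTopology Y) (Opens.grothendieckTopology X)).obj I))
    {Γ : CohTop.Ab X ⥤ CohTop.Ab X} [Γ.Additive] (ι : Γ ⟶ 𝟭 (CohTop.Ab X))
    (w : ∀ G : CohTop.Ab X,
      ι.app G ≫ (TopCat.Sheaf.pullbackPushforwardAdjunction AddCommGrpCat.{u} f).unit.app G = 0)
    (hΓ : ∀ G : CohTop.Ab X, IsLimit (KernelFork.ofι (ι.app G) (w G)))
    (hR : ∀ (G : CohTop.Ab Y) [TopCat.Sheaf.IsFlasque G] (q : ℕ),
      IsZero ((CohTop.Rpush f (q + 1)).obj G))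
    (F : CohTop.Ab X) [TopCat.Sheaf.IsFlasque F] (i : ℕ) (hi : 0 < i) :
    IsZero ((Γ.rightDerived i).obj F) := by
  let adjS : hf.isOpenMap.functor ⊣ Opens.map f := hf.isOpenMap.adjunction
  let adjR := adjS.sheafPushforwardContinuous (E := AddCommGrpCat.{u})
    (Opens.grothendieckTopology Y) (Opens.grothendieckTopology X)
  let adj : CohTop.pull f ⊣ CohTop.push f :=
    TopCat.Sheaf.pullbackPushforwardAdjunction AddCommGrpCat.{u} f
  let e : CohTop.pull f ≅ _ := adj.leftAdjointUniq adjR
  have hlim' : PreservesFiniteLimits (CohTop.pull f) :=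
    preservesFiniteLimits_of_natIso e.symm
  have hcolim : PreservesFiniteColimits (CohTop.pull f) := by
    have : PreservesColimitsOfSize.{0, 0} (CohTop.pull f) :=
      adj.leftAdjoint_preservesColimits
    exact PreservesColimitsOfSize.preservesFiniteColimits _
  have hadd : (CohTop.pull f).Additive := adj.left_adjoint_additive
  have hL : ∀ I : CohTop.Ab X, Injective I → Injective ((CohTop.pull f).obj I) := by
    intro I hI
    exact Injective.of_iso (e.app I).symm (hinj I hI)
  have hmono : ∀ V : Opens X, Mono (adjS.counit.app V) :=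
    fun V => ⟨fun _ _ _ => Subsingleton.elim _ _⟩
  have hepi : ∀ I : CohTop.Ab X, Injective I → Epi (adj.unit.app I) := by
    intro I hI
    exact Groth.Agent.H10.FlasqueInj.epi_unit.{u} (Opens.grothendieckTopology _)
      (Opens.grothendieckTopology _) adjS hmono I
  obtain ⟨-, h1, h2⟩ := Groth.Agent.H10.LocCohAbs.main adj hL hepi ι w hΓ
  obtain ⟨n, rfl⟩ : ∃ n, i = n + 1 := ⟨i - 1, by omega⟩
  cases n with
  | zero =>
    obtain ⟨φ⟩ := h1 F
    refine IsZero.of_iso ?_ φ.symm
    have : Epi (adj.unit.app F) :=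
      Groth.Agent.H10.FlasqueInj.epi_unit_of_surjective.{u} (Opens.grothendieckTopology _)
        (Opens.grothendieckTopology _) adjS F (fun V =>
          (AddCommGrpCat.epi_iff_surjective _).mp (TopCat.Presheaf.IsFlasque.epi (F := F.obj) _))
    exact isZero_cokernel_of_epi _
  | succ m =>
    obtain ⟨φ⟩ := h2 m
    refine IsZero.of_iso ?_ (φ.app F).symm
    have hfl : TopCat.Sheaf.IsFlasque
        ((hf.isOpenMap.functor.sheafPushforwardContinuous AddCommGrpCat.{u}
          (Opens.grothendieckTopology Y) (Opens.grothendieckTopology X)).obj F) :=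
      ⟨fun {U V} i => by
        show Epi (F.obj.map (hf.isOpenMap.functor.op.map i))
        exact TopCat.Presheaf.IsFlasque.epi _⟩
    have : TopCat.Sheaf.IsFlasque ((CohTop.pull f).obj F) := isFlasque_of_iso (e.app F).symm
    exact hR _ m

end Groth.Agent.H10.LocCohTop
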