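import Mathlib
import Groth.Prelude.Def_CohTop
import Groth.Agent.H10.CohTopB
import Groth.Agent.H10.LocCohTop

set_option autoImplicit false
universe u
open CategoryTheory CategoryTheory.Limits TopologicalSpace Opposite

namespace Groth.Agent.H10.FlExact

open Groth.Agent.H10.CohTopB

variable {X : TopCat.{u}}

lemma isFlasque_of_isZero (Z : CohTop.Ab X) (hZ : IsZero Z) : TopCat.Sheaf.IsFlasque Z where
  epi {U V} i := by
    have h : IsZero (Z.obj.obj V) := by
      have := ((sheafSections (Opens.grothendieckTopology X) AddCommGrpCat.{u}).obj V).map_isZero hZ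
      exact this
    exact ⟨fun a b _ => h.eq_of_src a b⟩

variable (K : CochainComplex (CohTop.Ab X) ℕ)

/-- the map `K^p ⟶ Z^{p+1}` -/
noncomputable def toZ (p : ℕ) : K.X p ⟶ kernel (K.d (p + 1) (p + 2)) :=
  kernel.lift _ (K.d p (p + 1)) (K.d_comp_d _ _ _)

lemma toZ_ι (p : ℕ) : toZ K p ≫ kernel.ι (K.d (p + 1) (p + 2)) = K.d p (p + 1) :=
  kernel.lift_ι _ _ _

lemma ι_toZ (p : ℕ) : kernel.ι (K.d p (p + 1)) ≫ toZ K p = 0 := by
  rw [← cancel_mono (kernel.ι (K.d (p + 1) (p + 2))), Category.assoc, toZ_ι, kernel.condition,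
    zero_comp]

lemma shortExact_toZ (p : ℕ) (hex : K.ExactAt (p + 1)) :
    (ShortComplex.mk _ _ (ι_toZ K p)).ShortExact := by
  have hepi : Epi (toZ K p) := by
    rw [K.exactAt_iff' p (p + 1) (p + 2) (by simp) (by simp)] at hex
    exact (ShortComplex.exact_iff_epi_kernel_lift _).1 hex
  refine { exact := ?_, mono_f := inferInstance, epi_g := hepi }
  apply ShortComplex.exact_of_f_is_kernel
  refine KernelFork.IsLimit.ofι' _ _ (fun {A} k hk => ⟨kernel.lift _ k ?_, kernel.lift_ι _ _ _⟩)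
  have : k ≫ toZ K p = 0 := hk
  rw [← toZ_ι, ← Category.assoc, this, zero_comp]

theorem flasque_Z (N : ℕ) (hfl : ∀ i, TopCat.Sheaf.IsFlasque (K.X i))
    (hex : ∀ i, i ≤ N → K.ExactAt i) :
    ∀ p, p ≤ N → TopCat.Sheaf.IsFlasque (kernel (K.d p (p + 1))) := by
  intro p
  induction p with
  | zero =>
    intro _
    apply isFlasque_of_isZero
    have h0 := hex 0 (Nat.zero_le _)
    rw [K.exactAt_iff' 0 0 1 (by simp) (by simp)] at h0
    have hm : Mono (K.d 0 1) := (ShortComplex.exact_iff_mono _ (K.shape 0 0 (by simp))).1 h0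
    exact isZero_kernel_of_mono _
  | succ p ih =>
    intro hp
    have h1 := ih (by omega)
    have hS := shortExact_toZ K p (hex (p + 1) hp)
    exact flasque_cok _ hS h1 (hfl p)

theorem flasque_exact (N : ℕ) (hfl : ∀ i, TopCat.Sheaf.IsFlasque (K.X i))
    (hex : ∀ i, i ≤ N → K.ExactAt i) (p : ℕ) (hp : p + 1 ≤ N) (V : Opens X)
    (σ : (freeFunctor X).obj V ⟶ K.X (p + 1)) (hσ : σ ≫ K.d (p + 1) (p + 2) = 0) :
    ∃ τ : (freeFunctor X).obj V ⟶ K.X p, τ ≫ K.d p (p + 1) = σ := by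
  have h1 := flasque_Z K N hfl hex p (by omega)
  have hS := shortExact_toZ K p (hex (p + 1) hp)
  obtain ⟨τ, hτ⟩ := flasque_lift V _ hS h1 (kernel.lift _ σ hσ)
  refine ⟨τ, ?_⟩
  have : τ ≫ toZ K p = kernel.lift _ σ hσ := hτ
  rw [← toZ_ι, ← Category.assoc, this, kernel.lift_ι]

theorem mono_d0 (hex : K.ExactAt 0) : Mono (K.d 0 1) := by
  rw [K.exactAt_iff' 0 0 1 (by simp) (by simp)] at hex
  exact (ShortComplex.exact_iff_mono _ (K.shape 0 0 (by simp))).1 hex

end Groth.Agent.H10.FlExact
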