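import Mathlib
import Groth.Prelude.Def_LocCohZ
import Groth.Agent.H10.FlExact
import Groth.Agent.H10.KerFlasque
import Groth.Agent.H10.LocCohTop

set_option autoImplicit false
universe u
open CategoryTheory CategoryTheory.Limits TopologicalSpace Opposite

namespace Groth.Agent.H10.LocCohM

open Groth.Agent.H10.CohTopB

variable {X Y : TopCat.{u}} (f : Y ⟶ X) (hf : Topology.IsOpenEmbedding f)
variable [hc : hf.isOpenMap.functor.IsContinuous (Opens.grothendieckTopology Y)
  (Opens.grothendieckTopology X)]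

/-- a map `ℤ_V ⟶ A` composes to zero with the unit iff the section vanishes on `V ∩ U` -/
lemma comp_unit_eq_zero_iff (A : CohTop.Ab X) (V : Opens X) (σ : (freeFunctor X).obj V ⟶ A) :
    σ ≫ (TopCat.Sheaf.pullbackPushforwardAdjunction AddCommGrpCat.{u} f).unit.app A = 0 ↔
      (freeFunctor X).map (hf.isOpenMap.adjunction.counit.app V) ≫ σ = 0 := by
  have h1 := KerFlasque.unit_app_eq_zero_iff f hf A V (secEquiv V A σ)
  have e1 : secEquiv V _ (σ ≫ (TopCat.Sheaf.pullbackPushforwardAdjunction AddCommGrpCat.{u} f).unit.app A) =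
      ((TopCat.Sheaf.pullbackPushforwardAdjunction AddCommGrpCat.{u} f).unit.app A).hom.app (op V)
        (secEquiv V A σ) := secEquiv_comp V σ _
  have e2 : secEquiv _ A ((freeFunctor X).map (hf.isOpenMap.adjunction.counit.app V) ≫ σ) =
      A.obj.map (hf.isOpenMap.adjunction.counit.app V).op (secEquiv V A σ) := secEquiv_map _ σ
  constructor
  · intro h
    apply (secEquiv _ A).injective
    rw [KerFlasque.secEquiv_zero]
    refine e2.trans (h1.mp ?_)
    rw [← e1, h, KerFlasque.secEquiv_zero]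
  · intro h
    apply (secEquiv V _).injective
    rw [KerFlasque.secEquiv_zero]
    refine e1.trans (h1.mpr ?_)
    rw [← e2, h, KerFlasque.secEquiv_zero]

theorem HZ_vanish
    {Γ : CohTop.Ab X ⥤ CohTop.Ab X} [Γ.Additive] (ι : Γ ⟶ 𝟭 (CohTop.Ab X))
    (w : ∀ G : CohTop.Ab X,
      ι.app G ≫ (TopCat.Sheaf.pullbackPushforwardAdjunction AddCommGrpCat.{u} f).unit.app G = 0)
    (hΓ : ∀ G : CohTop.Ab X, IsLimit (KernelFork.ofι (ι.app G) (w G)))
    (F : CohTop.Ab X) (N : ℕ)
    (hz : ∀ i : ℕ, i ≤ N → IsZero ((Γ.rightDerived i).obj F))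
    {W V : Opens X} (h : W ≤ V)
    (hW1 : W ≤ hf.isOpenMap.functor.obj ((Opens.map f).obj V))
    (hW2 : hf.isOpenMap.functor.obj ((Opens.map f).obj V) ≤ W)
    (i : ℕ) (hi : i ≤ N) (x : LocCohZ.HZ F i h) : x = 0 := by
  let I : InjectiveResolution F := injectiveResolution F
  let K : CochainComplex (CohTop.Ab X) ℕ :=
    (Γ.mapHomologicalComplex (ComplexShape.up ℕ)).obj I.cocomplex
  have hex : ∀ i, i ≤ N → K.ExactAt i := by
    intro i hi
    rw [HomologicalComplex.exactAt_iff_isZero_homology]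
    exact IsZero.of_iso (hz i hi) (I.isoRightDerivedObj Γ i).symm
  have hfl : ∀ i, TopCat.Sheaf.IsFlasque (K.X i) := by
    intro i
    have : Injective (I.cocomplex.X i) := I.injective i
    have h1 : TopCat.Sheaf.IsFlasque (I.cocomplex.X i) := isFlasque_of_injective _
    have h2 := KerFlasque.kernel_unit_flasque f hf (I.cocomplex.X i)
    let e : kernel ((TopCat.Sheaf.pullbackPushforwardAdjunction AddCommGrpCat.{u} f).unit.app
        (I.cocomplex.X i)) ≅ Γ.obj (I.cocomplex.X i) :=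
      IsLimit.conePointUniqueUpToIso (kernelIsKernel _) (hΓ (I.cocomplex.X i))
    exact LocCohTop.isFlasque_of_iso e
  have hmono : ∀ G : CohTop.Ab X, Mono (ι.app G) := fun G => mono_of_isLimit_fork (hΓ G)
  have hKd : ∀ a b : ℕ, Γ.map (I.cocomplex.d a b) ≫ ι.app (I.cocomplex.X b) =
      ι.app (I.cocomplex.X a) ≫ I.cocomplex.d a b := fun a b => ι.naturality _
  obtain ⟨φ, hφ, rfl⟩ := I.extMk_surjective x (i + 1) rfl
  let π := cokernel.π ((freeFunctor X).map (homOfLE h))
  have hπ : (freeFunctor X).map (homOfLE h) ≫ π = 0 := cokernel.condition _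
  have hσu : (π ≫ φ) ≫
      (TopCat.Sheaf.pullbackPushforwardAdjunction AddCommGrpCat.{u} f).unit.app _ = 0 := by
    rw [comp_unit_eq_zero_iff f hf]
    have e : (freeFunctor X).map (hf.isOpenMap.adjunction.counit.app V) =
        (freeFunctor X).map (homOfLE hW2) ≫ (freeFunctor X).map (homOfLE h) := by
      rw [← Functor.map_comp]
      congr 1
    rw [e, Category.assoc, ← Category.assoc _ π, hπ, zero_comp, comp_zero]
  let σ' : (freeFunctor X).obj V ⟶ Γ.obj (I.cocomplex.X i) :=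
    (hΓ (I.cocomplex.X i)).lift (KernelFork.ofι (π ≫ φ) hσu)
  have hσ' : σ' ≫ ι.app (I.cocomplex.X i) = π ≫ φ :=
    (hΓ (I.cocomplex.X i)).fac (KernelFork.ofι (π ≫ φ) hσu) WalkingParallelPair.zero
  have hσ'd : σ' ≫ Γ.map (I.cocomplex.d i (i + 1)) = 0 := by
    have := hmono (I.cocomplex.X (i + 1))
    rw [← cancel_mono (ι.app (I.cocomplex.X (i + 1))), Category.assoc, hKd, ← Category.assoc,
      hσ', Category.assoc, hφ, comp_zero, zero_comp]
  cases i with
  | zero =>
    have hm : Mono (K.d 0 1) := FlExact.mono_d0 K (hex 0 hi)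
    have hm' : Mono (Γ.map (I.cocomplex.d 0 1)) := hm
    have h0 : σ' = 0 := by
      rw [← cancel_mono (Γ.map (I.cocomplex.d 0 1)), hσ'd, zero_comp]
    have hφ0 : φ = 0 := by
      rw [← cancel_epi π, ← hσ', h0, zero_comp, comp_zero]
    subst hφ0
    exact I.extMk_zero _ _
  | succ p =>
    obtain ⟨τ, hτ⟩ := FlExact.flasque_exact K N hfl hex p hi V σ' hσ'd
    have hτ' : τ ≫ Γ.map (I.cocomplex.d p (p + 1)) = σ' := hτ
    have hτu : (τ ≫ ι.app (I.cocomplex.X p)) ≫
        (TopCat.Sheaf.pullbackPushforwardAdjunction AddCommGrpCat.{u} f).unit.app _ = 0 := by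
      rw [Category.assoc]
      exact (congrArg (τ ≫ ·) (w (I.cocomplex.X p))).trans comp_zero
    have h0 := (comp_unit_eq_zero_iff f hf _ V (τ ≫ ι.app (I.cocomplex.X p))).mp hτu
    have hdesc : (freeFunctor X).map (homOfLE h) ≫ (τ ≫ ι.app (I.cocomplex.X p)) = 0 := by
      have e : (freeFunctor X).map (homOfLE h) =
          (freeFunctor X).map (homOfLE hW1) ≫
            (freeFunctor X).map (hf.isOpenMap.adjunction.counit.app V) := by
        rw [← Functor.map_comp]
        congr 1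
      rw [e, Category.assoc, h0, comp_zero]
    let g : LocCohZ.zq h ⟶ I.cocomplex.X p := cokernel.desc _ (τ ≫ ι.app (I.cocomplex.X p)) hdesc
    rw [I.extMk_eq_zero_iff φ (p + 2) rfl hφ p rfl]
    refine ⟨g, ?_⟩
    rw [← cancel_epi π]
    have hg : π ≫ g = τ ≫ ι.app (I.cocomplex.X p) := cokernel.π_desc _ _ _
    have e2 := hKd p (p + 1)
    calc π ≫ g ≫ I.cocomplex.d p (p + 1)
        = (π ≫ g) ≫ I.cocomplex.d p (p + 1) := (Category.assoc _ _ _).symm
      _ = (τ ≫ ι.app (I.cocomplex.X p)) ≫ I.cocomplex.d p (p + 1) := by rw [hg]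
      _ = τ ≫ (ι.app (I.cocomplex.X p) ≫ I.cocomplex.d p (p + 1)) := Category.assoc _ _ _
      _ = τ ≫ (Γ.map (I.cocomplex.d p (p + 1)) ≫ ι.app (I.cocomplex.X (p + 1))) :=
          congrArg (τ ≫ ·) e2.symm
      _ = (τ ≫ Γ.map (I.cocomplex.d p (p + 1))) ≫ ι.app (I.cocomplex.X (p + 1)) :=
          (Category.assoc _ _ _).symm
      _ = σ' ≫ ι.app (I.cocomplex.X (p + 1)) := by rw [hτ']
      _ = π ≫ φ := hσ'

omit hc in
/-- vanishing of `H^i_Z(V, F)` gives injectivity of `H^i(V, F) → H^i(W, F)` -/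
theorem res_injective_of_HZ (F : CohTop.Ab X) (i : ℕ) {W V : Opens X} (h : W ≤ V)
    (hz : ∀ x : LocCohZ.HZ F i h, x = 0) : Function.Injective (CohTop.res F i h) := by
  rw [injective_iff_map_eq_zero]
  intro y hy
  have hS := LocCohZ.zqSeq_shortExact h
  obtain ⟨x₃, hx₃⟩ := Abelian.Ext.contravariant_sequence_exact₂ hS F
    (y : Abelian.Ext.{u} ((freeFunctor X).obj V) F i) hy
  have h3 : x₃ = 0 := hz x₃
  rw [← hx₃, h3]
  exact Abelian.Ext.comp_zero (Abelian.Ext.mk₀ (LocCohZ.zqSeq h).g) F i i (zero_add i)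

omit hc in
/-- vanishing of `H^{i+1}_Z(V, F)` gives surjectivity of `H^i(V, F) → H^i(W, F)` -/
theorem res_surjective_of_HZ (F : CohTop.Ab X) (i : ℕ) {W V : Opens X} (h : W ≤ V)
    (hz : ∀ x : LocCohZ.HZ F (i + 1) h, x = 0) : Function.Surjective (CohTop.res F i h) := by
  intro x₁
  have hS := LocCohZ.zqSeq_shortExact h
  obtain ⟨x₂, hx₂⟩ := Abelian.Ext.contravariant_sequence_exact₁ hS F
    (x₁ : Abelian.Ext.{u} ((freeFunctor X).obj W) F i) (show 1 + i = i + 1 by omega) (hz _)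
  exact ⟨x₂, hx₂⟩

end Groth.Agent.H10.LocCohM
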