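import Mathlib
import Groth.Prelude.Def_CohTop
import Groth.Agent.H10.ClosedEmb
import Groth.Agent.H10.LocCohM
import Groth.Agent.H10.CohTopD

set_option autoImplicit false
universe u
open CategoryTheory CategoryTheory.Limits TopologicalSpace Opposite

namespace Groth.Agent.H10.ClosedAdj

open Groth.Agent.H10.CohTopB Groth.Agent.H10.ClosedEmb

variable {X Y Z : TopCat.{u}} (j : Y ⟶ X) (hf : Topology.IsOpenEmbedding j)
  [hc : hf.isOpenMap.functor.IsContinuous (Opens.grothendieckTopology Y)
    (Opens.grothendieckTopology X)]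
  (i : Z ⟶ X) (hi : Topology.IsInducing i) (hr : IsClosed (Set.range i))
  (hdisj : ∀ z : Z, i z ∉ Set.range j)
  (hcov : ∀ x : X, x ∈ Set.range i ∨ x ∈ Set.range j)

/-- a morphism of sheaves vanishing on all sections is zero -/
lemma eq_zero_of_sections {A A' : CohTop.Ab X} (ψ : A ⟶ A')
    (h : ∀ (V : Opens X) (σ : (freeFunctor X).obj V ⟶ A), σ ≫ ψ = 0) : ψ = 0 := by
  apply Sheaf.hom_ext
  apply NatTrans.ext
  funext V
  apply ConcreteCategory.hom_ext
  intro s
  have h1 := secEquiv_comp V.unop ((secEquiv V.unop A).symm s) ψ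
  rw [h, KerFlasque.secEquiv_zero, Equiv.apply_symm_apply] at h1
  exact h1.symm

include hcov in
omit hc in
lemma le_range_of_le_B_bot (V' : Opens X) (hV' : V' ≤ (B i).obj ⊥) :
    V' ≤ hf.isOpenMap.functor.obj ((Opens.map j).obj V') := by
  intro x hx
  rcases hcov x with ⟨z, rfl⟩ | ⟨y, rfl⟩
  · have h1 : (Opens.map i).obj V' ≤ ⊥ := (gc i _ _).mpr hV'
    exact (h1 hx).elim
  · exact ⟨y, hx, rfl⟩

section Gamma

variable {Γ : CohTop.Ab X ⥤ CohTop.Ab X} (ι : Γ ⟶ 𝟭 (CohTop.Ab X))
  (w : ∀ G : CohTop.Ab X,
    ι.app G ≫ (TopCat.Sheaf.pullbackPushforwardAdjunction AddCommGrpCat.{u} j).unit.app G = 0)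
  (hΓ : ∀ G : CohTop.Ab X, IsLimit (KernelFork.ofι (ι.app G) (w G)))

include hf hc hcov hΓ in
/-- sections with support in the closed complement vanish on opens inside `B ⊥` -/
lemma kernel_unit_supported (F : CohTop.Ab X) (V' : Opens X) (hV' : V' ≤ (B i).obj ⊥) :
    Subsingleton ((Γ.obj F).obj.obj (op V')) := by
  have hmono : Mono (ι.app F) := mono_of_isLimit_fork (hΓ F)
  have key : ∀ σ : (freeFunctor X).obj V' ⟶ Γ.obj F, σ = 0 := by
    intro σ
    have h1 : (σ ≫ ι.app F) ≫ (TopCat.Sheaf.pullbackPushforwardAdjunction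
        AddCommGrpCat.{u} j).unit.app F = 0 := by
      rw [Category.assoc]
      exact (congrArg (σ ≫ ·) (w F)).trans comp_zero
    have h2 := (LocCohM.comp_unit_eq_zero_iff j hf F V' (σ ≫ ι.app F)).mp h1
    have hle := le_range_of_le_B_bot j hf i hcov V' hV'
    have h3 : (freeFunctor X).map (homOfLE hle) ≫
        (freeFunctor X).map (hf.isOpenMap.adjunction.counit.app V') = 𝟙 _ := by
      rw [← Functor.map_comp]
      have : homOfLE hle ≫ hf.isOpenMap.adjunction.counit.app V' = 𝟙 _ := Subsingleton.elim _ _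
      rw [this]
      exact (freeFunctor X).map_id V'
    have h4 : σ ≫ ι.app F = 0 := by
      have := congrArg ((freeFunctor X).map (homOfLE hle) ≫ ·) h2
      simp only [comp_zero] at this
      rw [← Category.assoc, h3, Category.id_comp] at this
      exact this
    rw [← cancel_mono (ι.app F), h4, zero_comp]
  refine ⟨fun a b => ?_⟩
  have ha := key ((secEquiv V' _).symm a)
  have hb := key ((secEquiv V' _).symm b)
  exact (secEquiv V' _).symm.injective (ha.trans hb.symm)

end Gamma

include hf hc hdisj in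
/-- maps out of a direct image from the closed part compose to zero with the unit of the open part -/
lemma push_comp_unit (G'' : CohTop.Ab Z) (F : CohTop.Ab X) (φ : (CohTop.push i).obj G'' ⟶ F) :
    φ ≫ (TopCat.Sheaf.pullbackPushforwardAdjunction AddCommGrpCat.{u} j).unit.app F = 0 := by
  apply eq_zero_of_sections
  intro V σ
  rw [← Category.assoc, LocCohM.comp_unit_eq_zero_iff j hf, ← Category.assoc]
  have h0 : (freeFunctor X).map (hf.isOpenMap.adjunction.counit.app V) ≫ σ = 0 := by
    apply (secEquiv _ _).injective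
    have hemp : (((Opens.map i).obj (hf.isOpenMap.functor.obj ((Opens.map j).obj V)) : Opens Z) :
        Set Z) = ∅ := by
      ext z
      constructor
      · rintro ⟨y, -, hy⟩
        exact (hdisj z ⟨y, hy⟩).elim
      · intro hz
        exact hz.elim
    have hsub : Subsingleton (((CohTop.push i).obj G'').obj.obj
        (op (hf.isOpenMap.functor.obj ((Opens.map j).obj V)))) :=
      subsingleton_of_isEmpty G'' _ hemp
    exact hsub.elim _ _
  rw [h0, zero_comp]

section Adj

variable {Γ : CohTop.Ab X ⥤ CohTop.Ab X} (ι : Γ ⟶ 𝟭 (CohTop.Ab X))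
  (w : ∀ G : CohTop.Ab X,
    ι.app G ≫ (TopCat.Sheaf.pullbackPushforwardAdjunction AddCommGrpCat.{u} j).unit.app G = 0)
  (hΓ : ∀ G : CohTop.Ab X, IsLimit (KernelFork.ofι (ι.app G) (w G)))

include hf hc hi hr hdisj hcov hΓ in
/-- `i_* ⊣ i⁻¹ Γ_Z` for a closed embedding `i` with open complement `j` -/
theorem nonempty_adjunction : Nonempty (CohTop.push i ⊣ Γ ⋙ CohTop.pull i) := by
  let adjI : CohTop.pull i ⊣ CohTop.push i :=
    TopCat.Sheaf.pullbackPushforwardAdjunction AddCommGrpCat.{u} i
  let ff := ffPush i hi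
  have hfull : (CohTop.push i).Full := ff.full
  have hfaith : (CohTop.push i).Faithful := ff.faithful
  have hmono : ∀ F : CohTop.Ab X, Mono (ι.app F) := fun F => mono_of_isLimit_fork (hΓ F)
  have hη : ∀ F : CohTop.Ab X, IsIso (adjI.unit.app (Γ.obj F)) := by
    intro F
    obtain ⟨e⟩ := nonempty_iso_push i hi hr (Γ.obj F)
      (fun V' hV' => kernel_unit_supported j hf i hcov ι w hΓ F V' hV')
    exact adjI.isIso_unit_app_of_iso e.symm
  -- lift of a map out of a direct image to `Γ`
  let lift : ∀ {G'' : CohTop.Ab Z} {F : CohTop.Ab X} (φ : (CohTop.push i).obj G'' ⟶ F),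
      (CohTop.push i).obj G'' ⟶ Γ.obj F := fun {G'' F} φ =>
    (hΓ F).lift (KernelFork.ofι φ (push_comp_unit j hf i hdisj G'' F φ))
  have lift_ι : ∀ {G'' : CohTop.Ab Z} {F : CohTop.Ab X} (φ : (CohTop.push i).obj G'' ⟶ F),
      lift φ ≫ ι.app F = φ := fun {G'' F} φ =>
    (hΓ F).fac (KernelFork.ofι φ (push_comp_unit j hf i hdisj G'' F φ)) WalkingParallelPair.zero
  refine ⟨Adjunction.mkOfHomEquiv
    { homEquiv := fun G'' F =>
        { toFun := fun φ => ff.preimage (lift φ ≫ adjI.unit.app (Γ.obj F))
          invFun := fun ψ => ((CohTop.push i).map ψ ≫ inv (adjI.unit.app (Γ.obj F))) ≫ ι.app F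
          left_inv := fun φ => by
            simp only [Functor.FullyFaithful.map_preimage, Category.assoc, IsIso.hom_inv_id,
              Category.comp_id]
            exact lift_ι φ
          right_inv := fun ψ => by
            apply ff.map_injective
            rw [Functor.FullyFaithful.map_preimage]
            have h1 : lift (((CohTop.push i).map ψ ≫ inv (adjI.unit.app (Γ.obj F))) ≫ ι.app F) =
                (CohTop.push i).map ψ ≫ inv (adjI.unit.app (Γ.obj F)) := by
              rw [← cancel_mono (ι.app F)]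
              exact lift_ι _
            show lift (((CohTop.push i).map ψ ≫ inv (adjI.unit.app (Γ.obj F))) ≫ ι.app F) ≫
              adjI.unit.app (Γ.obj F) = (CohTop.push i).map ψ
            rw [h1, Category.assoc, IsIso.inv_hom_id, Category.comp_id] }
      homEquiv_naturality_left_symm := fun g ψ => by
        simp only [Equiv.coe_fn_symm_mk, Functor.map_comp, Category.assoc]
      homEquiv_naturality_right := fun {G'' F F'} φ m => by
        apply ff.map_injective
        simp only [Equiv.coe_fn_mk, Functor.map_comp, Functor.FullyFaithful.map_preimage]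
        have h1 : lift (φ ≫ m) = lift φ ≫ Γ.map m := by
          rw [← cancel_mono (ι.app F')]
          have hn : Γ.map m ≫ ι.app F' = ι.app F ≫ m := ι.naturality m
          rw [lift_ι, Category.assoc, hn, ← Category.assoc, lift_ι]
        have h2 := adjI.unit.naturality (Γ.map m)
        simp only [Functor.id_map, Functor.comp_map] at h2
        rw [h1, Category.assoc, h2]
        rfl }⟩

end Adj

end Groth.Agent.H10.ClosedAdj
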