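import Mathlib
import Groth.Agent.S6177

/-!
# The closed complement of an open in a sheaf topos (helper10)

`single`: maps from an object over `U` into an object of the closed complement are unique.
`key`: the pushout `U ⨿_{U × Y} Y` lies in the closed complement.
`reflection_iso`: any reflector onto the closed complement is computed by that pushout.
-/

set_option autoImplicit false
universe u
open CategoryTheory CategoryTheory.Limits

namespace Groth.Agent.H10.ClosedCompl

variable {C : Type u} [SmallCategory C] {J : GrothendieckTopology C} {U : Sheaf J (Type u)}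

theorem hom_to_open_eq (hU : SGA4.IsOpen U) {W : Sheaf J (Type u)} (f g : W ⟶ U) : f = g := by
  have : Mono (terminal.from U) := hU
  rw [← cancel_mono (terminal.from U)]
  exact Subsingleton.elim _ _

theorem single {T Z : Sheaf J (Type u)} (t : T ⟶ U) (hZ : SGA4.closedCompl U Z)
    (f g : T ⟶ Z) : f = g := by
  have : IsIso (prod.fst : U ⨯ Z ⟶ U) := hZ
  have h : prod.lift t f = prod.lift t g := by
    rw [← cancel_mono (prod.fst : U ⨯ Z ⟶ U), prod.lift_fst, prod.lift_fst]
  calc f = prod.lift t f ≫ prod.snd := (prod.lift_snd _ _).symm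
    _ = prod.lift t g ≫ prod.snd := by rw [h]
    _ = g := prod.lift_snd _ _

theorem key [HasPushouts (Sheaf J (Type u))] (hU : SGA4.IsOpen U) (Y : Sheaf J (Type u)) :
    SGA4.closedCompl U (pushout (prod.fst : U ⨯ Y ⟶ U) (prod.snd : U ⨯ Y ⟶ Y)) :=
  (Groth.Agent.S6177.result J U hU _).2 ⟨Y, ⟨Iso.refl _⟩⟩

theorem reflection_iso [HasPushouts (Sheaf J (Type u))] (hU : SGA4.IsOpen U)
    (L : Sheaf J (Type u) ⥤ (SGA4.closedCompl U).FullSubcategory)
    (adj : L ⊣ (SGA4.closedCompl U).ι) (X : Sheaf J (Type u)) :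
    ∃ φ : ((SGA4.closedCompl U).ι).obj (L.obj X) ≅
        pushout (prod.fst : U ⨯ X ⟶ U) (prod.snd : U ⨯ X ⟶ X),
      adj.unit.app X ≫ φ.hom = pushout.inr _ _ := by
  have hP : SGA4.closedCompl U (pushout (prod.fst : U ⨯ X ⟶ U) (prod.snd : U ⨯ X ⟶ X)) :=
    key hU X
  let Pc : (SGA4.closedCompl U).FullSubcategory := ⟨_, hP⟩
  let A := L.obj X
  have hA : SGA4.closedCompl U A.obj := A.property
  let inrX : X ⟶ (SGA4.closedCompl U).ι.obj Pc :=
    pushout.inr (prod.fst : U ⨯ X ⟶ U) (prod.snd : U ⨯ X ⟶ X)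
  let a : A ⟶ Pc := (adj.homEquiv X Pc).symm inrX
  have ha : adj.unit.app X ≫ (SGA4.closedCompl U).ι.map a = inrX :=
    (adj.homEquiv_unit X Pc a).symm.trans (Equiv.apply_symm_apply _ _)
  have : IsIso (prod.fst : U ⨯ A.obj ⟶ U) := hA
  let b : pushout (prod.fst : U ⨯ X ⟶ U) (prod.snd : U ⨯ X ⟶ X) ⟶ A.obj :=
    pushout.desc (inv (prod.fst : U ⨯ A.obj ⟶ U) ≫ prod.snd) (adj.unit.app X)
      (single prod.fst hA _ _)
  have hb : pushout.inr _ _ ≫ b = adj.unit.app X := pushout.inr_desc _ _ _
  let b' : Pc ⟶ A := (SGA4.closedCompl U).ι.preimage b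
  have hb' : (SGA4.closedCompl U).ι.map b' = b := Functor.map_preimage _ _
  have h1 : a ≫ b' = 𝟙 A := by
    apply (adj.homEquiv X A).injective
    rw [adj.homEquiv_unit, adj.homEquiv_unit, Functor.map_comp, CategoryTheory.Functor.map_id, hb']
    have e1 : (adj.unit.app X ≫ (SGA4.closedCompl U).ι.map a) ≫ b = adj.unit.app X := by
      rw [ha]; exact hb
    rw [Category.assoc] at e1
    exact e1.trans (Category.comp_id _).symm
  have h2 : b' ≫ a = 𝟙 Pc := by
    apply (SGA4.closedCompl U).ι.map_injective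
    rw [Functor.map_comp, CategoryTheory.Functor.map_id, hb']
    apply pushout.hom_ext
    · exact single (𝟙 U) hP _ _
    · have e2 : (pushout.inr _ _ ≫ b) ≫ (SGA4.closedCompl U).ι.map a = inrX := by
        rw [hb]; exact ha
      rw [Category.assoc] at e2
      exact e2.trans (Category.comp_id _).symm
  exact ⟨(SGA4.closedCompl U).ι.mapIso ⟨a, b', h1, h2⟩, ha⟩

end Groth.Agent.H10.ClosedCompl
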