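import Mathlib
import Groth.Prelude.Def_CohTop
import Groth.Agent.H10.ClosedEmb
import Groth.Agent.H10.CohTopD

set_option autoImplicit false
universe u
open CategoryTheory CategoryTheory.Limits TopologicalSpace Opposite

namespace Groth.Agent.H10.ClosedEss

open Groth.Agent.H10.CohTopB Groth.Agent.H10.ClosedEmb

variable {X Z : TopCat.{u}} (i : Z ⟶ X) (hi : Topology.IsClosedEmbedding i)

include hi in
theorem preservesFiniteColimits_push : PreservesFiniteColimits (CohTop.push i) := by
  rw [Functor.preservesFiniteColimits_iff_forall_exact_map_and_epi]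
  intro S hS
  have h := push_shortExact i hi S hS
  exact ⟨h.exact, h.epi_g⟩

include hi in
theorem essImage_iff (F : CohTop.Ab X) :
    (CohTop.push i).essImage F ↔
      ∀ x : X, x ∉ Set.range i → IsZero (CohTop.stalk F x) := by
  constructor
  · rintro ⟨G, ⟨e⟩⟩ x hx
    suffices hss : Subsingleton (ToType (TopCat.Presheaf.stalk F.obj x)) from
      AddCommGrpCat.isZero_of_subsingleton _
    have key : ∀ t : ToType (TopCat.Presheaf.stalk F.obj x), t = 0 := by
      intro t
      let V : Opens X := ⟨(Set.range i)ᶜ, hi.isClosed_range.isOpen_compl⟩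
      obtain ⟨U', hU'V, m, s, hs⟩ := TopCat.Presheaf.exists_le_germ_eq F.obj t (V := V) hx
      have hemp : (((Opens.map i).obj U' : Opens Z) : Set Z) = ∅ := by
        ext z
        constructor
        · intro hz
          exact (hU'V hz ⟨z, rfl⟩).elim
        · intro hz
          exact hz.elim
      have hsub : Subsingleton (((CohTop.push i).obj G).obj.obj (op U')) :=
        subsingleton_of_isEmpty G _ hemp
      let ε := ((sheafToPresheaf _ _).mapIso e).app (op U')
      have h0 : s = 0 := by
        have h1 : ε.inv s = ε.inv 0 := hsub.elim _ _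
        have h2 := congrArg ε.hom h1
        have h3 : ∀ a, ε.hom (ε.inv a) = a := fun a =>
          ConcreteCategory.congr_hom ε.inv_hom_id a
        rw [h3, h3] at h2
        exact h2
      rw [← hs, h0, map_zero]
    exact ⟨fun a b => (key a).trans (key b).symm⟩
  · intro h
    have hH : ∀ V' : Opens X, V' ≤ (B i).obj ⊥ → Subsingleton (F.obj.obj (op V')) := by
      intro V' hV'
      refine ⟨fun a b => ?_⟩
      apply TopCat.Presheaf.section_ext F V' a b
      intro x hx
      have hxr : x ∉ Set.range i := by
        rintro ⟨z, rfl⟩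
        have h1 : (Opens.map i).obj V' ≤ ⊥ := (gc i _ _).mpr hV'
        exact h1 hx
      have := AddCommGrpCat.subsingleton_of_isZero (h x hxr)
      exact Subsingleton.elim _ _
    obtain ⟨e⟩ := nonempty_iso_push i hi.isInducing hi.isClosed_range F hH
    exact ⟨_, ⟨e⟩⟩

include hi in
theorem all :
    PreservesFiniteColimits (CohTop.push i) ∧ (CohTop.push i).Full ∧ (CohTop.push i).Faithful ∧
      (∀ F : CohTop.Ab X, (CohTop.push i).essImage F ↔
        ∀ x : X, x ∉ Set.range i → IsZero (CohTop.stalk F x)) ∧
      Nonempty (CohTop.push i ⋙ CohTop.pull i ≅ 𝟭 (CohTop.Ab Z)) := by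
  let ff := ffPush i hi.isInducing
  have hfull : (CohTop.push i).Full := ff.full
  have hfaith : (CohTop.push i).Faithful := ff.faithful
  refine ⟨preservesFiniteColimits_push i hi, hfull, hfaith, essImage_iff i hi, ?_⟩
  let adjI : CohTop.pull i ⊣ CohTop.push i :=
    TopCat.Sheaf.pullbackPushforwardAdjunction AddCommGrpCat.{u} i
  have : IsIso adjI.counit := inferInstance
  exact ⟨asIso adjI.counit⟩

end Groth.Agent.H10.ClosedEss
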