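import Mathlib
import Groth.Prelude.Def_CohTop
import Groth.Agent.H10.FlatLan

set_option autoImplicit false
universe u
open CategoryTheory CategoryTheory.Limits TopologicalSpace Opposite

namespace Groth.Agent.H10.PullLex

theorem pull_preservesFiniteLimits {X Y : TopCat.{u}} (f : X ⟶ Y) :
    PreservesFiniteLimits (CohTop.pull f) := by
  unfold CohTop.pull TopCat.Sheaf.pullback
  exact FlatLan.sheafPullback_preservesFiniteLimits_of_flat (Opens.map f) AddCommGrpCat.{u}
    (Opens.grothendieckTopology Y) (Opens.grothendieckTopology X)

end Groth.Agent.H10.PullLex
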