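import Mathlib
import Groth.Prelude.Def_CohTop
import Groth.Prelude.Def_LocCohZ
import Groth.Agent.H10.ClosedAdj
import Groth.Agent.H10.PullLex

set_option autoImplicit false
universe u
open CategoryTheory CategoryTheory.Limits TopologicalSpace Opposite

namespace Groth.Agent.H10.ClosedInj

open Groth.Agent.H10.CohTopB Groth.Agent.H10.ClosedEmb Groth.Agent.H10.ClosedAdj

variable {X Y Z : TopCat.{u}} (j : Y ⟶ X) (hf : Topology.IsOpenEmbedding j)
  [hc : hf.isOpenMap.functor.IsContinuous (Opens.grothendieckTopology Y)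
    (Opens.grothendieckTopology X)]
  (i : Z ⟶ X) (hi : Topology.IsInducing i) (hr : IsClosed (Set.range i))
  (hdisj : ∀ z : Z, i z ∉ Set.range j)
  (hcov : ∀ x : X, x ∈ Set.range i ∨ x ∈ Set.range j)
  {Γ : CohTop.Ab X ⥤ CohTop.Ab X} (ι : Γ ⟶ 𝟭 (CohTop.Ab X))
  (w : ∀ G : CohTop.Ab X,
    ι.app G ≫ (TopCat.Sheaf.pullbackPushforwardAdjunction AddCommGrpCat.{u} j).unit.app G = 0)
  (hΓ : ∀ G : CohTop.Ab X, IsLimit (KernelFork.ofι (ι.app G) (w G)))


include hf hc hi hr hdisj hcov hΓ in
/-- `Γ_Z` of an injective sheaf is injective -/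
theorem injective_Γ (I : CohTop.Ab X) [Injective I] : Injective (Γ.obj I) := by
  let adjI : CohTop.pull i ⊣ CohTop.push i :=
    TopCat.Sheaf.pullbackPushforwardAdjunction AddCommGrpCat.{u} i
  let ff := ffPush i hi
  have hfull : (CohTop.push i).Full := ff.full
  have hfaith : (CohTop.push i).Faithful := ff.faithful
  have hη : IsIso (adjI.unit.app (Γ.obj I)) := by
    obtain ⟨e⟩ := nonempty_iso_push i hi hr (Γ.obj I)
      (fun V' hV' => kernel_unit_supported j hf i hcov ι w hΓ I V' hV')
    exact adjI.isIso_unit_app_of_iso e.symm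
  obtain ⟨adjZ⟩ := nonempty_adjunction j hf i hi hr hdisj hcov ι w hΓ
  have hpm : (CohTop.push i).PreservesMonomorphisms :=
    Functor.preservesMonomorphisms_of_adjunction adjI
  have h1 : Injective ((Γ ⋙ CohTop.pull i).obj I) := Injective.injective_of_adjoint adjZ I
  have hlex : PreservesFiniteLimits (CohTop.pull i) := PullLex.pull_preservesFiniteLimits i
  have hpm2 : (CohTop.pull i).PreservesMonomorphisms := inferInstance
  have h2 : Injective ((CohTop.push i).obj ((Γ ⋙ CohTop.pull i).obj I)) :=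
    Injective.injective_of_adjoint adjI _
  exact Injective.of_iso (asIso (adjI.unit.app (Γ.obj I))).symm h2

/-- `Γ_Z(I)` (as a sheaf on `X`) of an injective sheaf is injective. -/
theorem injective_sectSuppF {X : TopCat.{u}} (U : Opens X) (I : CohTop.Ab X) [Injective I] :
    Injective ((LocCohZ.sectSuppF U).obj I) := by
  have H : Topology.IsOpenEmbedding (TopCat.Hom.hom (CohCx.incl U)) := U.isOpenEmbedding
  have hc := H.functor_isContinuous
  let adj : CohTop.pull (CohCx.incl U) ⊣ CohTop.push (CohCx.incl U) :=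
    TopCat.Sheaf.pullbackPushforwardAdjunction AddCommGrpCat.{u} (CohCx.incl U)
  let ι : LocCohZ.sectSuppF U ⟶ 𝟭 (CohTop.Ab X) :=
    { app := fun G => CategoryTheory.Limits.kernel.ι (adj.unit.app G)
      naturality := fun G G' f => CategoryTheory.Limits.kernel.lift_ι _ _ _ }
  have w : ∀ G : CohTop.Ab X, ι.app G ≫ adj.unit.app G = 0 :=
    fun G => CategoryTheory.Limits.kernel.condition _
  have hΓ : ∀ G : CohTop.Ab X, CategoryTheory.Limits.IsLimit (CategoryTheory.Limits.KernelFork.ofι (ι.app G) (w G)) :=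
    fun G => CategoryTheory.Limits.kernelIsKernel _
  have hi : Topology.IsInducing (TopCat.Hom.hom (CohCx.inclCompl U)) :=
    Topology.IsInducing.subtypeVal
  have hrange : Set.range (TopCat.Hom.hom (CohCx.inclCompl U)) = (U : Set X)ᶜ :=
    Subtype.range_val
  have hrangej : Set.range (TopCat.Hom.hom (CohCx.incl U)) = (U : Set X) :=
    Subtype.range_val
  have hr : IsClosed (Set.range (TopCat.Hom.hom (CohCx.inclCompl U))) := by
    rw [hrange]
    exact U.isOpen.isClosed_compl
  have hdisj : ∀ z : TopCat.of ((U : Set X)ᶜ : Set X),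
      (TopCat.Hom.hom (CohCx.inclCompl U)) z ∉ Set.range (TopCat.Hom.hom (CohCx.incl U)) := by
    intro z hz
    rw [hrangej] at hz
    exact z.2 hz
  have hcov : ∀ x : X, x ∈ Set.range (TopCat.Hom.hom (CohCx.inclCompl U)) ∨
      x ∈ Set.range (TopCat.Hom.hom (CohCx.incl U)) := by
    intro x
    rw [hrange, hrangej]
    by_cases hx : x ∈ (U : Set X)
    · exact Or.inr hx
    · exact Or.inl hx
  exact @injective_Γ X (TopCat.of U)
    (TopCat.of ((U : Set X)ᶜ : Set X)) (CohCx.incl U) H hc (CohCx.inclCompl U) hi hr hdisj hcov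
    (LocCohZ.sectSuppF U) ι w hΓ I _

/-- direct image preserves injectives -/
theorem injective_push {X Y : TopCat.{u}} (f : X ⟶ Y) (I : CohTop.Ab X) [Injective I] :
    Injective ((CohTop.push f).obj I) := by
  have hlex : PreservesFiniteLimits (CohTop.pull f) := PullLex.pull_preservesFiniteLimits f
  have hpm2 : (CohTop.pull f).PreservesMonomorphisms := inferInstance
  let adj : CohTop.pull f ⊣ CohTop.push f :=
    TopCat.Sheaf.pullbackPushforwardAdjunction AddCommGrpCat.{u} f
  exact Injective.injective_of_adjoint adj _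

end Groth.Agent.H10.ClosedInj
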