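import Mathlib
import Groth.Agent.H10.ClosedCompl

/-!
# The reflector onto the closed complement of an open is left exact (helper10)

For a sheaf `U` on a small site, the presheaf-level "closed modality"
`Q F c = (¬ Nonempty (U c) → F c)` preserves limits; composing with sheafification gives a left
exact reflector `Lc` onto `SGA4.closedCompl U`, with adjunction `adjc`.
-/

set_option autoImplicit false
universe u
open CategoryTheory CategoryTheory.Limits Opposite

namespace Groth.Agent.H10.ClosedRefl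

variable {C : Type u} [SmallCategory C]

section Psh
variable (V : Cᵒᵖ ⥤ Type u)

/-- objects of the presheaf-level closed modality -/
def Qobj (F : Cᵒᵖ ⥤ Type u) : Cᵒᵖ ⥤ Type u where
  obj c := (¬ Nonempty (V.obj c)) → F.obj c
  map {c d} f := ↾(fun s hd => F.map f (s (fun hc => hc.elim (fun v => hd ⟨V.map f v⟩))))
  map_id c := by
    ext s h
    exact F.map_id_apply c (s _)
  map_comp {c d e} f g := by
    ext s h
    exact F.map_comp_apply f g (s _)

/-- the presheaf-level closed modality -/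
def Q : (Cᵒᵖ ⥤ Type u) ⥤ (Cᵒᵖ ⥤ Type u) where
  obj F := Qobj V F
  map {F G} α :=
    { app := fun c => ↾(fun s h => α.app c (s h))
      naturality := by
        intro c d f
        ext s
        funext h
        exact NatTrans.naturality_apply α f (s _) }
  map_id F := by
    ext c s
    rfl
  map_comp α β := by
    ext c s
    rfl

/-- the unit of the presheaf-level closed modality -/
def ηQ : 𝟭 (Cᵒᵖ ⥤ Type u) ⟶ Q V where
  app F :=
    { app := fun c => ↾(fun x _ => x)
      naturality := by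
        intro c d f
        ext x
        rfl }
  naturality := by
    intro F G α
    ext c x
    rfl

/-- auxiliary equivalence for `evIso` -/
def evEquiv (c : Cᵒᵖ) (F : Cᵒᵖ ⥤ Type u) :
    ((¬ Nonempty (V.obj c)) → F.obj c) ≃
      (ULift.{u} (PLift (¬ Nonempty (V.obj c))) ⟶ F.obj c) where
  toFun s := ↾(fun a => s a.down.down)
  invFun g h := g ⟨⟨h⟩⟩
  left_inv s := rfl
  right_inv g := by
    ext a
    rfl

/-- evaluation of `Q V` at `c` is corepresentable after evaluation -/
def evIso (c : Cᵒᵖ) : Q V ⋙ (evaluation Cᵒᵖ (Type u)).obj c ≅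
    (evaluation Cᵒᵖ (Type u)).obj c ⋙
      coyoneda.obj (op (ULift.{u} (PLift (¬ Nonempty (V.obj c))))) :=
  NatIso.ofComponents (fun F => (evEquiv V c F).toIso)
    (by
      intro F G α
      ext s
      rfl)

instance preservesLimits_Q : PreservesLimitsOfSize.{u, u} (Q V) :=
  preservesLimits_of_evaluation _ (fun c => preservesLimits_of_natIso (evIso V c).symm)

instance preservesFiniteLimits_Q : PreservesFiniteLimits (Q V) :=
  PreservesLimitsOfSize.preservesFiniteLimits.{u, u} (Q V)

/-- the canonical map `V ⟶ Q V F` -/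
def σ (F : Cᵒᵖ ⥤ Type u) : V ⟶ (Q V).obj F where
  app c := ↾(fun v h => absurd ⟨v⟩ h)
  naturality := by
    intro c d f
    ext v
    funext h
    exact absurd ⟨V.map f v⟩ h

theorem isIso_fst (F : Cᵒᵖ ⥤ Type u) : IsIso (prod.fst : V ⨯ (Q V).obj F ⟶ V) := by
  have h1 : (prod.fst : V ⨯ (Q V).obj F ⟶ V) ≫ σ V F = prod.snd := by
    ext c w
    funext h
    exact absurd ⟨(prod.fst : V ⨯ (Q V).obj F ⟶ V).app c w⟩ h
  refine ⟨prod.lift (𝟙 V) (σ V F), ?_, prod.lift_fst _ _⟩
  apply Limits.prod.hom_ext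
  · rw [Category.assoc, prod.lift_fst, Category.comp_id, Category.id_comp]
  · rw [Category.assoc, prod.lift_snd, Category.id_comp, h1]

end Psh

section Shf
variable (J : GrothendieckTopology C) (U : Sheaf J (Type u))

/-- the reflector, as an endofunctor of sheaves -/
noncomputable def L' : Sheaf J (Type u) ⥤ Sheaf J (Type u) :=
  sheafToPresheaf J (Type u) ⋙ Q U.obj ⋙ presheafToSheaf J (Type u)

instance : PreservesFiniteLimits (L' J U) := by
  unfold L'
  infer_instance

/-- the unit -/
noncomputable def η' (X : Sheaf J (Type u)) : X ⟶ (L' J U).obj X :=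
  ⟨(ηQ U.obj).app X.obj ≫ toSheafify J ((Q U.obj).obj X.obj)⟩

theorem η'_naturality {X Y : Sheaf J (Type u)} (m : X ⟶ Y) :
    m ≫ η' J U Y = η' J U X ≫ (L' J U).map m := by
  apply Sheaf.hom_ext
  show m.hom ≫ (ηQ U.obj).app Y.obj ≫ toSheafify J ((Q U.obj).obj Y.obj) =
    ((ηQ U.obj).app X.obj ≫ toSheafify J ((Q U.obj).obj X.obj)) ≫
      sheafifyMap J ((Q U.obj).map m.hom)
  have h1 : m.hom ≫ (ηQ U.obj).app Y.obj = (ηQ U.obj).app X.obj ≫ (Q U.obj).map m.hom :=
    (ηQ U.obj).naturality m.hom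
  rw [← Category.assoc, h1, Category.assoc, Category.assoc, toSheafify_naturality]

theorem closedCompl_L' (X : Sheaf J (Type u)) : SGA4.closedCompl U ((L' J U).obj X) := by
  have h1 : IsIso (prod.fst : U.obj ⨯ (Q U.obj).obj X.obj ⟶ U.obj) := isIso_fst U.obj X.obj
  have h2 : IsIso (prod.fst : (presheafToSheaf J (Type u)).obj U.obj ⨯
      (presheafToSheaf J (Type u)).obj ((Q U.obj).obj X.obj) ⟶
        (presheafToSheaf J (Type u)).obj U.obj) := by
    rw [← PreservesLimitPair.iso_inv_fst (presheafToSheaf J (Type u)) U.obj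
      ((Q U.obj).obj X.obj)]
    infer_instance
  obtain ⟨ε, hε⟩ : ∃ ε : (presheafToSheaf J (Type u)).obj U.obj ⟶ U, IsIso ε :=
    ⟨(sheafificationAdjunction J (Type u)).counit.app U, inferInstance⟩
  have h3 : (prod.fst : U ⨯ (presheafToSheaf J (Type u)).obj ((Q U.obj).obj X.obj) ⟶ U) =
      prod.map (inv ε) (𝟙 _) ≫ (prod.fst : (presheafToSheaf J (Type u)).obj U.obj ⨯
        (presheafToSheaf J (Type u)).obj ((Q U.obj).obj X.obj) ⟶
          (presheafToSheaf J (Type u)).obj U.obj) ≫ ε := by
    rw [prod.map_fst_assoc, IsIso.inv_hom_id, Category.comp_id]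
  show IsIso (prod.fst : U ⨯ (presheafToSheaf J (Type u)).obj ((Q U.obj).obj X.obj) ⟶ U)
  rw [h3]
  infer_instance

/-- the canonical map from `U` to an object of the closed complement -/
noncomputable def u0 (Z : Sheaf J (Type u)) (hZ : SGA4.closedCompl U Z) : U ⟶ Z :=
  @CategoryTheory.inv _ _ _ _ (prod.fst : U ⨯ Z ⟶ U) hZ ≫ prod.snd

theorem subsingleton_of (Z : Sheaf J (Type u)) (hZ : SGA4.closedCompl U Z) (c : C)
    (h : Nonempty (U.obj.obj (op c))) : Subsingleton (Z.obj.obj (op c)) := by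
  obtain ⟨v⟩ := h
  refine ⟨fun z z' => ?_⟩
  let T : Sheaf J (Type u) := (presheafToSheaf J (Type u)).obj (yoneda.obj c)
  let t : T ⟶ U := ⟨sheafifyLift J (yonedaEquiv.symm v) U.property⟩
  let fz : T ⟶ Z := ⟨sheafifyLift J (yonedaEquiv.symm z) Z.property⟩
  let fz' : T ⟶ Z := ⟨sheafifyLift J (yonedaEquiv.symm z') Z.property⟩
  have e : fz = fz' := ClosedCompl.single t hZ fz fz'
  have e1 : yonedaEquiv.symm z = yonedaEquiv.symm z' :=
    calc yonedaEquiv.symm z = toSheafify J _ ≫ fz.hom :=
          (toSheafify_sheafifyLift J _ Z.property).symm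
      _ = toSheafify J _ ≫ fz'.hom := by rw [e]
      _ = yonedaEquiv.symm z' := toSheafify_sheafifyLift J _ Z.property
  exact yonedaEquiv.symm.injective e1

open Classical in
/-- the pointwise extension of a map into an object of the closed complement -/
noncomputable def ftilFun {X Z : Sheaf J (Type u)} (hZ : SGA4.closedCompl U Z) (f : X ⟶ Z)
    (c : Cᵒᵖ) (s : (¬ Nonempty (U.obj.obj c)) → X.obj.obj c) : Z.obj.obj c :=
  if h : Nonempty (U.obj.obj c) then (u0 J U Z hZ).hom.app c h.some else f.hom.app c (s h)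

theorem ftilFun_neg {X Z : Sheaf J (Type u)} (hZ : SGA4.closedCompl U Z) (f : X ⟶ Z)
    (c : Cᵒᵖ) (s : (¬ Nonempty (U.obj.obj c)) → X.obj.obj c) (h : ¬ Nonempty (U.obj.obj c)) :
    ftilFun J U hZ f c s = f.hom.app c (s h) := dif_neg h

/-- the extension of a map into an object of the closed complement, presheaf level -/
noncomputable def ftil {X Z : Sheaf J (Type u)} (hZ : SGA4.closedCompl U Z) (f : X ⟶ Z) :
    (Q U.obj).obj X.obj ⟶ Z.obj where
  app c := ↾(ftilFun J U hZ f c)
  naturality := by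
    intro c d φ
    ext s
    by_cases h' : Nonempty (U.obj.obj d)
    · have : Subsingleton (Z.obj.obj d) := subsingleton_of J U Z hZ d.unop h'
      exact Subsingleton.elim _ _
    · have h : ¬ Nonempty (U.obj.obj c) := fun hc => hc.elim fun v => h' ⟨U.obj.map φ v⟩
      show ftilFun J U hZ f d (((Q U.obj).obj X.obj).map φ s) =
        Z.obj.map φ (ftilFun J U hZ f c s)
      rw [ftilFun_neg J U hZ f d _ h', ftilFun_neg J U hZ f c _ h]
      exact NatTrans.naturality_apply f.hom φ (s h)

/-- the extension of a map into an object of the closed complement -/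
noncomputable def gOf {X Z : Sheaf J (Type u)} (hZ : SGA4.closedCompl U Z) (f : X ⟶ Z) :
    (L' J U).obj X ⟶ Z :=
  ⟨sheafifyLift J (ftil J U hZ f) Z.property⟩

theorem η'_gOf {X Z : Sheaf J (Type u)} (hZ : SGA4.closedCompl U Z) (f : X ⟶ Z) :
    η' J U X ≫ gOf J U hZ f = f := by
  apply Sheaf.hom_ext
  show ((ηQ U.obj).app X.obj ≫ toSheafify J ((Q U.obj).obj X.obj)) ≫
    sheafifyLift J (ftil J U hZ f) Z.property = f.hom
  rw [Category.assoc, toSheafify_sheafifyLift]
  ext c x
  by_cases h : Nonempty (U.obj.obj c)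
  · have : Subsingleton (Z.obj.obj c) := subsingleton_of J U Z hZ c.unop h
    exact Subsingleton.elim _ _
  · show ftilFun J U hZ f c (fun _ => x) = f.hom.app c x
    exact ftilFun_neg J U hZ f c _ h

theorem uniq {X Z : Sheaf J (Type u)} (hZ : SGA4.closedCompl U Z)
    (g₁ g₂ : (L' J U).obj X ⟶ Z) (h : η' J U X ≫ g₁ = η' J U X ≫ g₂) : g₁ = g₂ := by
  apply Sheaf.hom_ext
  apply sheafify_hom_ext J _ _ Z.property
  ext c s
  by_cases hc : Nonempty (U.obj.obj c)
  · have : Subsingleton (Z.obj.obj c) := subsingleton_of J U Z hZ c.unop hc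
    exact Subsingleton.elim _ _
  · exact congrArg (fun k => k.hom.app c (s hc)) h

/-- the reflector onto the closed complement -/
noncomputable def Lc : Sheaf J (Type u) ⥤ (SGA4.closedCompl U).FullSubcategory :=
  (SGA4.closedCompl U).lift (L' J U) (closedCompl_L' J U)

/-- the unit, with codomain in the subcategory -/
noncomputable def ηc (X : Sheaf J (Type u)) :
    X ⟶ (SGA4.closedCompl U).ι.obj ((Lc J U).obj X) := η' J U X

theorem ηc_naturality {X Y : Sheaf J (Type u)} (m : X ⟶ Y) :
    m ≫ ηc J U Y = ηc J U X ≫ (SGA4.closedCompl U).ι.map ((Lc J U).map m) :=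
  η'_naturality J U m

theorem ηc_uniq {X : Sheaf J (Type u)} (Z : (SGA4.closedCompl U).FullSubcategory)
    (g₁ g₂ : (Lc J U).obj X ⟶ Z)
    (h : ηc J U X ≫ (SGA4.closedCompl U).ι.map g₁ = ηc J U X ≫ (SGA4.closedCompl U).ι.map g₂) :
    g₁ = g₂ :=
  (SGA4.closedCompl U).ι.map_injective (uniq J U Z.property _ _ h)

theorem ηc_exists {X : Sheaf J (Type u)} (Z : (SGA4.closedCompl U).FullSubcategory)
    (f : X ⟶ (SGA4.closedCompl U).ι.obj Z) :
    ∃ g : (Lc J U).obj X ⟶ Z, ηc J U X ≫ (SGA4.closedCompl U).ι.map g = f :=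
  ⟨⟨gOf J U Z.property f⟩, η'_gOf J U Z.property f⟩

/-- the hom-set bijection -/
noncomputable def hEquiv (X : Sheaf J (Type u)) (Z : (SGA4.closedCompl U).FullSubcategory) :
    ((Lc J U).obj X ⟶ Z) ≃ (X ⟶ (SGA4.closedCompl U).ι.obj Z) :=
  Equiv.ofBijective (fun (g : (Lc J U).obj X ⟶ Z) =>
      ηc J U X ≫ (SGA4.closedCompl U).ι.map g)
    ⟨fun g₁ g₂ h => ηc_uniq J U Z g₁ g₂ h, fun f => ηc_exists J U Z f⟩

/-- the adjunction -/
noncomputable def adjc : Lc J U ⊣ (SGA4.closedCompl U).ι :=
  Adjunction.mkOfHomEquiv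
    { homEquiv := hEquiv J U
      homEquiv_naturality_left_symm := by
        intro X' X Z f g
        rw [Equiv.symm_apply_eq]
        symm
        show ηc J U X' ≫ (SGA4.closedCompl U).ι.map
          ((Lc J U).map f ≫ (hEquiv J U X Z).symm g) = f ≫ g
        have h1 : ηc J U X ≫ (SGA4.closedCompl U).ι.map ((hEquiv J U X Z).symm g) = g :=
          (hEquiv J U X Z).apply_symm_apply g
        have h2 : ηc J U X' ≫ (SGA4.closedCompl U).ι.map ((Lc J U).map f) = f ≫ ηc J U X :=
          (ηc_naturality J U f).symm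
        rw [Functor.map_comp, ← Category.assoc, h2, Category.assoc, h1]
      homEquiv_naturality_right := by
        intro X Z Z' f g
        show ηc J U X ≫ (SGA4.closedCompl U).ι.map (f ≫ g) =
          (ηc J U X ≫ (SGA4.closedCompl U).ι.map f) ≫ (SGA4.closedCompl U).ι.map g
        rw [Functor.map_comp]
        exact (Category.assoc _ _ _).symm }

theorem lex : PreservesFiniteLimits (Lc J U) := by
  have : PreservesFiniteLimits (Lc J U ⋙ (SGA4.closedCompl U).ι) :=
    (inferInstance : PreservesFiniteLimits (L' J U))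
  exact preservesFiniteLimits_of_reflects_of_preserves (Lc J U) (SGA4.closedCompl U).ι

end Shf

end Groth.Agent.H10.ClosedRefl
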