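import Mathlib
import Groth.Agent.H10.ClosedEmb

set_option autoImplicit false
universe u
open CategoryTheory CategoryTheory.Limits TopologicalSpace Opposite

namespace Groth.Agent.H10.ClosedSet

open Groth.Agent.H10.ClosedEmb

variable {X Z : TopCat.{u}} (i : Z ⟶ X)

lemma map_map_apply (A : X.Sheaf (Type u)) {V₁ V₂ V₃ : Opens X} (a : V₁ ⟶ V₂) (b : V₂ ⟶ V₃)
    (c : V₁ ⟶ V₃) (s : A.obj.obj (op V₃)) :
    A.obj.map a.op (A.obj.map b.op s) = A.obj.map c.op s := by
  have : c = a ≫ b := Subsingleton.elim _ _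
  subst this
  rw [op_comp, A.obj.map_comp]
  rfl

/-- binary gluing for sheaves of sets -/
lemma glue₂ (A : X.Sheaf (Type u)) (V₁ V₂ W : Opens X) (i₁ : V₁ ⟶ W) (i₂ : V₂ ⟶ W) (hW : W ≤ V₁ ⊔ V₂)
    (s₁ : A.obj.obj (op V₁)) (s₂ : A.obj.obj (op V₂))
    (h : A.obj.map (homOfLE (inf_le_left : V₁ ⊓ V₂ ≤ V₁)).op s₁ =
      A.obj.map (homOfLE (inf_le_right : V₁ ⊓ V₂ ≤ V₂)).op s₂) :
    ∃ s : A.obj.obj (op W), A.obj.map i₁.op s = s₁ ∧ A.obj.map i₂.op s = s₂ := by
  let U : Bool → Opens X := fun b => if b then V₁ else V₂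
  let sf : ∀ b : Bool, ToType (A.obj.obj (op (U b))) := fun b =>
    match b with
    | true => s₁
    | false => s₂
  have hcomp : TopCat.Presheaf.IsCompatible A.obj U sf := by
    rintro (_ | _) (_ | _)
    · rfl
    · have h' := congrArg (A.obj.map (homOfLE (le_inf inf_le_right inf_le_left :
        V₂ ⊓ V₁ ≤ V₁ ⊓ V₂)).op) h
      rw [map_map_apply A _ _ (homOfLE (inf_le_right : V₂ ⊓ V₁ ≤ V₁)),
        map_map_apply A _ _ (homOfLE (inf_le_left : V₂ ⊓ V₁ ≤ V₂))] at h'
      exact h'.symm
    · exact h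
    · rfl
  have hcover : W ≤ iSup U := by
    refine hW.trans (sup_le ?_ ?_)
    · exact le_iSup U true
    · exact le_iSup U false
  let iUV : ∀ b : Bool, U b ⟶ W := fun b =>
    match b with
    | true => i₁
    | false => i₂
  obtain ⟨s, hs, -⟩ := TopCat.Sheaf.existsUnique_gluing' A U W iUV hcover sf hcomp
  exact ⟨s, hs true, hs false⟩

variable (hi : Topology.IsInducing i)

/-- presheaf-level adjunction `i_* ⊣ B^*` -/
def adjP : (Functor.whiskeringLeft _ _ (Type u)).obj (Opens.map i).op ⊣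
    (Functor.whiskeringLeft _ _ (Type u)).obj (B i).op :=
  Adjunction.whiskerLeft (C := Type u) (adjS i).op

include hi in
lemma isIso_adjP_unit : IsIso (adjP i).unit := by
  have h : ∀ Q, IsIso ((adjP i).unit.app Q) := by
    intro Q
    have h2 : ∀ W, IsIso (((adjP i).unit.app Q).app W) := by
      intro W
      have e : (Opens.map i).obj ((B i).obj W.unop) = W.unop := map_B i hi W.unop
      have h3 : IsIso ((adjS i).op.unit.app W) :=
        ⟨⟨(homOfLE e.ge).op, Subsingleton.elim _ _, Subsingleton.elim _ _⟩⟩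
      simp only [adjP, Adjunction.whiskerLeft_unit_app_app]
      infer_instance
    exact NatIso.isIso_of_isIso_app _
  exact NatIso.isIso_of_isIso_app _

/-- `i_*` on presheaves is fully faithful -/
noncomputable def ffP :
    ((Functor.whiskeringLeft _ _ (Type u)).obj (Opens.map i).op).FullyFaithful :=
  have := isIso_adjP_unit i hi
  (adjP i).fullyFaithfulLOfIsIsoUnit

/-- `i_*` on sheaves is fully faithful -/
noncomputable def ffPush : (TopCat.Sheaf.pushforward (Type u) i).FullyFaithful where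
  preimage {F G} f := ⟨(ffP i hi).preimage (X := F.obj) (Y := G.obj) f.hom⟩
  map_preimage {F G} f := by
    apply Sheaf.hom_ext
    exact (ffP i hi).map_preimage (X := F.obj) (Y := G.obj) f.hom
  preimage_map {F G} f := by
    apply Sheaf.hom_ext
    exact (ffP i hi).preimage_map (X := F.obj) (Y := G.obj) f.hom

section Support

variable (hr : IsClosed (Set.range i))

variable (H : X.Sheaf (Type u))
  (hH : ∀ V' : Opens X, V' ≤ (B i).obj ⊥ → Nonempty (Unique (H.obj.obj (op V'))))

/-- the presheaf `W ↦ H(B W)` on `Z` -/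
def Q : (Opens Z)ᵒᵖ ⥤ Type u := (B i).op ⋙ H.obj

include hi hr hH in
lemma Q_isSheaf : TopCat.Presheaf.IsSheaf (Q i H) := by
  rw [TopCat.Presheaf.isSheaf_iff_isSheafUniqueGluing]
  intro κ W sf hsf
  have hsub : ∀ V'' : Opens X, V'' ≤ (B i).obj ⊥ → ∀ a b : H.obj.obj (op V''), a = b := by
    intro V'' h a b
    obtain ⟨hu⟩ := hH V'' h
    exact (hu.uniq a).trans (hu.uniq b).symm
  -- the family of opens of `X` indexed by `Option κ`
  let V' : Option κ → Opens X := fun o => Option.elim o ((B i).obj ⊥) (fun k => (B i).obj (W k))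
  obtain ⟨hu0⟩ := hH ((B i).obj ⊥) le_rfl
  let tf : ∀ o : Option κ, ToType (H.obj.obj (op (V' o))) := fun o =>
    match o with
    | none => (hu0.default : H.obj.obj (op ((B i).obj ⊥)))
    | some k => sf k
  have hV' : ∀ o, V' o ≤ (B i).obj (iSup W) := by
    intro o
    cases o with
    | none => exact (B i).monotone bot_le
    | some k => exact (B i).monotone (le_iSup W k)
  have hcover : (B i).obj (iSup W) ≤ iSup V' := by
    refine (B_iSup_le i hi hr W).trans (sup_le ?_ (iSup_le fun k => ?_))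
    · exact le_iSup V' none
    · exact le_iSup V' (some k)
  have hcompat : TopCat.Presheaf.IsCompatible H.obj V' tf := by
    intro o o'
    cases o with
    | none => exact hsub (V' none ⊓ V' o') inf_le_left _ _
    | some k =>
      cases o' with
      | none => exact hsub (V' (some k) ⊓ V' none) inf_le_right _ _
      | some l =>
        have h1 := hsf k l
        have hle : (B i).obj (W k) ⊓ (B i).obj (W l) ≤ (B i).obj (W k ⊓ W l) :=
          ((gc i).u_inf (b₁ := W k) (b₂ := W l)).ge
        have h2 := congrArg (H.obj.map (homOfLE hle).op) h1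
        have e1 : H.obj.map (homOfLE hle).op
            ((Q i H).map (Opens.infLELeft (W k) (W l)).op (sf k)) =
            H.obj.map (Opens.infLELeft ((B i).obj (W k)) ((B i).obj (W l))).op (sf k) :=
          map_map_apply H _ ((B i).map (Opens.infLELeft (W k) (W l))) _ (sf k)
        have e2 : H.obj.map (homOfLE hle).op
            ((Q i H).map (Opens.infLERight (W k) (W l)).op (sf l)) =
            H.obj.map (Opens.infLERight ((B i).obj (W k)) ((B i).obj (W l))).op (sf l) :=
          map_map_apply H _ ((B i).map (Opens.infLERight (W k) (W l))) _ (sf l)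
        exact e1.symm.trans (h2.trans e2)
  obtain ⟨s, hs, hsu⟩ := TopCat.Sheaf.existsUnique_gluing' H V' ((B i).obj (iSup W))
    (fun o => homOfLE (hV' o)) hcover tf hcompat
  refine ⟨s, fun k => ?_, fun s' hs' => ?_⟩
  · exact hs (some k)
  · apply hsu
    intro o
    cases o with
    | none => exact hsub (V' none) le_rfl _ _
    | some k => exact hs' k

/-- the sheaf `W ↦ H(B W)` on `Z` -/
def G' : Z.Sheaf (Type u) := ⟨Q i H, Q_isSheaf i hi hr H hH⟩

include hi hr hH in
/-- a sheaf supported on the closed image is a direct image -/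
theorem nonempty_iso_push :
    Nonempty ((TopCat.Sheaf.pushforward (Type u) i).obj (G' i hi hr H hH) ≅ H) := by
  let θ : (TopCat.Sheaf.pushforward (Type u) i).obj (G' i hi hr H hH) ⟶ H :=
    ⟨(adjP i).counit.app H.obj⟩
  have hθ : ∀ V : (Opens X)ᵒᵖ, θ.hom.app V =
      H.obj.map ((adjS i).unit.app V.unop).op := by
    intro V
    simp only [θ, adjP, Adjunction.whiskerLeft_counit_app_app]
    rfl
  suffices h : IsIso θ from ⟨asIso θ⟩
  have h1 : ∀ V : (Opens X)ᵒᵖ, IsIso (θ.hom.app V) := by
    intro V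
    rw [hθ, ConcreteCategory.isIso_iff_bijective]
    have hle : (B i).obj ((Opens.map i).obj V.unop) ≤ V.unop ⊔ (B i).obj ⊥ := B_map_le i hr V.unop
    have hsub : ∀ V'' : Opens X, V'' ≤ (B i).obj ⊥ → ∀ a b : H.obj.obj (op V''), a = b := by
      intro V'' h a b
      obtain ⟨hu⟩ := hH V'' h
      exact (hu.uniq a).trans (hu.uniq b).symm
    obtain ⟨hu0⟩ := hH ((B i).obj ⊥) le_rfl
    constructor
    · intro s s' hss
      refine TopCat.Sheaf.eq_of_locally_eq₂ H ((adjS i).unit.app V.unop)
        ((B i).map (homOfLE bot_le)) hle s s' hss ?_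
      exact hsub _ le_rfl _ _
    · intro t
      obtain ⟨s, hs1, -⟩ := glue₂ H V.unop ((B i).obj ⊥) _
        ((adjS i).unit.app V.unop) ((B i).map (homOfLE bot_le)) hle t hu0.default
        (hsub _ inf_le_right _ _)
      exact ⟨s, hs1⟩
  have h2 : IsIso θ.hom := NatIso.isIso_of_isIso_app _
  exact ⟨⟨⟨inv θ.hom⟩, Sheaf.hom_ext (IsIso.hom_inv_id θ.hom),
    Sheaf.hom_ext (IsIso.inv_hom_id θ.hom)⟩⟩

end Support

section Ess

/-- sections of a sheaf of sets over an empty open form a one-point set -/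
lemma unique_of_isEmpty (F : Z.Sheaf (Type u)) (W : Opens Z) (hW : (W : Set Z) = ∅) :
    Nonempty (Unique (F.obj.obj (op W))) := by
  have hbot : W = ⊥ := by
    ext z
    rw [hW]
    rfl
  exact ⟨Types.isTerminalEquivUnique _ (TopCat.Sheaf.isTerminalOfEqEmpty F hbot)⟩

variable (hr : IsClosed (Set.range i))

include hr in
/-- stalks of a sheaf isomorphic to a direct image along `i` are one-point sets outside the closed image -/
lemma unique_stalk_of_iso (F : Z.Sheaf (Type u)) (G : X.Sheaf (Type u))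
    (e : (TopCat.Sheaf.pushforward (Type u) i).obj F ≅ G) (x : X) (hx : x ∉ Set.range i) :
    Nonempty (Unique (G.presheaf.stalk x)) := by
  let V : Opens X := ⟨(Set.range i)ᶜ, hr.isOpen_compl⟩
  have hxV : x ∈ V := hx
  have huniq : ∀ U' : Opens X, U' ≤ V → Nonempty (Unique (G.obj.obj (op U'))) := by
    intro U' hU'V
    have hemp : (((Opens.map i).obj U' : Opens Z) : Set Z) = ∅ := by
      ext z
      constructor
      · intro hz
        exact (hU'V hz ⟨z, rfl⟩).elim
      · intro hz
        exact hz.elim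
    obtain ⟨hu⟩ := unique_of_isEmpty F _ hemp
    let ε : F.obj.obj (op ((Opens.map i).obj U')) ≅ G.obj.obj (op U') :=
      ((sheafToPresheaf _ _).mapIso e).app (op U')
    exact ⟨(Equiv.unique ε.toEquiv.symm)⟩
  obtain ⟨huV⟩ := huniq V le_rfl
  let d : G.presheaf.stalk x := G.presheaf.germ V x hxV huV.default
  refine ⟨⟨⟨d⟩, fun t => ?_⟩⟩
  obtain ⟨U', hU'V, m, s, hs⟩ := TopCat.Presheaf.exists_le_germ_eq G.obj t (V := V) hxV
  obtain ⟨hu'⟩ := huniq U' hU'V
  have h1 : s = G.obj.map (homOfLE hU'V).op huV.default :=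
    (hu'.uniq s).trans (hu'.uniq _).symm
  rw [← hs, h1]
  exact TopCat.Presheaf.germ_res_apply G.obj (homOfLE hU'V) x m huV.default

include hi hr in
theorem essImage_iff (G : X.Sheaf (Type u)) :
    (TopCat.Sheaf.pushforward (Type u) i).essImage G ↔
      ∀ x : X, x ∉ Set.range i → Nonempty (Unique (G.presheaf.stalk x)) := by
  constructor
  · rintro ⟨F, ⟨e⟩⟩ x hx
    exact unique_stalk_of_iso i hr F G e x hx
  · intro h
    have hdisj : ∀ V' : Opens X, V' ≤ (B i).obj ⊥ → ∀ x ∈ V', x ∉ Set.range i := by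
      intro V' hV' x hx
      rintro ⟨z, rfl⟩
      have h1 : (Opens.map i).obj V' ≤ ⊥ := (gc i _ _).mpr hV'
      exact h1 hx
    have hsub : ∀ V' : Opens X, V' ≤ (B i).obj ⊥ → ∀ a b : G.obj.obj (op V'), a = b := by
      intro V' hV' a b
      apply TopCat.Presheaf.section_ext G V' a b
      intro x hx
      obtain ⟨hu⟩ := h x (hdisj V' hV' x hx)
      exact (hu.uniq _).trans (hu.uniq _).symm
    have hH : ∀ V' : Opens X, V' ≤ (B i).obj ⊥ → Nonempty (Unique (G.obj.obj (op V'))) := by
      intro V' hV'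
      have hloc : ∀ x : V', ∃ U' : Opens X, U' ≤ V' ∧ x.1 ∈ U' ∧ Nonempty (G.obj.obj (op U')) := by
        intro x
        obtain ⟨hu⟩ := h x.1 (hdisj V' hV' x.1 x.2)
        obtain ⟨U', hU'V, m, s, -⟩ :=
          TopCat.Presheaf.exists_le_germ_eq G.obj (hu.default : G.presheaf.stalk x.1) (V := V') x.2
        exact ⟨U', hU'V, m, ⟨s⟩⟩
      choose U hUV hxU hne using hloc
      let sf : ∀ x : V', ToType (G.obj.obj (op (U x))) := fun x => (hne x).some
      have hcompat : TopCat.Presheaf.IsCompatible G.obj U sf := by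
        intro x y
        exact hsub _ (inf_le_left.trans ((hUV x).trans hV')) _ _
      have hcover : V' ≤ iSup U := by
        intro x hx
        exact Opens.mem_iSup.mpr ⟨⟨x, hx⟩, hxU ⟨x, hx⟩⟩
      obtain ⟨s, -, -⟩ := TopCat.Sheaf.existsUnique_gluing' G U V'
        (fun x => homOfLE (hUV x)) hcover sf hcompat
      exact ⟨⟨⟨s⟩, fun t => hsub V' hV' _ _⟩⟩
    obtain ⟨e⟩ := nonempty_iso_push i hi hr G hH
    exact ⟨_, ⟨e⟩⟩

end Ess

end Groth.Agent.H10.ClosedSet
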