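import Mathlib

set_option autoImplicit false

universe w w' 

open CategoryTheory Limits Opposite

namespace Groth.Agent.H10.CocontFF

variable {C D : Type*} [Category C] [Category D] (G : C ⥤ D)
  (A : Type w) [Category.{w'} A]
  (J : GrothendieckTopology C) (K : GrothendieckTopology D) [G.IsCocontinuous J K]
  [G.IsContinuous J K] [∀ (F : Cᵒᵖ ⥤ A), G.op.HasPointwiseRightKanExtension F]

/-- for a fully faithful continuous and cocontinuous functor, the counit of the
restriction / right Kan extension adjunction on sheaves is an isomorphism -/
theorem isIso_counit_cocont [G.Full] [G.Faithful] :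
    IsIso (G.sheafAdjunctionCocontinuous A J K).counit := by
  have : ∀ F, IsIso ((G.sheafAdjunctionCocontinuous A J K).counit.app F) := by
    intro F
    have : IsIso ((sheafToPresheaf J A).map
        ((G.sheafAdjunctionCocontinuous A J K).counit.app F)) := by
      show IsIso ((G.sheafAdjunctionCocontinuous A J K).counit.app F).hom
      rw [Functor.sheafAdjunctionCocontinuous_counit_app_hom]
      have h1 : G.op.Full := inferInstance
      have h2 : G.op.Faithful := inferInstance
      have h3 : ∀ (F : Cᵒᵖ ⥤ A), G.op.HasRightKanExtension F := fun F => inferInstance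
      rw [Functor.ranAdjunction_counit]
      have h4 : ∀ X, IsIso ((G.op.ranCounit.app F.obj).app X) := by
        intro X
        exact (Functor.isPointwiseRightKanExtensionRanCounit G.op F.obj
          (G.op.obj X)).isIso_hom_app
      exact @NatIso.isIso_of_isIso_app _ _ _ _ _ _ (G.op.ranCounit.app F.obj) h4
    exact isIso_of_reflects_iso _ (sheafToPresheaf J A)
  exact NatIso.isIso_of_isIso_app _

end Groth.Agent.H10.CocontFF
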