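import Mathlib

/-!
# Long exact sequence bookkeeping for sheaf cohomology (helper10)
-/

set_option autoImplicit false
universe w v' u' u
open CategoryTheory CategoryTheory.Limits Opposite TopologicalSpace CategoryTheory.Abelian

namespace Groth.Agent.H10.CohSeq

section General

variable {C : Type u'} [Category.{v'} C] [Abelian C] [HasExt.{w} C]

theorem subsingleton_ext_of_isZero (Z : C) {K : C} (hK : IsZero K) (n : ℕ) :
    Subsingleton (Ext.{w} Z K n) := by
  refine ⟨fun a b => ?_⟩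
  have key : ∀ x : Ext.{w} Z K n, x = 0 := by
    intro x
    have h : x.comp (Ext.mk₀ (𝟙 K)) (add_zero n) = x := Ext.comp_mk₀_id x
    have h0 : Ext.mk₀ (𝟙 K) = 0 := by
      rw [hK.eq_of_src (𝟙 K) 0]; exact Ext.mk₀_zero _ _
    rw [h0] at h
    exact h.symm.trans (Ext.comp_zero x K 0 n (add_zero n))
  rw [key a, key b]

theorem subsingleton_ext_X₃ (Z : C) (S : ShortComplex C) (hS : S.ShortExact) (n : ℕ)
    (h2 : Subsingleton (Ext.{w} Z S.X₂ n)) (h1 : Subsingleton (Ext.{w} Z S.X₁ (n + 1))) :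
    Subsingleton (Ext.{w} Z S.X₃ n) := by
  refine ⟨fun a b => ?_⟩
  have key : ∀ x : Ext.{w} Z S.X₃ n, x = 0 := by
    intro x
    have hx : x.comp hS.extClass (rfl : n + 1 = n + 1) = 0 := Subsingleton.elim _ _
    obtain ⟨x₂, hx₂⟩ := Ext.covariant_sequence_exact₃ Z hS x rfl hx
    rw [← hx₂, Subsingleton.elim x₂ 0]
    exact Ext.zero_comp _ _ _ _ _
  rw [key a, key b]

omit [HasExt.{w} C] in
theorem shortExact_kernel_lift {A B D : C} (f : A ⟶ B) (g : B ⟶ D) (w : f ≫ g = 0)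
    (hE : (ShortComplex.mk f g w).Exact)
    (hz : kernel.ι f ≫ kernel.lift g f w = 0) :
    (ShortComplex.mk (kernel.ι f) (kernel.lift g f w) hz).ShortExact := by
  have hepi : Epi (kernel.lift g f w) := hE.epi_kernelLift
  refine ShortComplex.ShortExact.mk' ?_ (inferInstanceAs (Mono (kernel.ι f))) hepi
  apply ShortComplex.exact_of_f_is_kernel
  refine KernelFork.IsLimit.ofι' (hi := inferInstanceAs (Mono (kernel.ι f))) _ _
    (fun {T} k hk => ⟨kernel.lift f k ?_, kernel.lift_ι _ _ _⟩)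
  have hk' : k ≫ kernel.lift g f w = 0 := hk
  calc k ≫ f = (k ≫ kernel.lift g f w) ≫ kernel.ι g := by rw [Category.assoc, kernel.lift_ι]
    _ = 0 := by rw [hk', zero_comp]

omit [HasExt.{w} C] in
theorem kernel_lift_zero {A B D : C} (f : A ⟶ B) (g : B ⟶ D) (w : f ≫ g = 0) :
    kernel.ι f ≫ kernel.lift g f w = 0 := by
  rw [← cancel_mono (kernel.ι g), Category.assoc, kernel.lift_ι, kernel.condition, zero_comp]

end General

theorem surjective_top_of_H1 (X : TopCat.{u})
    [HasExt.{u} (Sheaf (Opens.grothendieckTopology X) AddCommGrpCat.{u})]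
    (S : ShortComplex (Sheaf (Opens.grothendieckTopology X) AddCommGrpCat.{u}))
    (hS : S.ShortExact) (h1 : Subsingleton (Sheaf.H S.X₁ 1)) :
    Function.Surjective (S.g.hom.app (op (⊤ : Opens X))) := by
  intro t
  have hT : IsTerminal (⊤ : Opens X) := isTerminalTop
  let x : Sheaf.H S.X₃ 0 := (Sheaf.H.equiv₀ S.X₃ hT).symm t
  have hx : x.comp hS.extClass (rfl : 0 + 1 = 1) = 0 := @Subsingleton.elim _ h1 _ _
  obtain ⟨x₂, hx₂⟩ := Ext.covariant_sequence_exact₃ _ hS x rfl hx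
  refine ⟨Sheaf.H.equiv₀ S.X₂ hT x₂, ?_⟩
  have h := Sheaf.H.equiv₀_naturality hT S.g x₂
  rw [h, Sheaf.H.map_apply, hx₂]
  exact (Sheaf.H.equiv₀ S.X₃ hT).apply_symm_apply t

end Groth.Agent.H10.CohSeq
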