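import Mathlib

/-!
# Cocycle objects of an injective resolution and right derived functors (helper10)

For an injective resolution `I` of `F`, the kernels `Z^k` of the differentials fit in short exact
sequences `0 → Z^k → I^k → Z^{k+1} → 0`.  For a left exact additive functor `T`,
`R^{k+1} T F = 0` iff `T I^k → T Z^{k+1}` is an epimorphism.
-/

set_option autoImplicit false
universe v v' u u'
open CategoryTheory CategoryTheory.Limits

namespace Groth.Agent.H10.DerRes

variable {C : Type u} [Category.{v} C] [Abelian C] {D : Type u'} [Category.{v'} D] [Abelian D]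

section Cocycle

variable {F : C} (I : InjectiveResolution F)

/-- `i : A ⟶ I^k` exhibits `A` as a kernel of `d^k`. -/
def IsCocycleObj (k : ℕ) {A : C} (i : A ⟶ I.cocomplex.X k) : Prop :=
  Mono i ∧ ∃ w : i ≫ I.cocomplex.d k (k + 1) = 0,
    (ShortComplex.mk i (I.cocomplex.d k (k + 1)) w).Exact

lemma isCocycleObj_zero : IsCocycleObj I 0 (I.ι.f 0) :=
  ⟨inferInstance, I.ι_f_zero_comp_complex_d,
    ShortComplex.exact_of_f_is_kernel _ I.isLimitKernelFork⟩

lemma isCocycleObj_kernel (k : ℕ) :
    IsCocycleObj I k (kernel.ι (I.cocomplex.d k (k + 1))) :=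
  ⟨inferInstance, kernel.condition _,
    ShortComplex.exact_of_f_is_kernel _ (kernelIsKernel _)⟩

/-- the canonical map `I^k ⟶ Z^{k+1}` -/
noncomputable def toCocycle (k : ℕ) :
    I.cocomplex.X k ⟶ kernel (I.cocomplex.d (k + 1) (k + 2)) :=
  kernel.lift _ (I.cocomplex.d k (k + 1)) (I.cocomplex.d_comp_d _ _ _)

@[reassoc (attr := simp)]
lemma toCocycle_ι (k : ℕ) :
    toCocycle I k ≫ kernel.ι (I.cocomplex.d (k + 1) (k + 2)) = I.cocomplex.d k (k + 1) :=
  kernel.lift_ι _ _ _

instance epi_toCocycle (k : ℕ) : Epi (toCocycle I k) :=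
  (ShortComplex.exact_iff_epi_kernel_lift _).1 (I.exact_succ k)

lemma comp_toCocycle {k : ℕ} {A : C} {i : A ⟶ I.cocomplex.X k} (h : IsCocycleObj I k i) :
    i ≫ toCocycle I k = 0 := by
  obtain ⟨_, w, _⟩ := h
  rw [← cancel_mono (kernel.ι (I.cocomplex.d (k + 1) (k + 2))), Category.assoc, toCocycle_ι,
    zero_comp]
  exact w

lemma shortExact_of_isCocycleObj {k : ℕ} {A : C} {i : A ⟶ I.cocomplex.X k}
    (h : IsCocycleObj I k i) :
    (ShortComplex.mk i (toCocycle I k) (comp_toCocycle I h)).ShortExact := by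
  have h' := h
  obtain ⟨hm, w, hex⟩ := h'
  let φ : ShortComplex.mk i (toCocycle I k) (comp_toCocycle I h) ⟶
      ShortComplex.mk i (I.cocomplex.d k (k + 1)) w :=
    { τ₁ := 𝟙 _
      τ₂ := 𝟙 _
      τ₃ := kernel.ι _
      comm₁₂ := by simp
      comm₂₃ := by simp }
  have h1 : Epi φ.τ₁ := by dsimp [φ]; infer_instance
  have h2 : IsIso φ.τ₂ := by dsimp [φ]; infer_instance
  have h3 : Mono φ.τ₃ := by dsimp [φ]; infer_instance
  exact { exact := (ShortComplex.exact_iff_of_epi_of_isIso_of_mono φ).2 hex
          mono_f := hm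
          epi_g := by dsimp; infer_instance }

end Cocycle

section Functor

variable {F : C} (I : InjectiveResolution F) (T : C ⥤ D) [T.Additive] [PreservesFiniteLimits T]

lemma map_d_exact_iff (k : ℕ) :
    (ShortComplex.mk (T.map (I.cocomplex.d k (k + 1))) (T.map (I.cocomplex.d (k + 1) (k + 2)))
      (by rw [← T.map_comp, I.cocomplex.d_comp_d, T.map_zero])).Exact ↔
    Epi (T.map (toCocycle I k)) := by
  have hw : T.map (I.cocomplex.d k (k + 1)) ≫ T.map (I.cocomplex.d (k + 1) (k + 2)) = 0 := by
    rw [← T.map_comp, I.cocomplex.d_comp_d, T.map_zero]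
  have key : (ShortComplex.mk (T.map (I.cocomplex.d k (k + 1)))
      (T.map (I.cocomplex.d (k + 1) (k + 2))) hw).Exact ↔
      Epi (kernel.lift (T.map (I.cocomplex.d (k + 1) (k + 2)))
        (T.map (I.cocomplex.d k (k + 1))) hw) :=
    ShortComplex.exact_iff_epi_kernel_lift _
  have h2 : T.map (toCocycle I k) ≫ kernelComparison (I.cocomplex.d (k + 1) (k + 2)) T =
      kernel.lift (T.map (I.cocomplex.d (k + 1) (k + 2))) (T.map (I.cocomplex.d k (k + 1))) hw :=
    map_lift_kernelComparison _ _ _
  rw [key]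
  constructor
  · intro he
    have h3 : T.map (toCocycle I k) =
        kernel.lift (T.map (I.cocomplex.d (k + 1) (k + 2))) (T.map (I.cocomplex.d k (k + 1))) hw ≫
          inv (kernelComparison (I.cocomplex.d (k + 1) (k + 2)) T) := by
      rw [← h2, Category.assoc, IsIso.hom_inv_id, Category.comp_id]
    rw [h3]
    infer_instance
  · intro he
    rw [← h2]
    infer_instance

lemma isZero_rightDerived_iff [HasInjectiveResolutions C] (k : ℕ) :
    IsZero ((T.rightDerived (k + 1)).obj F) ↔ Epi (T.map (toCocycle I k)) := by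
  rw [← map_d_exact_iff I T k, Iso.isZero_iff (I.isoRightDerivedObj T (k + 1))]
  show IsZero (((T.mapHomologicalComplex _).obj I.cocomplex).homology (k + 1)) ↔ _
  rw [← HomologicalComplex.exactAt_iff_isZero_homology,
    HomologicalComplex.exactAt_iff' _ k (k + 1) (k + 2) (by simp)
      (by simp only [CochainComplex.next]; rfl)]
  exact Iff.rfl

lemma map_shortExact_of_isZero_rightDerived [HasInjectiveResolutions C]
    {k : ℕ} {A : C} {i : A ⟶ I.cocomplex.X k} (hi : IsCocycleObj I k i)
    (h : IsZero ((T.rightDerived (k + 1)).obj F)) :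
    (ShortComplex.mk (T.map i) (T.map (toCocycle I k))
      (by rw [← T.map_comp, comp_toCocycle I hi, T.map_zero])).ShortExact := by
  have hS := shortExact_of_isCocycleObj I hi
  have hm : Mono i := hi.1
  exact { exact := hS.exact.map_of_mono_of_preservesKernel T hS.mono_f inferInstance
          mono_f := by dsimp; infer_instance
          epi_g := (isZero_rightDerived_iff I T k).1 h }

end Functor

theorem isZero_rightDerived_of_class [EnoughInjectives C] (T : C ⥤ D) [T.Additive]
    [PreservesFiniteLimits T] (P : C → Prop)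
    (hinj : ∀ J : C, Injective J → P J)
    (hcok : ∀ S : ShortComplex C, S.ShortExact → P S.X₁ → P S.X₂ → P S.X₃)
    (hepi : ∀ S : ShortComplex C, S.ShortExact → P S.X₁ → Epi (T.map S.g))
    (F : C) (hF : P F) (q : ℕ) : IsZero ((T.rightDerived (q + 1)).obj F) := by
  let I : InjectiveResolution F := injectiveResolution F
  have key : ∀ k, ∃ (A : C) (i : A ⟶ I.cocomplex.X k), IsCocycleObj I k i ∧ P A := by
    intro k
    induction k with
    | zero => exact ⟨_, I.ι.f 0, isCocycleObj_zero I, hF⟩
    | succ k ih =>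
      obtain ⟨A, i, hi, hA⟩ := ih
      refine ⟨_, kernel.ι _, isCocycleObj_kernel I (k + 1), ?_⟩
      exact hcok _ (shortExact_of_isCocycleObj I hi) hA (hinj _ inferInstance)
  obtain ⟨A, i, hi, hA⟩ := key q
  rw [isZero_rightDerived_iff I T q]
  exact hepi _ (shortExact_of_isCocycleObj I hi) hA

end Groth.Agent.H10.DerRes
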