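import Mathlib
import Groth.Agent.H10.DerRes

/-!
# Ext groups via cocycle objects, and degenerate Leray comparison (helper10)
-/

set_option autoImplicit false
universe w w' v v' u u'
open CategoryTheory CategoryTheory.Limits CategoryTheory.Abelian

namespace Groth.Agent.H10.DerRes

section XSide

variable {C : Type u} [Category.{v} C] [Abelian C] [HasExt.{w} C] {F : C}
  (I : InjectiveResolution F)

/-- the surjection `Hom(G, Z^{k+1}) → Ext^{k+1}(G, F)` -/
noncomputable def toExt (G : C) (k : ℕ) :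
    (G ⟶ kernel (I.cocomplex.d (k + 1) (k + 2))) →+ Ext.{w} G F (k + 1) :=
  AddMonoidHom.mk'
    (fun φ => I.extMk (φ ≫ kernel.ι (I.cocomplex.d (k + 1) (k + 2))) (k + 2) rfl
      (by rw [Category.assoc, kernel.condition, comp_zero]))
    (fun φ ψ => by
      rw [InjectiveResolution.add_extMk]
      congr 1
      rw [Preadditive.add_comp])

lemma toExt_apply (G : C) (k : ℕ) (φ : G ⟶ kernel (I.cocomplex.d (k + 1) (k + 2))) :
    toExt I G k φ = I.extMk (φ ≫ kernel.ι (I.cocomplex.d (k + 1) (k + 2))) (k + 2) rfl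
      (by rw [Category.assoc, kernel.condition, comp_zero]) := rfl

lemma toExt_surjective (G : C) (k : ℕ) : Function.Surjective (toExt I G k) := by
  intro α
  obtain ⟨f, hf, rfl⟩ := I.extMk_surjective α (k + 2) rfl
  refine ⟨kernel.lift _ f hf, ?_⟩
  rw [toExt_apply]
  congr 1
  exact kernel.lift_ι _ _ _

lemma toExt_eq_zero_iff (G : C) (k : ℕ) (φ : G ⟶ kernel (I.cocomplex.d (k + 1) (k + 2))) :
    toExt I G k φ = 0 ↔ ∃ g : G ⟶ I.cocomplex.X k, g ≫ toCocycle I k = φ := by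
  rw [toExt_apply, I.extMk_eq_zero_iff _ (k + 2) rfl _ k rfl]
  constructor
  · rintro ⟨g, hg⟩
    refine ⟨g, ?_⟩
    rw [← cancel_mono (kernel.ι (I.cocomplex.d (k + 1) (k + 2))), Category.assoc, toCocycle_ι]
    exact hg
  · rintro ⟨g, rfl⟩
    exact ⟨g, by rw [Category.assoc, toCocycle_ι]⟩

lemma toExt_precomp {G G' : C} (g : G' ⟶ G) (k : ℕ)
    (φ : G ⟶ kernel (I.cocomplex.d (k + 1) (k + 2))) :
    (Ext.mk₀ g).comp (toExt I G k φ) (zero_add (k + 1)) = toExt I G' k (g ≫ φ) := by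
  rw [toExt_apply, toExt_apply, InjectiveResolution.mk₀_comp_extMk]
  congr 1
  rw [Category.assoc]

end XSide

section YSide

variable {D : Type u'} [Category.{v'} D] [Abelian D] [HasExt.{w'} D]

lemma ext_eq_zero_of_iso (G' : D) {A B : D} (θ : A ≅ B) {n : ℕ}
    (hA : ∀ x : Ext.{w'} G' A n, x = 0) (x : Ext.{w'} G' B n) : x = 0 := by
  have h1 : x = (x.comp (Ext.mk₀ θ.inv) (add_zero n)).comp (Ext.mk₀ θ.hom) (add_zero n) := by
    rw [Ext.comp_assoc _ _ _ (add_zero n) (zero_add 0) (by lia), Ext.mk₀_comp_mk₀,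
      θ.inv_hom_id, Ext.comp_mk₀_id]
  rw [h1, hA (x.comp (Ext.mk₀ θ.inv) (add_zero n)), Ext.zero_comp]

theorem acyclic_step (G' : D) {W L W' : D} (a : W ⟶ L) (b : L ⟶ W') [Mono a]
    (hw : a ≫ b = 0) (hex : (ShortComplex.mk a b hw).Exact)
    (hW : ∀ (n : ℕ) (x : Ext.{w'} G' W (n + 1)), x = 0)
    (hL : ∀ (n : ℕ) (x : Ext.{w'} G' L (n + 1)), x = 0)
    (hR : ∀ (n : ℕ) (x : Ext.{w'} G' (cokernel b) (n + 1)), x = 0) :
    (∀ (n : ℕ) (x : Ext.{w'} G' W' (n + 1)), x = 0) ∧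
    Function.Surjective ((Ext.mk₀ (cokernel.π b)).postcomp G' (add_zero 0)) ∧
    (∀ y : Ext.{w'} G' W' 0, y.comp (Ext.mk₀ (cokernel.π b)) (add_zero 0) = 0 ↔
      ∃ z : Ext.{w'} G' L 0, z.comp (Ext.mk₀ b) (add_zero 0) = y) := by
  have hS2 : (ShortComplex.mk (Abelian.image.ι b) (cokernel.π b)
      (kernel.condition _)).ShortExact :=
    { exact := ShortComplex.exact_of_f_is_kernel _ (kernelIsKernel _)
      mono_f := by dsimp; infer_instance
      epi_g := by dsimp; infer_instance }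
  have hw1 : a ≫ Abelian.factorThruImage b = 0 := by
    rw [← cancel_mono (Abelian.image.ι b), Category.assoc, Abelian.image.fac, zero_comp]
    exact hw
  have hS1 : (ShortComplex.mk a (Abelian.factorThruImage b) hw1).ShortExact := by
    let φ : ShortComplex.mk a (Abelian.factorThruImage b) hw1 ⟶ ShortComplex.mk a b hw :=
      { τ₁ := 𝟙 _
        τ₂ := 𝟙 _
        τ₃ := Abelian.image.ι b
        comm₁₂ := by simp
        comm₂₃ := by
          dsimp
          rw [Category.id_comp, Abelian.image.fac] }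
    have h1 : Epi φ.τ₁ := by dsimp [φ]; infer_instance
    have h2 : IsIso φ.τ₂ := by dsimp [φ]; infer_instance
    have h3 : Mono φ.τ₃ := by dsimp [φ]; infer_instance
    exact { exact := (ShortComplex.exact_iff_of_epi_of_isIso_of_mono φ).2 hex
            mono_f := by dsimp; infer_instance
            epi_g := by dsimp; infer_instance }
  have hB : ∀ (n : ℕ) (x : Ext.{w'} G' (Abelian.image b) (n + 1)), x = 0 := by
    intro n x
    obtain ⟨x₂, hx₂⟩ := Ext.covariant_sequence_exact₃ G' hS1 x (rfl : n + 1 + 1 = n + 2)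
      (hW (n + 1) _)
    rw [← hx₂, hL n x₂, Ext.zero_comp]
  refine ⟨?_, ?_, ?_⟩
  · intro n x
    obtain ⟨x₁, hx₁⟩ := Ext.covariant_sequence_exact₂ G' hS2 x (hR n _)
    rw [← hx₁, hB n x₁, Ext.zero_comp]
  · intro y₃
    exact Ext.covariant_sequence_exact₃ G' hS2 y₃ (rfl : 0 + 1 = 1) (hB 0 _)
  · intro y
    constructor
    · intro hy
      obtain ⟨x₁, hx₁⟩ := Ext.covariant_sequence_exact₂ G' hS2 y hy
      obtain ⟨z, hz⟩ := Ext.covariant_sequence_exact₃ G' hS1 x₁ (rfl : 0 + 1 = 1) (hW 0 _)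
      refine ⟨z, ?_⟩
      have e1 : x₁ = z.comp (Ext.mk₀ (Abelian.factorThruImage b)) (add_zero 0) := hz.symm
      have e2 : y = x₁.comp (Ext.mk₀ (Abelian.image.ι b)) (add_zero 0) := hx₁.symm
      rw [e2, e1, Ext.comp_assoc _ _ _ (add_zero 0) (zero_add 0) (by lia), Ext.mk₀_comp_mk₀,
        Abelian.image.fac]
    · rintro ⟨z, rfl⟩
      rw [Ext.comp_assoc _ _ _ (add_zero 0) (zero_add 0) (by lia), Ext.mk₀_comp_mk₀,
        cokernel.condition, Ext.mk₀_zero, Ext.comp_zero]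

end YSide

section Compare

variable {C : Type u} [Category.{v} C] [Abelian C] [HasExt.{w} C]
  {D : Type u'} [Category.{v'} D] [Abelian D] [HasExt.{w'} D]
  (T : C ⥤ D) [T.Additive] [PreservesFiniteLimits T] {F : C} (I : InjectiveResolution F)

omit [HasExt.{w} C] [HasExt.{w'} D] in
theorem nonempty_rightDerived_iso_cokernel [HasInjectiveResolutions C] (k : ℕ) :
    Nonempty ((T.rightDerived (k + 1)).obj F ≅ cokernel (T.map (toCocycle I k))) := by
  have hw : T.map (I.cocomplex.d k (k + 1)) ≫ T.map (I.cocomplex.d (k + 1) (k + 2)) = 0 := by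
    rw [← T.map_comp, I.cocomplex.d_comp_d, T.map_zero]
  have h2 : T.map (toCocycle I k) ≫ kernelComparison (I.cocomplex.d (k + 1) (k + 2)) T =
      kernel.lift (T.map (I.cocomplex.d (k + 1) (k + 2))) (T.map (I.cocomplex.d k (k + 1))) hw :=
    map_lift_kernelComparison _ _ _
  let S : ShortComplex D := ShortComplex.mk (T.map (I.cocomplex.d k (k + 1)))
    (T.map (I.cocomplex.d (k + 1) (k + 2))) hw
  have e1 : (T.rightDerived (k + 1)).obj F ≅ S.homology :=
    I.isoRightDerivedObj T (k + 1) ≪≫ ShortComplex.homologyMapIso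
      (((T.mapHomologicalComplex _).obj I.cocomplex).isoSc' k (k + 1) (k + 2) (by simp)
        (by simp only [CochainComplex.next]; rfl))
  have e2 : S.homology ≅ cokernel (kernel.lift (T.map (I.cocomplex.d (k + 1) (k + 2)))
      (T.map (I.cocomplex.d k (k + 1))) hw) := S.homologyIsoCokernelLift
  have e3 : cokernel (kernel.lift (T.map (I.cocomplex.d (k + 1) (k + 2)))
      (T.map (I.cocomplex.d k (k + 1))) hw) ≅
      cokernel (T.map (toCocycle I k) ≫ kernelComparison (I.cocomplex.d (k + 1) (k + 2)) T) :=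
    cokernelIsoOfEq h2.symm
  have e4 : cokernel (T.map (toCocycle I k) ≫
      kernelComparison (I.cocomplex.d (k + 1) (k + 2)) T) ≅ cokernel (T.map (toCocycle I k)) :=
    cokernelCompIsIso _ _
  exact ⟨e1 ≪≫ e2 ≪≫ e3 ≪≫ e4⟩

theorem ext_addEquiv_coker (G : C) (G' : D)
    (e : ∀ A : C, Ext.{w} G A 0 ≃+ Ext.{w'} G' (T.obj A) 0)
    (he : ∀ {A A' : C} (g : A ⟶ A') (x : Ext.{w} G A 0),
      e A' (x.comp (Ext.mk₀ g) (add_zero 0)) = (e A x).comp (Ext.mk₀ (T.map g)) (add_zero 0))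
    (hL : ∀ (k n : ℕ) (x : Ext.{w'} G' (T.obj (I.cocomplex.X k)) (n + 1)), x = 0)
    (hTF : ∀ (n : ℕ) (x : Ext.{w'} G' (T.obj F) (n + 1)), x = 0)
    (hR : ∀ (k n : ℕ) (x : Ext.{w'} G' (cokernel (T.map (toCocycle I k))) (n + 1)), x = 0)
    (k : ℕ) :
    Nonempty (Ext.{w} G F (k + 1) ≃+ Ext.{w'} G' (cokernel (T.map (toCocycle I k))) 0) := by
  have key : ∀ j, ∃ (A : C) (i : A ⟶ I.cocomplex.X j), IsCocycleObj I j i ∧
      ∀ (n : ℕ) (x : Ext.{w'} G' (T.obj A) (n + 1)), x = 0 := by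
    intro j
    induction j with
    | zero => exact ⟨_, I.ι.f 0, isCocycleObj_zero I, hTF⟩
    | succ j ih =>
      obtain ⟨A, i, hi, hA⟩ := ih
      refine ⟨_, kernel.ι _, isCocycleObj_kernel I (j + 1), ?_⟩
      have hm : Mono i := hi.1
      have hS := shortExact_of_isCocycleObj I hi
      have hex : (ShortComplex.mk (T.map i) (T.map (toCocycle I j))
          (by rw [← T.map_comp, comp_toCocycle I hi, T.map_zero])).Exact :=
        hS.exact.map_of_mono_of_preservesKernel T hS.mono_f inferInstance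
      exact (acyclic_step G' (T.map i) (T.map (toCocycle I j)) _ hex hA (hL j) (hR j)).1
  obtain ⟨A, i, hi, hA⟩ := key k
  have hm : Mono i := hi.1
  have hS := shortExact_of_isCocycleObj I hi
  have hex : (ShortComplex.mk (T.map i) (T.map (toCocycle I k))
      (by rw [← T.map_comp, comp_toCocycle I hi, T.map_zero])).Exact :=
    hS.exact.map_of_mono_of_preservesKernel T hS.mono_f inferInstance
  obtain ⟨-, hsY, hkY⟩ := acyclic_step G' (T.map i) (T.map (toCocycle I k)) _ hex hA (hL k) (hR k)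
  have hsX : Function.Surjective ((toExt I G k).comp
      (Ext.addEquiv₀ : Ext.{w} G (kernel (I.cocomplex.d (k + 1) (k + 2))) 0 ≃+ _).toAddMonoidHom) :=
    (toExt_surjective I G k).comp Ext.addEquiv₀.surjective
  refine ⟨(QuotientAddGroup.quotientKerEquivOfSurjective _ hsX).symm.trans
    ((QuotientAddGroup.congr _ _ (e (kernel (I.cocomplex.d (k + 1) (k + 2)))) ?_).trans
      (QuotientAddGroup.quotientKerEquivOfSurjective _ hsY))⟩
  ext y
  rw [AddSubgroup.mem_map]
  constructor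
  · rintro ⟨x, hx, rfl⟩
    have hx' : toExt I G k (Ext.addEquiv₀ x) = 0 := AddMonoidHom.mem_ker.mp hx
    obtain ⟨g, hg⟩ := (toExt_eq_zero_iff I G k _).mp hx'
    rw [AddMonoidHom.mem_ker]
    show ((e (kernel (I.cocomplex.d (k + 1) (k + 2)))) x).comp
      (Ext.mk₀ (cokernel.π (T.map (toCocycle I k)))) (add_zero 0) = 0
    rw [hkY]
    refine ⟨e _ (Ext.mk₀ g), ?_⟩
    have hx2 : x = (Ext.mk₀ g).comp (Ext.mk₀ (toCocycle I k)) (add_zero 0) := by
      rw [Ext.mk₀_comp_mk₀, hg, Ext.mk₀_addEquiv₀_apply]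
    rw [hx2, he]
  · intro hy
    have hy' : y.comp (Ext.mk₀ (cokernel.π (T.map (toCocycle I k)))) (add_zero 0) = 0 :=
      AddMonoidHom.mem_ker.mp hy
    obtain ⟨z, hz⟩ := (hkY y).mp hy'
    refine ⟨((e _).symm z).comp (Ext.mk₀ (toCocycle I k)) (add_zero 0), ?_, ?_⟩
    · rw [AddMonoidHom.mem_ker]
      show toExt I G k (Ext.addEquiv₀
        (((e _).symm z).comp (Ext.mk₀ (toCocycle I k)) (add_zero 0))) = 0
      rw [toExt_eq_zero_iff]
      refine ⟨Ext.addEquiv₀ ((e _).symm z), ?_⟩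
      apply (Ext.mk₀_bijective _ _).injective
      rw [← Ext.mk₀_comp_mk₀, Ext.mk₀_addEquiv₀_apply, Ext.mk₀_addEquiv₀_apply]
    · show (e _) (((e _).symm z).comp (Ext.mk₀ (toCocycle I k)) (add_zero 0)) = y
      rw [he, AddEquiv.apply_symm_apply]
      exact hz

end Compare

end Groth.Agent.H10.DerRes
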