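import Mathlib
import Groth.Prelude.Def_CohSite
import Groth.Agent.H10.DerRes2

/-!
# Higher direct images on sites as sheafified cohomology presheaves (helper10)
-/

set_option autoImplicit false
universe u
open CategoryTheory CategoryTheory.Limits Opposite CategoryTheory.Abelian

namespace Groth.Agent.H10.CohSiteA

section Free

variable {C : Type u} [SmallCategory C] (J : GrothendieckTopology C)

/-- the functor `U ↦ ℤ_U` -/
noncomputable abbrev freeFunctor : C ⥤ Sheaf J AddCommGrpCat.{u} :=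
  yoneda ⋙ (Functor.whiskeringRight _ _ _).obj AddCommGrpCat.free ⋙
    presheafToSheaf J AddCommGrpCat.{u}

/-- the free abelian sheaf adjunction -/
noncomputable def freeAdj :
    (Functor.whiskeringRight Cᵒᵖ _ _).obj AddCommGrpCat.free.{u} ⋙
        presheafToSheaf J AddCommGrpCat.{u} ⊣
      sheafToPresheaf J AddCommGrpCat.{u} ⋙
        (Functor.whiskeringRight Cᵒᵖ _ _).obj (forget AddCommGrpCat.{u}) :=
  (Adjunction.whiskerRight _ AddCommGrpCat.adj).comp (sheafificationAdjunction _ _)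

/-- morphisms out of `ℤ_U` are sections over `U` -/
noncomputable def secEquiv (U : C) (F : Sheaf J AddCommGrpCat.{u}) :
    ((freeFunctor J).obj U ⟶ F) ≃ F.obj.obj (op U) :=
  ((freeAdj J).homEquiv (yoneda.obj U) F).trans yonedaEquiv

lemma secEquiv_comp (U : C) {F F' : Sheaf J AddCommGrpCat.{u}}
    (φ : (freeFunctor J).obj U ⟶ F) (g : F ⟶ F') :
    secEquiv J U F' (φ ≫ g) = g.hom.app (op U) (secEquiv J U F φ) := by
  have h := (freeAdj J).homEquiv_naturality_right φ g
  show yonedaEquiv ((freeAdj J).homEquiv (yoneda.obj U) F' (φ ≫ g)) = _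
  rw [h, yonedaEquiv_comp]
  rfl

lemma secEquiv_map {U V : C} (i : V ⟶ U) {F : Sheaf J AddCommGrpCat.{u}}
    (φ : (freeFunctor J).obj U ⟶ F) :
    secEquiv J V F ((freeFunctor J).map i ≫ φ) = F.obj.map i.op (secEquiv J U F φ) := by
  have h := (freeAdj J).homEquiv_naturality_left (yoneda.map i) φ
  show yonedaEquiv ((freeAdj J).homEquiv (yoneda.obj V) F ((freeFunctor J).map i ≫ φ)) = _
  have h' : (freeAdj J).homEquiv (yoneda.obj V) F ((freeFunctor J).map i ≫ φ) =
      yoneda.map i ≫ (freeAdj J).homEquiv (yoneda.obj U) F φ := h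
  rw [h', ← yonedaEquiv_naturality]
  rfl

lemma secEquiv_eq_app (U : C) (F : Sheaf J AddCommGrpCat.{u})
    (φ : (freeFunctor J).obj U ⟶ F) :
    secEquiv J U F φ =
      φ.hom.app (op U) (secEquiv J U _ (𝟙 ((freeFunctor J).obj U))) := by
  have h := secEquiv_comp J U (𝟙 ((freeFunctor J).obj U)) φ
  rwa [Category.id_comp] at h

/-- additive version of `secEquiv` -/
noncomputable def secAddEquiv (U : C) (F : Sheaf J AddCommGrpCat.{u}) :
    ((freeFunctor J).obj U ⟶ F) ≃+ F.obj.obj (op U) :=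
  { secEquiv J U F with
    map_add' := fun φ ψ => by
      show secEquiv J U F (φ + ψ) = secEquiv J U F φ + secEquiv J U F ψ
      rw [secEquiv_eq_app J U F (φ + ψ), secEquiv_eq_app J U F φ, secEquiv_eq_app J U F ψ]
      rfl }

end Free

section ShCoker

variable {D : Type u} [SmallCategory D] (K : GrothendieckTopology D)

theorem nonempty_iso_sheafify_of_bijective {B : Sheaf K AddCommGrpCat.{u}}
    {P : Dᵒᵖ ⥤ AddCommGrpCat.{u}} (τ : B.obj ⟶ P)
    (hτ : ∀ V, Function.Bijective (τ.app V)) :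
    Nonempty (B ≅ (presheafToSheaf K AddCommGrpCat.{u}).obj P) := by
  have h1 : ∀ V, IsIso (τ.app V) := fun V =>
    (ConcreteCategory.isIso_iff_bijective _).mpr (hτ V)
  have h2 : IsIso τ := NatIso.isIso_of_isIso_app τ
  exact ⟨(sheafificationNatIso K AddCommGrpCat.{u}).app B ≪≫
    (presheafToSheaf K AddCommGrpCat.{u}).mapIso (asIso τ)⟩

theorem nonempty_cokernel_iso_sheafify {B₁ B₂ : Sheaf K AddCommGrpCat.{u}} (ψ : B₁ ⟶ B₂)
    {P : Dᵒᵖ ⥤ AddCommGrpCat.{u}} (τ : B₂.obj ⟶ P)
    (h0 : ∀ (V : Dᵒᵖ) (t : B₁.obj.obj V), τ.app V (ψ.hom.app V t) = 0)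
    (hs : ∀ V : Dᵒᵖ, Function.Surjective (τ.app V))
    (hk : ∀ (V : Dᵒᵖ) (s : B₂.obj.obj V), τ.app V s = 0 →
      ∃ t : B₁.obj.obj V, ψ.hom.app V t = s) :
    Nonempty (cokernel ψ ≅ (presheafToSheaf K AddCommGrpCat.{u}).obj P) := by
  have hz : ψ.hom ≫ τ = 0 := by
    apply NatTrans.ext
    funext V
    apply ConcreteCategory.hom_ext
    intro t
    refine (h0 V t).trans ?_
    rfl
  let S : ShortComplex (Dᵒᵖ ⥤ AddCommGrpCat.{u}) := ShortComplex.mk ψ.hom τ hz
  have hepi : Epi τ := by
    have : ∀ V, Epi (τ.app V) := fun V => (AddCommGrpCat.epi_iff_surjective _).mpr (hs V)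
    exact NatTrans.epi_of_epi_app τ
  have hS : S.Exact := by
    rw [ShortComplex.exact_iff_isZero_homology, Functor.isZero_iff]
    intro V
    have hV : (S.map ((evaluation Dᵒᵖ AddCommGrpCat.{u}).obj V)).Exact := by
      rw [ShortComplex.ab_exact_iff]
      intro x₂ hx₂
      exact hk V x₂ hx₂
    exact IsZero.of_iso ((ShortComplex.exact_iff_isZero_homology _).mp hV)
      (S.mapHomologyIso ((evaluation Dᵒᵖ AddCommGrpCat.{u}).obj V)).symm
  have hpc : PreservesColimitsOfSize.{0, 0} (presheafToSheaf K AddCommGrpCat.{u}) :=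
    (sheafificationAdjunction K AddCommGrpCat.{u}).leftAdjoint_preservesColimits
  have hSa : (S.map (presheafToSheaf K AddCommGrpCat.{u})).Exact :=
    hS.map_of_epi_of_preservesCokernel _ hepi inferInstance
  have hpe : (presheafToSheaf K AddCommGrpCat.{u}).PreservesEpimorphisms :=
    Functor.preservesEpimorphisms_of_adjunction
      (sheafificationAdjunction K AddCommGrpCat.{u})
  have hepia : Epi (S.map (presheafToSheaf K AddCommGrpCat.{u})).g := by
    show Epi ((presheafToSheaf K AddCommGrpCat.{u}).map τ)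
    infer_instance
  have hcok := hSa.gIsCokernel
  let e1 : cokernel ((presheafToSheaf K AddCommGrpCat.{u}).map ψ.hom) ≅
      (presheafToSheaf K AddCommGrpCat.{u}).obj P :=
    (cokernelIsCokernel _).coconePointUniqueUpToIso hcok
  let e2 : cokernel ψ ≅ cokernel ((presheafToSheaf K AddCommGrpCat.{u}).map ψ.hom) :=
    cokernel.mapIso ψ _
      ((sheafificationNatIso K AddCommGrpCat.{u}).app B₁)
      ((sheafificationNatIso K AddCommGrpCat.{u}).app B₂)
      ((sheafificationNatIso K AddCommGrpCat.{u}).hom.naturality ψ)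
  exact ⟨e2 ≪≫ e1⟩

end ShCoker

section Tau

variable {C D : Type u} [SmallCategory C] [SmallCategory D]
  (J : GrothendieckTopology C) (K : GrothendieckTopology D) (u : D ⥤ C) [u.IsContinuous K J]
  {F : Sheaf J AddCommGrpCat.{u}}

/-- a natural family of additive maps `Hom(ℤ_W, Z) → Ext^n(ℤ_W, F)` as a map of presheaves
on the target site -/
noncomputable def mkTau (Z : Sheaf J AddCommGrpCat.{u}) (n : ℕ)
    (Ψ : ∀ W : C, ((freeFunctor J).obj W ⟶ Z) →+ Ext.{u} ((freeFunctor J).obj W) F n)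
    (hΨ : ∀ {W W' : C} (i : W' ⟶ W) (φ : (freeFunctor J).obj W ⟶ Z),
      Ψ W' ((freeFunctor J).map i ≫ φ) =
        (Ext.mk₀ ((freeFunctor J).map i)).comp (Ψ W φ) (zero_add n)) :
    ((CohSite.push J K u).obj Z).obj ⟶ u.op ⋙ Sheaf.cohomologyPresheaf.{u} F n where
  app V := AddCommGrpCat.ofHom ((Ψ (u.obj V.unop)).comp
    (secAddEquiv J (u.obj V.unop) Z).symm.toAddMonoidHom)
  naturality V V' j := by
    apply ConcreteCategory.hom_ext
    intro s
    show Ψ (u.obj V'.unop) ((secEquiv J (u.obj V'.unop) Z).symm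
        (Z.obj.map (u.map j.unop).op s)) =
      (Ext.mk₀ ((freeFunctor J).map (u.map j.unop))).comp
        (Ψ (u.obj V.unop) ((secEquiv J (u.obj V.unop) Z).symm s)) (zero_add n)
    rw [← hΨ]
    congr 1
    apply (secEquiv J (u.obj V'.unop) Z).injective
    rw [Equiv.apply_symm_apply, secEquiv_map, Equiv.apply_symm_apply]

/-- the cocycle sheaf `Z^{k+1}` of an injective resolution -/
noncomputable abbrev Zk (I : InjectiveResolution F) (k : ℕ) : Sheaf J AddCommGrpCat.{u} :=
  kernel (I.cocomplex.d (k + 1) (k + 2))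

theorem higher_direct_image_eq_sheafify (F : Sheaf J AddCommGrpCat.{u}) (i : ℕ) :
    Nonempty ((CohSite.Rpush J K u i).obj F ≅
      (presheafToSheaf K AddCommGrpCat.{u}).obj (u.op ⋙ F.cohomologyPresheaf i)) := by
  have hpl : PreservesLimits (CohSite.push J K u) :=
    (Adjunction.ofIsRightAdjoint (CohSite.push J K u)).rightAdjoint_preservesLimits
  have hfl : PreservesFiniteLimits (CohSite.push J K u) := inferInstance
  let I : InjectiveResolution F := injectiveResolution F
  cases i with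
  | zero =>
    let θ₀ : (CohSite.Rpush J K u 0).obj F ≅ (CohSite.push J K u).obj F :=
      (Functor.rightDerivedZeroIsoSelf (CohSite.push J K u)).app F
    let Ψ : ∀ W : C, ((freeFunctor J).obj W ⟶ F) →+ Ext.{u} ((freeFunctor J).obj W) F 0 :=
      fun W => AddMonoidHom.mk' (fun φ => Ext.mk₀ φ) (fun a b => Ext.mk₀_add a b)
    have hΨ : ∀ {W W' : C} (i : W' ⟶ W) (φ : (freeFunctor J).obj W ⟶ F),
        Ψ W' ((freeFunctor J).map i ≫ φ) =
          (Ext.mk₀ ((freeFunctor J).map i)).comp (Ψ W φ) (zero_add 0) :=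
      fun i φ => (Ext.mk₀_comp_mk₀ _ _).symm
    obtain ⟨e⟩ := nonempty_iso_sheafify_of_bijective K (mkTau J K u F 0 Ψ hΨ) (fun V => by
      have hb : Function.Bijective
          (fun s : F.obj.obj (op (u.obj V.unop)) =>
            Ext.mk₀ ((secEquiv J (u.obj V.unop) F).symm s)) :=
        (Ext.mk₀_bijective _ _).comp (secEquiv J (u.obj V.unop) F).symm.bijective
      exact hb)
    exact ⟨θ₀ ≪≫ e⟩
  | succ k =>
    obtain ⟨θ⟩ := DerRes.nonempty_rightDerived_iso_cokernel (CohSite.push J K u) I k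
    have hΨ : ∀ {W W' : C} (i : W' ⟶ W) (φ : (freeFunctor J).obj W ⟶ Zk J I k),
        DerRes.toExt I ((freeFunctor J).obj W') k ((freeFunctor J).map i ≫ φ) =
          (Ext.mk₀ ((freeFunctor J).map i)).comp
            (DerRes.toExt I ((freeFunctor J).obj W) k φ) (zero_add (k + 1)) :=
      fun i φ => (DerRes.toExt_precomp I ((freeFunctor J).map i) k φ).symm
    suffices key : Nonempty (cokernel ((CohSite.push J K u).map (DerRes.toCocycle I k)) ≅
        (presheafToSheaf K AddCommGrpCat.{u}).obj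
          (u.op ⋙ Sheaf.cohomologyPresheaf.{u} F (k + 1))) by
      obtain ⟨e⟩ := key
      exact ⟨θ ≪≫ e⟩
    refine nonempty_cokernel_iso_sheafify K ((CohSite.push J K u).map (DerRes.toCocycle I k))
      (mkTau J K u (Zk J I k) (k + 1) (fun W => DerRes.toExt I ((freeFunctor J).obj W) k) hΨ)
      ?_ ?_ ?_
    · intro V t
      show DerRes.toExt I ((freeFunctor J).obj (u.obj V.unop)) k
        ((secEquiv J (u.obj V.unop) (Zk J I k)).symm
          ((DerRes.toCocycle I k).hom.app (op (u.obj V.unop)) t)) = 0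
      rw [DerRes.toExt_eq_zero_iff]
      refine ⟨(secEquiv J (u.obj V.unop) (I.cocomplex.X k)).symm t, ?_⟩
      apply (secEquiv J (u.obj V.unop) (Zk J I k)).injective
      rw [secEquiv_comp, Equiv.apply_symm_apply, Equiv.apply_symm_apply]
    · intro V x
      obtain ⟨φ, hφ⟩ := DerRes.toExt_surjective I ((freeFunctor J).obj (u.obj V.unop)) k x
      refine ⟨secEquiv J (u.obj V.unop) (Zk J I k) φ, ?_⟩
      show DerRes.toExt I ((freeFunctor J).obj (u.obj V.unop)) k
        ((secEquiv J (u.obj V.unop) (Zk J I k)).symm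
          (secEquiv J (u.obj V.unop) (Zk J I k) φ)) = x
      rw [Equiv.symm_apply_apply]
      exact hφ
    · intro V s hs0
      have hs1 : DerRes.toExt I ((freeFunctor J).obj (u.obj V.unop)) k
          ((secEquiv J (u.obj V.unop) (Zk J I k)).symm s) = 0 := hs0
      obtain ⟨g, hg⟩ := (DerRes.toExt_eq_zero_iff I _ k _).mp hs1
      refine ⟨secEquiv J (u.obj V.unop) (I.cocomplex.X k) g, ?_⟩
      show (DerRes.toCocycle I k).hom.app (op (u.obj V.unop))
        (secEquiv J (u.obj V.unop) (I.cocomplex.X k) g) = s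
      rw [← secEquiv_comp, hg, Equiv.apply_symm_apply]

end Tau

end Groth.Agent.H10.CohSiteA
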