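import Mathlib
import Groth.Prelude.Def_CohSite
import Groth.Agent.H10.CohSiteA

/-!
# Cohomology classes die locally, on a small site (helper10)
-/

set_option autoImplicit false
universe u
open CategoryTheory CategoryTheory.Limits Opposite CategoryTheory.Abelian

namespace Groth.Agent.H10.CohSiteA

variable {C : Type u} [SmallCategory C] (J : GrothendieckTopology C)

theorem kill_on_cover : ∀ (n : ℕ) (F : Sheaf J AddCommGrpCat.{u}) (U : C)
    (ξ : Ext.{u} ((freeFunctor J).obj U) F (n + 1)),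
    ∃ (S : J.Cover U), ∀ a : S.Arrow,
      (Ext.mk₀ ((freeFunctor J).map a.f)).comp ξ (zero_add (n + 1)) = 0 := by
  intro n
  induction n with
  | zero =>
    intro F U ξ
    let T := ShortComplex.mk _ _ (cokernel.condition (Injective.ι F))
    have hT : T.ShortExact :=
      { exact := ShortComplex.exact_of_g_is_cokernel _ (cokernelIsCokernel T.f) }
    obtain ⟨η, hη⟩ := Ext.covariant_sequence_exact₁ _ hT ξ (Ext.eq_zero_of_injective _) rfl
    have hepi : Epi T.g := hT.epi_g
    have hls : Presheaf.IsLocallySurjective J T.g.hom :=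
      (Sheaf.isLocallySurjective_iff_epi' (φ := T.g)).mpr hepi
    have hmem : Presheaf.imageSieve T.g.hom (secEquiv J U T.X₃ (Ext.homEquiv₀ η)) ∈ J U :=
      Presheaf.imageSieve_mem J T.g.hom (U := op U) _
    refine ⟨⟨Presheaf.imageSieve T.g.hom (secEquiv J U T.X₃ (Ext.homEquiv₀ η)), hmem⟩,
      fun a => ?_⟩
    obtain ⟨t, ht⟩ : ∃ t : ToType (T.X₂.obj.obj (op a.Y)),
        T.g.hom.app _ t = T.X₃.obj.map a.f.op (secEquiv J U T.X₃ (Ext.homEquiv₀ η)) := a.hf
    have e1 : (freeFunctor J).map a.f ≫ Ext.homEquiv₀ η =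
        (secEquiv J a.Y T.X₂).symm t ≫ T.g := by
      apply (secEquiv J a.Y T.X₃).injective
      rw [secEquiv_map, secEquiv_comp, Equiv.apply_symm_apply]
      exact ht.symm
    have e2 : (Ext.mk₀ ((freeFunctor J).map a.f)).comp η (zero_add 0) =
        (Ext.mk₀ ((secEquiv J a.Y T.X₂).symm t)).comp (Ext.mk₀ T.g) (zero_add 0) := by
      rw [Ext.mk₀_comp_mk₀, ← e1, ← Ext.mk₀_comp_mk₀, Ext.mk₀_homEquiv₀_apply]
    calc (Ext.mk₀ ((freeFunctor J).map a.f)).comp ξ (zero_add 1)
        = (Ext.mk₀ ((freeFunctor J).map a.f)).comp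
            (η.comp hT.extClass rfl) (zero_add 1) := by rw [hη]
      _ = ((Ext.mk₀ ((freeFunctor J).map a.f)).comp η
            (zero_add 0)).comp hT.extClass rfl :=
          (Ext.comp_assoc _ _ _ (zero_add 0) rfl (by lia)).symm
      _ = ((Ext.mk₀ ((secEquiv J a.Y T.X₂).symm t)).comp (Ext.mk₀ T.g)
            (zero_add 0)).comp hT.extClass rfl := by rw [e2]
      _ = (Ext.mk₀ ((secEquiv J a.Y T.X₂).symm t)).comp
            ((Ext.mk₀ T.g).comp hT.extClass (zero_add 1)) (zero_add 1) :=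
          Ext.comp_assoc _ _ _ (zero_add 0) (zero_add 1) (by lia)
      _ = 0 := by rw [hT.comp_extClass, Ext.comp_zero]
  | succ n ih =>
    intro F U ξ
    let T := ShortComplex.mk _ _ (cokernel.condition (Injective.ι F))
    have hT : T.ShortExact :=
      { exact := ShortComplex.exact_of_g_is_cokernel _ (cokernelIsCokernel T.f) }
    obtain ⟨η, hη⟩ := Ext.covariant_sequence_exact₁ _ hT ξ (Ext.eq_zero_of_injective _) rfl
    obtain ⟨S, hzero⟩ := ih T.X₃ U η
    refine ⟨S, fun a => ?_⟩
    calc (Ext.mk₀ ((freeFunctor J).map a.f)).comp ξ (zero_add (n + 1 + 1))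
        = (Ext.mk₀ ((freeFunctor J).map a.f)).comp
            (η.comp hT.extClass rfl) (zero_add (n + 1 + 1)) := by rw [hη]
      _ = ((Ext.mk₀ ((freeFunctor J).map a.f)).comp η
            (zero_add (n + 1))).comp hT.extClass rfl :=
          (Ext.comp_assoc _ _ _ (zero_add (n + 1)) rfl (by lia)).symm
      _ = 0 := by rw [hzero a, Ext.zero_comp]

end Groth.Agent.H10.CohSiteA
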