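import Mathlib
import Groth.Prelude.Def_CohSite
import Groth.Agent.H10.CohSiteA

/-!
# More on cohomology on small sites (helper10)

* the free abelian sheaf on the sheafified representable is the free abelian sheaf `ℤ_U`;
* weakly contractible objects give projective free sheaves;
* right derived functors of `sheafToPresheaf` are the cohomology presheaves.
-/

set_option autoImplicit false
universe u
open CategoryTheory CategoryTheory.Limits Opposite CategoryTheory.Abelian

namespace Groth.Agent.H10.CohSiteA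

section FreeOfSheaf

variable {C : Type u} [SmallCategory C] (J : GrothendieckTopology C)

theorem nonempty_freeOfSheafify_iso (U : C) :
    Nonempty ((presheafToSheaf J AddCommGrpCat.{u}).obj
      (((presheafToSheaf J (Type u)).obj (yoneda.obj U)).obj ⋙ AddCommGrpCat.free.{u}) ≅
      (freeFunctor J).obj U) := by
  let A₁ := (sheafificationAdjunction J (Type u)).comp
    (Sheaf.adjunction J AddCommGrpCat.adj.{u})
  let ρ : sheafCompose J (forget AddCommGrpCat.{u}) ⋙ sheafToPresheaf J (Type u) ≅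
      sheafToPresheaf J AddCommGrpCat.{u} ⋙
        (Functor.whiskeringRight Cᵒᵖ _ _).obj (forget AddCommGrpCat.{u}) :=
    NatIso.ofComponents (fun G => Iso.refl _)
      (fun {G G'} f => (Category.comp_id _).trans (Category.id_comp _).symm)
  let A₁' := A₁.ofNatIsoRight ρ
  exact ⟨(A₁'.leftAdjointUniq (freeAdj J)).app (yoneda.obj U)⟩

end FreeOfSheaf

section WC

variable {C : Type u} [SmallCategory C] (J : GrothendieckTopology C)

theorem surj_of_wc (U : C) (hU : CohSite.IsWeaklyContractible J U)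
    {E X : Sheaf J AddCommGrpCat.{u}} (e : E ⟶ X) [Epi e] :
    Function.Surjective (e.hom.app (op U)) := by
  have hls : Presheaf.IsLocallySurjective J e.hom :=
    (Sheaf.isLocallySurjective_iff_epi' (φ := e)).mpr inferInstance
  have hls' : Presheaf.IsLocallySurjective J
      (Functor.whiskerRight e.hom (forget AddCommGrpCat.{u})) := inferInstance
  have hls'' : Sheaf.IsLocallySurjective ((sheafCompose J (forget AddCommGrpCat.{u})).map e) :=
    hls'
  have hepi : Epi ((sheafCompose J (forget AddCommGrpCat.{u})).map e) :=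
    (Sheaf.isLocallySurjective_iff_epi _).mp hls''
  intro x
  obtain ⟨t, ht⟩ := hU _ _ _ hepi x
  exact ⟨t, ht⟩

theorem projective_free_of_wc (U : C) (hU : CohSite.IsWeaklyContractible J U) :
    Projective ((freeFunctor J).obj U) := by
  constructor
  intro E X f e he
  obtain ⟨t, ht⟩ := surj_of_wc J U hU e (secEquiv J U X f)
  refine ⟨(secEquiv J U E).symm t, ?_⟩
  apply (secEquiv J U X).injective
  rw [secEquiv_comp, Equiv.apply_symm_apply, ht]

end WC

section PshCoker

variable {C : Type u} [SmallCategory C]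

theorem nonempty_cokernel_iso_of_exact {B₁ B₂ P : Cᵒᵖ ⥤ AddCommGrpCat.{u}}
    (ψ : B₁ ⟶ B₂) (τ : B₂ ⟶ P)
    (h0 : ∀ (V : Cᵒᵖ) (t : B₁.obj V), τ.app V (ψ.app V t) = 0)
    (hs : ∀ V : Cᵒᵖ, Function.Surjective (τ.app V))
    (hk : ∀ (V : Cᵒᵖ) (s : B₂.obj V), τ.app V s = 0 → ∃ t : B₁.obj V, ψ.app V t = s) :
    Nonempty (cokernel ψ ≅ P) := by
  have hz : ψ ≫ τ = 0 := by
    apply NatTrans.ext
    funext V
    apply ConcreteCategory.hom_ext
    intro t
    refine (h0 V t).trans ?_
    rfl
  let S : ShortComplex (Cᵒᵖ ⥤ AddCommGrpCat.{u}) := ShortComplex.mk ψ τ hz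
  have hepi : Epi S.g := by
    have : ∀ V, Epi (τ.app V) := fun V => (AddCommGrpCat.epi_iff_surjective _).mpr (hs V)
    exact NatTrans.epi_of_epi_app τ
  have hS : S.Exact := by
    rw [ShortComplex.exact_iff_isZero_homology, Functor.isZero_iff]
    intro V
    have hV : (S.map ((evaluation Cᵒᵖ AddCommGrpCat.{u}).obj V)).Exact := by
      rw [ShortComplex.ab_exact_iff]
      intro x₂ hx₂
      exact hk V x₂ hx₂
    exact IsZero.of_iso ((ShortComplex.exact_iff_isZero_homology _).mp hV)
      (S.mapHomologyIso ((evaluation Cᵒᵖ AddCommGrpCat.{u}).obj V)).symm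
  exact ⟨(cokernelIsCokernel ψ).coconePointUniqueUpToIso hS.gIsCokernel⟩

end PshCoker

section Tau'

variable {C : Type u} [SmallCategory C] (J : GrothendieckTopology C)
  {F : Sheaf J AddCommGrpCat.{u}}

/-- a natural family of additive maps `Hom(ℤ_W, Z) → Ext^n(ℤ_W, F)` as a map of presheaves -/
noncomputable def mkTau' (Z : Sheaf J AddCommGrpCat.{u}) (n : ℕ)
    (Ψ : ∀ W : C, ((freeFunctor J).obj W ⟶ Z) →+ Ext.{u} ((freeFunctor J).obj W) F n)
    (hΨ : ∀ {W W' : C} (i : W' ⟶ W) (φ : (freeFunctor J).obj W ⟶ Z),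
      Ψ W' ((freeFunctor J).map i ≫ φ) =
        (Ext.mk₀ ((freeFunctor J).map i)).comp (Ψ W φ) (zero_add n)) :
    Z.obj ⟶ Sheaf.cohomologyPresheaf.{u} F n where
  app V := AddCommGrpCat.ofHom ((Ψ V.unop).comp
    (secAddEquiv J V.unop Z).symm.toAddMonoidHom)
  naturality V V' j := by
    apply ConcreteCategory.hom_ext
    intro s
    show Ψ V'.unop ((secEquiv J V'.unop Z).symm (Z.obj.map j.unop.op s)) =
      (Ext.mk₀ ((freeFunctor J).map j.unop)).comp
        (Ψ V.unop ((secEquiv J V.unop Z).symm s)) (zero_add n)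
    rw [← hΨ]
    congr 1
    apply (secEquiv J V'.unop Z).injective
    rw [Equiv.apply_symm_apply, secEquiv_map, Equiv.apply_symm_apply]

theorem rightDerived_sheafToPresheaf_iso (F : Sheaf J AddCommGrpCat.{u}) (p : ℕ) :
    Nonempty (((sheafToPresheaf J AddCommGrpCat.{u}).rightDerived p).obj F ≅
      Sheaf.cohomologyPresheaf.{u} F p) := by
  have hpl : PreservesLimits (sheafToPresheaf J AddCommGrpCat.{u}) :=
    (sheafificationAdjunction J AddCommGrpCat.{u}).rightAdjoint_preservesLimits
  have hfl : PreservesFiniteLimits (sheafToPresheaf J AddCommGrpCat.{u}) := inferInstance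
  let I : InjectiveResolution F := injectiveResolution F
  cases p with
  | zero =>
    let θ₀ : ((sheafToPresheaf J AddCommGrpCat.{u}).rightDerived 0).obj F ≅ F.obj :=
      (Functor.rightDerivedZeroIsoSelf (sheafToPresheaf J AddCommGrpCat.{u})).app F
    let Ψ : ∀ W : C, ((freeFunctor J).obj W ⟶ F) →+ Ext.{u} ((freeFunctor J).obj W) F 0 :=
      fun W => AddMonoidHom.mk' (fun φ => Ext.mk₀ φ) (fun a b => Ext.mk₀_add a b)
    have hΨ : ∀ {W W' : C} (i : W' ⟶ W) (φ : (freeFunctor J).obj W ⟶ F),
        Ψ W' ((freeFunctor J).map i ≫ φ) =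
          (Ext.mk₀ ((freeFunctor J).map i)).comp (Ψ W φ) (zero_add 0) :=
      fun i φ => (Ext.mk₀_comp_mk₀ _ _).symm
    have h1 : ∀ V, IsIso ((mkTau' J F 0 Ψ hΨ).app V) := fun V =>
      (ConcreteCategory.isIso_iff_bijective _).mpr (by
        have hb : Function.Bijective
            (fun s : F.obj.obj (op V.unop) =>
              Ext.mk₀ ((secEquiv J V.unop F).symm s)) :=
          (Ext.mk₀_bijective _ _).comp (secEquiv J V.unop F).symm.bijective
        exact hb)
    have h2 : IsIso (mkTau' J F 0 Ψ hΨ) := NatIso.isIso_of_isIso_app _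
    exact ⟨θ₀ ≪≫ asIso (mkTau' J F 0 Ψ hΨ)⟩
  | succ k =>
    obtain ⟨θ⟩ := DerRes.nonempty_rightDerived_iso_cokernel
      (sheafToPresheaf J AddCommGrpCat.{u}) I k
    have hΨ : ∀ {W W' : C} (i : W' ⟶ W) (φ : (freeFunctor J).obj W ⟶ Zk J I k),
        DerRes.toExt I ((freeFunctor J).obj W') k ((freeFunctor J).map i ≫ φ) =
          (Ext.mk₀ ((freeFunctor J).map i)).comp
            (DerRes.toExt I ((freeFunctor J).obj W) k φ) (zero_add (k + 1)) :=
      fun i φ => (DerRes.toExt_precomp I ((freeFunctor J).map i) k φ).symm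
    suffices key : Nonempty (cokernel ((sheafToPresheaf J AddCommGrpCat.{u}).map
        (DerRes.toCocycle I k)) ≅ Sheaf.cohomologyPresheaf.{u} F (k + 1)) by
      obtain ⟨e⟩ := key
      exact ⟨θ ≪≫ e⟩
    refine nonempty_cokernel_iso_of_exact
      ((sheafToPresheaf J AddCommGrpCat.{u}).map (DerRes.toCocycle I k))
      (mkTau' J (Zk J I k) (k + 1) (fun W => DerRes.toExt I ((freeFunctor J).obj W) k) hΨ)
      ?_ ?_ ?_
    · intro V
      obtain ⟨W⟩ := V
      intro t
      show DerRes.toExt I ((freeFunctor J).obj W) k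
        ((secEquiv J W (Zk J I k)).symm
          ((DerRes.toCocycle I k).hom.app (op W) t)) = 0
      rw [DerRes.toExt_eq_zero_iff]
      refine ⟨(secEquiv J W (I.cocomplex.X k)).symm t, ?_⟩
      apply (secEquiv J W (Zk J I k)).injective
      rw [secEquiv_comp, Equiv.apply_symm_apply, Equiv.apply_symm_apply]
    · intro V
      obtain ⟨W⟩ := V
      intro x
      obtain ⟨φ, hφ⟩ := DerRes.toExt_surjective I ((freeFunctor J).obj W) k x
      refine ⟨secEquiv J W (Zk J I k) φ, ?_⟩
      show DerRes.toExt I ((freeFunctor J).obj W) k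
        ((secEquiv J W (Zk J I k)).symm (secEquiv J W (Zk J I k) φ)) = x
      rw [Equiv.symm_apply_apply]
      exact hφ
    · intro V
      obtain ⟨W⟩ := V
      intro s hs0
      have hs1 : DerRes.toExt I ((freeFunctor J).obj W) k
          ((secEquiv J W (Zk J I k)).symm s) = 0 := hs0
      obtain ⟨g, hg⟩ := (DerRes.toExt_eq_zero_iff I _ k _).mp hs1
      refine ⟨secEquiv J W (I.cocomplex.X k) g, ?_⟩
      show (DerRes.toCocycle I k).hom.app (op W) (secEquiv J W (I.cocomplex.X k) g) = s
      rw [← secEquiv_comp, hg, Equiv.apply_symm_apply]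

end Tau'

end Groth.Agent.H10.CohSiteA
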