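import Mathlib
import Groth.Prelude.Def_CohSite
import Groth.Agent.H10.CohSiteA

/-!
# Constant sheaves on small sites: exactness on sections (helper10)
-/

set_option autoImplicit false
universe u
open CategoryTheory CategoryTheory.Limits Opposite CategoryTheory.Abelian

namespace Groth.Agent.H10.CohSiteA

section Const

variable {C : Type u} [SmallCategory C] (J : GrothendieckTopology C)

/-- the map of constant sheaves induced by a surjection of abelian groups is split epi as a
map of sheaves of sets -/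
theorem isSplitEpi_sheafCompose_const {B C' : AddCommGrpCat.{u}} (g : B ⟶ C')
    (hg : Function.Surjective g) :
    IsSplitEpi ((sheafCompose J (forget AddCommGrpCat.{u})).map
      ((presheafToSheaf J AddCommGrpCat.{u}).map ((Functor.const Cᵒᵖ).map g))) := by
  classical
  let σ : (Functor.const Cᵒᵖ).obj C' ⋙ forget AddCommGrpCat.{u} ⟶
      (Functor.const Cᵒᵖ).obj B ⋙ forget AddCommGrpCat.{u} :=
    { app := fun V => TypeCat.ofHom (Function.surjInv hg)
      naturality := by
        intro V V' j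
        rfl }
  have hσ : σ ≫ Functor.whiskerRight ((Functor.const Cᵒᵖ).map g) (forget AddCommGrpCat.{u}) =
      𝟙 _ := by
    apply NatTrans.ext
    funext V
    apply ConcreteCategory.hom_ext
    intro x
    exact Function.surjInv_eq hg x
  let Φ := sheafComposeNatIso J (forget AddCommGrpCat.{u})
    (sheafificationAdjunction J AddCommGrpCat.{u}) (sheafificationAdjunction J (Type u))
  have hm : (presheafToSheaf J (Type u)).map σ ≫
      (presheafToSheaf J (Type u)).map
        (Functor.whiskerRight ((Functor.const Cᵒᵖ).map g) (forget AddCommGrpCat.{u})) = 𝟙 _ := by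
    rw [← CategoryTheory.Functor.map_comp, hσ, CategoryTheory.Functor.map_id]
  have hsplit : IsSplitEpi ((presheafToSheaf J (Type u)).map
      (Functor.whiskerRight ((Functor.const Cᵒᵖ).map g) (forget AddCommGrpCat.{u}))) :=
    IsSplitEpi.mk' ⟨(presheafToSheaf J (Type u)).map σ, hm⟩
  have nat := Φ.hom.naturality ((Functor.const Cᵒᵖ).map g)
  have heq : (sheafCompose J (forget AddCommGrpCat.{u})).map
      ((presheafToSheaf J AddCommGrpCat.{u}).map ((Functor.const Cᵒᵖ).map g)) =
      Φ.inv.app _ ≫ (presheafToSheaf J (Type u)).map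
        (Functor.whiskerRight ((Functor.const Cᵒᵖ).map g) (forget AddCommGrpCat.{u})) ≫
        Φ.hom.app _ := by
    rw [← cancel_epi (Φ.hom.app _), Iso.hom_inv_id_app_assoc]
    exact nat.symm
  rw [heq]
  infer_instance

theorem const_sections_surjective {B C' : AddCommGrpCat.{u}} (g : B ⟶ C')
    (hg : Function.Surjective g) (U : C) :
    Function.Surjective (((constantSheaf J AddCommGrpCat.{u}).map g).hom.app (op U)) := by
  have h1 := isSplitEpi_sheafCompose_const J g hg
  have h2 : IsSplitEpi ((sheafToPresheaf J (Type u) ⋙ (evaluation Cᵒᵖ (Type u)).obj (op U)).map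
      ((sheafCompose J (forget AddCommGrpCat.{u})).map
        ((presheafToSheaf J AddCommGrpCat.{u}).map ((Functor.const Cᵒᵖ).map g)))) :=
    inferInstance
  have h3 := (epi_iff_surjective _).mp (inferInstance : Epi
    ((sheafToPresheaf J (Type u) ⋙ (evaluation Cᵒᵖ (Type u)).obj (op U)).map
      ((sheafCompose J (forget AddCommGrpCat.{u})).map
        ((presheafToSheaf J AddCommGrpCat.{u}).map ((Functor.const Cᵒᵖ).map g)))))
  intro c
  obtain ⟨b, hb⟩ := h3 c
  exact ⟨b, hb⟩

/-- constant sheaves of a short exact sequence form a short exact sequence -/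
theorem const_shortExact (S : ShortComplex AddCommGrpCat.{u}) (hS : S.ShortExact) :
    ((S.map (Functor.const Cᵒᵖ)).map (presheafToSheaf J AddCommGrpCat.{u})).ShortExact := by
  have hT : (S.map (Functor.const Cᵒᵖ : AddCommGrpCat.{u} ⥤ Cᵒᵖ ⥤ AddCommGrpCat.{u})).ShortExact := by
    have hm := hS.mono_f
    have he := hS.epi_g
    have hex : (S.map (Functor.const Cᵒᵖ :
        AddCommGrpCat.{u} ⥤ Cᵒᵖ ⥤ AddCommGrpCat.{u})).Exact := by
      rw [ShortComplex.exact_iff_isZero_homology, Functor.isZero_iff]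
      intro V
      have hV : ((S.map (Functor.const Cᵒᵖ :
          AddCommGrpCat.{u} ⥤ Cᵒᵖ ⥤ AddCommGrpCat.{u})).map
            ((evaluation Cᵒᵖ AddCommGrpCat.{u}).obj V)).Exact := hS.exact
      exact IsZero.of_iso ((ShortComplex.exact_iff_isZero_homology _).mp hV)
        ((S.map (Functor.const Cᵒᵖ)).mapHomologyIso
          ((evaluation Cᵒᵖ AddCommGrpCat.{u}).obj V)).symm
    have hmono : Mono (S.map (Functor.const Cᵒᵖ :
        AddCommGrpCat.{u} ⥤ Cᵒᵖ ⥤ AddCommGrpCat.{u})).f := by
      have : ∀ V, Mono ((S.map (Functor.const Cᵒᵖ :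
          AddCommGrpCat.{u} ⥤ Cᵒᵖ ⥤ AddCommGrpCat.{u})).f.app V) := fun V => hm
      exact NatTrans.mono_of_mono_app _
    have hepi : Epi (S.map (Functor.const Cᵒᵖ :
        AddCommGrpCat.{u} ⥤ Cᵒᵖ ⥤ AddCommGrpCat.{u})).g := by
      have : ∀ V, Epi ((S.map (Functor.const Cᵒᵖ :
          AddCommGrpCat.{u} ⥤ Cᵒᵖ ⥤ AddCommGrpCat.{u})).g.app V) := fun V => he
      exact NatTrans.epi_of_epi_app _
    exact { exact := hex }
  have hpc : PreservesColimits (presheafToSheaf J AddCommGrpCat.{u}) :=
    (sheafificationAdjunction J AddCommGrpCat.{u}).leftAdjoint_preservesColimits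
  have hfc : PreservesFiniteColimits (presheafToSheaf J AddCommGrpCat.{u}) := inferInstance
  exact hT.map_of_exact (presheafToSheaf J AddCommGrpCat.{u})

theorem const_sections_shortExact (S : ShortComplex AddCommGrpCat.{u}) (hS : S.ShortExact)
    (U : C) :
    (((S.map (Functor.const Cᵒᵖ)).map (presheafToSheaf J AddCommGrpCat.{u})).map
      (sheafToPresheaf J AddCommGrpCat.{u} ⋙
        (evaluation Cᵒᵖ AddCommGrpCat.{u}).obj (op U))).ShortExact := by
  have hT := const_shortExact J S hS
  have hpl : PreservesLimits (sheafToPresheaf J AddCommGrpCat.{u}) :=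
    (sheafificationAdjunction J AddCommGrpCat.{u}).rightAdjoint_preservesLimits
  have hfl : PreservesFiniteLimits (sheafToPresheaf J AddCommGrpCat.{u}) := inferInstance
  have hfl2 : PreservesFiniteLimits (sheafToPresheaf J AddCommGrpCat.{u} ⋙
      (evaluation Cᵒᵖ AddCommGrpCat.{u}).obj (op U)) := inferInstance
  have h0 := ((Functor.preservesFiniteLimits_tfae (sheafToPresheaf J AddCommGrpCat.{u} ⋙
      (evaluation Cᵒᵖ AddCommGrpCat.{u}).obj (op U))).out 3 0).mp hfl2
  have h0' := h0 _ hT
  have hmono : Mono (((S.map (Functor.const Cᵒᵖ)).map (presheafToSheaf J AddCommGrpCat.{u})).map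
      (sheafToPresheaf J AddCommGrpCat.{u} ⋙
        (evaluation Cᵒᵖ AddCommGrpCat.{u}).obj (op U))).f := h0'.2
  have hepi : Epi (((S.map (Functor.const Cᵒᵖ)).map (presheafToSheaf J AddCommGrpCat.{u})).map
      (sheafToPresheaf J AddCommGrpCat.{u} ⋙
        (evaluation Cᵒᵖ AddCommGrpCat.{u}).obj (op U))).g :=
    (AddCommGrpCat.epi_iff_surjective _).mpr
      (const_sections_surjective J S.g ((AddCommGrpCat.epi_iff_surjective _).mp hS.epi_g) U)
  exact { exact := h0'.1 }

theorem const_lift {B C' : AddCommGrpCat.{u}} (g : B ⟶ C') (hg : Function.Surjective g)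
    (φ : (presheafToSheaf J AddCommGrpCat.{u}).obj
        ((Functor.const Cᵒᵖ).obj (AddCommGrpCat.of (ULift.{u} ℤ))) ⟶
      (presheafToSheaf J AddCommGrpCat.{u}).obj ((Functor.const Cᵒᵖ).obj C')) :
    ∃ ψ : (presheafToSheaf J AddCommGrpCat.{u}).obj
        ((Functor.const Cᵒᵖ).obj (AddCommGrpCat.of (ULift.{u} ℤ))) ⟶
      (presheafToSheaf J AddCommGrpCat.{u}).obj ((Functor.const Cᵒᵖ).obj B),
      ψ ≫ (presheafToSheaf J AddCommGrpCat.{u}).map ((Functor.const Cᵒᵖ).map g) = φ := by
  obtain ⟨⟨sec, hsec⟩⟩ := (isSplitEpi_sheafCompose_const J g hg).exists_splitEpi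
  have hsecapp : ∀ (V : Cᵒᵖ)
      (s : ((presheafToSheaf J AddCommGrpCat.{u}).obj ((Functor.const Cᵒᵖ).obj C')).obj.obj V),
      ((presheafToSheaf J AddCommGrpCat.{u}).map ((Functor.const Cᵒᵖ).map g)).hom.app V
        (sec.hom.app V s) = s := by
    intro V s
    have := congrArg (fun k => k.hom.app V s) hsec
    exact this
  let ν : (Functor.const Cᵒᵖ).obj (AddCommGrpCat.of (ULift.{u} ℤ)) ⟶
      ((presheafToSheaf J AddCommGrpCat.{u}).obj ((Functor.const Cᵒᵖ).obj C')).obj :=
    (sheafificationAdjunction J AddCommGrpCat.{u}).homEquiv _ _ φ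
  have hν : ∀ {V V' : Cᵒᵖ} (j : V ⟶ V') (n : ULift.{u} ℤ),
      ((presheafToSheaf J AddCommGrpCat.{u}).obj ((Functor.const Cᵒᵖ).obj C')).obj.map j
        (ν.app V n) = ν.app V' n := by
    intro V V' j n
    have h1 := ν.naturality j
    have h2 := congrArg (fun k => (ConcreteCategory.hom k) n) h1
    exact h2.symm
  have hb : ∀ {V V' : Cᵒᵖ} (j : V ⟶ V'),
      ((presheafToSheaf J AddCommGrpCat.{u}).obj ((Functor.const Cᵒᵖ).obj B)).obj.map j
        (sec.hom.app V (ν.app V (ULift.up 1))) = sec.hom.app V' (ν.app V' (ULift.up 1)) := by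
    intro V V' j
    have h1 := sec.hom.naturality j
    have h2 := congrArg (fun k => k (ν.app V (ULift.up 1))) h1
    rw [← hν j (ULift.up 1)]
    exact h2.symm
  obtain ⟨bb, hbb⟩ : ∃ bb : ∀ V : Cᵒᵖ,
      ((presheafToSheaf J AddCommGrpCat.{u}).obj ((Functor.const Cᵒᵖ).obj B)).obj.obj V,
      ∀ V, bb V = sec.hom.app V (ν.app V (ULift.up 1)) :=
    ⟨fun V => sec.hom.app V (ν.app V (ULift.up 1)), fun V => rfl⟩
  have hb' : ∀ {V V' : Cᵒᵖ} (j : V ⟶ V'),
      ((presheafToSheaf J AddCommGrpCat.{u}).obj ((Functor.const Cᵒᵖ).obj B)).obj.map j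
        (bb V) = bb V' := by
    intro V V' j
    rw [hbb, hbb]
    exact hb j
  have hm' : ∀ V : Cᵒᵖ,
      ((presheafToSheaf J AddCommGrpCat.{u}).map ((Functor.const Cᵒᵖ).map g)).hom.app V (bb V) =
        ν.app V (ULift.up 1) := by
    intro V
    rw [hbb]
    exact hsecapp V _
  let ν' : (Functor.const Cᵒᵖ).obj (AddCommGrpCat.of (ULift.{u} ℤ)) ⟶
      ((presheafToSheaf J AddCommGrpCat.{u}).obj ((Functor.const Cᵒᵖ).obj B)).obj :=
    { app := fun V => AddCommGrpCat.ofHom
        ((zmultiplesHom _ (bb V)).comp AddEquiv.ulift.toAddMonoidHom)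
      naturality := by
        intro V V' j
        apply ConcreteCategory.hom_ext
        intro n
        show n.down • bb V' =
          ((presheafToSheaf J AddCommGrpCat.{u}).obj ((Functor.const Cᵒᵖ).obj B)).obj.map j
            (n.down • bb V)
        rw [map_zsmul, hb' j] }
  refine ⟨((sheafificationAdjunction J AddCommGrpCat.{u}).homEquiv _ _).symm ν', ?_⟩
  apply ((sheafificationAdjunction J AddCommGrpCat.{u}).homEquiv _ _).injective
  rw [Adjunction.homEquiv_naturality_right, Equiv.apply_symm_apply]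
  apply NatTrans.ext
  funext V
  apply ConcreteCategory.hom_ext
  intro n
  show ((presheafToSheaf J AddCommGrpCat.{u}).map ((Functor.const Cᵒᵖ).map g)).hom.app V
      (n.down • bb V) = ν.app V n
  rw [map_zsmul, hm', ← map_zsmul]
  congr 1
  apply ULift.ext
  simp

theorem H1_const_injective {A B : Type u} [AddCommGroup A] [AddCommGroup B] (f : A →+ B)
    (hf : Function.Injective f) :
    Function.Injective
      (Sheaf.H.map ((constantSheaf J AddCommGrpCat.{u}).map (AddCommGrpCat.ofHom f)) 1) := by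
  have hmono : Mono (AddCommGrpCat.ofHom f) := (AddCommGrpCat.mono_iff_injective _).mpr hf
  let S₀ : ShortComplex AddCommGrpCat.{u} :=
    ShortComplex.mk (AddCommGrpCat.ofHom f) (cokernel.π (AddCommGrpCat.ofHom f))
      (cokernel.condition _)
  have hS₀ : S₀.ShortExact :=
    { exact := ShortComplex.exact_of_g_is_cokernel _ (cokernelIsCokernel S₀.f) }
  have hT := const_shortExact J S₀ hS₀
  rw [injective_iff_map_eq_zero]
  intro x hx
  have hx' : x.comp (Ext.mk₀ ((S₀.map (Functor.const Cᵒᵖ)).map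
      (presheafToSheaf J AddCommGrpCat.{u})).f) (add_zero 1) = 0 := hx
  obtain ⟨y, hy⟩ := Ext.covariant_sequence_exact₁ _ hT x hx' rfl
  obtain ⟨ψ, hψ⟩ := const_lift J S₀.g ((AddCommGrpCat.epi_iff_surjective _).mp hS₀.epi_g)
    (Ext.homEquiv₀ y)
  have e2 : (Ext.mk₀ ψ).comp (Ext.mk₀ ((S₀.map (Functor.const Cᵒᵖ)).map
      (presheafToSheaf J AddCommGrpCat.{u})).g) (zero_add 0) = y := by
    rw [Ext.mk₀_comp_mk₀]
    exact (congrArg Ext.mk₀ hψ).trans (Ext.mk₀_homEquiv₀_apply y)
  have key : y.comp hT.extClass (zero_add 1) = 0 := calc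
    y.comp hT.extClass (zero_add 1) = ((Ext.mk₀ ψ).comp (Ext.mk₀ ((S₀.map (Functor.const Cᵒᵖ)).map
          (presheafToSheaf J AddCommGrpCat.{u})).g) (zero_add 0)).comp hT.extClass
          (zero_add 1) := congrArg (fun w => w.comp hT.extClass (zero_add 1)) e2.symm
    _ = (Ext.mk₀ ψ).comp ((Ext.mk₀ ((S₀.map (Functor.const Cᵒᵖ)).map
          (presheafToSheaf J AddCommGrpCat.{u})).g).comp hT.extClass (zero_add 1))
          (zero_add 1) := Ext.comp_assoc _ _ _ (zero_add 0) (zero_add 1) (by lia)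
    _ = 0 := by
        rw [hT.comp_extClass]
        exact Ext.comp_zero _ _ _ _ _
  exact hy.symm.trans key

end Const

end Groth.Agent.H10.CohSiteA
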