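import Mathlib
import Groth.Prelude.Def_CohSite
import Groth.Prelude.Def_CohCx
import Groth.Agent.H10.CohSiteA

/-!
# Totally acyclic sheaves: restriction along monomorphisms of sheaves of sets (helper10)
-/

set_option autoImplicit false
universe u
open CategoryTheory CategoryTheory.Limits Opposite CategoryTheory.Abelian

namespace Groth.Agent.H10.CohSiteA

section TotAcyc

variable {C : Type u} [SmallCategory C] (J : GrothendieckTopology C)

theorem mono_free_map {Y X : Sheaf J (Type u)} (ι : Y ⟶ X) [Mono ι] :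
    Mono ((Sheaf.composeAndSheafify J AddCommGrpCat.free.{u}).map ι) := by
  have := Functor.preservesMonomorphisms_of_adjunction (sheafificationAdjunction J (Type u))
  have h0 : Mono ι.hom := (inferInstance : Mono ((sheafToPresheaf J (Type u)).map ι))
  have h2 : Mono (Functor.whiskerRight ι.hom AddCommGrpCat.free.{u}) := inferInstance
  show Mono ((presheafToSheaf J AddCommGrpCat.{u}).map
    (Functor.whiskerRight ι.hom AddCommGrpCat.free.{u}))
  infer_instance

theorem totallyAcyclic_extend {F : Sheaf J AddCommGrpCat.{u}} (hF : CohCx.IsTotallyAcyclic F)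
    {Y X : Sheaf J (Type u)} (ι : Y ⟶ X) [Mono ι]
    (φ : (Sheaf.composeAndSheafify J AddCommGrpCat.free.{u}).obj Y ⟶ F) :
    ∃ θ : (Sheaf.composeAndSheafify J AddCommGrpCat.free.{u}).obj X ⟶ F,
      (Sheaf.composeAndSheafify J AddCommGrpCat.free.{u}).map ι ≫ θ = φ := by
  have hL : PreservesColimitsOfSize.{0, 0} (Sheaf.composeAndSheafify J AddCommGrpCat.free.{u}) :=
    (Sheaf.adjunction J AddCommGrpCat.adj.{u}).leftAdjoint_preservesColimits
  have hmono := mono_free_map J ι
  have sq : IsPushout ((Sheaf.composeAndSheafify J AddCommGrpCat.free.{u}).map ι)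
      ((Sheaf.composeAndSheafify J AddCommGrpCat.free.{u}).map ι)
      ((Sheaf.composeAndSheafify J AddCommGrpCat.free.{u}).map (pushout.inl ι ι))
      ((Sheaf.composeAndSheafify J AddCommGrpCat.free.{u}).map (pushout.inr ι ι)) :=
    (IsPushout.of_hasPushout ι ι).map _
  have hex : sq.shortComplex.Exact :=
    ShortComplex.exact_of_g_is_cokernel _ sq.isColimitCokernelCofork
  have hm : Mono sq.shortComplex.f := by
    have h1 : sq.shortComplex.f ≫ biprod.fst =
        (Sheaf.composeAndSheafify J AddCommGrpCat.free.{u}).map ι := biprod.lift_fst _ _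
    exact @mono_of_mono_fac _ _ _ _ _ _ _ _ hmono h1
  have he : Epi sq.shortComplex.g := sq.epi_shortComplex_g
  have hS : sq.shortComplex.ShortExact := { exact := hex }
  have hsub : Subsingleton (Ext.{u} sq.shortComplex.X₃ F 1) := hF (pushout ι ι) 0
  obtain ⟨x₂, hx₂⟩ := Ext.contravariant_sequence_exact₁ hS F (Ext.mk₀ φ) rfl
    (Subsingleton.elim _ _)
  have h3 : sq.shortComplex.f ≫ Ext.homEquiv₀ x₂ = φ := by
    apply (Ext.mk₀_bijective _ _).injective
    rw [← Ext.mk₀_comp_mk₀, Ext.mk₀_homEquiv₀_apply]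
    exact hx₂
  refine ⟨biprod.inl ≫ Ext.homEquiv₀ x₂ - biprod.inr ≫ Ext.homEquiv₀ x₂, ?_⟩
  rw [← h3]
  show _ = biprod.lift ((Sheaf.composeAndSheafify J AddCommGrpCat.free.{u}).map ι)
    (-(Sheaf.composeAndSheafify J AddCommGrpCat.free.{u}).map ι) ≫ Ext.homEquiv₀ x₂
  rw [biprod.lift_eq, Preadditive.add_comp, Preadditive.comp_sub, Category.assoc,
    Category.assoc, Preadditive.neg_comp, sub_eq_add_neg]

end TotAcyc

end Groth.Agent.H10.CohSiteA
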