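import Mathlib
import Groth.Prelude.Def_CohSite
import Groth.Agent.H10.CohSiteA

/-!
# `Ext¹(P, ∏ F_i) → ∏ Ext¹(P, F_i)` is injective (helper10)
-/

set_option autoImplicit false
universe u
open CategoryTheory CategoryTheory.Limits Opposite CategoryTheory.Abelian

namespace Groth.Agent.H10.CohSiteA

section PiExt

variable {C : Type u} [SmallCategory C] (J : GrothendieckTopology C)

theorem ext_one_pi_aux {I : Type u} (F E : I → Sheaf J AddCommGrpCat.{u}) [∀ i, Injective (E i)]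
    (ιE : ∀ i, F i ⟶ E i) [∀ i, Mono (ιE i)] (P : Sheaf J AddCommGrpCat.{u})
    (x : Ext.{u} P (∏ᶜ F) 1)
    (hx : ∀ i, x.comp (Ext.mk₀ (Pi.π F i)) (add_zero 1) = 0) : x = 0 := by
  have hmono : Mono (Limits.Pi.map ιE) := inferInstance
  let T : ShortComplex (Sheaf J AddCommGrpCat.{u}) :=
    ShortComplex.mk (Limits.Pi.map ιE) (cokernel.π (Limits.Pi.map ιE)) (cokernel.condition _)
  have hT : T.ShortExact :=
    { exact := ShortComplex.exact_of_g_is_cokernel _ (cokernelIsCokernel T.f) }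
  have hTi : ∀ i, (ShortComplex.mk (ιE i) (cokernel.π (ιE i))
      (cokernel.condition _)).ShortExact := fun i =>
    { exact := ShortComplex.exact_of_g_is_cokernel _ (cokernelIsCokernel (ιE i)) }
  have hinj : Injective T.X₂ := (inferInstance : Injective (∏ᶜ E))
  obtain ⟨η, hη⟩ := Ext.covariant_sequence_exact₁ _ hT x (Ext.eq_zero_of_injective _) rfl
  let φ : ∀ i, T ⟶ ShortComplex.mk (ιE i) (cokernel.π (ιE i)) (cokernel.condition _) :=
    fun i =>
    { τ₁ := Pi.π F i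
      τ₂ := Pi.π E i
      τ₃ := cokernel.map (Limits.Pi.map ιE) (ιE i) (Pi.π F i) (Pi.π E i) (Pi.map_π ιE i)
      comm₁₂ := (Pi.map_π ιE i).symm
      comm₂₃ := (cokernel.π_desc (Limits.Pi.map ιE) _ _).symm }
  have hτ₃ : ∀ i, T.g ≫ (φ i).τ₃ = Pi.π E i ≫ cokernel.π (ιE i) := fun i => ((φ i).comm₂₃).symm
  have key : ∀ i, (Ext.mk₀ (Ext.homEquiv₀ η ≫ (φ i).τ₃)).comp (hTi i).extClass (zero_add 1) = 0 := by
    intro i
    have nat := ShortComplex.ShortExact.extClass_naturality hT (hTi i) (φ i)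
    calc (Ext.mk₀ (Ext.homEquiv₀ η ≫ (φ i).τ₃)).comp (hTi i).extClass (zero_add 1)
        = ((Ext.mk₀ (Ext.homEquiv₀ η)).comp (Ext.mk₀ (φ i).τ₃) (zero_add 0)).comp
            (hTi i).extClass (zero_add 1) := by rw [Ext.mk₀_comp_mk₀]
      _ = (Ext.mk₀ (Ext.homEquiv₀ η)).comp ((Ext.mk₀ (φ i).τ₃).comp (hTi i).extClass (zero_add 1))
            (zero_add 1) := Ext.comp_assoc _ _ _ (zero_add 0) (zero_add 1) (by lia)
      _ = (Ext.mk₀ (Ext.homEquiv₀ η)).comp (hT.extClass.comp (Ext.mk₀ (φ i).τ₁) (add_zero 1))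
            (zero_add 1) := by rw [nat]
      _ = ((Ext.mk₀ (Ext.homEquiv₀ η)).comp hT.extClass (zero_add 1)).comp
            (Ext.mk₀ (φ i).τ₁) (add_zero 1) :=
          (Ext.comp_assoc _ _ _ (zero_add 1) (add_zero 1) (by lia)).symm
      _ = x.comp (Ext.mk₀ (Pi.π F i)) (add_zero 1) := by
          rw [Ext.mk₀_homEquiv₀_apply, hη]
      _ = 0 := hx i
  have hlift : ∀ i, ∃ l : P ⟶ E i, l ≫ cokernel.π (ιE i) = Ext.homEquiv₀ η ≫ (φ i).τ₃ := by
    intro i
    obtain ⟨x₂, hx₂⟩ := Ext.covariant_sequence_exact₃ _ (hTi i)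
      (Ext.mk₀ (Ext.homEquiv₀ η ≫ (φ i).τ₃)) (zero_add 1) (key i)
    refine ⟨Ext.homEquiv₀ x₂, ?_⟩
    apply (Ext.mk₀_bijective _ _).injective
    rw [← Ext.mk₀_comp_mk₀, Ext.mk₀_homEquiv₀_apply]
    exact hx₂
  choose l hl using hlift
  have hd : ∀ (W : Sheaf J AddCommGrpCat.{u}) (d : W ⟶ T.X₃),
      (∀ i, d ≫ (φ i).τ₃ = 0) → d = 0 := by
    intro W d hd
    have hepi : Epi T.g := hT.epi_g
    obtain ⟨W', a, ha, b, hab⟩ := surjective_up_to_refinements_of_epi T.g d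
    have hb : ∀ i, (b ≫ Pi.π E i) ≫ cokernel.π (ιE i) = 0 := by
      intro i
      rw [Category.assoc, ← hτ₃ i, ← Category.assoc, ← hab, Category.assoc, hd i, comp_zero]
    have hc : ∀ i, ∃ c : W' ⟶ F i, c ≫ ιE i = b ≫ Pi.π E i := fun i =>
      ⟨(hTi i).exact.lift (b ≫ Pi.π E i) (hb i), (hTi i).exact.lift_f _ _⟩
    choose c hc using hc
    have hbc : b = Limits.Pi.lift c ≫ Limits.Pi.map ιE := by
      apply Limits.Pi.hom_ext
      intro i
      rw [Category.assoc, Pi.map_π, ← Category.assoc, Pi.lift_π, hc i]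
    have h0 : a ≫ d = 0 := by
      rw [hab, hbc, Category.assoc]
      show Limits.Pi.lift c ≫ (Limits.Pi.map ιE ≫ cokernel.π (Limits.Pi.map ιE)) = 0
      rw [cokernel.condition, comp_zero]
    exact (cancel_epi a).mp (h0.trans comp_zero.symm)
  have hfin : Limits.Pi.lift l ≫ T.g = Ext.homEquiv₀ η := by
    rw [← sub_eq_zero]
    apply hd
    intro i
    rw [Preadditive.sub_comp, sub_eq_zero, Category.assoc, hτ₃ i, ← Category.assoc, Pi.lift_π,
      hl i]
  have e2 : (Ext.mk₀ (Limits.Pi.lift l)).comp (Ext.mk₀ T.g) (zero_add 0) = η := by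
    rw [Ext.mk₀_comp_mk₀, hfin, Ext.mk₀_homEquiv₀_apply]
  calc x = η.comp hT.extClass (zero_add 1) := hη.symm
    _ = ((Ext.mk₀ (Limits.Pi.lift l)).comp (Ext.mk₀ T.g) (zero_add 0)).comp hT.extClass
          (zero_add 1) := congrArg (fun w => w.comp hT.extClass (zero_add 1)) e2.symm
    _ = (Ext.mk₀ (Limits.Pi.lift l)).comp ((Ext.mk₀ T.g).comp hT.extClass (zero_add 1))
          (zero_add 1) := Ext.comp_assoc _ _ _ (zero_add 0) (zero_add 1) (by lia)
    _ = 0 := by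
        rw [hT.comp_extClass]
        exact Ext.comp_zero _ _ _ _ _

theorem ext_one_pi_injective {I : Type u} (F : I → Sheaf J AddCommGrpCat.{u})
    (P : Sheaf J AddCommGrpCat.{u}) (x : Ext.{u} P (∏ᶜ F) 1)
    (hx : ∀ i, x.comp (Ext.mk₀ (Pi.π F i)) (add_zero 1) = 0) : x = 0 :=
  ext_one_pi_aux J F (fun i => Injective.under (F i)) (fun i => Injective.ι (F i)) P x hx

end PiExt

end Groth.Agent.H10.CohSiteA
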