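import Mathlib
import Groth.Prelude.Def_CohSite
import Groth.Agent.H10.CohSiteC

/-!
# AB4* for abelian sheaves on a site with enough weakly contractible objects (helper10)
-/

set_option autoImplicit false
universe u
open CategoryTheory CategoryTheory.Limits Opposite CategoryTheory.Abelian

namespace Groth.Agent.H10.CohSiteA

section AB4

variable {C : Type u} [SmallCategory C] (J : GrothendieckTopology C)

/-- sections over `V`, as a set-valued functor -/
noncomputable abbrev secT (V : C) : Sheaf J AddCommGrpCat.{u} ⥤ Type u :=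
  sheafToPresheaf J AddCommGrpCat.{u} ⋙ (evaluation Cᵒᵖ AddCommGrpCat.{u}).obj (op V) ⋙
    forget AddCommGrpCat.{u}

theorem exists_section_of_family {ι : Type u} (X : Discrete ι ⥤ Sheaf J AddCommGrpCat.{u})
    (V : C) (t : ∀ i : ι, (X.obj ⟨i⟩).obj.obj (op V)) :
    ∃ s : (limit X).obj.obj (op V), ∀ i, (limit.π X ⟨i⟩).hom.app (op V) s = t i := by
  have h1 : PreservesLimits (sheafToPresheaf J AddCommGrpCat.{u}) :=
    (sheafificationAdjunction J AddCommGrpCat.{u}).rightAdjoint_preservesLimits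
  have h2 : PreservesLimit X (secT J V) := inferInstance
  let hl := isLimitOfPreserves (secT J V) (limit.isLimit X)
  let sec : (X ⋙ secT J V).sections := ⟨fun j => t j.as, by
    intro j j' f
    obtain ⟨j⟩ := j
    obtain ⟨j'⟩ := j'
    have hjj : j = j' := Discrete.eq_of_hom f
    subst hjj
    have hf : f = 𝟙 _ := Subsingleton.elim _ _
    rw [hf, CategoryTheory.Functor.map_id]
    rfl⟩
  refine ⟨(Types.isLimitEquivSections hl).symm sec, fun i => ?_⟩
  exact Types.isLimitEquivSections_symm_apply hl sec ⟨i⟩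

theorem section_ext {ι : Type u} (X : Discrete ι ⥤ Sheaf J AddCommGrpCat.{u}) (V : C)
    (s s' : (limit X).obj.obj (op V))
    (h : ∀ i, (limit.π X ⟨i⟩).hom.app (op V) s = (limit.π X ⟨i⟩).hom.app (op V) s') :
    s = s' := by
  have h1 : PreservesLimits (sheafToPresheaf J AddCommGrpCat.{u}) :=
    (sheafificationAdjunction J AddCommGrpCat.{u}).rightAdjoint_preservesLimits
  have h2 : PreservesLimit X (secT J V) := inferInstance
  let hl := isLimitOfPreserves (secT J V) (limit.isLimit X)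
  apply (Types.isLimitEquivSections hl).injective
  apply Subtype.ext
  funext j
  exact h j.as

theorem preservesEpi_lim_of_wc (B : Set C) (hB : ∀ U ∈ B, CohSite.IsWeaklyContractible J U)
    (hcov : ∀ V : C, ∃ (ι : Type u) (U : ι → C) (f : ∀ i, U i ⟶ V),
      (∀ i, U i ∈ B) ∧ Sieve.ofArrows U f ∈ J V)
    (ι : Type u) {Xf Yf : Discrete ι ⥤ Sheaf J AddCommGrpCat.{u}} (α : Xf ⟶ Yf) [Epi α] :
    Epi (lim.map α) := by
  have hα : ∀ i : ι, Epi (α.app ⟨i⟩) := fun i => inferInstance
  suffices hls : Presheaf.IsLocallySurjective J (lim.map α).hom from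
    (Sheaf.isLocallySurjective_iff_epi' (φ := lim.map α)).mp hls
  constructor
  intro V s
  obtain ⟨κ, U, f, hUB, hUf⟩ := hcov V
  refine J.superset_covering ?_ hUf
  refine (Sieve.generate_le_iff _ _).mpr ?_
  rintro W g ⟨k⟩
  have hsurj : ∀ i : ι, Function.Surjective ((α.app ⟨i⟩).hom.app (op (U k))) := fun i =>
    surj_of_wc J (U k) (hB _ (hUB k)) (α.app ⟨i⟩)
  choose t ht using fun i => hsurj i
    ((limit.π Yf ⟨i⟩).hom.app (op (U k)) ((limit Yf).obj.map (f k).op s))
  obtain ⟨tt, htt⟩ := exists_section_of_family J Xf (U k) t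
  refine ⟨tt, ?_⟩
  apply section_ext J Yf (U k)
  intro i
  have hnat : lim.map α ≫ limit.π Yf ⟨i⟩ = limit.π Xf ⟨i⟩ ≫ α.app ⟨i⟩ := limMap_π α ⟨i⟩
  have h1 := congrArg (fun m => m.hom.app (op (U k)) tt) hnat
  refine h1.trans ?_
  exact (congrArg (fun z => (α.app ⟨i⟩).hom.app (op (U k)) z) (htt i)).trans (ht i)

theorem ab4Star_of_wc (B : Set C) (hB : ∀ U ∈ B, CohSite.IsWeaklyContractible J U)
    (hcov : ∀ V : C, ∃ (ι : Type u) (U : ι → C) (f : ∀ i, U i ⟶ V),
      (∀ i, U i ∈ B) ∧ Sieve.ofArrows U f ∈ J V) :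
    AB4Star (Sheaf J AddCommGrpCat.{u}) := by
  refine ⟨fun ι => ?_⟩
  apply +allowSynthFailures hasExactLimitsOfShape_of_preservesEpi
  exact { preserves := fun {X Y} α hα => preservesEpi_lim_of_wc J B hB hcov ι α }

end AB4

end Groth.Agent.H10.CohSiteA
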