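import Mathlib
import Groth.Prelude.Def_CohTop
import Groth.Agent.H10.CohTopB

/-!
# Cohomology classes die locally (helper10)
-/

set_option autoImplicit false
universe u
open CategoryTheory CategoryTheory.Limits Opposite TopologicalSpace CategoryTheory.Abelian
open AlgebraicGeometry

namespace Groth.Agent.H10.CohTopB

variable {X : TopCat.{u}}

theorem kill_on_cover : ∀ (n : ℕ) (F : CohTop.Ab X) (U : Opens X)
    (ξ : Ext.{u} ((freeFunctor X).obj U) F (n + 1)),
    ∃ (ι : Type u) (V : ι → Opens X) (hV : ∀ i, V i ≤ U), iSup V = U ∧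
      ∀ i, (Ext.mk₀ ((freeFunctor X).map (homOfLE (hV i)))).comp ξ (zero_add (n + 1)) = 0 := by
  intro n
  induction n with
  | zero =>
    intro F U ξ
    let S := ShortComplex.mk _ _ (cokernel.condition (Injective.ι F))
    have hS : S.ShortExact :=
      { exact := ShortComplex.exact_of_g_is_cokernel _ (cokernelIsCokernel S.f) }
    obtain ⟨η, hη⟩ := Ext.covariant_sequence_exact₁ _ hS ξ (Ext.eq_zero_of_injective _) rfl
    have hls : TopCat.Presheaf.IsLocallySurjective S.g.hom :=
      (TopCat.Sheaf.isLocallySurjective_iff_epi S.g).mpr hS.epi_g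
    have key := (TopCat.Presheaf.isLocallySurjective_iff _).mp hls U
      (secEquiv U S.X₃ (Ext.homEquiv₀ η))
    choose V hVU hV hxV using key
    refine ⟨↥U, fun x => V x.1 x.2, fun x => hVU x.1 x.2, ?_, fun x => ?_⟩
    · apply le_antisymm
      · exact iSup_le (fun x => hVU x.1 x.2)
      · intro y hy
        exact Opens.mem_iSup.mpr ⟨⟨y, hy⟩, hxV y hy⟩
    · obtain ⟨t, ht⟩ := hV x.1 x.2
      have e1 : (freeFunctor X).map (homOfLE (hVU x.1 x.2)) ≫ Ext.homEquiv₀ η =
          (secEquiv (V x.1 x.2) S.X₂).symm t ≫ S.g := by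
        apply (secEquiv (V x.1 x.2) S.X₃).injective
        rw [secEquiv_map, secEquiv_comp, Equiv.apply_symm_apply, ht]
        rfl
      have e2 : (Ext.mk₀ ((freeFunctor X).map (homOfLE (hVU x.1 x.2)))).comp η (zero_add 0) =
          (Ext.mk₀ ((secEquiv (V x.1 x.2) S.X₂).symm t)).comp (Ext.mk₀ S.g) (zero_add 0) := by
        rw [Ext.mk₀_comp_mk₀, ← e1, ← Ext.mk₀_comp_mk₀, Ext.mk₀_homEquiv₀_apply]
      calc (Ext.mk₀ ((freeFunctor X).map (homOfLE (hVU x.1 x.2)))).comp ξ (zero_add 1)
          = (Ext.mk₀ ((freeFunctor X).map (homOfLE (hVU x.1 x.2)))).comp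
              (η.comp hS.extClass rfl) (zero_add 1) := by rw [hη]
        _ = ((Ext.mk₀ ((freeFunctor X).map (homOfLE (hVU x.1 x.2)))).comp η
              (zero_add 0)).comp hS.extClass rfl :=
            (Ext.comp_assoc _ _ _ (zero_add 0) rfl (by lia)).symm
        _ = ((Ext.mk₀ ((secEquiv (V x.1 x.2) S.X₂).symm t)).comp (Ext.mk₀ S.g)
              (zero_add 0)).comp hS.extClass rfl := by rw [e2]
        _ = (Ext.mk₀ ((secEquiv (V x.1 x.2) S.X₂).symm t)).comp
              ((Ext.mk₀ S.g).comp hS.extClass (zero_add 1)) (zero_add 1) :=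
            Ext.comp_assoc _ _ _ (zero_add 0) (zero_add 1) (by lia)
        _ = 0 := by rw [hS.comp_extClass, Ext.comp_zero]
  | succ n ih =>
    intro F U ξ
    let S := ShortComplex.mk _ _ (cokernel.condition (Injective.ι F))
    have hS : S.ShortExact :=
      { exact := ShortComplex.exact_of_g_is_cokernel _ (cokernelIsCokernel S.f) }
    obtain ⟨η, hη⟩ := Ext.covariant_sequence_exact₁ _ hS ξ (Ext.eq_zero_of_injective _) rfl
    obtain ⟨ι, V, hV, hsup, hzero⟩ := ih S.X₃ U η
    refine ⟨ι, V, hV, hsup, fun i => ?_⟩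
    calc (Ext.mk₀ ((freeFunctor X).map (homOfLE (hV i)))).comp ξ (zero_add (n + 1 + 1))
        = (Ext.mk₀ ((freeFunctor X).map (homOfLE (hV i)))).comp
            (η.comp hS.extClass rfl) (zero_add (n + 1 + 1)) := by rw [hη]
      _ = ((Ext.mk₀ ((freeFunctor X).map (homOfLE (hV i)))).comp η
            (zero_add (n + 1))).comp hS.extClass rfl :=
          (Ext.comp_assoc _ _ _ (zero_add (n + 1)) rfl (by lia)).symm
      _ = 0 := by rw [hzero i, Ext.zero_comp]

end Groth.Agent.H10.CohTopB
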