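import Mathlib
import Groth.Prelude.Def_CohTop
import Groth.Agent.H10.CohTopB
import Groth.Agent.H10.CohTopD

/-!
# Profinite spaces have no higher sheaf cohomology (helper10)
-/

set_option autoImplicit false
universe u
open CategoryTheory CategoryTheory.Limits Opposite TopologicalSpace CategoryTheory.Abelian

namespace Groth.Agent.H10.CohTopB

variable {X : TopCat.{u}}

/-- on a profinite space, an epimorphism of abelian sheaves is surjective on global sections -/
theorem profinite_sections_surjective [CompactSpace X] [T2Space X] [TotallyDisconnectedSpace X]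
    {F₂ F₃ : CohTop.Ab X} (g : F₂ ⟶ F₃) (hg : Epi g) (t : F₃.obj.obj (op ⊤)) :
    ∃ s : F₂.obj.obj (op ⊤), g.hom.app (op ⊤) s = t := by
  classical
  have hls : TopCat.Presheaf.IsLocallySurjective g.hom :=
    (TopCat.Sheaf.isLocallySurjective_iff_epi g).mpr hg
  have h1 : ∀ x : X, ∃ (V : Opens X), IsClosed (V : Set X) ∧ x ∈ V ∧
      ∃ s : F₂.obj.obj (op V), g.hom.app (op V) s =
        F₃.obj.map (homOfLE (le_top : V ≤ ⊤)).op t := by
    intro x
    obtain ⟨V', hV'le, ⟨s', hs'⟩, hxV'⟩ :=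
      (TopCat.Presheaf.isLocallySurjective_iff _).mp hls ⊤ t x trivial
    obtain ⟨V, hVclopen, hxV, hVV'⟩ := compact_exists_isClopen_in_isOpen V'.isOpen hxV'
    let Vo : Opens X := ⟨V, hVclopen.isOpen⟩
    have hle : Vo ≤ V' := hVV'
    refine ⟨Vo, hVclopen.isClosed, hxV, F₂.obj.map (homOfLE hle).op s', ?_⟩
    have hn := NatTrans.naturality_apply g.hom (homOfLE hle).op s'
    rw [hn, hs']
    show F₃.obj.map (homOfLE hle).op (F₃.obj.map (homOfLE hV'le).op t) = _
    rw [← Functor.map_comp_apply]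
    exact congrArg (fun i => F₃.obj.map i t) (Subsingleton.elim _ _)
  choose V hVcl hxV s hs using h1
  obtain ⟨tfin, htfin⟩ := isCompact_univ.elim_finite_subcover (fun x => (V x : Set X))
    (fun x => (V x).isOpen) (fun x _ => Set.mem_iUnion.2 ⟨x, hxV x⟩)
  let I := {x : X // x ∈ tfin}
  obtain ⟨C, hCclopen, -, hCD, hcover, hdisj⟩ :=
    exists_clopen_partition_of_clopen_cover (I := I) (Z := fun _ => (∅ : Set X))
      (D := fun i => (V i.1 : Set X)) (fun _ => isClosed_empty)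
      (fun i => ⟨hVcl i.1, (V i.1).isOpen⟩) (fun _ => Set.empty_subset _)
      (fun i _ j _ _ => Set.empty_disjoint _)
  let Co : I → Opens X := fun i => ⟨C i, (hCclopen i).isOpen⟩
  have hCoV : ∀ i : I, Co i ≤ V i.1 := fun i => hCD i
  let sf : ∀ i : I, F₂.obj.obj (op (Co i)) := fun i =>
    F₂.obj.map (homOfLE (hCoV i)).op (s i.1)
  have hcompat : TopCat.Presheaf.IsCompatible F₂.obj Co sf := by
    intro i j
    by_cases hij : i = j
    · subst hij
      rfl
    · have hemp : ((Co i ⊓ Co j : Opens X) : Set X) = ∅ := by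
        have := hdisj (Set.mem_univ i) (Set.mem_univ j) hij
        exact Set.disjoint_iff_inter_eq_empty.mp this
      have := subsingleton_of_isEmpty F₂ (Co i ⊓ Co j) hemp
      exact Subsingleton.elim _ _
  have hcov : (⊤ : Opens X) ≤ iSup Co := by
    intro x _
    have hx : x ∈ ⋃ i : I, (V i.1 : Set X) := by
      have := htfin (Set.mem_univ x)
      obtain ⟨y, hy⟩ := Set.mem_iUnion.1 this
      obtain ⟨hyt, hxy⟩ := Set.mem_iUnion.1 hy
      exact Set.mem_iUnion.2 ⟨⟨y, hyt⟩, hxy⟩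
    obtain ⟨i, hi⟩ := Set.mem_iUnion.1 (hcover hx)
    exact Opens.mem_iSup.2 ⟨i, hi⟩
  obtain ⟨sg, hsg, -⟩ :=
    TopCat.Sheaf.existsUnique_gluing' F₂ Co ⊤ (fun i => homOfLE le_top) hcov sf hcompat
  refine ⟨sg, ?_⟩
  refine TopCat.Sheaf.eq_of_locally_eq' F₃ Co ⊤ (fun i => homOfLE le_top) hcov _ _ ?_
  intro i
  show F₃.obj.map (homOfLE (le_top : Co i ≤ ⊤)).op (g.hom.app (op ⊤) sg) =
    F₃.obj.map (homOfLE (le_top : Co i ≤ ⊤)).op t
  have hn1 := NatTrans.naturality_apply g.hom (homOfLE (le_top : Co i ≤ ⊤)).op sg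
  have hn2 := NatTrans.naturality_apply g.hom (homOfLE (hCoV i)).op (s i.1)
  have hsg' : F₂.obj.map (homOfLE (le_top : Co i ≤ ⊤)).op sg = sf i := hsg i
  rw [← hn1, hsg']
  show g.hom.app (op (Co i)) (F₂.obj.map (homOfLE (hCoV i)).op (s i.1)) = _
  rw [hn2, hs i.1, ← Functor.map_comp_apply]
  exact congrArg (fun k => F₃.obj.map k t) (Subsingleton.elim _ _)

lemma profinite_lift_const [CompactSpace X] [T2Space X] [TotallyDisconnectedSpace X]
    (S : ShortComplex (CohTop.Ab X)) (hS : S.ShortExact)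
    (_h1 : (fun _ : CohTop.Ab X => True) S.X₁)
    (φ : (constantSheaf (Opens.grothendieckTopology X) AddCommGrpCat.{u}).obj
      (AddCommGrpCat.of (ULift ℤ)) ⟶ S.X₃) :
    ∃ ψ : (constantSheaf (Opens.grothendieckTopology X) AddCommGrpCat.{u}).obj
      (AddCommGrpCat.of (ULift ℤ)) ⟶ S.X₂, ψ ≫ S.g = φ := by
  have hT : IsTerminal (⊤ : Opens X) := isTerminalTop
  have hepi : Epi S.g := hS.epi_g
  obtain ⟨t, ht⟩ := profinite_sections_surjective S.g hepi
    (Sheaf.H.equiv₀.{u} S.X₃ hT (Ext.mk₀ φ))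
  refine ⟨Ext.homEquiv₀ ((Sheaf.H.equiv₀.{u} S.X₂ hT).symm t), ?_⟩
  apply (Ext.mk₀_bijective _ _).injective
  rw [← Ext.mk₀_comp_mk₀, Ext.mk₀_homEquiv₀_apply]
  have h := Sheaf.H.equiv₀_symm_naturality.{u} hT S.g t
  rw [ht, AddEquiv.symm_apply_apply] at h
  exact h

/-- profinite spaces have no higher cohomology -/
theorem profinite_ext_const_eq_zero [CompactSpace X] [T2Space X] [TotallyDisconnectedSpace X]
    (n : ℕ) (F : CohTop.Ab X) (x : CohTop.H F (n + 1)) : x = 0 :=
  Acyc.ext_eq_zero_of_class (fun _ : CohTop.Ab X => True) _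
    (fun _ _ => trivial) (fun _ _ _ _ => trivial) profinite_lift_const n F trivial x

end Groth.Agent.H10.CohTopB
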