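import Mathlib
import Groth.Prelude.Def_CohTop
import Groth.Agent.H10.CohTopB
import Groth.Agent.H10.CohTopD

/-!
# Constant sheaves on irreducible spaces are flasque (helper10)
-/

set_option autoImplicit false
universe u
open CategoryTheory CategoryTheory.Limits Opposite TopologicalSpace

namespace Groth.Agent.H10.CohTopB

variable {X : TopCat.{u}}

/-- constant presheaf -/
noncomputable abbrev constP (X : TopCat.{u}) (A : Type u) [AddCommGroup A] :
    (Opens X)ᵒᵖ ⥤ AddCommGrpCat.{u} := (Functor.const _).obj (AddCommGrpCat.of A)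

/-- unit of sheafification of the constant presheaf -/
noncomputable abbrev constη (X : TopCat.{u}) (A : Type u) [AddCommGroup A] :
    constP X A ⟶ (CohTop.const X A).obj :=
  toSheafify (Opens.grothendieckTopology X) (constP X A)

lemma constη_injective (A : Type u) [AddCommGroup A] (W : Opens X) (hW : (W : Set X).Nonempty)
    (a b : A) (h : (constη X A).app (op W) a = (constη X A).app (op W) b) : a = b := by
  have hLI : Presheaf.IsLocallyInjective (Opens.grothendieckTopology X) (constη X A) :=
    (inferInstance : Presheaf.IsLocallyInjective (Opens.grothendieckTopology X)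
      (toSheafify (Opens.grothendieckTopology X) (constP X A)))
  have hmem := Presheaf.equalizerSieve_mem (J := Opens.grothendieckTopology X)
    (φ := constη X A) (X := op W) a b h
  obtain ⟨w, hw⟩ := hW
  obtain ⟨V, f, hf, -⟩ := hmem w hw
  exact hf

lemma constη_locally (A : Type u) [AddCommGroup A] (V : Opens X)
    (s : (CohTop.const X A).obj.obj (op V)) (x : X) (hx : x ∈ V) :
    ∃ (V' : Opens X) (h : V' ≤ V), x ∈ V' ∧ ∃ a : A,
      (constη X A).app (op V') a = (CohTop.const X A).obj.map (homOfLE h).op s := by
  have hLS : TopCat.Presheaf.IsLocallySurjective (constη X A) :=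
    (inferInstance : Presheaf.IsLocallySurjective (Opens.grothendieckTopology X)
      (toSheafify (Opens.grothendieckTopology X) (constP X A)))
  obtain ⟨V', hV', ⟨a, ha⟩, hxV'⟩ :=
    (TopCat.Presheaf.isLocallySurjective_iff _).mp hLS V s x hx
  exact ⟨V', hV', hxV', a, ha⟩

instance const_isFlasque [IrreducibleSpace X] (A : Type u) [AddCommGroup A] :
    TopCat.Sheaf.IsFlasque (CohTop.const X A) where
  epi {U V} i := by
    refine (AddCommGrpCat.epi_iff_surjective _).mpr (fun s => ?_)
    by_cases hV : ((V.unop : Opens X) : Set X) = ∅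
    · have := subsingleton_of_isEmpty (CohTop.const X A) V.unop hV
      exact ⟨0, Subsingleton.elim _ _⟩
    · have hVne : ((V.unop : Opens X) : Set X).Nonempty := Set.nonempty_iff_ne_empty.mpr hV
      obtain ⟨x₀, hx₀⟩ := hVne
      obtain ⟨V₀, hV₀, hx₀V₀, a, ha⟩ := constη_locally A V.unop s x₀ hx₀
      refine ⟨(constη X A).app U a, ?_⟩
      have hnat := NatTrans.naturality_apply (constη X A) i a
      rw [← hnat]
      show (constη X A).app V a = s
      have hloc : ∀ x : {x : X // x ∈ V.unop}, ∃ (V' : Opens X) (h : V' ≤ V.unop),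
          x.1 ∈ V' ∧ ∃ a' : A, (constη X A).app (op V') a' =
            (CohTop.const X A).obj.map (homOfLE h).op s :=
        fun x => constη_locally A V.unop s x.1 x.2
      choose Vx hVx hxVx ax hax using hloc
      have hax_eq : ∀ x, ax x = a := by
        intro x
        have hWne : ((Vx x ⊓ V₀ : Opens X) : Set X).Nonempty :=
          nonempty_preirreducible_inter (Vx x).isOpen V₀.isOpen ⟨x.1, hxVx x⟩ ⟨x₀, hx₀V₀⟩
        apply constη_injective A (Vx x ⊓ V₀) hWne
        have h1 := NatTrans.naturality_apply (constη X A)
          (homOfLE (inf_le_left : Vx x ⊓ V₀ ≤ Vx x)).op (ax x)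
        have h2 := NatTrans.naturality_apply (constη X A)
          (homOfLE (inf_le_right : Vx x ⊓ V₀ ≤ V₀)).op a
        calc (constη X A).app (op (Vx x ⊓ V₀)) (ax x)
            = (CohTop.const X A).obj.map (homOfLE (inf_le_left : Vx x ⊓ V₀ ≤ Vx x)).op
                ((constη X A).app (op (Vx x)) (ax x)) := h1
          _ = (CohTop.const X A).obj.map (homOfLE (inf_le_left : Vx x ⊓ V₀ ≤ Vx x)).op
                ((CohTop.const X A).obj.map (homOfLE (hVx x)).op s) := by rw [hax x]
          _ = (CohTop.const X A).obj.map (homOfLE (inf_le_right : Vx x ⊓ V₀ ≤ V₀)).op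
                ((CohTop.const X A).obj.map (homOfLE hV₀).op s) := by
              rw [← Functor.map_comp_apply, ← Functor.map_comp_apply]
              exact congrArg (fun k => (CohTop.const X A).obj.map k s) (Subsingleton.elim _ _)
          _ = (CohTop.const X A).obj.map (homOfLE (inf_le_right : Vx x ⊓ V₀ ≤ V₀)).op
                ((constη X A).app (op V₀) a) := by rw [ha]
          _ = (constη X A).app (op (Vx x ⊓ V₀)) a := h2.symm
      refine TopCat.Sheaf.eq_of_locally_eq' (CohTop.const X A) Vx V.unop
        (fun x => homOfLE (hVx x)) ?_ _ _ ?_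
      · intro y hy
        exact Opens.mem_iSup.2 ⟨⟨y, hy⟩, hxVx ⟨y, hy⟩⟩
      · intro x
        show (CohTop.const X A).obj.map (homOfLE (hVx x)).op ((constη X A).app V a) =
          (CohTop.const X A).obj.map (homOfLE (hVx x)).op s
        have h3 := NatTrans.naturality_apply (constη X A) (homOfLE (hVx x)).op a
        rw [← hax x, hax_eq x]
        exact h3.symm

theorem irreducible_const_ext_eq_zero [IrreducibleSpace X] (A : Type u) [AddCommGroup A] (p : ℕ)
    (x : CohTop.H (CohTop.const X A) (p + 1)) : x = 0 :=
  ext_const_eq_zero p (CohTop.const X A) x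

end Groth.Agent.H10.CohTopB
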