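import Mathlib
import Groth.Prelude.Def_CohTop
import Groth.Agent.H10.CohTopG
import Groth.Agent.H10.CohTopE

/-!
# Subsheaves of the constant sheaf `ℤ` on an irreducible space (helper10)
-/

set_option autoImplicit false
universe u
open CategoryTheory CategoryTheory.Limits Opposite TopologicalSpace

namespace Groth.Agent.H10.CohTopB

variable {X : TopCat.{u}}

/-- on an irreducible space, every section of the constant sheaf over a nonempty open is constant -/
lemma const_section_eq [IrreducibleSpace X] (A : Type u) [AddCommGroup A] (V : Opens X)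
    (hVne : (V : Set X).Nonempty) (s : (CohTop.const X A).obj.obj (op V)) :
    ∃ a : A, (constη X A).app (op V) a = s := by
  obtain ⟨x₀, hx₀⟩ := hVne
  obtain ⟨V₀, hV₀, hx₀V₀, a, ha⟩ := constη_locally A V s x₀ hx₀
  refine ⟨a, ?_⟩
  have hloc : ∀ x : {x : X // x ∈ V}, ∃ (V' : Opens X) (h : V' ≤ V),
      x.1 ∈ V' ∧ ∃ a' : A, (constη X A).app (op V') a' =
        (CohTop.const X A).obj.map (homOfLE h).op s :=
    fun x => constη_locally A V s x.1 x.2
  choose Vx hVx hxVx ax hax using hloc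
  have hax_eq : ∀ x, ax x = a := by
    intro x
    have hWne : ((Vx x ⊓ V₀ : Opens X) : Set X).Nonempty :=
      nonempty_preirreducible_inter (Vx x).isOpen V₀.isOpen ⟨x.1, hxVx x⟩ ⟨x₀, hx₀V₀⟩
    apply constη_injective A (Vx x ⊓ V₀) hWne
    have h1 := NatTrans.naturality_apply (constη X A)
      (homOfLE (inf_le_left : Vx x ⊓ V₀ ≤ Vx x)).op (ax x)
    have h2 := NatTrans.naturality_apply (constη X A)
      (homOfLE (inf_le_right : Vx x ⊓ V₀ ≤ V₀)).op a
    calc (constη X A).app (op (Vx x ⊓ V₀)) (ax x)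
        = (CohTop.const X A).obj.map (homOfLE (inf_le_left : Vx x ⊓ V₀ ≤ Vx x)).op
            ((constη X A).app (op (Vx x)) (ax x)) := h1
      _ = (CohTop.const X A).obj.map (homOfLE (inf_le_left : Vx x ⊓ V₀ ≤ Vx x)).op
            ((CohTop.const X A).obj.map (homOfLE (hVx x)).op s) := by rw [hax x]
      _ = (CohTop.const X A).obj.map (homOfLE (inf_le_right : Vx x ⊓ V₀ ≤ V₀)).op
            ((CohTop.const X A).obj.map (homOfLE hV₀).op s) := by
          rw [← Functor.map_comp_apply, ← Functor.map_comp_apply]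
          exact congrArg (fun k => (CohTop.const X A).obj.map k s) (Subsingleton.elim _ _)
      _ = (CohTop.const X A).obj.map (homOfLE (inf_le_right : Vx x ⊓ V₀ ≤ V₀)).op
            ((constη X A).app (op V₀) a) := by rw [ha]
      _ = (constη X A).app (op (Vx x ⊓ V₀)) a := h2.symm
  refine TopCat.Sheaf.eq_of_locally_eq' (CohTop.const X A) Vx V
    (fun x => homOfLE (hVx x)) ?_ _ _ ?_
  · intro y hy
    exact Opens.mem_iSup.2 ⟨⟨y, hy⟩, hxVx ⟨y, hy⟩⟩
  · intro x
    show (CohTop.const X A).obj.map (homOfLE (hVx x)).op ((constη X A).app (op V) a) =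
      (CohTop.const X A).obj.map (homOfLE (hVx x)).op s
    have h3 := NatTrans.naturality_apply (constη X A) (homOfLE (hVx x)).op a
    rw [← hax x, hax_eq x]
    exact h3.symm

/-- the subgroup of integers `n` such that the constant section `n` over `V` comes from `H` -/
noncomputable def Gsub (H : CohTop.Ab X) (ι : H ⟶ CohTop.const X (ULift.{u} ℤ)) (V : Opens X) :
    AddSubgroup ℤ :=
  (AddMonoidHom.range (ι.hom.app (op V)).hom).comap
    (((constη X (ULift.{u} ℤ)).app (op V)).hom.comp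
      (AddEquiv.ulift (α := ℤ)).symm.toAddMonoidHom)

lemma mem_Gsub (H : CohTop.Ab X) (ι : H ⟶ CohTop.const X (ULift.{u} ℤ)) (V : Opens X) (n : ℤ) :
    n ∈ Gsub H ι V ↔ ∃ h : H.obj.obj (op V),
      ι.hom.app (op V) h = (constη X (ULift.{u} ℤ)).app (op V) (ULift.up n) := Iff.rfl

lemma Gsub_mono (H : CohTop.Ab X) (ι : H ⟶ CohTop.const X (ULift.{u} ℤ)) {V' V : Opens X}
    (hle : V' ≤ V) : Gsub H ι V ≤ Gsub H ι V' := by
  intro n hn
  obtain ⟨h, hh⟩ := (mem_Gsub H ι V n).mp hn
  refine (mem_Gsub H ι V' n).mpr ⟨H.obj.map (homOfLE hle).op h, ?_⟩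
  have h1 := NatTrans.naturality_apply ι.hom (homOfLE hle).op h
  have h2 := NatTrans.naturality_apply (constη X (ULift.{u} ℤ)) (homOfLE hle).op (ULift.up n)
  rw [h1, hh]
  exact h2.symm

theorem subsheaf_const_aux [IrreducibleSpace X] (H : CohTop.Ab X)
    (ι : H ⟶ CohTop.const X (ULift.{u} ℤ)) :
    ∃ (U : Opens X) (d : ℤ), (U : Set X).Nonempty ∧
      (∀ (V : Opens X), V ≤ U → ∀ z : (CohTop.const X (ULift.{u} ℤ)).obj.obj (op V),
          ∃ h : H.obj.obj (op V), ι.hom.app (op V) h = d • z) ∧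
      (∀ (V : Opens X), V ≤ U → ∀ h : H.obj.obj (op V),
          ∃ z : (CohTop.const X (ULift.{u} ℤ)).obj.obj (op V), ι.hom.app (op V) h = d • z) := by
  classical
  have hI : Nonempty {V : Opens X // (V : Set X).Nonempty} := by
    obtain ⟨x⟩ := (inferInstance : Nonempty X)
    exact ⟨⟨⊤, ⟨x, trivial⟩⟩⟩
  let K : {V : Opens X // (V : Set X).Nonempty} → AddSubgroup ℤ := fun V => Gsub H ι V.1
  have hdir : Directed (· ≤ ·) K := by
    intro V W
    refine ⟨⟨V.1 ⊓ W.1, nonempty_preirreducible_inter V.1.isOpen W.1.isOpen V.2 W.2⟩, ?_, ?_⟩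
    · exact Gsub_mono H ι inf_le_left
    · exact Gsub_mono H ι inf_le_right
  obtain ⟨d, hd⟩ := Int.subgroup_cyclic (iSup K)
  rw [← AddSubgroup.zmultiples_eq_closure] at hd
  have hmem : ∀ n, n ∈ iSup K ↔ d ∣ n := by
    intro n
    rw [hd]
    exact Int.mem_zmultiples_iff
  have hdmem : d ∈ iSup K := (hmem d).mpr dvd_rfl
  obtain ⟨U, hU⟩ := (AddSubgroup.mem_iSup_of_directed hdir).mp hdmem
  have hGV : ∀ (V : Opens X), V ≤ U.1 → (V : Set X).Nonempty →
      ∀ n, n ∈ Gsub H ι V ↔ d ∣ n := by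
    intro V hVU hVne n
    constructor
    · intro hn
      exact (hmem n).mp (le_iSup K ⟨V, hVne⟩ hn)
    · rintro ⟨k, rfl⟩
      have hk := (Gsub H ι V).zsmul_mem (Gsub_mono H ι hVU hU) k
      rwa [smul_eq_mul, mul_comm] at hk
  refine ⟨U.1, d, U.2, ?_, ?_⟩
  · intro V hVU z
    by_cases hV : (V : Set X) = ∅
    · have := subsingleton_of_isEmpty (CohTop.const X (ULift.{u} ℤ)) V hV
      exact ⟨0, Subsingleton.elim _ _⟩
    · have hVne : (V : Set X).Nonempty := Set.nonempty_iff_ne_empty.mpr hV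
      obtain ⟨⟨a⟩, rfl⟩ := const_section_eq (ULift.{u} ℤ) V hVne z
      obtain ⟨h, hh⟩ := (mem_Gsub H ι V (d * a)).mp
        ((hGV V hVU hVne (d * a)).mpr (dvd_mul_right d a))
      have e1 : (ULift.up (d * a) : ULift.{u} ℤ) = d • ULift.up a := by
        apply ULift.down_injective
        simp
      have e2 := map_zsmul ((constη X (ULift.{u} ℤ)).app (op V)).hom d (ULift.up a)
      refine ⟨h, hh.trans ?_⟩
      rw [e1]
      exact e2
  · intro V hVU h
    by_cases hV : (V : Set X) = ∅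
    · have := subsingleton_of_isEmpty (CohTop.const X (ULift.{u} ℤ)) V hV
      exact ⟨0, Subsingleton.elim _ _⟩
    · have hVne : (V : Set X).Nonempty := Set.nonempty_iff_ne_empty.mpr hV
      obtain ⟨⟨n⟩, hn⟩ := const_section_eq (ULift.{u} ℤ) V hVne (ι.hom.app (op V) h)
      have hnG : n ∈ Gsub H ι V := (mem_Gsub H ι V n).mpr ⟨h, hn.symm⟩
      obtain ⟨k, rfl⟩ := (hGV V hVU hVne n).mp hnG
      have e1 : (ULift.up (d * k) : ULift.{u} ℤ) = d • ULift.up k := by
        apply ULift.down_injective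
        simp
      have e2 := map_zsmul ((constη X (ULift.{u} ℤ)).app (op V)).hom d (ULift.up k)
      refine ⟨(constη X (ULift.{u} ℤ)).app (op V) (ULift.up k), hn.symm.trans ?_⟩
      rw [e1]
      exact e2

lemma jF_le (U : Opens X) (W : Opens (TopCat.of U)) : (jF U).obj W ≤ U := by
  rintro _ ⟨y, -, rfl⟩
  exact y.2

section Eval

variable {Y : TopCat.{u}}

/-- evaluation of sheaf homs at a section, additive -/
noncomputable def evHom {F G : CohTop.Ab Y} (W : (Opens Y)ᵒᵖ) (z : F.obj.obj W) :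
    (F ⟶ G) →+ G.obj.obj W :=
  AddMonoidHom.mk' (fun φ => φ.hom.app W z) (fun a b => by rfl)

lemma zero_app_apply {F G : CohTop.Ab Y} (W : (Opens Y)ᵒᵖ) (z : F.obj.obj W) :
    (0 : F ⟶ G).hom.app W z = 0 :=
  map_zero (evHom (G := G) W z)

lemma zsmul_id_app {Z : CohTop.Ab Y} (d : ℤ) (W : (Opens Y)ᵒᵖ) (z : Z.obj.obj W) :
    (d • 𝟙 Z).hom.app W z = d • z :=
  map_zsmul (evHom (G := Z) W z) d (𝟙 Z)

theorem imageSubobject_eq_of_sections {H Z : CohTop.Ab Y} (m : H ⟶ Z) (g : Z ⟶ Z)
    [Mono m]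
    (hA : ∀ (W : (Opens Y)ᵒᵖ) (z : Z.obj.obj W),
      ∃ h : H.obj.obj W, m.hom.app W h = g.hom.app W z)
    (hB : ∀ (W : (Opens Y)ᵒᵖ) (h : H.obj.obj W),
      ∃ z : Z.obj.obj W, m.hom.app W h = g.hom.app W z) :
    imageSubobject m = imageSubobject g := by
  have hzero : g ≫ cokernel.π m = 0 := by
    apply Sheaf.hom_ext
    apply NatTrans.ext
    funext W
    apply ConcreteCategory.hom_ext
    intro z
    obtain ⟨h, hh⟩ := hA W z
    have h1 : (m ≫ cokernel.π m).hom.app W h = 0 := by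
      rw [cokernel.condition]
      exact zero_app_apply W h
    show (cokernel.π m).hom.app W (g.hom.app W z) = (0 : Z ⟶ cokernel m).hom.app W z
    rw [zero_app_apply, ← hh]
    exact h1
  let β : Z ⟶ H := Abelian.monoLift m g hzero
  have hβ : β ≫ m = g := Abelian.monoLift_comp m g hzero
  have hminj : ∀ W : (Opens Y)ᵒᵖ, Function.Injective (m.hom.app W) := by
    intro W
    have h1 : Mono m.hom := (Sheaf.Hom.mono_iff_presheaf_mono _ _ m).mp inferInstance
    have h2 : Mono (m.hom.app W) := (NatTrans.mono_iff_mono_app m.hom).mp h1 W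
    exact (AddCommGrpCat.mono_iff_injective _).mp h2
  have hβsurj : ∀ W : (Opens Y)ᵒᵖ, Function.Surjective (β.hom.app W) := by
    intro W h
    obtain ⟨z, hz⟩ := hB W h
    refine ⟨z, hminj W ?_⟩
    have h3 : (β ≫ m).hom.app W z = g.hom.app W z := by rw [hβ]
    exact h3.trans hz.symm
  have hβepi : Epi β := by
    refine (TopCat.Sheaf.isLocallySurjective_iff_epi β).mp ?_
    exact Presheaf.isLocallySurjective_of_surjective _ _ hβsurj
  rw [imageSubobject_mono m]
  apply le_antisymm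
  · have sq : CommSq (factorThruImageSubobject g) β (imageSubobject g).arrow m :=
      ⟨by rw [imageSubobject_arrow_comp, hβ]⟩
    have : StrongEpi β := strongEpi_of_epi β
    have : HasLiftingProperty β (imageSubobject g).arrow := StrongEpi.llp _
    have : sq.HasLift := HasLiftingProperty.sq_hasLift sq
    exact Subobject.mk_le_of_comm sq.lift sq.fac_right
  · exact imageSubobject_le_mk m g β hβ

end Eval

end Groth.Agent.H10.CohTopB
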