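import Mathlib
import Groth.Prelude.Def_CohTop
import Groth.Agent.H10.CohTopD
import Groth.Agent.H10.DerRes2

/-!
# Degenerate Leray comparison for abelian sheaves on spaces (helper10)
-/

set_option autoImplicit false
universe u
open CategoryTheory CategoryTheory.Limits Opposite TopologicalSpace

namespace Groth.Agent.H10.CohTopB

/-- an isomorphism of sheaves induces an additive equivalence on sections -/
noncomputable def sectionsAddEquiv {Y : TopCat.{u}} {A B : CohTop.Ab Y} (θ : A ≅ B)
    (W : (Opens Y)ᵒᵖ) : A.obj.obj W ≃+ B.obj.obj W :=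
  { toFun := fun x => θ.hom.hom.app W x
    invFun := fun x => θ.inv.hom.app W x
    left_inv := fun x => by
      show (θ.hom ≫ θ.inv).hom.app W x = x
      rw [θ.hom_inv_id]
      rfl
    right_inv := fun x => by
      show (θ.inv ≫ θ.hom).hom.app W x = x
      rw [θ.inv_hom_id]
      rfl
    map_add' := fun x y => map_add _ x y }

theorem leray_degenerate_base {X Y : TopCat.{u}} (f : X ⟶ Y) (F : CohTop.Ab X)
    (h : ∀ p q : ℕ, Subsingleton (CohTop.H ((CohTop.Rpush f q).obj F) (p + 1))) (q : ℕ) :
    Nonempty (CohTop.H F q ≃+ ((CohTop.Rpush f q).obj F).obj.obj (op ⊤)) := by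
  have hpl : PreservesLimits (CohTop.push f) :=
    (TopCat.Sheaf.pullbackPushforwardAdjunction AddCommGrpCat.{u} f).rightAdjoint_preservesLimits
  have hfl : PreservesFiniteLimits (CohTop.push f) := inferInstance
  have hTX : IsTerminal (⊤ : Opens X) := isTerminalTop
  have hTY : IsTerminal (⊤ : Opens Y) := isTerminalTop
  let I : InjectiveResolution F := injectiveResolution F
  cases q with
  | zero =>
    let θ : (CohTop.Rpush f 0).obj F ≅ (CohTop.push f).obj F :=
      (Functor.rightDerivedZeroIsoSelf (CohTop.push f)).app F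
    exact ⟨(Sheaf.H.equiv₀.{u} F hTX).trans (sectionsAddEquiv θ.symm (op ⊤))⟩
  | succ k =>
    obtain ⟨θ⟩ := DerRes.nonempty_rightDerived_iso_cokernel (CohTop.push f) I k
    let θ₀ : (CohTop.Rpush f 0).obj F ≅ (CohTop.push f).obj F :=
      (Functor.rightDerivedZeroIsoSelf (CohTop.push f)).app F
    obtain ⟨E⟩ := DerRes.ext_addEquiv_coker.{u, u} (CohTop.push f) I
      ((constantSheaf (Opens.grothendieckTopology X) AddCommGrpCat.{u}).obj
        (AddCommGrpCat.of (ULift.{u} ℤ)))
      ((constantSheaf (Opens.grothendieckTopology Y) AddCommGrpCat.{u}).obj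
        (AddCommGrpCat.of (ULift.{u} ℤ)))
      (fun A => (Sheaf.H.equiv₀.{u} A hTX).trans
        (Sheaf.H.equiv₀.{u} ((CohTop.push f).obj A) hTY).symm)
      (by
        intro A A' g x
        have h1 := Sheaf.H.equiv₀_naturality.{u} hTX g x
        have h2 := Sheaf.H.equiv₀_symm_naturality.{u} hTY ((CohTop.push f).map g)
          (Sheaf.H.equiv₀.{u} A hTX x)
        exact (congrArg (Sheaf.H.equiv₀.{u} ((CohTop.push f).obj A') hTY).symm h1.symm).trans
          h2.symm)
      (by
        intro j n x
        have hJ : TopCat.Sheaf.IsFlasque (I.cocomplex.X j) := isFlasque_of_injective _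
        have hJ' : TopCat.Sheaf.IsFlasque ((CohTop.push f).obj (I.cocomplex.X j)) :=
          inferInstance
        exact ext_const_eq_zero n _ x)
      (by
        intro n x
        have hs := h n 0
        exact DerRes.ext_eq_zero_of_iso _ θ₀ (fun y => Subsingleton.elim _ _) x)
      (by
        intro j n x
        obtain ⟨θj⟩ := DerRes.nonempty_rightDerived_iso_cokernel (CohTop.push f) I j
        have hs := h n (j + 1)
        exact DerRes.ext_eq_zero_of_iso _ θj (fun y => Subsingleton.elim _ _) x)
      k
    exact ⟨E.trans ((Sheaf.H.equiv₀.{u} _ hTY).trans (sectionsAddEquiv θ.symm (op ⊤)))⟩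

end Groth.Agent.H10.CohTopB
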