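import Mathlib
import Groth.Prelude.Def_CohTop
import Groth.Agent.H10.CohTopE
import Groth.Agent.H10.CohTopI

/-!
# Higher direct images as sheafified cohomology presheaves (helper10)
-/

set_option autoImplicit false
universe u
open CategoryTheory CategoryTheory.Limits Opposite TopologicalSpace CategoryTheory.Abelian

namespace Groth.Agent.H10.CohTopB

section ShCoker

variable {Y : TopCat.{u}}

theorem nonempty_iso_sheafify_of_bijective {B : CohTop.Ab Y}
    {P : (Opens Y)ᵒᵖ ⥤ AddCommGrpCat.{u}} (τ : B.obj ⟶ P)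
    (hτ : ∀ V, Function.Bijective (τ.app V)) :
    Nonempty (B ≅ (presheafToSheaf (Opens.grothendieckTopology Y) AddCommGrpCat.{u}).obj P) := by
  have h1 : ∀ V, IsIso (τ.app V) := fun V =>
    (ConcreteCategory.isIso_iff_bijective _).mpr (hτ V)
  have h2 : IsIso τ := NatIso.isIso_of_isIso_app τ
  exact ⟨(sheafificationNatIso (Opens.grothendieckTopology Y) AddCommGrpCat.{u}).app B ≪≫
    (presheafToSheaf (Opens.grothendieckTopology Y) AddCommGrpCat.{u}).mapIso (asIso τ)⟩

theorem nonempty_cokernel_iso_sheafify {B₁ B₂ : CohTop.Ab Y} (ψ : B₁ ⟶ B₂)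
    {P : (Opens Y)ᵒᵖ ⥤ AddCommGrpCat.{u}} (τ : B₂.obj ⟶ P)
    (h0 : ∀ (V : (Opens Y)ᵒᵖ) (t : B₁.obj.obj V), τ.app V (ψ.hom.app V t) = 0)
    (hs : ∀ V : (Opens Y)ᵒᵖ, Function.Surjective (τ.app V))
    (hk : ∀ (V : (Opens Y)ᵒᵖ) (s : B₂.obj.obj V), τ.app V s = 0 →
      ∃ t : B₁.obj.obj V, ψ.hom.app V t = s) :
    Nonempty (cokernel ψ ≅
      (presheafToSheaf (Opens.grothendieckTopology Y) AddCommGrpCat.{u}).obj P) := by
  have hz : ψ.hom ≫ τ = 0 := by
    apply NatTrans.ext
    funext V
    apply ConcreteCategory.hom_ext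
    intro t
    refine (h0 V t).trans ?_
    rfl
  let S : ShortComplex ((Opens Y)ᵒᵖ ⥤ AddCommGrpCat.{u}) := ShortComplex.mk ψ.hom τ hz
  have hepi : Epi τ := by
    have : ∀ V, Epi (τ.app V) := fun V => (AddCommGrpCat.epi_iff_surjective _).mpr (hs V)
    exact NatTrans.epi_of_epi_app τ
  have hS : S.Exact := by
    rw [ShortComplex.exact_iff_isZero_homology, Functor.isZero_iff]
    intro V
    have hV : (S.map ((evaluation (Opens Y)ᵒᵖ AddCommGrpCat.{u}).obj V)).Exact := by
      rw [ShortComplex.ab_exact_iff]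
      intro x₂ hx₂
      exact hk V x₂ hx₂
    exact IsZero.of_iso ((ShortComplex.exact_iff_isZero_homology _).mp hV)
      (S.mapHomologyIso ((evaluation (Opens Y)ᵒᵖ AddCommGrpCat.{u}).obj V)).symm
  have hpc : PreservesColimitsOfSize.{0, 0}
      (presheafToSheaf (Opens.grothendieckTopology Y) AddCommGrpCat.{u}) :=
    (sheafificationAdjunction (Opens.grothendieckTopology Y)
      AddCommGrpCat.{u}).leftAdjoint_preservesColimits
  have hSa : (S.map (presheafToSheaf (Opens.grothendieckTopology Y) AddCommGrpCat.{u})).Exact :=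
    hS.map_of_epi_of_preservesCokernel _ hepi inferInstance
  have hpe : (presheafToSheaf (Opens.grothendieckTopology Y)
      AddCommGrpCat.{u}).PreservesEpimorphisms :=
    Functor.preservesEpimorphisms_of_adjunction
      (sheafificationAdjunction (Opens.grothendieckTopology Y) AddCommGrpCat.{u})
  have hepia : Epi (S.map (presheafToSheaf (Opens.grothendieckTopology Y)
      AddCommGrpCat.{u})).g := by
    show Epi ((presheafToSheaf (Opens.grothendieckTopology Y) AddCommGrpCat.{u}).map τ)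
    infer_instance
  have hcok := hSa.gIsCokernel
  let e1 : cokernel ((presheafToSheaf (Opens.grothendieckTopology Y) AddCommGrpCat.{u}).map
      ψ.hom) ≅ (presheafToSheaf (Opens.grothendieckTopology Y) AddCommGrpCat.{u}).obj P :=
    (cokernelIsCokernel _).coconePointUniqueUpToIso hcok
  let e2 : cokernel ψ ≅ cokernel ((presheafToSheaf (Opens.grothendieckTopology Y)
      AddCommGrpCat.{u}).map ψ.hom) :=
    cokernel.mapIso ψ _
      ((sheafificationNatIso (Opens.grothendieckTopology Y) AddCommGrpCat.{u}).app B₁)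
      ((sheafificationNatIso (Opens.grothendieckTopology Y) AddCommGrpCat.{u}).app B₂)
      ((sheafificationNatIso (Opens.grothendieckTopology Y)
        AddCommGrpCat.{u}).hom.naturality ψ)
  exact ⟨e2 ≪≫ e1⟩

end ShCoker

section Tau

variable {X Y : TopCat.{u}} (f : X ⟶ Y) {F : CohTop.Ab X}

/-- a natural family of additive maps `Hom(ℤ_W, Z) → Ext^n(ℤ_W, F)` as a map of presheaves
on the target of `f` -/
noncomputable def mkTau (Z : CohTop.Ab X) (n : ℕ)
    (Ψ : ∀ W : Opens X, ((freeFunctor X).obj W ⟶ Z) →+ Ext.{u} ((freeFunctor X).obj W) F n)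
    (hΨ : ∀ {W W' : Opens X} (i : W' ⟶ W) (φ : (freeFunctor X).obj W ⟶ Z),
      Ψ W' ((freeFunctor X).map i ≫ φ) =
        (Ext.mk₀ ((freeFunctor X).map i)).comp (Ψ W φ) (zero_add n)) :
    ((CohTop.push f).obj Z).obj ⟶ (Opens.map f).op ⋙ Sheaf.cohomologyPresheaf.{u} F n where
  app V := AddCommGrpCat.ofHom ((Ψ ((Opens.map f).obj V.unop)).comp
    (secAddEquiv ((Opens.map f).obj V.unop) Z).symm.toAddMonoidHom)
  naturality V V' j := by
    apply ConcreteCategory.hom_ext
    intro s
    show Ψ ((Opens.map f).obj V'.unop) ((secEquiv ((Opens.map f).obj V'.unop) Z).symm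
        (Z.obj.map ((Opens.map f).map j.unop).op s)) =
      (Ext.mk₀ ((freeFunctor X).map ((Opens.map f).map j.unop))).comp
        (Ψ ((Opens.map f).obj V.unop) ((secEquiv ((Opens.map f).obj V.unop) Z).symm s))
        (zero_add n)
    rw [← hΨ]
    congr 1
    apply (secEquiv ((Opens.map f).obj V'.unop) Z).injective
    rw [Equiv.apply_symm_apply, secEquiv_map, Equiv.apply_symm_apply]

lemma mkTau_app_apply (Z : CohTop.Ab X) (n : ℕ)
    (Ψ : ∀ W : Opens X, ((freeFunctor X).obj W ⟶ Z) →+ Ext.{u} ((freeFunctor X).obj W) F n)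
    (hΨ : ∀ {W W' : Opens X} (i : W' ⟶ W) (φ : (freeFunctor X).obj W ⟶ Z),
      Ψ W' ((freeFunctor X).map i ≫ φ) =
        (Ext.mk₀ ((freeFunctor X).map i)).comp (Ψ W φ) (zero_add n))
    (V : (Opens Y)ᵒᵖ) (s : Z.obj.obj (op ((Opens.map f).obj V.unop))) :
    (mkTau f Z n Ψ hΨ).app V s =
      Ψ ((Opens.map f).obj V.unop) ((secEquiv ((Opens.map f).obj V.unop) Z).symm s) := rfl

/-- the cocycle sheaf `Z^{k+1}` of an injective resolution -/
noncomputable abbrev Zk (I : InjectiveResolution F) (k : ℕ) : CohTop.Ab X :=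
  kernel (I.cocomplex.d (k + 1) (k + 2))

theorem higher_direct_image_eq_sheafify (F : CohTop.Ab X) (i : ℕ) :
    Nonempty ((CohTop.Rpush f i).obj F ≅
      (presheafToSheaf (Opens.grothendieckTopology Y) AddCommGrpCat.{u}).obj
        ((Opens.map f).op ⋙ Sheaf.cohomologyPresheaf.{u} F i)) := by
  have hpl : PreservesLimits (CohTop.push f) :=
    (TopCat.Sheaf.pullbackPushforwardAdjunction AddCommGrpCat.{u} f).rightAdjoint_preservesLimits
  have hfl : PreservesFiniteLimits (CohTop.push f) := inferInstance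
  let I : InjectiveResolution F := injectiveResolution F
  cases i with
  | zero =>
    let θ₀ : (CohTop.Rpush f 0).obj F ≅ (CohTop.push f).obj F :=
      (Functor.rightDerivedZeroIsoSelf (CohTop.push f)).app F
    let Ψ : ∀ W : Opens X, ((freeFunctor X).obj W ⟶ F) →+ Ext.{u} ((freeFunctor X).obj W) F 0 :=
      fun W => AddMonoidHom.mk' (fun φ => Ext.mk₀ φ) (fun a b => Ext.mk₀_add a b)
    have hΨ : ∀ {W W' : Opens X} (i : W' ⟶ W) (φ : (freeFunctor X).obj W ⟶ F),
        Ψ W' ((freeFunctor X).map i ≫ φ) =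
          (Ext.mk₀ ((freeFunctor X).map i)).comp (Ψ W φ) (zero_add 0) :=
      fun i φ => (Ext.mk₀_comp_mk₀ _ _).symm
    obtain ⟨e⟩ := nonempty_iso_sheafify_of_bijective (mkTau f F 0 Ψ hΨ) (fun V => by
      have hb : Function.Bijective
          (fun s : F.obj.obj (op ((Opens.map f).obj V.unop)) =>
            Ext.mk₀ ((secEquiv ((Opens.map f).obj V.unop) F).symm s)) :=
        (Ext.mk₀_bijective _ _).comp (secEquiv ((Opens.map f).obj V.unop) F).symm.bijective
      exact hb)
    exact ⟨θ₀ ≪≫ e⟩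
  | succ k =>
    obtain ⟨θ⟩ := DerRes.nonempty_rightDerived_iso_cokernel (CohTop.push f) I k
    have hΨ : ∀ {W W' : Opens X} (i : W' ⟶ W) (φ : (freeFunctor X).obj W ⟶ Zk I k),
        DerRes.toExt I ((freeFunctor X).obj W') k ((freeFunctor X).map i ≫ φ) =
          (Ext.mk₀ ((freeFunctor X).map i)).comp
            (DerRes.toExt I ((freeFunctor X).obj W) k φ) (zero_add (k + 1)) :=
      fun i φ => (DerRes.toExt_precomp I ((freeFunctor X).map i) k φ).symm
    suffices key : Nonempty (cokernel ((CohTop.push f).map (DerRes.toCocycle I k)) ≅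
        (presheafToSheaf (Opens.grothendieckTopology Y) AddCommGrpCat.{u}).obj
          ((Opens.map f).op ⋙ Sheaf.cohomologyPresheaf.{u} F (k + 1))) by
      obtain ⟨e⟩ := key
      exact ⟨θ ≪≫ e⟩
    refine nonempty_cokernel_iso_sheafify ((CohTop.push f).map (DerRes.toCocycle I k))
      (mkTau f (Zk I k) (k + 1) (fun W => DerRes.toExt I ((freeFunctor X).obj W) k) hΨ)
      ?_ ?_ ?_
    · intro V t
      show DerRes.toExt I ((freeFunctor X).obj ((Opens.map f).obj V.unop)) k
        ((secEquiv ((Opens.map f).obj V.unop) (Zk I k)).symm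
          ((DerRes.toCocycle I k).hom.app (op ((Opens.map f).obj V.unop)) t)) = 0
      rw [DerRes.toExt_eq_zero_iff]
      refine ⟨(secEquiv ((Opens.map f).obj V.unop) (I.cocomplex.X k)).symm t, ?_⟩
      apply (secEquiv ((Opens.map f).obj V.unop) (Zk I k)).injective
      rw [secEquiv_comp, Equiv.apply_symm_apply, Equiv.apply_symm_apply]
    · intro V x
      obtain ⟨φ, hφ⟩ := DerRes.toExt_surjective I
        ((freeFunctor X).obj ((Opens.map f).obj V.unop)) k x
      refine ⟨secEquiv ((Opens.map f).obj V.unop) (Zk I k) φ, ?_⟩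
      show DerRes.toExt I ((freeFunctor X).obj ((Opens.map f).obj V.unop)) k
        ((secEquiv ((Opens.map f).obj V.unop) (Zk I k)).symm
          (secEquiv ((Opens.map f).obj V.unop) (Zk I k) φ)) = x
      rw [Equiv.symm_apply_apply]
      exact hφ
    · intro V s hs0
      have hs1 : DerRes.toExt I ((freeFunctor X).obj ((Opens.map f).obj V.unop)) k
          ((secEquiv ((Opens.map f).obj V.unop) (Zk I k)).symm s) = 0 := hs0
      obtain ⟨g, hg⟩ := (DerRes.toExt_eq_zero_iff I _ k _).mp hs1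
      refine ⟨secEquiv ((Opens.map f).obj V.unop) (I.cocomplex.X k) g, ?_⟩
      show (DerRes.toCocycle I k).hom.app (op ((Opens.map f).obj V.unop))
        (secEquiv ((Opens.map f).obj V.unop) (I.cocomplex.X k) g) = s
      rw [← secEquiv_comp, hg, Equiv.apply_symm_apply]

end Tau

end Groth.Agent.H10.CohTopB
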