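import Mathlib
import Groth.Prelude.Def_CohTop
import Groth.Agent.H10.CohTopH

/-!
# Flasque towers of abelian sheaves (helper10)
-/

set_option autoImplicit false
universe u
open CategoryTheory CategoryTheory.Limits Opposite TopologicalSpace

namespace Groth.Agent.H10.CohTopB

section Abstract

theorem exists_tower {A : ℕ → Type u} (tr : ∀ n, A (n + 1) → A n) (P : ∀ n, A n → Prop)
    (h0 : ∃ a, P 0 a) (hstep : ∀ n a, P n a → ∃ a', P (n + 1) a' ∧ tr n a' = a) :
    ∃ t : ∀ n, A n, (∀ n, P n (t n)) ∧ ∀ n, tr n (t (n + 1)) = t n := by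
  classical
  choose nx hnx using hstep
  obtain ⟨a0, ha0⟩ := h0
  let seq : ∀ n, {a : A n // P n a} := fun n =>
    Nat.rec (motive := fun n => {a : A n // P n a}) ⟨a0, ha0⟩
      (fun n p => ⟨nx n p.1 p.2, (hnx n p.1 p.2).1⟩) n
  exact ⟨fun n => (seq n).1, fun n => (seq n).2, fun n => (hnx n (seq n).1 (seq n).2).2⟩

theorem nat_op_compatible (G : ℕᵒᵖ ⥤ Type u) (t : ∀ n : ℕ, G.obj (op n))
    (ht : ∀ n, G.map (homOfLE (Nat.le_succ n)).op (t (n + 1)) = t n) :
    ∀ {k k' : ℕᵒᵖ} (f : k ⟶ k'), G.map f (t k.unop) = t k'.unop := by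
  have key : ∀ (d m : ℕ), G.map (homOfLE (Nat.le_add_right m d)).op (t (m + d)) = t m := by
    intro d
    induction d with
    | zero =>
      intro m
      show G.map (homOfLE (le_refl m)).op (t m) = t m
      have e : (homOfLE (le_refl m)).op = 𝟙 (op m) :=
        Quiver.Hom.unop_inj (Subsingleton.elim _ _)
      rw [e, CategoryTheory.Functor.map_id]
      rfl
    | succ d ih =>
      intro m
      have e : (homOfLE (Nat.le_add_right m (d + 1))).op =
          (homOfLE (Nat.le_succ (m + d))).op ≫ (homOfLE (Nat.le_add_right m d)).op :=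
        Quiver.Hom.unop_inj (Subsingleton.elim _ _)
      rw [e, CategoryTheory.Functor.map_comp]
      show G.map (homOfLE (Nat.le_add_right m d)).op
        (G.map (homOfLE (Nat.le_succ (m + d))).op (t (m + d + 1))) = t m
      rw [ht (m + d), ih m]
  intro k k' f
  obtain ⟨n⟩ := k
  obtain ⟨m⟩ := k'
  have h : m ≤ n := leOfHom f.unop
  obtain ⟨d, rfl⟩ := Nat.exists_eq_add_of_le h
  have e : f = (homOfLE (Nat.le_add_right m d)).op :=
    Quiver.Hom.unop_inj (Subsingleton.elim _ _)
  rw [e]
  exact key d m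

end Abstract

section LimSec

variable {C : Type u} [SmallCategory C] (J : GrothendieckTopology C)
  {K : Type} [SmallCategory K]

/-- sections over `V`, as a set-valued functor -/
noncomputable abbrev secT' (V : Cᵒᵖ) : Sheaf J AddCommGrpCat.{u} ⥤ Type u :=
  sheafToPresheaf J AddCommGrpCat.{u} ⋙ (evaluation Cᵒᵖ AddCommGrpCat.{u}).obj V ⋙
    forget AddCommGrpCat.{u}

theorem exists_section_of_sections (X : K ⥤ Sheaf J AddCommGrpCat.{u}) (V : Cᵒᵖ)
    (sec : (X ⋙ secT' J V).sections) :
    ∃ s : (limit X).obj.obj V, ∀ k, (limit.π X k).hom.app V s = sec.1 k := by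
  have h1 : PreservesLimitsOfSize.{0, 0} (sheafToPresheaf J AddCommGrpCat.{u}) :=
    (sheafificationAdjunction J AddCommGrpCat.{u}).rightAdjoint_preservesLimits
  have h2 : PreservesLimit X (secT' J V) := inferInstance
  let hl := isLimitOfPreserves (secT' J V) (limit.isLimit X)
  refine ⟨(Types.isLimitEquivSections hl).symm sec, fun k => ?_⟩
  exact Types.isLimitEquivSections_symm_apply hl sec k

theorem section_ext' (X : K ⥤ Sheaf J AddCommGrpCat.{u}) (V : Cᵒᵖ)
    (s s' : (limit X).obj.obj V)
    (h : ∀ k, (limit.π X k).hom.app V s = (limit.π X k).hom.app V s') : s = s' := by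
  have h1 : PreservesLimitsOfSize.{0, 0} (sheafToPresheaf J AddCommGrpCat.{u}) :=
    (sheafificationAdjunction J AddCommGrpCat.{u}).rightAdjoint_preservesLimits
  have h2 : PreservesLimit X (secT' J V) := inferInstance
  let hl := isLimitOfPreserves (secT' J V) (limit.isLimit X)
  apply (Types.isLimitEquivSections hl).injective
  apply Subtype.ext
  funext k
  exact h k

end LimSec

section Flasque

variable {X : TopCat.{u}}

theorem surj_sections (S : ShortComplex (CohTop.Ab X)) (hS : S.ShortExact)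
    (h1 : TopCat.Sheaf.IsFlasque S.X₁) (U : (Opens X)ᵒᵖ) :
    Function.Surjective (S.g.hom.app U) := by
  have h := TopCat.Sheaf.IsFlasque.epi_of_shortExact (U := U.unop) hS
  exact (AddCommGrpCat.epi_iff_surjective _).mp h

theorem surj_sections_of_flasque_kernel {F G : CohTop.Ab X} (g : F ⟶ G) [Epi g]
    (hk : TopCat.Sheaf.IsFlasque (kernel g)) (U : (Opens X)ᵒᵖ) :
    Function.Surjective (g.hom.app U) :=
  surj_sections (ShortComplex.mk (kernel.ι g) g (kernel.condition g))
    { exact := ShortComplex.exact_of_f_is_kernel _ (kernelIsKernel g) } hk U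

theorem exact_sections (S : ShortComplex (CohTop.Ab X)) (hS : S.Exact) [Mono S.f]
    (U : (Opens X)ᵒᵖ) (a : S.X₂.obj.obj U) (ha : S.g.hom.app U a = 0) :
    ∃ k : S.X₁.obj.obj U, S.f.hom.app U k = a := by
  have hpl : PreservesLimits (sheafToPresheaf (Opens.grothendieckTopology X)
      AddCommGrpCat.{u}) :=
    (sheafificationAdjunction (Opens.grothendieckTopology X)
      AddCommGrpCat.{u}).rightAdjoint_preservesLimits
  have hfl : PreservesFiniteLimits (sheafToPresheaf (Opens.grothendieckTopology X)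
      AddCommGrpCat.{u}) := inferInstance
  have hfl2 : PreservesFiniteLimits (sheafToPresheaf (Opens.grothendieckTopology X)
      AddCommGrpCat.{u} ⋙ (evaluation (Opens X)ᵒᵖ AddCommGrpCat.{u}).obj U) := inferInstance
  have h0 := ((Functor.preservesFiniteLimits_tfae (sheafToPresheaf
      (Opens.grothendieckTopology X) AddCommGrpCat.{u} ⋙
      (evaluation (Opens X)ᵒᵖ AddCommGrpCat.{u}).obj U)).out 3 1).mp hfl2
  have h1 := (h0 S ⟨hS, inferInstance⟩).1
  rw [ShortComplex.ab_exact_iff] at h1
  exact h1 a ha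

theorem isFlasque_limit_tower (M : ℕᵒᵖ ⥤ CohTop.Ab X)
    (hfl : ∀ n : ℕ, TopCat.Sheaf.IsFlasque (M.obj (op n)))
    (hepi : ∀ n : ℕ, Epi (M.map (homOfLE (Nat.le_succ n)).op))
    (hker : ∀ n : ℕ, TopCat.Sheaf.IsFlasque
      (kernel (M.map (homOfLE (Nat.le_succ n)).op) : CohTop.Ab X)) :
    TopCat.Sheaf.IsFlasque (limit M : CohTop.Ab X) := by
  constructor
  intro U W i
  refine (AddCommGrpCat.epi_iff_surjective _).mpr (fun s => ?_)
  have h0 : ∃ a : (M.obj (op 0)).obj.obj U,
      (M.obj (op 0)).obj.map i a = (limit.π M (op 0)).hom.app W s := by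
    have := hfl 0
    exact (AddCommGrpCat.epi_iff_surjective _).mp
      (TopCat.Presheaf.IsFlasque.epi (F := (M.obj (op 0)).obj) i) _
  have hstep : ∀ (n : ℕ) (a : (M.obj (op n)).obj.obj U),
      (M.obj (op n)).obj.map i a = (limit.π M (op n)).hom.app W s →
      ∃ a' : (M.obj (op (n + 1))).obj.obj U,
        (M.obj (op (n + 1))).obj.map i a' = (limit.π M (op (n + 1))).hom.app W s ∧
        (M.map (homOfLE (Nat.le_succ n)).op).hom.app U a' = a := by
    intro n a ha
    have := hepi n
    obtain ⟨a', ha'⟩ := surj_sections_of_flasque_kernel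
      (M.map (homOfLE (Nat.le_succ n)).op) (hker n) U a
    have hcs : (M.map (homOfLE (Nat.le_succ n)).op).hom.app W
        ((limit.π M (op (n + 1))).hom.app W s) = (limit.π M (op n)).hom.app W s :=
      congrArg (fun m => m.hom.app W s) (limit.w M (homOfLE (Nat.le_succ n)).op)
    have hnat1 : (M.map (homOfLE (Nat.le_succ n)).op).hom.app W
        ((M.obj (op (n + 1))).obj.map i a') =
        (M.obj (op n)).obj.map i ((M.map (homOfLE (Nat.le_succ n)).op).hom.app U a') :=
      NatTrans.naturality_apply (M.map (homOfLE (Nat.le_succ n)).op).hom i a'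
    have hd : (M.map (homOfLE (Nat.le_succ n)).op).hom.app W
        ((M.obj (op (n + 1))).obj.map i a' - (limit.π M (op (n + 1))).hom.app W s) = 0 := by
      rw [map_sub, hnat1, ha', ha, hcs, sub_self]
    obtain ⟨k, hk⟩ := exact_sections
      (ShortComplex.mk (kernel.ι (M.map (homOfLE (Nat.le_succ n)).op))
        (M.map (homOfLE (Nat.le_succ n)).op) (kernel.condition _))
      (ShortComplex.exact_of_f_is_kernel _ (kernelIsKernel _)) W _ hd
    have := hker n
    obtain ⟨k', hk'⟩ := (AddCommGrpCat.epi_iff_surjective _).mp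
      (TopCat.Presheaf.IsFlasque.epi
        (F := (kernel (M.map (homOfLE (Nat.le_succ n)).op) : CohTop.Ab X).obj) i) k
    refine ⟨a' - (kernel.ι (M.map (homOfLE (Nat.le_succ n)).op)).hom.app U k', ?_, ?_⟩
    · have hnat2 : (kernel.ι (M.map (homOfLE (Nat.le_succ n)).op)).hom.app W
          ((kernel (M.map (homOfLE (Nat.le_succ n)).op) : CohTop.Ab X).obj.map i k') =
          (M.obj (op (n + 1))).obj.map i
            ((kernel.ι (M.map (homOfLE (Nat.le_succ n)).op)).hom.app U k') :=
        NatTrans.naturality_apply (kernel.ι (M.map (homOfLE (Nat.le_succ n)).op)).hom i k'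
      rw [map_sub, ← hnat2, hk']
      exact (congrArg (fun z => (M.obj (op (n + 1))).obj.map i a' - z) hk).trans
        (sub_sub_cancel _ _)
    · have hz : (M.map (homOfLE (Nat.le_succ n)).op).hom.app U
          ((kernel.ι (M.map (homOfLE (Nat.le_succ n)).op)).hom.app U k') = 0 := by
        have h := congrArg (fun m => m.hom.app U k')
          (kernel.condition (M.map (homOfLE (Nat.le_succ n)).op))
        exact h.trans (zero_app_apply U k')
      rw [map_sub, ha', hz, sub_zero]
  obtain ⟨t, ht1, ht2⟩ := exists_tower (A := fun n => (M.obj (op n)).obj.obj U)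
    (fun n a => (M.map (homOfLE (Nat.le_succ n)).op).hom.app U a)
    (fun n a => (M.obj (op n)).obj.map i a = (limit.π M (op n)).hom.app W s) h0 hstep
  have hcomp : ∀ {k k' : ℕᵒᵖ} (f : k ⟶ k'),
      (M ⋙ secT' (Opens.grothendieckTopology X) U).map f (t k.unop) = t k'.unop :=
    nat_op_compatible (M ⋙ secT' (Opens.grothendieckTopology X) U) t ht2
  obtain ⟨tt, htt⟩ := exists_section_of_sections (Opens.grothendieckTopology X) M U
    ⟨fun k => t k.unop, fun {k k'} f => hcomp f⟩
  refine ⟨tt, ?_⟩
  apply section_ext' (Opens.grothendieckTopology X) M W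
  intro k
  have hnat := NatTrans.naturality_apply (limit.π M k).hom i tt
  refine hnat.trans ?_
  exact (congrArg (fun z => (M.obj k).obj.map i z) (htt k)).trans (ht1 k.unop)

theorem epi_limMap_flasque_towers (S : ShortComplex (ℕᵒᵖ ⥤ CohTop.Ab X)) (hS : S.ShortExact)
    (h1fl : ∀ n : ℕ, TopCat.Sheaf.IsFlasque (S.X₁.obj (op n)))
    (h1epi : ∀ n : ℕ, Epi (S.X₁.map (homOfLE (Nat.le_succ n)).op))
    (h1ker : ∀ n : ℕ, TopCat.Sheaf.IsFlasque
      (kernel (S.X₁.map (homOfLE (Nat.le_succ n)).op) : CohTop.Ab X)) :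
    Epi (limMap S.g) := by
  have hlev : ∀ n : ℕ,
      (S.map ((evaluation ℕᵒᵖ (CohTop.Ab X)).obj (op n))).ShortExact :=
    fun n => hS.map_of_exact _
  have hsurj : ∀ U : (Opens X)ᵒᵖ, Function.Surjective ((limMap S.g).hom.app U) := by
    intro U s
    have h0 : ∃ a : (S.X₂.obj (op 0)).obj.obj U,
        (S.g.app (op 0)).hom.app U a = (limit.π S.X₃ (op 0)).hom.app U s :=
      surj_sections (S.map ((evaluation ℕᵒᵖ (CohTop.Ab X)).obj (op 0))) (hlev 0) (h1fl 0) U _
    have hstep : ∀ (n : ℕ) (a : (S.X₂.obj (op n)).obj.obj U),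
        (S.g.app (op n)).hom.app U a = (limit.π S.X₃ (op n)).hom.app U s →
        ∃ a' : (S.X₂.obj (op (n + 1))).obj.obj U,
          (S.g.app (op (n + 1))).hom.app U a' = (limit.π S.X₃ (op (n + 1))).hom.app U s ∧
          (S.X₂.map (homOfLE (Nat.le_succ n)).op).hom.app U a' = a := by
      intro n a ha
      obtain ⟨b, hb⟩ : ∃ b : (S.X₂.obj (op (n + 1))).obj.obj U,
          (S.g.app (op (n + 1))).hom.app U b = (limit.π S.X₃ (op (n + 1))).hom.app U s :=
        surj_sections
          (S.map ((evaluation ℕᵒᵖ (CohTop.Ab X)).obj (op (n + 1)))) (hlev (n + 1))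
          (h1fl (n + 1)) U ((limit.π S.X₃ (op (n + 1))).hom.app U s)
      have hnatg : (S.g.app (op n)).hom.app U
          ((S.X₂.map (homOfLE (Nat.le_succ n)).op).hom.app U b) =
          (S.X₃.map (homOfLE (Nat.le_succ n)).op).hom.app U
            ((S.g.app (op (n + 1))).hom.app U b) :=
        congrArg (fun m => m.hom.app U b) (S.g.naturality (homOfLE (Nat.le_succ n)).op)
      have hcs : (S.X₃.map (homOfLE (Nat.le_succ n)).op).hom.app U
          ((limit.π S.X₃ (op (n + 1))).hom.app U s) = (limit.π S.X₃ (op n)).hom.app U s :=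
        congrArg (fun m => m.hom.app U s) (limit.w S.X₃ (homOfLE (Nat.le_succ n)).op)
      have hb' : (S.g.app (op (n + 1))).hom.app U b =
          (limit.π S.X₃ (op (n + 1))).hom.app U s := hb
      have hc : (S.g.app (op n)).hom.app U
          ((S.X₂.map (homOfLE (Nat.le_succ n)).op).hom.app U b - a) = 0 := by
        rw [map_sub, hnatg, hb', hcs, ha, sub_self]
      have hmono : Mono (S.map ((evaluation ℕᵒᵖ (CohTop.Ab X)).obj (op n))).f :=
        (hlev n).mono_f
      obtain ⟨c, hc'⟩ : ∃ c : (S.X₁.obj (op n)).obj.obj U, (S.f.app (op n)).hom.app U c =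
          (S.X₂.map (homOfLE (Nat.le_succ n)).op).hom.app U b - a :=
        exact_sections
          (S.map ((evaluation ℕᵒᵖ (CohTop.Ab X)).obj (op n))) (hlev n).exact U _ hc
      have hc'' : (S.f.app (op n)).hom.app U c =
          (S.X₂.map (homOfLE (Nat.le_succ n)).op).hom.app U b - a := hc'
      have := h1epi n
      obtain ⟨c', hc3⟩ := surj_sections_of_flasque_kernel
        (S.X₁.map (homOfLE (Nat.le_succ n)).op) (h1ker n) U c
      have hnatf : (S.X₂.map (homOfLE (Nat.le_succ n)).op).hom.app U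
          ((S.f.app (op (n + 1))).hom.app U c') =
          (S.f.app (op n)).hom.app U ((S.X₁.map (homOfLE (Nat.le_succ n)).op).hom.app U c') :=
        (congrArg (fun m => m.hom.app U c')
          (S.f.naturality (homOfLE (Nat.le_succ n)).op)).symm
      have hgf : (S.g.app (op (n + 1))).hom.app U
          ((S.f.app (op (n + 1))).hom.app U c') = 0 := by
        have hz : S.f.app (op (n + 1)) ≫ S.g.app (op (n + 1)) = 0 := by
          rw [← NatTrans.comp_app, S.zero]
          rfl
        exact (congrArg (fun m => m.hom.app U c') hz).trans (zero_app_apply U c')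
      refine ⟨b - (S.f.app (op (n + 1))).hom.app U c', ?_, ?_⟩
      · rw [map_sub, hb', hgf, sub_zero]
      · rw [map_sub, hnatf, hc3, hc'', sub_sub_cancel]
    obtain ⟨t, ht1, ht2⟩ := exists_tower (A := fun n => (S.X₂.obj (op n)).obj.obj U)
      (fun n a => (S.X₂.map (homOfLE (Nat.le_succ n)).op).hom.app U a)
      (fun n a => (S.g.app (op n)).hom.app U a = (limit.π S.X₃ (op n)).hom.app U s) h0 hstep
    have hcomp : ∀ {k k' : ℕᵒᵖ} (f : k ⟶ k'),
        (S.X₂ ⋙ secT' (Opens.grothendieckTopology X) U).map f (t k.unop) = t k'.unop :=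
      nat_op_compatible (S.X₂ ⋙ secT' (Opens.grothendieckTopology X) U) t ht2
    obtain ⟨tt, htt⟩ := exists_section_of_sections (Opens.grothendieckTopology X) S.X₂ U
      ⟨fun k => t k.unop, fun {k k'} f => hcomp f⟩
    refine ⟨tt, ?_⟩
    apply section_ext' (Opens.grothendieckTopology X) S.X₃ U
    intro k
    have hnat : limMap S.g ≫ limit.π S.X₃ k = limit.π S.X₂ k ≫ S.g.app k := limMap_π S.g k
    have h1 := congrArg (fun m => m.hom.app U tt) hnat
    refine h1.trans ?_
    exact (congrArg (fun z => (S.g.app k).hom.app U z) (htt k)).trans (ht1 k.unop)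
  suffices hls : Presheaf.IsLocallySurjective (Opens.grothendieckTopology X)
      (limMap S.g).hom from
    (Sheaf.isLocallySurjective_iff_epi' (φ := limMap S.g)).mp hls
  constructor
  intro V s
  obtain ⟨t, rfl⟩ := hsurj (op V) s
  rw [Presheaf.imageSieve_app]
  exact (Opens.grothendieckTopology X).top_mem _

end Flasque

end Groth.Agent.H10.CohTopB
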