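import Mathlib
import Groth.Prelude.Def_CohDer

set_option autoImplicit false
set_option linter.unusedSectionVars false
universe v u

open CategoryTheory CategoryTheory.Limits

namespace Groth.Agent.H10.DecSum

variable {C D : Type u} [Category.{v} C] [Category.{v} D] [Preadditive C] [Preadditive D]

/-- maps from `K` into `P (∐ M)` decompose as finite sums through the `P (M i)` -/
def Dec (K : D) (P : C ⥤ D) {ι : Type v} (M : ι → C) [HasCoproduct M] : Prop :=
  ∀ θ : K ⟶ P.obj (∐ M), ∃ (s : Finset ι) (ψ : ∀ i, K ⟶ P.obj (M i)),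
    θ = ∑ i ∈ s, ψ i ≫ P.map (Sigma.ι M i)

/-- compactness in finite-sum form -/
def Cpt [HasCoproducts.{v} D] (K : D) : Prop :=
  ∀ (ι : Type v) (X : ι → D) (θ : K ⟶ ∐ X), ∃ (s : Finset ι) (ψ : ∀ i, K ⟶ X i),
    θ = ∑ i ∈ s, ψ i ≫ Sigma.ι X i

lemma sum_eq_zero_imp {K : D} (P : C ⥤ D) [P.PreservesZeroMorphisms] {ι : Type v} (M : ι → C)
    [HasCoproduct M] (s : Finset ι) (ψ : ∀ i, K ⟶ P.obj (M i))
    (h : ∑ i ∈ s, ψ i ≫ P.map (Sigma.ι M i) = 0) : ∀ j ∈ s, ψ j = 0 := by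
  classical
  intro j hj
  have h2 := congrArg (fun z => z ≫ P.map (Sigma.π M j)) h
  simp only [Preadditive.sum_comp, Category.assoc, zero_comp] at h2
  rw [Finset.sum_eq_single j] at h2
  · rw [← P.map_comp, Sigma.ι_π_eq_id, P.map_id, Category.comp_id] at h2
    exact h2
  · intro i _ hij
    rw [← P.map_comp, Sigma.ι_π_of_ne _ hij, P.map_zero, comp_zero]
  · intro h'
    exact absurd hj h'

lemma cpt_of_isCompactObject [HasCoproducts.{v} D] {K : D} (hK : CohDer.IsCompactObject K) :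
    Cpt K := by
  classical
  intro ι X θ
  obtain ⟨x, hx⟩ := (hK ι X).2 θ
  refine ⟨x.support, fun i => x i, ?_⟩
  rw [← hx]
  conv_lhs => rw [← DirectSum.sum_support_of x]
  rw [map_sum]
  refine Finset.sum_congr rfl (fun i _ => ?_)
  unfold CohDer.homSumToHomCoprod
  rw [DirectSum.toAddMonoid_of]
  rfl

lemma isCompactObject_of_cpt [HasCoproducts.{v} D] {K : D} (hK : Cpt K) :
    CohDer.IsCompactObject K := by
  classical
  intro ι X
  have key : ∀ x : DirectSum ι (fun i => K ⟶ X i), CohDer.homSumToHomCoprod K X x =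
      ∑ i ∈ x.support, x i ≫ Sigma.ι X i := by
    intro x
    conv_lhs => rw [← DirectSum.sum_support_of x]
    rw [map_sum]
    refine Finset.sum_congr rfl (fun i _ => ?_)
    unfold CohDer.homSumToHomCoprod
    rw [DirectSum.toAddMonoid_of]
    rfl
  constructor
  · rw [injective_iff_map_eq_zero]
    intro x hx
    rw [key] at hx
    have h0 := sum_eq_zero_imp (𝟭 D) X x.support (fun i => x i) (by simpa using hx)
    ext i
    by_cases hi : i ∈ x.support
    · exact h0 i hi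
    · simpa using hi
  · intro θ
    obtain ⟨s, ψ, hψ⟩ := hK ι X θ
    refine ⟨∑ i ∈ s, DirectSum.of (fun i => K ⟶ X i) i (ψ i), ?_⟩
    rw [map_sum, hψ]
    refine Finset.sum_congr rfl (fun i _ => ?_)
    unfold CohDer.homSumToHomCoprod
    rw [DirectSum.toAddMonoid_of]
    rfl

lemma Cpt.of_iso [HasCoproducts.{v} D] {K K' : D} (e : K ≅ K') (hK : Cpt K) : Cpt K' := by
  intro ι X θ
  obtain ⟨s, ψ, hψ⟩ := hK ι X (e.hom ≫ θ)
  refine ⟨s, fun i => e.inv ≫ ψ i, ?_⟩
  have : θ = e.inv ≫ e.hom ≫ θ := by rw [e.inv_hom_id_assoc]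
  rw [this, hψ, Preadditive.comp_sum]
  refine Finset.sum_congr rfl (fun i _ => ?_)
  rw [Category.assoc]

lemma Dec.of_cpt [HasCoproducts.{v} D] {K : D} (hK : Cpt K) (P : C ⥤ D) {ι : Type v} (M : ι → C)
    [HasCoproduct M] [PreservesColimit (Discrete.functor M) P] : Dec K P M := by
  intro θ
  obtain ⟨s, ψ, hψ⟩ := hK ι (fun i => P.obj (M i)) (θ ≫ inv (sigmaComparison P M))
  refine ⟨s, ψ, ?_⟩
  have : θ = (θ ≫ inv (sigmaComparison P M)) ≫ sigmaComparison P M := by
    rw [Category.assoc, IsIso.inv_hom_id, Category.comp_id]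
  rw [this, hψ, Preadditive.sum_comp]
  refine Finset.sum_congr rfl (fun i _ => ?_)
  rw [Category.assoc, ι_comp_sigmaComparison]

lemma Dec.adj {E : Type u} [Category.{v} E] [Preadditive E] {L : E ⥤ D} {G : D ⥤ E}
    (adj : L ⊣ G) [G.Additive]
    {N : E} (P : C ⥤ D) {ι : Type v} (M : ι → C) [HasCoproduct M] (h : Dec (L.obj N) P M) :
    Dec N (P ⋙ G) M := by
  intro θ
  obtain ⟨s, ψ, hψ⟩ := h ((adj.homEquiv _ _).symm θ)
  refine ⟨s, fun i => adj.homEquiv _ _ (ψ i), ?_⟩
  have : θ = adj.homEquiv _ _ ((adj.homEquiv _ _).symm θ) := by simp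
  rw [this, hψ, Adjunction.homEquiv_unit, G.map_sum, Preadditive.comp_sum]
  refine Finset.sum_congr rfl (fun i _ => ?_)
  beta_reduce
  rw [Adjunction.homEquiv_unit, G.map_comp, Category.assoc]
  rfl

lemma Dec.of_natIso {K : D} {P P' : C ⥤ D} {ι : Type v} (M : ι → C) [HasCoproduct M]
    (α : ∀ X : C, P.obj X ≅ P'.obj X)
    (nat : ∀ i, P.map (Sigma.ι M i) ≫ (α _).hom = (α _).hom ≫ P'.map (Sigma.ι M i))
    (h : Dec K P' M) : Dec K P M := by
  intro θ
  obtain ⟨s, ψ, hψ⟩ := h (θ ≫ (α _).hom)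
  refine ⟨s, fun i => ψ i ≫ (α _).inv, ?_⟩
  have : θ = (θ ≫ (α _).hom) ≫ (α _).inv := by rw [Category.assoc, Iso.hom_inv_id, Category.comp_id]
  rw [this, hψ, Preadditive.sum_comp]
  refine Finset.sum_congr rfl (fun i _ => ?_)
  rw [Category.assoc, Category.assoc]
  congr 1
  rw [← cancel_mono (α (∐ M)).hom, Category.assoc, Iso.inv_hom_id, Category.comp_id,
    Category.assoc, nat, Iso.inv_hom_id_assoc]

/-- transport of compactness along a left adjoint whose right adjoint preserves coproducts -/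
lemma Cpt.map_leftAdjoint [HasCoproducts.{v} C] [HasCoproducts.{v} D] {L : C ⥤ D} {G : D ⥤ C}
    (adj : L ⊣ G) [L.Additive]
    [∀ (ι : Type v) (X : ι → D), PreservesColimit (Discrete.functor X) G]
    {K : C} (hK : Cpt K) : Cpt (L.obj K) := by
  intro ι X θ
  obtain ⟨s, ψ, hψ⟩ := hK ι (fun i => G.obj (X i)) (adj.homEquiv _ _ θ ≫ inv (sigmaComparison G X))
  refine ⟨s, fun i => (adj.homEquiv _ _).symm (ψ i), ?_⟩
  have h1 : adj.homEquiv _ _ θ = ∑ i ∈ s, ψ i ≫ G.map (Sigma.ι X i) := by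
    have : adj.homEquiv _ _ θ =
        (adj.homEquiv _ _ θ ≫ inv (sigmaComparison G X)) ≫ sigmaComparison G X := by
      rw [Category.assoc, IsIso.inv_hom_id, Category.comp_id]
    rw [this, hψ, Preadditive.sum_comp]
    refine Finset.sum_congr rfl (fun i _ => ?_)
    rw [Category.assoc, ι_comp_sigmaComparison]
  have h2 : θ = (adj.homEquiv _ _).symm (adj.homEquiv _ _ θ) := by simp
  rw [h2, h1, Adjunction.homEquiv_counit, L.map_sum, Preadditive.sum_comp]
  refine Finset.sum_congr rfl (fun i _ => ?_)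
  beta_reduce
  rw [Adjunction.homEquiv_counit, L.map_comp, Category.assoc, Category.assoc]
  congr 1
  exact adj.counit.naturality (Sigma.ι X i)

end Groth.Agent.H10.DecSum
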