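import Mathlib

set_option autoImplicit false

open CategoryTheory Limits

namespace Groth.Agent.H10.DerAdj

section HC

variable {W₁ W₂ : Type*} [Category W₁] [Category W₂] [Preadditive W₁] [Preadditive W₂]
  {G : W₁ ⥤ W₂} {F : W₂ ⥤ W₁} [G.Additive] [F.Additive] (adj : G ⊣ F)
  {ι : Type*} (c : ComplexShape ι)

/-- an adjunction between additive functors induces an adjunction on homological complexes -/
def mapHomologicalComplexAdj :
    G.mapHomologicalComplex c ⊣ F.mapHomologicalComplex c :=
  Adjunction.mkOfUnitCounit
    { unit :=
        { app := fun K =>
            { f := fun i => adj.unit.app (K.X i)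
              comm' := fun i j _ => by
                dsimp
                exact (adj.unit.naturality (K.d i j)).symm }
          naturality := fun K L f => by
            ext i
            dsimp
            exact adj.unit.naturality (f.f i) }
      counit :=
        { app := fun K =>
            { f := fun i => adj.counit.app (K.X i)
              comm' := fun i j _ => by
                dsimp
                exact (adj.counit.naturality (K.d i j)).symm }
          naturality := fun K L f => by
            ext i
            dsimp
            exact adj.counit.naturality (f.f i) }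
      left_triangle := by
        ext K i
        change G.map (adj.unit.app (K.X i)) ≫ 𝟙 _ ≫ adj.counit.app (G.obj (K.X i)) =
          𝟙 (G.obj (K.X i))
        rw [Category.id_comp]
        exact adj.left_triangle_components (K.X i)
      right_triangle := by
        ext K i
        change adj.unit.app (F.obj (K.X i)) ≫ 𝟙 _ ≫ F.map (adj.counit.app (K.X i)) =
          𝟙 (F.obj (K.X i))
        rw [Category.id_comp]
        exact adj.right_triangle_components (K.X i) }

end HC

section Derived

universe w₁ w₂

variable {C₁ C₂ : Type*} [Category C₁] [Category C₂] [Abelian C₁] [Abelian C₂]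
  [HasDerivedCategory.{w₁} C₁] [HasDerivedCategory.{w₂} C₂]
  {G : C₁ ⥤ C₂} {F : C₂ ⥤ C₁} [G.Additive] [F.Additive]
  [PreservesFiniteLimits G] [PreservesFiniteColimits G]
  [PreservesFiniteLimits F] [PreservesFiniteColimits F]
  (adj : G ⊣ F)

/-- an adjunction between exact functors induces an adjunction on derived categories -/
noncomputable def mapDerivedCategoryAdj : G.mapDerivedCategory ⊣ F.mapDerivedCategory :=
  letI : CatCommSq (G.mapHomologicalComplex (ComplexShape.up ℤ)) DerivedCategory.Q
      DerivedCategory.Q G.mapDerivedCategory := ⟨G.mapDerivedCategoryFactors.symm⟩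
  letI : CatCommSq (F.mapHomologicalComplex (ComplexShape.up ℤ)) DerivedCategory.Q
      DerivedCategory.Q F.mapDerivedCategory := ⟨F.mapDerivedCategoryFactors.symm⟩
  (mapHomologicalComplexAdj adj (ComplexShape.up ℤ)).localization DerivedCategory.Q
    (HomologicalComplex.quasiIso C₁ (ComplexShape.up ℤ)) DerivedCategory.Q
    (HomologicalComplex.quasiIso C₂ (ComplexShape.up ℤ)) G.mapDerivedCategory F.mapDerivedCategory

end Derived

end Groth.Agent.H10.DerAdj
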