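import Mathlib
import Groth.Prelude.Def_AnEps
import Groth.Agent.S4186

set_option autoImplicit false
open CategoryTheory AlgebraicGeometry Topology TopologicalSpace Limits

namespace Groth.Agent.H10.EpsA

theorem continuous_of_lift {B E E₁ E₂ E₀ : Type*} [TopologicalSpace B] [TopologicalSpace E]
    [TopologicalSpace E₁] [TopologicalSpace E₂] [TopologicalSpace E₀]
    (π₁ : E → E₁) (π₂ : E → E₂) (q₁ : E₁ → E₀) (q₂ : E₂ → E₀)
    (hπ₁ : IsLocalHomeomorph π₁) (hπ₂ : Continuous π₂) (hq₂ : IsLocalHomeomorph q₂)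
    (hsq : ∀ z, q₁ (π₁ z) = q₂ (π₂ z))
    (hinj : ∀ z z', π₁ z = π₁ z' → π₂ z = π₂ z' → z = z')
    (h : B → E) (f₁ : B → E₁) (f₂ : B → E₂) (hf₁ : Continuous f₁) (hf₂ : Continuous f₂)
    (h₁ : ∀ b, π₁ (h b) = f₁ b) (h₂ : ∀ b, π₂ (h b) = f₂ b) : Continuous h := by
  rw [continuous_iff_continuousAt]
  intro b₀
  obtain ⟨φ, hφs, hφ⟩ := hπ₁ (h b₀)
  have hb₀t : f₁ b₀ ∈ φ.target := by
    rw [← h₁ b₀, hφ]
    exact φ.map_source hφs
  let A : Set B := f₁ ⁻¹' φ.target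
  have hA : IsOpen A := φ.open_target.preimage hf₁
  let g₁' : A → E₂ := fun a => π₂ (φ.symm (f₁ a.1))
  let g₂' : A → E₂ := fun a => f₂ a.1
  have hg₁' : Continuous g₁' :=
    hπ₂.comp (φ.continuousOn_symm.comp_continuous (hf₁.comp continuous_subtype_val)
      (fun a => a.2))
  have hg₂' : Continuous g₂' := hf₂.comp continuous_subtype_val
  have hright : ∀ a : A, π₁ (φ.symm (f₁ a.1)) = f₁ a.1 := by
    intro a
    rw [hφ]
    exact φ.right_inv a.2
  have hcomp : q₂ ∘ g₁' = q₂ ∘ g₂' := by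
    funext a
    show q₂ (π₂ (φ.symm (f₁ a.1))) = q₂ (f₂ a.1)
    rw [← hsq, ← h₂ a.1, ← hsq, h₁, hright a]
  have hopen : IsOpen {a : A | g₁' a = g₂' a} :=
    hq₂.isLocallyInjective.isOpen_eqLocus hg₁' hg₂' hcomp
  let W : Set B := Subtype.val '' {a : A | g₁' a = g₂' a}
  have hW : IsOpen W := hA.isOpenMap_subtype_val _ hopen
  have hb₀W : b₀ ∈ W := by
    refine ⟨⟨b₀, hb₀t⟩, ?_, rfl⟩
    show π₂ (φ.symm (f₁ b₀)) = f₂ b₀
    have : φ.symm (f₁ b₀) = h b₀ := by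
      rw [← h₁ b₀, hφ]
      exact φ.left_inv hφs
    rw [this, h₂]
  have heq : ∀ b ∈ W, h b = φ.symm (f₁ b) := by
    rintro _ ⟨a, ha, rfl⟩
    apply hinj
    · rw [h₁, hright a]
    · rw [h₂]
      exact ha.symm
  have hcont : ContinuousAt (fun b => φ.symm (f₁ b)) b₀ :=
    (φ.continuousAt_symm hb₀t).comp hf₁.continuousAt
  refine hcont.congr ?_
  filter_upwards [hW.mem_nhds hb₀W] with b hb
  exact (heq b hb).symm


theorem exists_lift {X Y : Scheme.{0}} [X.Over An.SC] [Y.Over An.SC]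
    [LocallyOfFiniteType (X ↘ An.SC)] [LocallyOfFiniteType (Y ↘ An.SC)] (f : X ⟶ Y)
    [f.IsOver An.SC] (y : An.Pts Y) (hy : y.pt ∈ Set.range f) :
    ∃ x : An.Pts X, An.Pts.map f x = y := by
  haveI hcomp : LocallyOfFiniteType (f ≫ (Y ↘ An.SC)) := by
    rw [comp_over f An.SC]
    infer_instance
  haveI hfl : LocallyOfFiniteType f := locallyOfFiniteType_of_comp f (Y ↘ An.SC)
  let F : Scheme.{0} := Limits.pullback f y.1
  letI : F.Over An.SC := ⟨Limits.pullback.snd f y.1⟩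
  haveI : LocallyOfFiniteType (F ↘ An.SC) :=
    inferInstanceAs (LocallyOfFiniteType (Limits.pullback.snd f y.1))
  have hne : Nonempty ↥F := by
    obtain ⟨x, hx⟩ := hy
    have hx' : f x = y.1 An.cpt := hx
    obtain ⟨z, -, -⟩ := Scheme.Pullback.exists_preimage_pullback x An.cpt hx'
    exact ⟨z⟩
  obtain ⟨z⟩ := (Groth.Agent.S4186.result F).1 hne
  have hz : z.1 ≫ Limits.pullback.snd f y.1 = 𝟙 _ := z.2
  refine ⟨⟨z.1 ≫ Limits.pullback.fst f y.1, ?_⟩, ?_⟩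
  · have h1 : f ≫ (Y ↘ An.SC) = X ↘ An.SC := comp_over f An.SC
    rw [← h1, Category.assoc, ← Category.assoc (Limits.pullback.fst f y.1),
      Limits.pullback.condition, Category.assoc, y.2, Category.comp_id]
    exact hz
  · apply Subtype.ext
    change (z.1 ≫ Limits.pullback.fst f y.1) ≫ f = y.1
    rw [Category.assoc, Limits.pullback.condition, ← Category.assoc, hz, Category.id_comp]

section main
variable (X : Scheme.{0}) [X.Over An.SC] [LocallyOfFiniteType (X ↘ An.SC)]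

instance lft_left (U : X.Etale) : LocallyOfFiniteType (U.left ↘ An.SC) := by
  show LocallyOfFiniteType ((U.left ↘ X) ≫ (X ↘ An.SC))
  infer_instance

variable [Fact An.EtaleLH]

theorem lh_map {U V : X.Etale} (g : U ⟶ V) : IsLocalHomeomorph (An.Pts.map g.left) :=
  (Fact.out : An.EtaleLH) U.left V.left g.left

theorem key {Y₁ Y₂ Z : X.Etale} (g₁ : Y₁ ⟶ Z) (g₂ : Y₂ ⟶ Z) {B : An.Cl (An.Pts X)}
    (f₁ : B ⟶ (An.eps X).obj Y₁) (f₂ : B ⟶ (An.eps X).obj Y₂)
    (e : f₁ ≫ (An.eps X).map g₁ = f₂ ≫ (An.eps X).map g₂) :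
    ∃ (P : X.Etale) (p₁ : P ⟶ Y₁) (p₂ : P ⟶ Y₂) (h : B ⟶ (An.eps X).obj P),
      p₁ ≫ g₁ = p₂ ≫ g₂ ∧ h ≫ (An.eps X).map p₁ = f₁ ∧ h ≫ (An.eps X).map p₂ = f₂ := by
  haveI : Etale (pullback.fst g₁.left g₂.left) := inferInstance
  let P : X.Etale := Scheme.Etale.mk (pullback.fst g₁.left g₂.left ≫ Y₁.hom)
  let p₁ : P ⟶ Y₁ := MorphismProperty.Over.homMk (pullback.fst g₁.left g₂.left) rfl trivial
  have e1 : g₁.left ≫ Z.hom = Y₁.hom := MorphismProperty.Over.w g₁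
  have e2 : g₂.left ≫ Z.hom = Y₂.hom := MorphismProperty.Over.w g₂
  have w₂ : pullback.snd g₁.left g₂.left ≫ Y₂.hom =
      pullback.fst g₁.left g₂.left ≫ Y₁.hom := by
    rw [← e2, ← e1, ← Category.assoc, ← Category.assoc, pullback.condition]
  let p₂ : P ⟶ Y₂ := MorphismProperty.Over.homMk (pullback.snd g₁.left g₂.left) w₂ trivial
  have hp : p₁ ≫ g₁ = p₂ ≫ g₂ := by
    apply MorphismProperty.Over.Hom.ext
    exact pullback.condition
  let F₁ : B.E → An.Pts Y₁.left := f₁.toFun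
  let F₂ : B.E → An.Pts Y₂.left := f₂.toFun
  have eb : ∀ b : B.E, (F₁ b).1 ≫ g₁.left = (F₂ b).1 ≫ g₂.left := by
    intro b
    have := congrArg (fun φ : B ⟶ (An.eps X).obj Z => ((φ.toFun b : An.Pts Z.left)).1) e
    exact this
  let hfun : B.E → An.Pts P.left := fun b =>
    ⟨pullback.lift (F₁ b).1 (F₂ b).1 (eb b), by
      have hb2 : (F₁ b).1 ≫ (Y₁.hom ≫ (X ↘ An.SC)) = 𝟙 _ := (F₁ b).2
      show pullback.lift _ _ _ ≫ ((pullback.fst g₁.left g₂.left ≫ Y₁.hom) ≫ (X ↘ An.SC)) = 𝟙 _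
      rw [Category.assoc, ← Category.assoc, pullback.lift_fst]
      exact hb2⟩
  have h₁ : ∀ b, An.Pts.map p₁.left (hfun b) = F₁ b := by
    intro b
    apply Subtype.ext
    exact pullback.lift_fst _ _ _
  have h₂ : ∀ b, An.Pts.map p₂.left (hfun b) = F₂ b := by
    intro b
    apply Subtype.ext
    exact pullback.lift_snd _ _ _
  have hsq : ∀ z : An.Pts P.left, An.Pts.map g₁.left (An.Pts.map p₁.left z) =
      An.Pts.map g₂.left (An.Pts.map p₂.left z) := by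
    intro z
    apply Subtype.ext
    show (z.1 ≫ pullback.fst g₁.left g₂.left) ≫ g₁.left =
      (z.1 ≫ pullback.snd g₁.left g₂.left) ≫ g₂.left
    exact (Category.assoc _ _ _).trans ((congrArg (fun t => z.1 ≫ t) pullback.condition).trans
      (Category.assoc _ _ _).symm)
  have hinj : ∀ z z' : An.Pts P.left, An.Pts.map p₁.left z = An.Pts.map p₁.left z' →
      An.Pts.map p₂.left z = An.Pts.map p₂.left z' → z = z' := by
    intro z z' e1 e2
    apply Subtype.ext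
    exact pullback.hom_ext (congrArg Subtype.val e1) (congrArg Subtype.val e2)
  have hcont : Continuous hfun :=
    continuous_of_lift (An.Pts.map p₁.left) (An.Pts.map p₂.left) (An.Pts.map g₁.left)
      (An.Pts.map g₂.left) (lh_map X p₁) (An.Pts.continuous_map p₂.left) (lh_map X g₂)
      hsq hinj hfun F₁ F₂ f₁.continuous f₂.continuous h₁ h₂
  have hover : ∀ a, ((An.eps X).obj P).p (hfun a) = B.p a := by
    intro a
    rw [← f₁.over a]
    apply Subtype.ext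
    show pullback.lift _ _ _ ≫ (pullback.fst g₁.left g₂.left ≫ Y₁.hom) = (F₁ a).1 ≫ Y₁.hom
    rw [← Category.assoc, pullback.lift_fst]
  let h : B ⟶ (An.eps X).obj P := ⟨hfun, hcont, hover⟩
  refine ⟨P, p₁, p₂, h, hp, ?_, ?_⟩
  · exact An.Cl.hom_ext (funext h₁)
  · exact An.Cl.hom_ext (funext h₂)

theorem compat : CompatiblePreserving.{1} (An.Cl.topology (An.Pts X)) (An.eps X) := by
  constructor
  intro ℱ Z T x hx Y₁ Y₂ B f₁ f₂ g₁ g₂ hg₁ hg₂ e
  obtain ⟨P, p₁, p₂, h, hp, hh₁, hh₂⟩ := key X g₁ g₂ f₁ f₂ e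
  have hc := hx p₁ p₂ hg₁ hg₂ hp
  have hc' : ℱ.obj.map ((An.eps X).map p₁).op (x g₁ hg₁) =
      ℱ.obj.map ((An.eps X).map p₂).op (x g₂ hg₂) := hc
  calc ℱ.obj.map f₁.op (x g₁ hg₁)
      = ℱ.obj.map (h ≫ (An.eps X).map p₁).op (x g₁ hg₁) := by rw [hh₁]
    _ = ℱ.obj.map h.op (ℱ.obj.map ((An.eps X).map p₁).op (x g₁ hg₁)) := by simp
    _ = ℱ.obj.map h.op (ℱ.obj.map ((An.eps X).map p₂).op (x g₂ hg₂)) := by rw [hc']
    _ = ℱ.obj.map (h ≫ (An.eps X).map p₂).op (x g₂ hg₂) := by simp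
    _ = ℱ.obj.map f₂.op (x g₂ hg₂) := by rw [hh₂]

set_option backward.isDefEq.respectTransparency.types false in
theorem coverPres :
    CoverPreserving X.smallEtaleTopology (An.Cl.topology (An.Pts X)) (An.eps X) := by
  constructor
  intro U S hS
  have hS' : ∀ x : U.left, ∃ (Y : X.Etale) (f : Y ⟶ U) (y : Y.left),
      S f ∧ Etale f.left ∧ f.left y = x := by
    have h1 := Scheme.smallGrothendieckTopology_eq_toGrothendieck_smallPretopology
      (P := @Etale.{0}) (Q := @Etale.{0}) X le_rfl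
    have h2 : S ∈ (Scheme.smallPretopology (S := X) @Etale.{0} @Etale.{0}).toGrothendieck U := by
      rw [← h1]
      exact hS
    exact (Scheme.mem_toGrothendieck_smallPretopology U S).1 h2
  change ∀ a : ((An.eps X).obj U).E, ∃ (B : An.Cl (An.Pts X)) (g : B ⟶ (An.eps X).obj U),
    (Sieve.functorPushforward (An.eps X) S) g ∧ IsOpenEmbedding g.toFun ∧
      a ∈ Set.range g.toFun
  intro a
  let a' : An.Pts U.left := a
  obtain ⟨W, w, v, hSw, -, hv⟩ := hS' a'.pt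
  obtain ⟨a₁, ha₁⟩ := exists_lift w.left a' ⟨v, hv⟩
  obtain ⟨φ, hφs, hφ⟩ := lh_map X w a₁
  refine ⟨An.Cl.restrictOpen ((An.eps X).obj W) φ.source φ.open_source,
    An.Cl.restrictOpenι _ _ _ ≫ (An.eps X).map w, ?_, ?_, ?_⟩
  · exact ⟨W, w, An.Cl.restrictOpenι _ _ _, hSw, rfl⟩
  · have hfun : (An.Cl.restrictOpenι ((An.eps X).obj W) φ.source φ.open_source ≫
        (An.eps X).map w).toFun = φ.source.domRestrict φ := by
      funext z
      show An.Pts.map w.left z.1 = φ z.1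
      rw [hφ]
    rw [hfun]
    exact φ.isOpenEmbedding_restrict
  · exact ⟨⟨a₁, hφs⟩, ha₁⟩

theorem epsCont : An.EpsCont X :=
  Functor.isContinuous_of_coverPreserving (compat X) (coverPres X)

end main

end Groth.Agent.H10.EpsA
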