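import Mathlib
import Groth.Agent.H10.DerAdj

set_option autoImplicit false

open CategoryTheory Limits

namespace Groth.Agent.H10.ExtAdj

section Pre

variable {C : Type*} [Category C] [Preadditive C]

/-- precomposition with an isomorphism as an additive equivalence -/
def preAddEquiv {X X' : C} (e : X ≅ X') (Y : C) : (X' ⟶ Y) ≃+ (X ⟶ Y) where
  toFun f := e.hom ≫ f
  invFun g := e.inv ≫ g
  left_inv f := by simp
  right_inv g := by simp
  map_add' f g := by simp

/-- postcomposition with an isomorphism as an additive equivalence -/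
def postAddEquiv (X : C) {Y Y' : C} (e : Y ≅ Y') : (X ⟶ Y) ≃+ (X ⟶ Y') where
  toFun f := f ≫ e.hom
  invFun g := g ≫ e.inv
  left_inv f := by simp
  right_inv g := by simp
  map_add' f g := by simp

end Pre

universe w₁ w₂ v₁ v₂ u₁ u₂

variable {A : Type u₁} {B : Type u₂} [Category.{v₁} A] [Category.{v₂} B] [Abelian A] [Abelian B]
  [HasExt.{w₁} A] [HasExt.{w₂} B]
  {L : A ⥤ B} {R : B ⥤ A} [L.Additive] [R.Additive]
  [PreservesFiniteLimits L] [PreservesFiniteColimits L]
  [PreservesFiniteLimits R] [PreservesFiniteColimits R]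

attribute [local instance] HasDerivedCategory.standard

open DerivedCategory in
/-- `Ext^n(L X, Y) ≃+ Ext^n(X, R Y)` for an adjunction between exact functors. -/
theorem nonempty_ext_addEquiv (adj : L ⊣ R) (X : A) (Y : B) (n : ℕ) :
    Nonempty (Abelian.Ext.{w₂} (L.obj X) Y n ≃+ Abelian.Ext.{w₁} X (R.obj Y) n) := by
  let L' := L.mapDerivedCategory
  let R' := R.mapDerivedCategory
  let adj' : L' ⊣ R' := DerAdj.mapDerivedCategoryAdj adj
  let sL := (L.mapDerivedCategorySingleFunctor 0).app X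
  let sR := (R.mapDerivedCategorySingleFunctor 0).app Y
  let e1 : Abelian.Ext.{w₂} (L.obj X) Y n ≃+
      ((singleFunctor B 0).obj (L.obj X) ⟶ ((singleFunctor B 0).obj Y)⟦(n : ℤ)⟧) :=
    Abelian.Ext.homAddEquiv
  let e2 : ((singleFunctor B 0).obj (L.obj X) ⟶ ((singleFunctor B 0).obj Y)⟦(n : ℤ)⟧) ≃+
      (L'.obj ((singleFunctor A 0).obj X) ⟶ ((singleFunctor B 0).obj Y)⟦(n : ℤ)⟧) :=
    preAddEquiv sL _
  let e3 : (L'.obj ((singleFunctor A 0).obj X) ⟶ ((singleFunctor B 0).obj Y)⟦(n : ℤ)⟧) ≃+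
      ((singleFunctor A 0).obj X ⟶ R'.obj (((singleFunctor B 0).obj Y)⟦(n : ℤ)⟧)) :=
    adj'.homAddEquiv _ _
  let e4 : ((singleFunctor A 0).obj X ⟶ R'.obj (((singleFunctor B 0).obj Y)⟦(n : ℤ)⟧)) ≃+
      ((singleFunctor A 0).obj X ⟶ (R'.obj ((singleFunctor B 0).obj Y))⟦(n : ℤ)⟧) :=
    postAddEquiv _ ((R'.commShiftIso (n : ℤ)).app _)
  let e5 : ((singleFunctor A 0).obj X ⟶ (R'.obj ((singleFunctor B 0).obj Y))⟦(n : ℤ)⟧) ≃+
      ((singleFunctor A 0).obj X ⟶ ((singleFunctor A 0).obj (R.obj Y))⟦(n : ℤ)⟧) :=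
    postAddEquiv _ ((shiftFunctor _ (n : ℤ)).mapIso sR)
  let e6 : Abelian.Ext.{w₁} X (R.obj Y) n ≃+
      ((singleFunctor A 0).obj X ⟶ ((singleFunctor A 0).obj (R.obj Y))⟦(n : ℤ)⟧) :=
    Abelian.Ext.homAddEquiv
  exact ⟨e1.trans (e2.trans (e3.trans (e4.trans (e5.trans e6.symm))))⟩

open DerivedCategory in
/-- variant with an identification `L X ≅ X'`. -/
theorem nonempty_ext_addEquiv' (adj : L ⊣ R) (X : A) (X' : B) (i : L.obj X ≅ X') (Y : B)
    (n : ℕ) :
    Nonempty (Abelian.Ext.{w₂} X' Y n ≃+ Abelian.Ext.{w₁} X (R.obj Y) n) := by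
  obtain ⟨e⟩ := nonempty_ext_addEquiv.{w₁, w₂} adj X Y n
  let e0 : Abelian.Ext.{w₂} X' Y n ≃+
      ((singleFunctor B 0).obj X' ⟶ ((singleFunctor B 0).obj Y)⟦(n : ℤ)⟧) :=
    Abelian.Ext.homAddEquiv
  let e1 : Abelian.Ext.{w₂} (L.obj X) Y n ≃+
      ((singleFunctor B 0).obj (L.obj X) ⟶ ((singleFunctor B 0).obj Y)⟦(n : ℤ)⟧) :=
    Abelian.Ext.homAddEquiv
  let e2 : ((singleFunctor B 0).obj X' ⟶ ((singleFunctor B 0).obj Y)⟦(n : ℤ)⟧) ≃+
      ((singleFunctor B 0).obj (L.obj X) ⟶ ((singleFunctor B 0).obj Y)⟦(n : ℤ)⟧) :=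
    preAddEquiv ((singleFunctor B 0).mapIso i) _
  exact ⟨e0.trans (e2.trans (e1.symm.trans e))⟩

end Groth.Agent.H10.ExtAdj

namespace Groth.Agent.H10.ExtAdj

section Const

universe v₁' v₂' v₃' u₁' u₂' u₃'

variable {C : Type u₁'} [Category.{v₁'} C] {D : Type u₂'} [Category.{v₂'} D]
  (G : C ⥤ D) (A : Type u₃') [Category.{v₃'} A]
  (J : GrothendieckTopology C) (K : GrothendieckTopology D) [G.IsContinuous J K]
  [HasWeakSheafify J A] [HasWeakSheafify K A]
  [(G.sheafPushforwardContinuous A J K).IsRightAdjoint]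

/-- the pullback of a constant sheaf along a continuous functor preserving the terminal object
is the constant sheaf -/
theorem nonempty_pullback_constantSheaf_iso {T : C} (hT : IsTerminal T)
    (hT' : IsTerminal (G.obj T)) (M : A) :
    Nonempty ((G.sheafPullback A J K).obj ((constantSheaf J A).obj M) ≅
      (constantSheaf K A).obj M) := by
  let adj1 := (constantSheafAdj J A hT).comp (G.sheafAdjunctionContinuous A J K)
  let adj2 := constantSheafAdj K A hT'
  let iso : G.sheafPushforwardContinuous A J K ⋙ (sheafSections J A).obj (Opposite.op T) ≅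
      (sheafSections K A).obj (Opposite.op (G.obj T)) :=
    NatIso.ofComponents (fun F => Iso.refl _) (by
      intro X Y f
      simp
      erw [Category.comp_id, Category.id_comp])
  exact ⟨((adj1.ofNatIsoRight iso).leftAdjointUniq adj2).app M⟩

end Const

end Groth.Agent.H10.ExtAdj
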