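import Mathlib
import Groth.Agent.H10.DerAdj
import Groth.Agent.H10.ExtAdj

set_option autoImplicit false

open CategoryTheory Limits

namespace Groth.Agent.H10.ExtAdjNat

open Groth.Agent.H10.ExtAdj

universe w₁ w₂ v₁ v₂ u₁ u₂

variable {A : Type u₁} {B : Type u₂} [Category.{v₁} A] [Category.{v₂} B] [Abelian A] [Abelian B]
  [HasExt.{w₁} A] [HasExt.{w₂} B]
  {L : A ⥤ B} {R : B ⥤ A} [L.Additive] [R.Additive]
  [PreservesFiniteLimits L] [PreservesFiniteColimits L]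
  [PreservesFiniteLimits R] [PreservesFiniteColimits R]

attribute [local instance] HasDerivedCategory.standard

open DerivedCategory

/-- `Hom_D(L X, Y[n]) ≃+ Hom_D(X, (R Y)[n])`, at the level of derived categories -/
noncomputable def homAdjEquiv (adj : L ⊣ R) (X : A) (Y : B) (n : ℕ) :
    ((singleFunctor B 0).obj (L.obj X) ⟶ ((singleFunctor B 0).obj Y)⟦(n : ℤ)⟧) ≃+
      ((singleFunctor A 0).obj X ⟶ ((singleFunctor A 0).obj (R.obj Y))⟦(n : ℤ)⟧) :=
  (preAddEquiv ((L.mapDerivedCategorySingleFunctor 0).app X) _).trans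
    (((DerAdj.mapDerivedCategoryAdj adj).homAddEquiv _ _).trans
      ((postAddEquiv _ ((R.mapDerivedCategory.commShiftIso (n : ℤ)).app _)).trans
        (postAddEquiv _ ((shiftFunctor _ (n : ℤ)).mapIso
          ((R.mapDerivedCategorySingleFunctor 0).app Y)))))

omit [HasExt.{w₁} A] [HasExt.{w₂} B] in
lemma homAdjEquiv_naturality (adj : L ⊣ R) (X : A) {Y Y' : B} (φ : Y ⟶ Y') (n : ℕ)
    (x : (singleFunctor B 0).obj (L.obj X) ⟶ ((singleFunctor B 0).obj Y)⟦(n : ℤ)⟧) :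
    homAdjEquiv adj X Y' n (x ≫ ((singleFunctor B 0).map φ)⟦(n : ℤ)⟧') =
      homAdjEquiv adj X Y n x ≫ ((singleFunctor A 0).map (R.map φ))⟦(n : ℤ)⟧' := by
  let adj' := DerAdj.mapDerivedCategoryAdj adj
  show ((adj'.homEquiv _ _ ((L.mapDerivedCategorySingleFunctor 0).hom.app X ≫
      x ≫ ((singleFunctor B 0).map φ)⟦(n : ℤ)⟧')) ≫
      (R.mapDerivedCategory.commShiftIso (n : ℤ)).hom.app _) ≫
      ((R.mapDerivedCategorySingleFunctor 0).hom.app Y')⟦(n : ℤ)⟧' =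
    (((adj'.homEquiv _ _ ((L.mapDerivedCategorySingleFunctor 0).hom.app X ≫ x)) ≫
      (R.mapDerivedCategory.commShiftIso (n : ℤ)).hom.app _) ≫
      ((R.mapDerivedCategorySingleFunctor 0).hom.app Y)⟦(n : ℤ)⟧') ≫
      ((singleFunctor A 0).map (R.map φ))⟦(n : ℤ)⟧'
  rw [← Category.assoc, Adjunction.homEquiv_naturality_right]
  have h1 := (R.mapDerivedCategory.commShiftIso (n : ℤ)).hom.naturality ((singleFunctor B 0).map φ)
  have h2 := (R.mapDerivedCategorySingleFunctor 0).hom.naturality φ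
  simp only [Functor.comp_map] at h1 h2
  simp only [Category.assoc]
  rw [reassoc_of% h1, ← Functor.map_comp, h2, Functor.map_comp]

/-- `Ext^n(L X, Y) ≃+ Ext^n(X, R Y)` for an adjunction between exact functors. -/
noncomputable def extAdjEquiv (adj : L ⊣ R) (X : A) (Y : B) (n : ℕ) :
    Abelian.Ext.{w₂} (L.obj X) Y n ≃+ Abelian.Ext.{w₁} X (R.obj Y) n :=
  (Abelian.Ext.homAddEquiv).trans ((homAdjEquiv adj X Y n).trans Abelian.Ext.homAddEquiv.symm)

lemma hom_comp_mk₀ {C : Type*} [Category C] [Abelian C] [HasExt.{w₁} C] {X Y Y' : C} (n : ℕ)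
    (x : Abelian.Ext.{w₁} X Y n) (φ : Y ⟶ Y') :
    (x.comp (Abelian.Ext.mk₀ φ) (add_zero n)).hom =
      x.hom ≫ ((singleFunctor C 0).map φ)⟦(n : ℤ)⟧' := by
  rw [Abelian.Ext.comp_hom, Abelian.Ext.mk₀_hom, ShiftedHom.comp_mk₀]

theorem extAdjEquiv_naturality (adj : L ⊣ R) (X : A) {Y Y' : B} (φ : Y ⟶ Y') (n : ℕ)
    (x : Abelian.Ext.{w₂} (L.obj X) Y n) :
    extAdjEquiv adj X Y' n (x.comp (Abelian.Ext.mk₀ φ) (add_zero n)) =
      (extAdjEquiv adj X Y n x).comp (Abelian.Ext.mk₀ (R.map φ)) (add_zero n) := by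
  apply Abelian.Ext.homAddEquiv.injective
  rw [Abelian.Ext.homAddEquiv_apply, Abelian.Ext.homAddEquiv_apply, hom_comp_mk₀]
  show Abelian.Ext.homAddEquiv (Abelian.Ext.homAddEquiv.symm _) =
    Abelian.Ext.homAddEquiv (Abelian.Ext.homAddEquiv.symm _) ≫ _
  rw [AddEquiv.apply_symm_apply, AddEquiv.apply_symm_apply]
  have h := homAdjEquiv_naturality adj X φ n x.hom
  rw [← hom_comp_mk₀] at h
  exact h

omit [HasExt.{w₁} A] [HasExt.{w₂} B] in
lemma homAdjEquiv_naturality_left (adj : L ⊣ R) {X X' : A} (a : X' ⟶ X) (Y : B) (n : ℕ)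
    (x : (singleFunctor B 0).obj (L.obj X) ⟶ ((singleFunctor B 0).obj Y)⟦(n : ℤ)⟧) :
    homAdjEquiv adj X' Y n ((singleFunctor B 0).map (L.map a) ≫ x) =
      (singleFunctor A 0).map a ≫ homAdjEquiv adj X Y n x := by
  let adj' := DerAdj.mapDerivedCategoryAdj adj
  show ((adj'.homEquiv _ _ ((L.mapDerivedCategorySingleFunctor 0).hom.app X' ≫
      (singleFunctor B 0).map (L.map a) ≫ x)) ≫
      (R.mapDerivedCategory.commShiftIso (n : ℤ)).hom.app _) ≫
      ((R.mapDerivedCategorySingleFunctor 0).hom.app Y)⟦(n : ℤ)⟧' =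
    (singleFunctor A 0).map a ≫ (((adj'.homEquiv _ _
      ((L.mapDerivedCategorySingleFunctor 0).hom.app X ≫ x)) ≫
      (R.mapDerivedCategory.commShiftIso (n : ℤ)).hom.app _) ≫
      ((R.mapDerivedCategorySingleFunctor 0).hom.app Y)⟦(n : ℤ)⟧')
  have h1 := (L.mapDerivedCategorySingleFunctor 0).hom.naturality a
  simp only [Functor.comp_map] at h1
  rw [← Category.assoc, ← h1]
  simp only [Category.assoc]
  rw [Adjunction.homEquiv_naturality_left]
  simp only [Category.assoc]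

lemma hom_mk₀_comp {C : Type*} [Category C] [Abelian C] [HasExt.{w₁} C] {X X' Y : C} (n : ℕ)
    (a : X' ⟶ X) (x : Abelian.Ext.{w₁} X Y n) :
    ((Abelian.Ext.mk₀ a).comp x (zero_add n)).hom =
      (singleFunctor C 0).map a ≫ x.hom := by
  rw [Abelian.Ext.comp_hom, Abelian.Ext.mk₀_hom, ShiftedHom.mk₀_comp]

theorem extAdjEquiv_naturality_left (adj : L ⊣ R) {X X' : A} (a : X' ⟶ X) (Y : B) (n : ℕ)
    (x : Abelian.Ext.{w₂} (L.obj X) Y n) :
    extAdjEquiv adj X' Y n ((Abelian.Ext.mk₀ (L.map a)).comp x (zero_add n)) =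
      (Abelian.Ext.mk₀ a).comp (extAdjEquiv adj X Y n x) (zero_add n) := by
  apply Abelian.Ext.homAddEquiv.injective
  rw [Abelian.Ext.homAddEquiv_apply, Abelian.Ext.homAddEquiv_apply, hom_mk₀_comp]
  show Abelian.Ext.homAddEquiv (Abelian.Ext.homAddEquiv.symm _) =
    _ ≫ Abelian.Ext.homAddEquiv (Abelian.Ext.homAddEquiv.symm _)
  rw [AddEquiv.apply_symm_apply, AddEquiv.apply_symm_apply]
  have h := homAdjEquiv_naturality_left adj a Y n x.hom
  rw [← hom_mk₀_comp] at h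
  exact h

end Groth.Agent.H10.ExtAdjNat
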