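import Mathlib

universe w v u

open CategoryTheory CategoryTheory.Limits Abelian

namespace Groth.Agent.H10.ExtBiprod

variable {C : Type u} [Category.{v} C] [Abelian C] [HasExt.{w} C]
variable {A B Y : C} {n : ℕ}

/-- the class on `A ⊞ B` with components `y₁`, `y₂` -/
noncomputable def pair (y₁ : Ext A Y n) (y₂ : Ext B Y n) : Ext (A ⊞ B) Y n :=
  (Ext.mk₀ biprod.fst).comp y₁ (zero_add n) + (Ext.mk₀ biprod.snd).comp y₂ (zero_add n)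

lemma inl_pair (y₁ : Ext A Y n) (y₂ : Ext B Y n) :
    (Ext.mk₀ biprod.inl).comp (pair y₁ y₂) (zero_add n) = y₁ := by
  rw [pair, Ext.comp_add, Ext.mk₀_comp_mk₀_assoc, Ext.mk₀_comp_mk₀_assoc, biprod.inl_fst,
    biprod.inl_snd, Ext.mk₀_id_comp, Ext.mk₀_zero, Ext.zero_comp, add_zero]

lemma inr_pair (y₁ : Ext A Y n) (y₂ : Ext B Y n) :
    (Ext.mk₀ biprod.inr).comp (pair y₁ y₂) (zero_add n) = y₂ := by
  rw [pair, Ext.comp_add, Ext.mk₀_comp_mk₀_assoc, Ext.mk₀_comp_mk₀_assoc, biprod.inr_fst,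
    biprod.inr_snd, Ext.mk₀_id_comp, Ext.mk₀_zero, Ext.zero_comp, zero_add]

lemma pair_eta (z : Ext (A ⊞ B) Y n) :
    pair ((Ext.mk₀ biprod.inl).comp z (zero_add n)) ((Ext.mk₀ biprod.inr).comp z (zero_add n)) =
      z := by
  rw [pair, Ext.mk₀_comp_mk₀_assoc, Ext.mk₀_comp_mk₀_assoc, ← Ext.add_comp, ← Ext.mk₀_add,
    biprod.total, Ext.mk₀_id_comp]

lemma pair_zero : pair (0 : Ext A Y n) (0 : Ext B Y n) = 0 := by
  rw [pair, Ext.comp_zero, Ext.comp_zero, add_zero]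

lemma lift_comp_pair {T : C} (f₁ : T ⟶ A) (f₂ : T ⟶ B) (y₁ : Ext A Y n) (y₂ : Ext B Y n) :
    (Ext.mk₀ (biprod.lift f₁ f₂)).comp (pair y₁ y₂) (zero_add n) =
      (Ext.mk₀ f₁).comp y₁ (zero_add n) + (Ext.mk₀ f₂).comp y₂ (zero_add n) := by
  rw [pair, Ext.comp_add, Ext.mk₀_comp_mk₀_assoc, Ext.mk₀_comp_mk₀_assoc, biprod.lift_fst,
    biprod.lift_snd]

lemma lift_neg_comp_pair {T : C} (f₁ : T ⟶ A) (f₂ : T ⟶ B) (y₁ : Ext A Y n) (y₂ : Ext B Y n) :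
    (Ext.mk₀ (biprod.lift f₁ (-f₂))).comp (pair y₁ y₂) (zero_add n) =
      (Ext.mk₀ f₁).comp y₁ (zero_add n) - (Ext.mk₀ f₂).comp y₂ (zero_add n) := by
  rw [lift_comp_pair, Ext.mk₀_neg, Ext.neg_comp, sub_eq_add_neg]

lemma desc_comp {T : C} (g₁ : A ⟶ T) (g₂ : B ⟶ T) (x : Ext T Y n) :
    (Ext.mk₀ (biprod.desc g₁ g₂)).comp x (zero_add n) =
      pair ((Ext.mk₀ g₁).comp x (zero_add n)) ((Ext.mk₀ g₂).comp x (zero_add n)) := by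
  rw [pair, Ext.mk₀_comp_mk₀_assoc, Ext.mk₀_comp_mk₀_assoc, ← Ext.add_comp, ← Ext.mk₀_add,
    ← biprod.desc_eq]

end Groth.Agent.H10.ExtBiprod
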