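import Mathlib

set_option autoImplicit false
set_option linter.unusedSectionVars false
universe u v
open CategoryTheory CategoryTheory.Limits Opposite CategoryTheory.Abelian

namespace Groth.Agent.H10.ExtRD

variable {C : Type u} [Category.{v} C] [Abelian C] [HasExt.{v} C] (A : C)

/-- `Hom(A, -)` with values in abelian groups -/
noncomputable abbrev F : C ⥤ AddCommGrpCat.{v} := preadditiveCoyoneda.obj (op A)

variable {A} {Y : C} (R : InjectiveResolution Y)

/-- the complex `Hom(A, R^•)` -/
noncomputable abbrev K : CochainComplex AddCommGrpCat.{v} ℕ :=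
  ((F A).mapHomologicalComplex (ComplexShape.up ℕ)).obj R.cocomplex

lemma d_apply (n m : ℕ) (f : A ⟶ R.cocomplex.X n) :
    (K (A := A) R).d n m f = f ≫ R.cocomplex.d n m := rfl

lemma extMk_congr {n : ℕ} {f f' : A ⟶ R.cocomplex.X n} (h : f = f') (m : ℕ) (hm : n + 1 = m)
    (hf : f ≫ R.cocomplex.d n m = 0) :
    R.extMk f m hm hf = R.extMk f' m hm (h ▸ hf) := by
  subst h
  rfl

lemma cyc (n : ℕ) (z : (K (A := A) R).cycles n) :
    ((K (A := A) R).iCycles n z : A ⟶ R.cocomplex.X n) ≫ R.cocomplex.d n (n + 1) = 0 := by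
  have h := ConcreteCategory.congr_hom ((K (A := A) R).iCycles_d n (n + 1)) z
  exact h

/-- cycles to Ext -/
noncomputable def cyclesToExt (n : ℕ) :
    (K (A := A) R).cycles n ⟶ ((extFunctor n).obj (op A)).obj Y :=
  AddCommGrpCat.ofHom (AddMonoidHom.mk'
    (fun z => R.extMk ((K (A := A) R).iCycles n z) (n + 1) rfl (cyc R n z)) (by
      intro a b
      rw [R.add_extMk]
      exact extMk_congr R (map_add ((K (A := A) R).iCycles n).hom a b) _ _ _))

lemma cyclesToExt_apply (n : ℕ) (z : (K (A := A) R).cycles n) :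
    cyclesToExt R n z = R.extMk ((K (A := A) R).iCycles n z) (n + 1) rfl (cyc R n z) := rfl

lemma toCycles_cyclesToExt (p : ℕ) :
    (K (A := A) R).toCycles p (p + 1) ≫ cyclesToExt R (p + 1) = 0 := by
  apply ConcreteCategory.hom_ext
  intro g
  rw [ConcreteCategory.comp_apply, cyclesToExt_apply]
  have h1 : (K (A := A) R).iCycles (p + 1) ((K (A := A) R).toCycles p (p + 1) g) =
      (g : A ⟶ R.cocomplex.X p) ≫ R.cocomplex.d p (p + 1) := by
    have := ConcreteCategory.congr_hom ((K (A := A) R).toCycles_i p (p + 1)) g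
    exact this
  rw [extMk_congr R h1]
  exact (R.extMk_eq_zero_iff _ _ _ _ p rfl).mpr ⟨g, rfl⟩

/-- homology to Ext -/
noncomputable def homToExt (p : ℕ) :
    (K (A := A) R).homology (p + 1) ⟶ ((extFunctor (p + 1)).obj (op A)).obj Y :=
  ((K (A := A) R).homologyIsCokernel p (p + 1) (by simp)).desc
    (CokernelCofork.ofπ (cyclesToExt R (p + 1)) (toCycles_cyclesToExt R p))

lemma π_homToExt (p : ℕ) :
    (K (A := A) R).homologyπ (p + 1) ≫ homToExt R p = cyclesToExt R (p + 1) :=
  ((K (A := A) R).homologyIsCokernel p (p + 1) (by simp)).fac _ WalkingParallelPair.one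

lemma homToExt_bijective (p : ℕ) : Function.Bijective (homToExt (A := A) R p) := by
  have hπ : Function.Surjective ((K (A := A) R).homologyπ (p + 1)) := by
    rw [← AddCommGrpCat.epi_iff_surjective]
    infer_instance
  have hι : Function.Injective ((K (A := A) R).iCycles (p + 1)) := by
    rw [← AddCommGrpCat.mono_iff_injective]
    infer_instance
  constructor
  · rw [injective_iff_map_eq_zero]
    intro h hh
    obtain ⟨z, rfl⟩ := hπ h
    have h1 : cyclesToExt R (p + 1) z = 0 := by
      rw [← π_homToExt R p]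
      exact hh
    have h1' : R.extMk ((K (A := A) R).iCycles (p + 1) z : A ⟶ R.cocomplex.X (p + 1)) (p + 2) rfl
        (cyc R (p + 1) z) = (0 : Ext A Y (p + 1)) := h1
    obtain ⟨g, hg⟩ := (R.extMk_eq_zero_iff _ _ _ _ p rfl).mp h1'
    have h2 : (K (A := A) R).toCycles p (p + 1) g = z := by
      apply hι
      have := ConcreteCategory.congr_hom ((K (A := A) R).toCycles_i p (p + 1)) g
      exact this.trans hg
    rw [← h2]
    have := ConcreteCategory.congr_hom ((K (A := A) R).toCycles_comp_homologyπ p (p + 1)) g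
    exact this
  · intro α
    obtain ⟨f, hf, rfl⟩ := R.extMk_surjective α (p + 2) rfl
    let S : ShortComplex AddCommGrpCat.{v} :=
      ShortComplex.mk ((K (A := A) R).iCycles (p + 1)) ((K (A := A) R).d (p + 1) (p + 2))
        ((K (A := A) R).iCycles_d (p + 1) (p + 2))
    have hS : S.Exact :=
      S.exact_of_f_is_kernel ((K (A := A) R).cyclesIsKernel (p + 1) (p + 2) (by simp))
    obtain ⟨z, hz⟩ := (S.ab_exact_iff).mp hS f hf
    refine ⟨(K (A := A) R).homologyπ (p + 1) z, ?_⟩
    have h1 : homToExt R p ((K (A := A) R).homologyπ (p + 1) z) = cyclesToExt R (p + 1) z := by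
      rw [← π_homToExt R p]
      rfl
    rw [h1, cyclesToExt_apply]
    exact extMk_congr R hz _ _ _

/-- naturality of `homToExt` -/
lemma homToExt_naturality {Y' : C} {R' : InjectiveResolution Y'} {g : Y ⟶ Y'}
    (φ : InjectiveResolution.Hom R R' g) (p : ℕ) :
    HomologicalComplex.homologyMap (((F A).mapHomologicalComplex (ComplexShape.up ℕ)).map φ.hom)
        (p + 1) ≫ homToExt R' p =
      homToExt R p ≫ ((extFunctor (p + 1)).obj (op A)).map g := by
  rw [← cancel_epi ((K (A := A) R).homologyπ (p + 1))]
  have e1 : (K (A := A) R).homologyπ (p + 1) ≫ HomologicalComplex.homologyMap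
      (((F A).mapHomologicalComplex (ComplexShape.up ℕ)).map φ.hom) (p + 1) ≫ homToExt R' p =
      HomologicalComplex.cyclesMap (((F A).mapHomologicalComplex (ComplexShape.up ℕ)).map φ.hom)
        (p + 1) ≫ cyclesToExt R' (p + 1) := by
    rw [HomologicalComplex.homologyπ_naturality_assoc, π_homToExt]
  have e2 : (K (A := A) R).homologyπ (p + 1) ≫ homToExt R p ≫
      ((extFunctor (p + 1)).obj (op A)).map g =
      cyclesToExt R (p + 1) ≫ ((extFunctor (p + 1)).obj (op A)).map g := by
    rw [← Category.assoc, π_homToExt]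
  rw [e1, e2]
  apply ConcreteCategory.hom_ext
  intro z
  rw [ConcreteCategory.comp_apply, ConcreteCategory.comp_apply, cyclesToExt_apply,
    cyclesToExt_apply]
  have h1 : (K (A := A) R').iCycles (p + 1)
      (HomologicalComplex.cyclesMap (((F A).mapHomologicalComplex (ComplexShape.up ℕ)).map φ.hom)
        (p + 1) z) =
      ((K (A := A) R).iCycles (p + 1) z : A ⟶ R.cocomplex.X (p + 1)) ≫ φ.hom.f (p + 1) := by
    have := ConcreteCategory.congr_hom (HomologicalComplex.cyclesMap_i
      (((F A).mapHomologicalComplex (ComplexShape.up ℕ)).map φ.hom) (p + 1)) z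
    exact this
  rw [extMk_congr R' h1]
  exact (InjectiveResolution.extMk_comp_mk₀ _ _ rfl _ φ).symm

/-- `homToExt` as an isomorphism -/
noncomputable def homToExtIso (p : ℕ) :
    (K (A := A) R).homology (p + 1) ≅ ((extFunctor (p + 1)).obj (op A)).obj Y :=
  haveI : IsIso (homToExt (A := A) R p) :=
    (ConcreteCategory.isIso_iff_bijective _).mpr (homToExt_bijective R p)
  asIso (homToExt (A := A) R p)

lemma homToExtIso_hom (p : ℕ) : (homToExtIso (A := A) R p).hom = homToExt R p := rfl

variable (A) [HasInjectiveResolutions C]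

/-- the higher right derived functors of `Hom(A, -)` are the `Ext` functors -/
noncomputable def isoSucc (p : ℕ) :
    (F A).rightDerived (p + 1) ≅ (extFunctor (p + 1)).obj (op A) :=
  NatIso.ofComponents
    (fun Y => (injectiveResolution Y).isoRightDerivedObj (F A) (p + 1) ≪≫
      homToExtIso (A := A) (injectiveResolution Y) p)
    (by
      intro Y Y' g
      generalize injectiveResolution Y = I
      generalize injectiveResolution Y' = J
      let φ : I.cocomplex ⟶ J.cocomplex := InjectiveResolution.desc g J I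
      have w : I.ι ≫ φ = (CochainComplex.single₀ C).map g ≫ J.ι :=
        InjectiveResolution.desc_commutes g J I
      have e1 := Functor.rightDerived_map_eq (F A) (p + 1) g φ w
      let Φ : InjectiveResolution.Hom I J g :=
        ⟨φ, by simpa using HomologicalComplex.congr_hom w 0⟩
      have e2 := homToExt_naturality (A := A) I Φ p
      simp only [Iso.trans_hom, homToExtIso_hom, Category.assoc]
      rw [e1]
      simp only [Category.assoc, Iso.inv_hom_id_assoc]
      exact congrArg (fun t => (I.isoRightDerivedObj (F A) (p + 1)).hom ≫ t) e2)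

/-- `Hom(A, -) ≅ Ext^0(A, -)` -/
noncomputable def homIsoExtZero : F A ≅ (extFunctor 0).obj (op A) :=
  NatIso.ofComponents
    (fun Y => (Ext.addEquiv₀ (X := A) (Y := Y)).symm.toAddCommGrpIso)
    (by
      intro Y Y' g
      apply ConcreteCategory.hom_ext
      intro f
      exact (Ext.mk₀_comp_mk₀ (f : A ⟶ Y) g).symm)

/-- the zeroth right derived functor of `Hom(A, -)` -/
noncomputable def isoZero : (F A).rightDerived 0 ≅ (extFunctor 0).obj (op A) :=
  (F A).rightDerivedZeroIsoSelf ≪≫ homIsoExtZero A

theorem nonempty_iso (q : ℕ) :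
    Nonempty ((F A).rightDerived q ≅ (extFunctor q).obj (op A)) := by
  cases q with
  | zero => exact ⟨isoZero A⟩
  | succ p => exact ⟨isoSucc A p⟩

/-- right derived functors of isomorphic functors -/
noncomputable def rightDerivedIso {D : Type*} [Category D] [Abelian D] {G G' : C ⥤ D}
    [G.Additive] [G'.Additive] (e : G ≅ G') (n : ℕ) : G.rightDerived n ≅ G'.rightDerived n where
  hom := NatTrans.rightDerived e.hom n
  inv := NatTrans.rightDerived e.inv n
  hom_inv_id := by rw [← NatTrans.rightDerived_comp, e.hom_inv_id, NatTrans.rightDerived_id]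
  inv_hom_id := by rw [← NatTrans.rightDerived_comp, e.inv_hom_id, NatTrans.rightDerived_id]

end Groth.Agent.H10.ExtRD
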