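import Mathlib
import Groth.Prelude.Def_FibSite

/-!
# The total topology of a (pre-)fibred site: explicit description (helper10)
-/

set_option autoImplicit false
universe w v₃ u₃ v₂ u₂ v₁ u₁
open CategoryTheory CategoryTheory.Limits Opposite Pseudofunctor Pseudofunctor.CoGrothendieck

namespace Groth.Agent.H10.FibTot

variable {𝒮 : Type u₁} [Category.{v₁} 𝒮] {F : Pseudofunctor (LocallyDiscrete 𝒮ᵒᵖ) Cat.{v₂, u₂}}

/-- precomposing with a vertical morphism -/
lemma ι_map_comp {S : 𝒮} {W' W : F.obj ⟨op S⟩} {Y : ∫ᶜ F} (t : W' ⟶ W)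
    (h : (⟨S, W⟩ : ∫ᶜ F) ⟶ Y) :
    (ι F S).map t ≫ h = (⟨h.base, t ≫ h.fiber⟩ : (⟨S, W'⟩ : ∫ᶜ F) ⟶ Y) := by
  refine Hom.ext _ _ (Category.id_comp h.base) ?_
  have key := Hom.congr (Category.id_comp h)
  simp only [categoryStruct_comp_fiber, categoryStruct_id_fiber, categoryStruct_id_base] at key
  exact (Category.assoc _ _ _).trans
    ((congrArg (fun z => t ≫ z) key).trans (Category.assoc _ _ _).symm)

/-- postcomposing with a vertical morphism -/
lemma comp_ι_map {Z : ∫ᶜ F} {S : 𝒮} {V V' : F.obj ⟨op S⟩} (k : Z ⟶ (⟨S, V⟩ : ∫ᶜ F))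
    (s : V ⟶ V') :
    k ≫ (ι F S).map s = (⟨k.base, k.fiber ≫ (F.map k.base.op.toLoc).toFunctor.map s⟩ :
      Z ⟶ (⟨S, V'⟩ : ∫ᶜ F)) := by
  refine Hom.ext _ _ (Category.comp_id k.base) ?_
  have key := Hom.congr (Category.comp_id (cartesianLift V' k.base))
  simp only [categoryStruct_comp_fiber, categoryStruct_id_fiber, categoryStruct_id_base,
    Category.id_comp] at key
  have e1 := ((congrArg (fun z => z ≫
      (F.mapComp (𝟙 S).op.toLoc k.base.op.toLoc).inv.toNatTrans.app V')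
      ((F.map k.base.op.toLoc).toFunctor.map_comp s
        ((F.mapId ⟨op S⟩).inv.toNatTrans.app V'))).trans (Category.assoc _ _ _)).trans
      (congrArg (fun z => (F.map k.base.op.toLoc).toFunctor.map s ≫ z) key)
  exact (congrArg (fun z => k.fiber ≫ z) e1).trans (Category.assoc _ _ _).symm

lemma hom_mk_eq {X Y : ∫ᶜ F} {b : X.base ⟶ Y.base}
    {f g : X.fiber ⟶ (F.map b.op.toLoc).toFunctor.obj Y.fiber}
    (h : (⟨b, f⟩ : X ⟶ Y) = ⟨b, g⟩) : f = g := by
  have := Hom.congr h
  simpa using this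

lemma ι_map_comp_eq {X Y : ∫ᶜ F} (h : Y ⟶ X) {W' : F.obj ⟨op Y.base⟩} {V : F.obj ⟨op X.base⟩}
    (t : W' ⟶ Y.fiber) (l : W' ⟶ (F.map h.base.op.toLoc).toFunctor.obj V) (s : V ⟶ X.fiber)
    (w : t ≫ h.fiber = l ≫ (F.map h.base.op.toLoc).toFunctor.map s) :
    (ι F Y.base).map t ≫ h =
      (⟨h.base, l⟩ : (⟨Y.base, W'⟩ : ∫ᶜ F) ⟶ ⟨X.base, V⟩) ≫ (ι F X.base).map s := by
  have e1 := ι_map_comp (F := F) (S := Y.base) (W := Y.fiber) (Y := X) t h
  have e2 := comp_ι_map (F := F) (Z := ⟨Y.base, W'⟩) (S := X.base) (V := V) (V' := X.fiber)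
    ⟨h.base, l⟩ s
  exact e1.trans ((congrArg (fun z => (⟨h.base, z⟩ : (⟨Y.base, W'⟩ : ∫ᶜ F) ⟶ X)) w).trans
    e2.symm)

/-- the fibre inclusion reflects membership in pushed-forward sieves -/
lemma mem_of_ι_map_mem {S : 𝒮} {U : F.obj ⟨op S⟩} (T : Sieve U) {Y : F.obj ⟨op S⟩} (r : Y ⟶ U)
    (h : T.functorPushforward (ι F S) ((ι F S).map r)) : T r := by
  obtain ⟨Y', t, k, ht, hk⟩ := h
  obtain ⟨a, κ⟩ := k
  have e : (⟨𝟙 S, r ≫ (F.mapId ⟨op S⟩).inv.toNatTrans.app U⟩ : (⟨S, Y⟩ : ∫ᶜ F) ⟶ ⟨S, U⟩) =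
      ⟨a, κ ≫ (F.map a.op.toLoc).toFunctor.map t⟩ :=
    hk.trans (comp_ι_map (⟨a, κ⟩ : (⟨S, Y⟩ : ∫ᶜ F) ⟶ ⟨S, Y'⟩) t)
  have ha : 𝟙 S = a := congrArg Hom.base e
  subst ha
  have hf : r ≫ (F.mapId ⟨op S⟩).inv.toNatTrans.app U =
      κ ≫ (F.map (𝟙 S).op.toLoc).toFunctor.map t := hom_mk_eq e
  have nat : (F.map (𝟙 S).op.toLoc).toFunctor.map t ≫ (F.mapId ⟨op S⟩).hom.toNatTrans.app U =
      (F.mapId ⟨op S⟩).hom.toNatTrans.app Y' ≫ t :=
    (F.mapId ⟨op S⟩).hom.toNatTrans.naturality t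
  have h1 : r = (r ≫ (F.mapId ⟨op S⟩).inv.toNatTrans.app U) ≫
      (F.mapId ⟨op S⟩).hom.toNatTrans.app U := by
    rw [Category.assoc, Cat.Hom.inv_hom_id_toNatTrans_app]
    exact (Category.comp_id r).symm
  have h2 : r = (κ ≫ (F.mapId ⟨op S⟩).hom.toNatTrans.app Y') ≫ t :=
    h1.trans ((congrArg (fun z => z ≫ (F.mapId ⟨op S⟩).hom.toNatTrans.app U) hf).trans
      ((Category.assoc _ _ _).trans ((congrArg (fun z => κ ≫ z) nat).trans
        (Category.assoc _ _ _).symm)))
  rw [h2]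
  exact T.downward_closed ht _

/-- restriction of a sieve on `X` to the fibre of `X` -/
def down {X : ∫ᶜ F} (S : Sieve X) : Sieve X.fiber :=
  Sieve.functorPullback (ι F X.base) (X := X.fiber) S

lemma down_apply {X : ∫ᶜ F} (S : Sieve X) {V : F.obj ⟨op X.base⟩} (t : V ⟶ X.fiber) :
    down S t ↔ S ((ι F X.base).map t) := Iff.rfl

variable (F) (J : FibSite.Topologies F)

/-- the explicit topology: sieves whose restriction to the fibre is covering -/
def expl (hF : FibSite.IsPreFibSite F J) : GrothendieckTopology (∫ᶜ F) where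
  sieves X := {S | down S ∈ J X.base X.fiber}
  top_mem' X := (J X.base).top_mem X.fiber
  pullback_stable' := by
    intro X Y S h hS
    have hS' : down S ∈ J X.base X.fiber := hS
    have hc : CoverPreserving (J X.base) (J Y.base) (FibSite.invImage F h.base) :=
      haveI := hF h.base; CoverPreserving.of_isContinuous _ _ _
    have h1 := hc.cover_preserve hS'
    have h2 := (J Y.base).pullback_stable h.fiber h1
    show down (S.pullback h) ∈ J Y.base Y.fiber
    refine (J Y.base).superset_covering ?_ h2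
    intro W' t ht
    obtain ⟨V, s, l, hs, hw⟩ := ht
    have e := ι_map_comp_eq h t l s hw
    have hmem := S.downward_closed hs (⟨h.base, l⟩ : (⟨Y.base, W'⟩ : ∫ᶜ F) ⟶ ⟨X.base, V⟩)
    show S ((ι F Y.base).map t ≫ h)
    rw [e]
    exact hmem
  transitive' := by
    intro X S hS T hT
    have hS' : down S ∈ J X.base X.fiber := hS
    show down T ∈ J X.base X.fiber
    refine (J X.base).transitive hS' (down T) ?_
    intro V s hs
    have h3 : down (T.pullback ((ι F X.base).map s)) ∈ J X.base V := hT hs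
    refine (J X.base).superset_covering ?_ h3
    intro Z t ht
    have ht' : T ((ι F X.base).map t ≫ (ι F X.base).map s) := ht
    show T ((ι F X.base).map (t ≫ s))
    rw [Functor.map_comp]
    exact ht'

lemma mem_expl_iff (hF : FibSite.IsPreFibSite F J) {X : ∫ᶜ F} (S : Sieve X) :
    S ∈ expl F J hF X ↔ down S ∈ J X.base X.fiber := Iff.rfl

theorem totalTopology_eq (hF : FibSite.IsPreFibSite F J) :
    FibSite.totalTopology F J = expl F J hF := by
  apply le_antisymm
  · apply FibSite.totalTopology_le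
    intro S U R hR
    show down (R.functorPushforward (ι F S)) ∈ J S U
    exact (J S).superset_covering (Sieve.le_functorPushforward_pullback _ R) hR
  · intro X S hS
    have hS' : down S ∈ J X.base X.fiber := hS
    have h1 := FibSite.functorPushforward_mem_totalTopology (F := F) (J := J) (S := X.base)
      (U := X.fiber) (R := down S) hS'
    exact (FibSite.totalTopology F J).superset_covering
      (Sieve.functorPullback_pushforward_le (ι F X.base) (X := X.fiber) S) h1

theorem mem_totalTopology_iff_down (hF : FibSite.IsPreFibSite F J) {X : ∫ᶜ F} (S : Sieve X) :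
    S ∈ FibSite.totalTopology F J X ↔ down S ∈ J X.base X.fiber := by
  rw [totalTopology_eq F J hF]
  exact Iff.rfl

theorem mem_totalTopology_iff (hF : FibSite.IsPreFibSite F J) (X : ∫ᶜ F) (S : Sieve X) :
    S ∈ FibSite.totalTopology F J X ↔
      ∃ R ∈ J X.base X.fiber, Sieve.functorPushforward (ι F X.base) R ≤ S := by
  rw [mem_totalTopology_iff_down F J hF]
  constructor
  · intro hS
    exact ⟨down S, hS, Sieve.functorPullback_pushforward_le (ι F X.base) (X := X.fiber) S⟩
  · rintro ⟨R, hR, hle⟩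
    have : R ≤ down S :=
      (Sieve.functorPushforward_le_iff_le_functorPullback (F := ι F X.base) (X := X.fiber)
        R S).mp hle
    exact (J X.base).superset_covering this hR

theorem ι_isCocontinuous (hF : FibSite.IsPreFibSite F J) (S : 𝒮) :
    (ι F S).IsCocontinuous (J S) (FibSite.totalTopology F J) where
  cover_lift {U T} hT := by
    rw [mem_totalTopology_iff_down F J hF] at hT
    exact hT

end Groth.Agent.H10.FibTot
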