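import Mathlib

/-!
# Local zigzag lemma for continuous functors (helper10)

For a continuous functor `G : (C, J) ⥤ (D, K)` and a `J`-covering sieve `R` of `U`, two
factorisations `W ⟶ G Y₁`, `W ⟶ G Y₂` (with `Y₁ ⟶ U`, `Y₂ ⟶ U` in `R`) of the same morphism
`W ⟶ G U` become equal, locally on `W`, in the quotient presheaf
`colim_{(Y ⟶ U) ∈ R} Hom(-, G Y)`.
-/

set_option autoImplicit false
universe v u
open CategoryTheory Opposite

namespace Groth.Agent.H10.LocZig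

variable {C : Type u} [Category.{v} C] {D : Type u} [Category.{v} D]
  (G : C ⥤ D) {U : C} (R : Sieve U)

/-- triples `(Y, r ∈ R, φ : W ⟶ G Y)` -/
structure Tr (W : D) where
  Y : C
  r : Y ⟶ U
  hr : R r
  φ : W ⟶ G.obj Y

variable {G R}

/-- precomposition -/
def Tr.pre {W W' : D} (p : Tr G R W) (w : W' ⟶ W) : Tr G R W' := ⟨p.Y, p.r, p.hr, w ≫ p.φ⟩

variable (G R) in
/-- generating relation -/
def Rel (W : D) (p q : Tr G R W) : Prop :=
  ∃ m : p.Y ⟶ q.Y, p.r = m ≫ q.r ∧ p.φ ≫ G.map m = q.φ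

lemma Rel.pre {W W' : D} {p q : Tr G R W} (h : Rel G R W p q) (w : W' ⟶ W) :
    Rel G R W' (p.pre w) (q.pre w) := by
  obtain ⟨m, h1, h2⟩ := h
  refine ⟨m, h1, ?_⟩
  show (w ≫ p.φ) ≫ G.map m = w ≫ q.φ
  rw [Category.assoc, h2]

variable (G R) in
/-- the quotient presheaf -/
def Q : Dᵒᵖ ⥤ Type (max u v) where
  obj W := Quot (Rel G R W.unop)
  map {W W'} w := ↾(Quot.map (fun p => p.pre w.unop) (fun _ _ h => h.pre w.unop))
  map_id W := by
    ext x
    refine Quot.inductionOn x (fun p => ?_)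
    show Quot.mk _ (p.pre (𝟙 W).unop) = Quot.mk _ p
    congr 1
    cases p
    simp [Tr.pre]
  map_comp {W W' W''} w w' := by
    ext x
    refine Quot.inductionOn x (fun p => ?_)
    show Quot.mk _ (p.pre (w ≫ w').unop) = Quot.mk _ ((p.pre w.unop).pre w'.unop)
    congr 1
    cases p
    simp [Tr.pre]

theorem exists_cover_quot_eq (J : GrothendieckTopology C) (K : GrothendieckTopology D)
    [G.IsContinuous J K] (hR : R ∈ J U) {W : D} (p q : Tr G R W)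
    (h : p.φ ≫ G.map p.r = q.φ ≫ G.map q.r) :
    ∃ Z ∈ K W, ∀ ⦃W' : D⦄ (w : W' ⟶ W), Z w →
      Quot.mk (Rel G R W') (p.pre w) = Quot.mk (Rel G R W') (q.pre w) := by
  let P := Q G R
  let 𝒢 := K.sheafify P
  have hs : Presheaf.IsSheaf K 𝒢 := GrothendieckTopology.sheafify_isSheaf K P
  let τ : P ⟶ 𝒢 := K.toSheafify P
  have hG : Presieve.IsSheaf J (G.op ⋙ 𝒢) := G.op_comp_isSheaf_of_types J K ⟨𝒢, hs⟩
  let y : Presieve.FamilyOfElements (G.op ⋙ 𝒢) R.arrows := fun Y r hr =>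
    τ.app (op (G.obj Y)) (Quot.mk _ ⟨Y, r, hr, 𝟙 _⟩)
  have key : ∀ {W : D} (a : Tr G R W),
      τ.app (op W) (Quot.mk _ a) = 𝒢.map a.φ.op (y a.r a.hr) := by
    intro W a
    have e1 : (Quot.mk _ a : P.obj (op W)) =
        P.map a.φ.op (Quot.mk _ ⟨a.Y, a.r, a.hr, 𝟙 _⟩) := by
      show Quot.mk _ a = Quot.mk _ (Tr.pre ⟨a.Y, a.r, a.hr, 𝟙 _⟩ a.φ)
      congr 1
      cases a
      simp [Tr.pre]
    rw [e1]
    exact NatTrans.naturality_apply τ a.φ.op _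
  have hy : y.Compatible := by
    rw [Presieve.compatible_iff_sieveCompatible]
    intro Y Y' r m hr
    show τ.app (op (G.obj Y')) (Quot.mk _ ⟨Y', m ≫ r, R.downward_closed hr m, 𝟙 _⟩) =
      𝒢.map (G.map m).op (τ.app (op (G.obj Y)) (Quot.mk _ ⟨Y, r, hr, 𝟙 _⟩))
    have e2 : (Quot.mk (Rel G R (G.obj Y')) ⟨Y', m ≫ r, R.downward_closed hr m, 𝟙 _⟩) =
        Quot.mk _ ⟨Y, r, hr, G.map m⟩ :=
      Quot.sound ⟨m, rfl, by simp⟩
    rw [e2]
    exact key ⟨Y, r, hr, G.map m⟩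
  let yb := (hG R hR).amalgamate y hy
  have hyb : ∀ {Y : C} (r : Y ⟶ U) (hr : R r), 𝒢.map (G.map r).op yb = y r hr :=
    fun r hr => (hG R hR).valid_glue hy r hr
  have key2 : ∀ {W : D} (a : Tr G R W),
      τ.app (op W) (Quot.mk _ a) = 𝒢.map (a.φ ≫ G.map a.r).op yb := by
    intro W a
    rw [key a, ← hyb a.r a.hr, op_comp, Functor.map_comp_apply]
  have e : τ.app (op W) (Quot.mk _ p) = τ.app (op W) (Quot.mk _ q) := by
    rw [key2 p, key2 q, h]
  refine ⟨_, Presheaf.equalizerSieve_mem K τ _ _ e, ?_⟩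
  intro W' w hw
  exact hw

end Groth.Agent.H10.LocZig
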