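import Mathlib
import Groth.Prelude.Def_FibSite
import Groth.Agent.H10.LocZig
import Groth.Agent.H10.FibTot1

/-!
# The total topology of a (pre-)fibred site: continuity of the fibre inclusions, sheaves (helper10)
-/

set_option autoImplicit false
universe w v₃ u₃ v₂ u₂ v₁ u₁
open CategoryTheory CategoryTheory.Limits Opposite Pseudofunctor Pseudofunctor.CoGrothendieck

namespace Groth.Agent.H10.FibTot

lemma map_comp_op_eq {C : Type*} [Category C] (P : Cᵒᵖ ⥤ Type w) {X Y Z : C} (k : Z ⟶ Y)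
    (f : Y ⟶ X) (A : P.obj (op X)) : P.map (k ≫ f).op A = P.map k.op (P.map f.op A) := by
  rw [op_comp, Functor.map_comp_apply]

variable {𝒮 : Type u₁} [Category.{v₁} 𝒮] (F : Pseudofunctor (LocallyDiscrete 𝒮ᵒᵖ) Cat.{v₂, u₂})
  (J : FibSite.Topologies F)

/-- constructor for morphisms of `∫ᶜ F` with explicit endpoints -/
abbrev mkHom {F : Pseudofunctor (LocallyDiscrete 𝒮ᵒᵖ) Cat.{v₂, u₂}} {T S : 𝒮} {W' : F.obj ⟨op T⟩}
    {Y : F.obj ⟨op S⟩} (b : T ⟶ S) (φ : W' ⟶ (F.map b.op.toLoc).toFunctor.obj Y) :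
    (⟨T, W'⟩ : ∫ᶜ F) ⟶ ⟨S, Y⟩ := ⟨b, φ⟩

/-- well-definedness of the extension of a compatible family on a covering sieve of a fibre -/
theorem wd (hF : FibSite.IsPreFibSite F J) {ℱ : (∫ᶜ F)ᵒᵖ ⥤ Type w}
    (hℱ : Presieve.IsSheaf (FibSite.totalTopology F J) ℱ) {S : 𝒮} {U : F.obj ⟨op S⟩}
    {R : Sieve U} (hR : R ∈ J S U)
    (x : Presieve.FamilyOfElements ((ι F S).op ⋙ ℱ) R.arrows) (hx : x.Compatible)
    {Z : ∫ᶜ F} {Y₁ Y₂ : F.obj ⟨op S⟩} (k₁ : Z ⟶ (ι F S).obj Y₁) (k₂ : Z ⟶ (ι F S).obj Y₂)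
    (r₁ : Y₁ ⟶ U) (r₂ : Y₂ ⟶ U) (h₁ : R r₁) (h₂ : R r₂)
    (e : k₁ ≫ (ι F S).map r₁ = k₂ ≫ (ι F S).map r₂) :
    ℱ.map k₁.op (x r₁ h₁) = ℱ.map k₂.op (x r₂ h₂) := by
  obtain ⟨T, W⟩ := Z
  obtain ⟨b₁, φ₁⟩ := k₁
  obtain ⟨b₂, φ₂⟩ := k₂
  have e' := (comp_ι_map (⟨b₁, φ₁⟩ : (⟨T, W⟩ : ∫ᶜ F) ⟶ ⟨S, Y₁⟩) r₁).symm.trans
    (e.trans (comp_ι_map (⟨b₂, φ₂⟩ : (⟨T, W⟩ : ∫ᶜ F) ⟶ ⟨S, Y₂⟩) r₂))
  have hb : b₁ = b₂ := congrArg Hom.base e'
  subst hb
  have hφ : φ₁ ≫ (F.map b₁.op.toLoc).toFunctor.map r₁ =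
      φ₂ ≫ (F.map b₁.op.toLoc).toFunctor.map r₂ := hom_mk_eq e'
  have : (FibSite.invImage F b₁).IsContinuous (J S) (J T) := hF b₁
  obtain ⟨Z', hZ', hz⟩ := LocZig.exists_cover_quot_eq (G := FibSite.invImage F b₁) (J S) (J T) hR
    ⟨Y₁, r₁, h₁, φ₁⟩ ⟨Y₂, r₂, h₂, φ₂⟩ hφ
  let Φ : ∀ W' : F.obj ⟨op T⟩, LocZig.Tr (FibSite.invImage F b₁) R W' →
      ℱ.obj (op (⟨T, W'⟩ : ∫ᶜ F)) := fun W' a =>
    ℱ.map (mkHom (F := F) (W' := W') (Y := a.Y) b₁ a.φ).op (x a.r a.hr)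
  have hsc := (Presieve.compatible_iff_sieveCompatible x).mp hx
  have hΦ : ∀ (W' : F.obj ⟨op T⟩) (a a' : LocZig.Tr (FibSite.invImage F b₁) R W'),
      LocZig.Rel (FibSite.invImage F b₁) R W' a a' → Φ W' a = Φ W' a' := by
    rintro W' ⟨Y, r, hr, φ⟩ ⟨Y', r', hr', φ'⟩ ⟨m, hm1, hm2⟩
    dsimp only at m hm1 hm2
    subst hm1 hm2
    have e1 : x (m ≫ r') hr = ℱ.map ((ι F S).map m).op (x r' hr') := hsc r' m hr'
    have e2 : mkHom (F := F) (W' := W') (Y := Y) b₁ φ ≫ (ι F S).map m =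
        mkHom (F := F) (W' := W') (Y := Y') b₁ (φ ≫ (F.map b₁.op.toLoc).toFunctor.map m) :=
      comp_ι_map (⟨b₁, φ⟩ : (⟨T, W'⟩ : ∫ᶜ F) ⟶ ⟨S, Y⟩) m
    show ℱ.map (mkHom (F := F) (W' := W') (Y := Y) b₁ φ).op (x (m ≫ r') hr) =
      ℱ.map (mkHom (F := F) (W' := W') (Y := Y') b₁
        (φ ≫ (F.map b₁.op.toLoc).toFunctor.map m)).op (x r' hr')
    exact (congrArg (fun z => ℱ.map (mkHom (F := F) (W' := W') (Y := Y) b₁ φ).op z) e1).trans
      ((map_comp_op_eq ℱ (mkHom (F := F) (W' := W') (Y := Y) b₁ φ) ((ι F S).map m)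
        (x r' hr')).symm.trans
        (congrArg (fun z => ℱ.map (Quiver.Hom.op z) (x r' hr')) e2))
  have hsep := (hℱ _ (FibSite.functorPushforward_mem_totalTopology (F := F) (J := J)
    hZ')).isSeparatedFor
  refine hsep.ext ?_
  rintro V g ⟨W', w, k, hw, rfl⟩
  rw [map_comp_op_eq, map_comp_op_eq]
  congr 1
  have hq := congrArg (Quot.lift (Φ W') (hΦ W')) (hz w hw)
  have hq' : ℱ.map (mkHom (F := F) (W' := W') (Y := Y₁) b₁ (w ≫ φ₁)).op (x r₁ h₁) =
      ℱ.map (mkHom (F := F) (W' := W') (Y := Y₂) b₁ (w ≫ φ₂)).op (x r₂ h₂) := hq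
  have c1 : (ι F T).map w ≫ mkHom (F := F) (W' := W) (Y := Y₁) b₁ φ₁ =
      mkHom (F := F) (W' := W') (Y := Y₁) b₁ (w ≫ φ₁) :=
    ι_map_comp w (⟨b₁, φ₁⟩ : (⟨T, W⟩ : ∫ᶜ F) ⟶ ⟨S, Y₁⟩)
  have c2 : (ι F T).map w ≫ mkHom (F := F) (W' := W) (Y := Y₂) b₁ φ₂ =
      mkHom (F := F) (W' := W') (Y := Y₂) b₁ (w ≫ φ₂) :=
    ι_map_comp w (⟨b₁, φ₂⟩ : (⟨T, W⟩ : ∫ᶜ F) ⟶ ⟨S, Y₂⟩)
  exact (map_comp_op_eq ℱ ((ι F T).map w) (mkHom (F := F) (W' := W) (Y := Y₁) b₁ φ₁)
      (x r₁ h₁)).symm.trans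
    (((congrArg (fun z => ℱ.map (Quiver.Hom.op z) (x r₁ h₁)) c1).trans hq').trans
      ((congrArg (fun z => ℱ.map (Quiver.Hom.op z) (x r₂ h₂)) c2).symm.trans
        (map_comp_op_eq ℱ ((ι F T).map w) (mkHom (F := F) (W' := W) (Y := Y₂) b₁ φ₂)
          (x r₂ h₂))))

/-- restriction of a sheaf on the total site to a fibre satisfies the sheaf condition -/
theorem ι_isSheafFor (hF : FibSite.IsPreFibSite F J) {ℱ : (∫ᶜ F)ᵒᵖ ⥤ Type w}
    (hℱ : Presieve.IsSheaf (FibSite.totalTopology F J) ℱ) {S : 𝒮} {U : F.obj ⟨op S⟩}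
    {R : Sieve U} (hR : R ∈ J S U) :
    Presieve.IsSheafFor ((ι F S).op ⋙ ℱ) R.arrows := by
  have hcov : R.functorPushforward (ι F S) ∈ FibSite.totalTopology F J ((ι F S).obj U) :=
    FibSite.functorPushforward_mem_totalTopology hR
  have hsh := hℱ _ hcov
  intro x hx
  let x' : Presieve.FamilyOfElements ℱ (R.functorPushforward (ι F S)).arrows := fun V g hg =>
    ℱ.map (Presieve.getFunctorPushforwardStructure hg).lift.op
      (x _ (Presieve.getFunctorPushforwardStructure hg).cover)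
  have hx' : x'.Compatible := by
    intro V₁ V₂ Z g₁ g₂ f₁ f₂ hf₁ hf₂ e
    show ℱ.map g₁.op (ℱ.map (Presieve.getFunctorPushforwardStructure hf₁).lift.op
        (x _ (Presieve.getFunctorPushforwardStructure hf₁).cover)) =
      ℱ.map g₂.op (ℱ.map (Presieve.getFunctorPushforwardStructure hf₂).lift.op
        (x _ (Presieve.getFunctorPushforwardStructure hf₂).cover))
    rw [← map_comp_op_eq, ← map_comp_op_eq]
    apply wd F J hF hℱ hR x hx
    rw [Category.assoc, Category.assoc, ← (Presieve.getFunctorPushforwardStructure hf₁).fac,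
      ← (Presieve.getFunctorPushforwardStructure hf₂).fac, e]
  have ht : x.IsAmalgamation (hsh.amalgamate x' hx') := by
    intro Y r hr
    have hmem : (R.functorPushforward (ι F S)).arrows ((ι F S).map r) :=
      Sieve.image_mem_functorPushforward _ R hr
    have h1 := hsh.valid_glue hx' ((ι F S).map r) hmem
    refine h1.trans ?_
    show ℱ.map (Presieve.getFunctorPushforwardStructure hmem).lift.op
        (x _ (Presieve.getFunctorPushforwardStructure hmem).cover) = x r hr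
    have h2 := wd F J hF hℱ hR x hx (Presieve.getFunctorPushforwardStructure hmem).lift (𝟙 _)
      (Presieve.getFunctorPushforwardStructure hmem).premap r
      (Presieve.getFunctorPushforwardStructure hmem).cover hr
      (by rw [Category.id_comp]; exact (Presieve.getFunctorPushforwardStructure hmem).fac.symm)
    rw [h2]
    simp
  refine ⟨hsh.amalgamate x' hx', ht, ?_⟩
  intro y hy
  apply hsh.isSeparatedFor.ext
  rintro V g ⟨Y, r, k, hr, rfl⟩
  rw [map_comp_op_eq, map_comp_op_eq]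
  congr 1
  exact (hy r hr).trans (ht r hr).symm

theorem ι_isContinuous (hF : FibSite.IsPreFibSite F J) (S : 𝒮) :
    (ι F S).IsContinuous (J S) (FibSite.totalTopology F J) where
  op_comp_isSheaf_of_types G := by
    intro U R hR
    exact ι_isSheafFor F J hF ((isSheaf_iff_isSheaf_of_type _ _).mp G.property) hR

/-- a presheaf of types whose restrictions to the fibres are sheaves is a sheaf -/
theorem isSheaf_of_restrict (hF : FibSite.IsPreFibSite F J) {ℱ : (∫ᶜ F)ᵒᵖ ⥤ Type w}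
    (h : ∀ S : 𝒮, Presieve.IsSheaf (J S) ((ι F S).op ⋙ ℱ)) :
    Presieve.IsSheaf (FibSite.totalTopology F J) ℱ := by
  have sepA : ∀ (X : ∫ᶜ F) (𝒯 : Sieve X), down 𝒯 ∈ J X.base X.fiber →
      Presieve.IsSeparatedFor ℱ 𝒯.arrows := by
    rintro ⟨B, Xf⟩ 𝒯 h𝒯 x t₁ t₂ h₁ h₂
    have hs := (h B _ h𝒯).isSeparatedFor
    refine hs.ext (t₁ := t₁) (t₂ := t₂) ?_
    intro V s hs'
    exact (h₁ _ hs').trans (h₂ _ hs').symm
  have shB : ∀ (X : ∫ᶜ F) (R : Sieve X.fiber), R ∈ J X.base X.fiber →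
      Presieve.IsSheafFor ℱ (R.functorPushforward (ι F X.base)).arrows := by
    rintro ⟨B, Xf⟩ R hR
    rw [← Presieve.isSeparatedFor_and_exists_isAmalgamation_iff_isSheafFor]
    constructor
    · apply sepA ⟨B, Xf⟩ (R.functorPushforward (ι F B))
      exact (J B).superset_covering (Sieve.le_functorPushforward_pullback _ R) hR
    · intro x hx
      let x₀ : Presieve.FamilyOfElements ((ι F B).op ⋙ ℱ) R.arrows := fun V r hr =>
        x ((ι F B).map r) (Sieve.image_mem_functorPushforward _ R hr)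
      have hx₀ : x₀.Compatible := by
        intro V₁ V₂ Z g₁ g₂ r₁ r₂ hr₁ hr₂ e
        exact hx ((ι F B).map g₁) ((ι F B).map g₂) _ _
          (by rw [← Functor.map_comp, ← Functor.map_comp, e])
      refine ⟨(h B R hR).amalgamate x₀ hx₀, ?_⟩
      rintro V g hg
      obtain ⟨Y, r, k, hr, rfl⟩ := hg
      have h1 : ℱ.map ((ι F B).map r).op ((h B R hR).amalgamate x₀ hx₀) = x₀ r hr :=
        (h B R hR).valid_glue hx₀ r hr
      have h2 := (Presieve.compatible_iff_sieveCompatible x).mp hx ((ι F B).map r) k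
        (Sieve.image_mem_functorPushforward _ R hr)
      rw [map_comp_op_eq, h1]
      exact h2.symm
  intro X 𝒯 h𝒯
  rw [mem_totalTopology_iff_down F J hF] at h𝒯
  have hle : (down 𝒯).functorPushforward (ι F X.base) ≤ 𝒯 :=
    Sieve.functorPullback_pushforward_le (ι F X.base) (X := X.fiber) 𝒯
  refine Presieve.isSheafFor_subsieve_aux ℱ (S := (down 𝒯).functorPushforward (ι F X.base))
    (fun Y f hf => hle f hf) (shB X (down 𝒯) h𝒯) ?_
  intro Y f hf
  apply sepA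
  have h3 : ((down 𝒯).functorPushforward (ι F X.base)).pullback f ∈
      FibSite.totalTopology F J Y :=
    (FibSite.totalTopology F J).pullback_stable f
      (FibSite.functorPushforward_mem_totalTopology h𝒯)
  rw [mem_totalTopology_iff_down F J hF] at h3
  exact h3

theorem isSheaf_iff (hF : FibSite.IsPreFibSite F J) {A : Type u₃} [Category.{v₃} A]
    (P : (∫ᶜ F)ᵒᵖ ⥤ A) :
    Presheaf.IsSheaf (FibSite.totalTopology F J) P ↔
      ∀ S : 𝒮, Presheaf.IsSheaf (J S) ((ι F S).op ⋙ P) := by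
  constructor
  · intro h S
    have := ι_isContinuous F J hF S
    exact (ι F S).op_comp_isSheaf_of_isSheaf (J S) (FibSite.totalTopology F J) P h
  · intro h E
    apply isSheaf_of_restrict F J hF
    intro S
    exact h S E

theorem inducedTopology_eq (hF : FibSite.IsPreFibSite F J) (S : 𝒮) :
    (ι F S).inducedTopology (FibSite.totalTopology F J) = J S := by
  apply le_antisymm
  · intro U T hT
    have h1 : T.functorPushforward (ι F S) ∈ FibSite.totalTopology F J ((ι F S).obj U) :=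
      (CoverPreserving.of_isContinuous (ι F S)
        ((ι F S).inducedTopology (FibSite.totalTopology F J))
        (FibSite.totalTopology F J)).cover_preserve hT
    rw [mem_totalTopology_iff_down F J hF] at h1
    refine (J S).superset_covering ?_ h1
    intro Y r hr
    exact mem_of_ι_map_mem T r hr
  · rw [Functor.le_inducedTopology_iff]
    exact ι_isContinuous F J hF S

theorem isContinuous_iff (hF : FibSite.IsPreFibSite F J) {D : Type u₃} [Category.{v₃} D]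
    (K : GrothendieckTopology D) (m : ∫ᶜ F ⥤ D) :
    m.IsContinuous (FibSite.totalTopology F J) K ↔
      ∀ S : 𝒮, (ι F S ⋙ m).IsContinuous (J S) K := by
  constructor
  · intro h S
    have := ι_isContinuous F J hF S
    exact Functor.isContinuous_comp (ι F S) m (J S) (FibSite.totalTopology F J) K
  · intro h
    refine ⟨fun G => ?_⟩
    apply isSheaf_of_restrict F J hF
    intro S
    have := h S
    exact (ι F S ⋙ m).op_comp_isSheaf_of_types (J S) K G

end Groth.Agent.H10.FibTot
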