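import Mathlib
import Groth.Prelude.Def_FibSite
import Groth.Agent.H10.FibTot2

/-!
# Fibre over a terminal object: the left adjoint of restriction is fully faithful (helper10)
-/

set_option autoImplicit false
universe w v₃ u₃ v₂ u₂ v₁ u₁ u
open CategoryTheory CategoryTheory.Limits Opposite Pseudofunctor Pseudofunctor.CoGrothendieck

namespace Groth.Agent.H10.FibTot

section
variable {𝒮 : Type u₁} [Category.{v₁} 𝒮] {F : Pseudofunctor (LocallyDiscrete 𝒮ᵒᵖ) Cat.{v₂, u₂}}

lemma ι_faithful (S : 𝒮) : (ι F S).Faithful where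
  map_injective {V V'} φ ψ h := by
    have h' : (⟨𝟙 S, φ ≫ (F.mapId ⟨op S⟩).inv.toNatTrans.app V'⟩ :
        (⟨S, V⟩ : ∫ᶜ F) ⟶ ⟨S, V'⟩) = ⟨𝟙 S, ψ ≫ (F.mapId ⟨op S⟩).inv.toNatTrans.app V'⟩ := h
    have h2 := hom_mk_eq h'
    have h3 := congrArg (fun z => z ≫ (F.mapId ⟨op S⟩).hom.toNatTrans.app V') h2
    simpa using h3

lemma ι_full_of_isTerminal {i : 𝒮} (hi : IsTerminal i) : (ι F i).Full where
  map_surjective {V V'} k := by
    obtain ⟨a, κ⟩ := k
    obtain rfl : a = 𝟙 i := hi.hom_ext _ _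
    refine ⟨κ ≫ (F.mapId ⟨op i⟩).hom.toNatTrans.app V', ?_⟩
    show (⟨𝟙 i, (κ ≫ (F.mapId ⟨op i⟩).hom.toNatTrans.app V') ≫
        (F.mapId ⟨op i⟩).inv.toNatTrans.app V'⟩ : (⟨i, V⟩ : ∫ᶜ F) ⟶ ⟨i, V'⟩) = ⟨𝟙 i, κ⟩
    congr 1
    exact (Category.assoc _ _ _).trans ((congrArg (fun z => κ ≫ z)
      (Cat.Hom.hom_inv_id_toNatTrans_app _ _)).trans (Category.comp_id _))

end

theorem extend_fullyFaithful {𝒮 : Type u} [SmallCategory 𝒮]
    (F : Pseudofunctor (LocallyDiscrete 𝒮ᵒᵖ) Cat.{u, u}) (J : FibSite.Topologies F)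
    (hF : FibSite.IsPreFibSite F J) (i : 𝒮) (hi : IsTerminal i)
    [(ι F i).IsContinuous (J i) (FibSite.totalTopology F J)]
    [((ι F i).sheafPushforwardContinuous (Type u) (J i)
      (FibSite.totalTopology F J)).IsRightAdjoint] :
    Nonempty (FibSite.extend F J (Type u) i).FullyFaithful := by
  have := ι_isCocontinuous F J hF i
  have := ι_faithful (F := F) i
  have := ι_full_of_isTerminal (F := F) hi
  have : ∀ (P : (F.obj ⟨op i⟩)ᵒᵖ ⥤ Type u), (ι F i).op.HasPointwiseRightKanExtension P :=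
    fun P => inferInstance
  have hran : ((ι F i).op.ran (H := Type u)).FullyFaithful :=
    ((ι F i).op.ranAdjunction (Type u)).fullyFaithfulROfIsIsoCounit
  have hR1 : ((ι F i).sheafPushforwardCocontinuous (Type u) (J i) (FibSite.totalTopology F J) ⋙
      sheafToPresheaf _ _).FullyFaithful :=
    ((fullyFaithfulSheafToPresheaf (J i) (Type u)).comp hran).ofIso
      ((ι F i).sheafPushforwardCocontinuousCompSheafToPresheafIso (Type u) (J i)
        (FibSite.totalTopology F J)).symm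
  have hR : ((ι F i).sheafPushforwardCocontinuous (Type u) (J i)
      (FibSite.totalTopology F J)).FullyFaithful := hR1.ofCompFaithful
  let t : Adjunction.Triple (FibSite.extend F J (Type u) i) (FibSite.restr F J (Type u) i)
      ((ι F i).sheafPushforwardCocontinuous (Type u) (J i) (FibSite.totalTopology F J)) :=
    ⟨(ι F i).sheafAdjunctionContinuous (Type u) (J i) (FibSite.totalTopology F J),
      (ι F i).sheafAdjunctionCocontinuous (Type u) (J i) (FibSite.totalTopology F J)⟩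
  exact ⟨t.fullyFaithfulEquiv.symm hR⟩

end Groth.Agent.H10.FibTot
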