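import Mathlib

/-!
# Two abstract lemmas (helper10)

* a pointwise right Kan extension of a functor to types at an object all of whose structured
  arrows factor uniquely through a family of arrows is the product over the family;
* a fan of sheaves of types which is pointwise a product is a limit fan.
-/

set_option autoImplicit false
universe w u v₁ u₁ v₂ u₂
open CategoryTheory CategoryTheory.Limits Opposite

namespace Groth.Agent.H10.RanFib

theorem bijective_of_unique_fac {C : Type u₁} [Category.{v₁} C] {D : Type u₂} [Category.{v₂} D]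
    {L : C ⥤ D} {P : C ⥤ Type u} (E : D ⥤ Type u) (ε : L ⋙ E ⟶ P) (Y : D)
    (h : (Functor.RightExtension.mk E ε).IsPointwiseRightKanExtensionAt Y)
    {I : Type w} (c : I → C) (γ : ∀ f, Y ⟶ L.obj (c f))
    (hfac : ∀ (V : C) (g : Y ⟶ L.obj V),
      ∃! p : (Σ f : I, (c f ⟶ V)), g = γ p.1 ≫ L.map p.2) :
    Function.Bijective (fun (x : E.obj Y) (f : I) => ε.app (c f) (E.map (γ f) x)) := by
  have hlim := (Types.isLimit_iff ((Functor.RightExtension.mk E ε).coneAt Y)).mp ⟨h⟩
  have hnat : ∀ {V V' : C} (m : V ⟶ V') (z : E.obj (L.obj V)),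
      ε.app V' (E.map (L.map m) z) = P.map m (ε.app V z) :=
    fun m z => ConcreteCategory.congr_hom (ε.naturality m) z
  constructor
  · intro x x' hxx'
    have hx' := hlim (Types.sectionOfCone ((Functor.RightExtension.mk E ε).coneAt Y) x').1
      (Types.sectionOfCone ((Functor.RightExtension.mk E ε).coneAt Y) x').2
    refine hx'.unique (fun g => ?_) (fun g => rfl)
    obtain ⟨⟨f, m⟩, hp, -⟩ := hfac g.right g.hom
    show ε.app g.right (E.map g.hom x) = ε.app g.right (E.map g.hom x')
    rw [hp, Functor.map_comp_apply, Functor.map_comp_apply, hnat, hnat]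
    exact congrArg (P.map m) (congrFun hxx' f)
  · intro τ
    let fac : ∀ g : StructuredArrow Y L, Σ f : I, (c f ⟶ g.right) :=
      fun g => (hfac g.right g.hom).choose
    have hfac1 : ∀ g : StructuredArrow Y L, g.hom = γ (fac g).1 ≫ L.map (fac g).2 :=
      fun g => (hfac g.right g.hom).choose_spec.1
    have hfac2 : ∀ (g : StructuredArrow Y L) (p : Σ f : I, (c f ⟶ g.right)),
        g.hom = γ p.1 ≫ L.map p.2 → p = fac g :=
      fun g p hp => (hfac g.right g.hom).choose_spec.2 p hp
    let s : ∀ g : StructuredArrow Y L, P.obj g.right :=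
      fun g => P.map (fac g).2 (τ (fac g).1)
    have hs : s ∈ (StructuredArrow.proj Y L ⋙ P).sections := by
      intro g g' φ
      have e : (⟨(fac g).1, (fac g).2 ≫ φ.right⟩ : Σ f : I, (c f ⟶ g'.right)) = fac g' := by
        apply hfac2
        rw [Functor.map_comp, ← Category.assoc, ← hfac1 g]
        exact (StructuredArrow.w φ).symm
      show P.map φ.right (P.map (fac g).2 (τ (fac g).1)) = P.map (fac g').2 (τ (fac g').1)
      rw [← e]
      exact (Functor.map_comp_apply P _ _ _).symm
    obtain ⟨x, hx, -⟩ := hlim s hs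
    refine ⟨x, funext fun f => ?_⟩
    have h1 := hx (StructuredArrow.mk (γ f))
    have e : (⟨f, 𝟙 _⟩ : Σ f' : I, (c f' ⟶ c f)) = fac (StructuredArrow.mk (γ f)) :=
      hfac2 (StructuredArrow.mk (γ f)) ⟨f, 𝟙 _⟩ (by simp)
    show ε.app (c f) (E.map (γ f) x) = τ f
    refine h1.trans ?_
    show P.map (fac (StructuredArrow.mk (γ f))).2 (τ (fac (StructuredArrow.mk (γ f))).1) = τ f
    rw [← e]
    exact Functor.map_id_apply P _ _

theorem isLimit_fan_of_bijective {C : Type u₁} [Category.{v₁} C] (J : GrothendieckTopology C)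
    {I : Type w} (P : Sheaf J (Type u)) (Z : I → Sheaf J (Type u)) (π : ∀ f, P ⟶ Z f)
    (hb : ∀ U : Cᵒᵖ, Function.Bijective (fun (x : P.obj.obj U) (f : I) => (π f).hom.app U x)) :
    Nonempty (IsLimit (Fan.mk P π)) := by
  let e : ∀ U : Cᵒᵖ, P.obj.obj U ≃ (∀ f, (Z f).obj.obj U) := fun U => Equiv.ofBijective _ (hb U)
  have he : ∀ (U : Cᵒᵖ) (x : P.obj.obj U) (f : I), e U x f = (π f).hom.app U x :=
    fun U x f => rfl
  refine ⟨Fan.IsLimit.mk _ (fun s => ⟨{
    app := fun U => ↾(fun t => (e U).symm (fun f => (s.proj f).hom.app U t))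
    naturality := ?_ }⟩) ?_ ?_⟩
  · intro U U' φ
    ext t
    apply (e U').injective
    funext f
    show e U' ((e U').symm (fun f => (s.proj f).hom.app U' (s.pt.obj.map φ t))) f =
      e U' (P.obj.map φ ((e U).symm (fun f => (s.proj f).hom.app U t))) f
    have hy : ∀ f, e U ((e U).symm (fun f => (s.proj f).hom.app U t)) f =
        (s.proj f).hom.app U t := fun f => congrFun ((e U).apply_symm_apply _) f
    calc e U' ((e U').symm (fun f => (s.proj f).hom.app U' (s.pt.obj.map φ t))) f
        = (s.proj f).hom.app U' (s.pt.obj.map φ t) := congrFun ((e U').apply_symm_apply _) f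
      _ = (Z f).obj.map φ ((s.proj f).hom.app U t) := NatTrans.naturality_apply _ _ _
      _ = (Z f).obj.map φ (e U ((e U).symm (fun f => (s.proj f).hom.app U t)) f) := by
          rw [hy f]
      _ = (Z f).obj.map φ ((π f).hom.app U ((e U).symm (fun f => (s.proj f).hom.app U t))) :=
          rfl
      _ = (π f).hom.app U' (P.obj.map φ ((e U).symm (fun f => (s.proj f).hom.app U t))) :=
          (NatTrans.naturality_apply _ _ _).symm
      _ = _ := rfl
  · intro s f
    apply Sheaf.hom_ext
    ext U t
    show (π f).hom.app U ((e U).symm (fun f => (s.proj f).hom.app U t)) = (s.proj f).hom.app U t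
    rw [← he, Equiv.apply_symm_apply]
  · intro s m hm
    apply Sheaf.hom_ext
    ext U t
    apply (e U).injective
    funext f
    show e U (m.hom.app U t) f = e U ((e U).symm (fun f => (s.proj f).hom.app U t)) f
    rw [Equiv.apply_symm_apply, he, ← hm f]
    rfl

end Groth.Agent.H10.RanFib
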