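import Mathlib
import Groth.Prelude.Def_FibSite
import Groth.Agent.H10.FibTot2
import Groth.Agent.H10.RanFib

/-!
# Restriction to a fibre of the right Kan extension from another fibre (helper10)
-/

set_option autoImplicit false
universe w v₃ u₃ v₂ u₂ v₁ u₁ u
open CategoryTheory CategoryTheory.Limits Opposite Pseudofunctor Pseudofunctor.CoGrothendieck

namespace Groth.Agent.H10.FibTot

section
variable {𝒮 : Type u₁} [Category.{v₁} 𝒮] {F : Pseudofunctor (LocallyDiscrete 𝒮ᵒᵖ) Cat.{v₂, u₂}}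

/-- naturality of the cartesian lifts -/
lemma cartesianLift_naturality {i j : 𝒮} (f : i ⟶ j) {U' U : F.obj ⟨op j⟩} (s : U' ⟶ U) :
    cartesianLift U' f ≫ (ι F j).map s =
      (ι F i).map ((FibSite.invImage F f).map s) ≫ cartesianLift U f := by
  have e1 := comp_ι_map (cartesianLift U' f) s
  have e2 := ι_map_comp ((FibSite.invImage F f).map s) (cartesianLift U f)
  refine e1.trans (Eq.trans ?_ e2.symm)
  show (⟨f, 𝟙 _ ≫ (F.map f.op.toLoc).toFunctor.map s⟩ :
      (⟨i, (F.map f.op.toLoc).toFunctor.obj U'⟩ : ∫ᶜ F) ⟶ ⟨j, U⟩) =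
    ⟨f, (F.map f.op.toLoc).toFunctor.map s ≫ 𝟙 _⟩
  rw [Category.id_comp, Category.comp_id]

lemma cart_fac' {i j : 𝒮} (U : F.obj ⟨op j⟩) (V₀ : F.obj ⟨op i⟩)
    (h : (ι F i).obj V₀ ⟶ (⟨j, U⟩ : ∫ᶜ F)) :
    ∃! p : (Σ f : i ⟶ j, (V₀ ⟶ (FibSite.invImage F f).obj U)),
      h = (ι F i).map p.2 ≫ cartesianLift U p.1 := by
  obtain ⟨b, φ⟩ := h
  refine ⟨⟨b, φ⟩, ?_, ?_⟩
  · show (⟨b, φ⟩ : (⟨i, V₀⟩ : ∫ᶜ F) ⟶ ⟨j, U⟩) = (ι F i).map φ ≫ cartesianLift U b
    refine ((ι_map_comp φ (cartesianLift U b)).trans ?_).symm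
    exact congrArg (fun z => (⟨b, z⟩ : (⟨i, V₀⟩ : ∫ᶜ F) ⟶ ⟨j, U⟩)) (Category.comp_id φ)
  · rintro ⟨f, m⟩ hp
    have e : (⟨b, φ⟩ : (⟨i, V₀⟩ : ∫ᶜ F) ⟶ ⟨j, U⟩) = ⟨f, m ≫ 𝟙 _⟩ :=
      hp.trans (ι_map_comp m (cartesianLift U f))
    have hb : b = f := congrArg Hom.base e
    subst hb
    have h2 : φ = m := (hom_mk_eq e).trans (Category.comp_id m)
    subst h2
    rfl

lemma cart_fac {i j : 𝒮} (U : F.obj ⟨op j⟩) (V : (F.obj ⟨op i⟩)ᵒᵖ)
    (g : (op (⟨j, U⟩ : ∫ᶜ F)) ⟶ (ι F i).op.obj V) :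
    ∃! p : (Σ f : i ⟶ j, (op ((FibSite.invImage F f).obj U) ⟶ V)),
      g = (cartesianLift U p.1).op ≫ (ι F i).op.map p.2 := by
  obtain ⟨⟨f, m⟩, hp, huniq⟩ := cart_fac' U V.unop g.unop
  refine ⟨⟨f, m.op⟩, ?_, ?_⟩
  · show g = ((ι F i).map m ≫ cartesianLift U f).op
    exact congrArg Quiver.Hom.op hp
  · rintro ⟨f', m'⟩ hp'
    have h1 := huniq ⟨f', m'.unop⟩ (congrArg Quiver.Hom.unop hp')
    exact congrArg (fun p : (Σ f : i ⟶ j, (V.unop ⟶ (FibSite.invImage F f).obj U)) =>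
      (⟨p.1, p.2.op⟩ : Σ f : i ⟶ j, (op ((FibSite.invImage F f).obj U) ⟶ V))) h1

end

theorem restr_coextend {𝒮 : Type u} [SmallCategory 𝒮]
    (F : Pseudofunctor (LocallyDiscrete 𝒮ᵒᵖ) Cat.{u, u}) (J : FibSite.Topologies F) (i j : 𝒮)
    [∀ S : 𝒮, (ι F S).IsContinuous (J S) (FibSite.totalTopology F J)]
    [(ι F i).IsCocontinuous (J i) (FibSite.totalTopology F J)]
    [∀ (P : (F.obj ⟨op i⟩)ᵒᵖ ⥤ Type u), (ι F i).op.HasPointwiseRightKanExtension P]
    [∀ (R S : 𝒮) (f : R ⟶ S), (FibSite.invImage F f).IsContinuous (J S) (J R)]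
    (a : Sheaf (J i) (Type u)) :
    ∃ c : Fan fun f : i ⟶ j =>
        ((FibSite.invImage F f).sheafPushforwardContinuous (Type u) (J j) (J i)).obj a,
      Nonempty (IsLimit c) ∧
        Nonempty (c.pt ≅ (FibSite.restr F J (Type u) j).obj
          ((FibSite.coextend F J (Type u) i).obj a)) := by
  let E : (∫ᶜ F)ᵒᵖ ⥤ Type u := (ι F i).op.ran.obj a.obj
  let ε : (ι F i).op ⋙ E ⟶ a.obj := (ι F i).op.ranCounit.app a.obj
  let P : Sheaf (J j) (Type u) :=
    (FibSite.restr F J (Type u) j).obj ((FibSite.coextend F J (Type u) i).obj a)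
  let Z : (i ⟶ j) → Sheaf (J j) (Type u) := fun f =>
    ((FibSite.invImage F f).sheafPushforwardContinuous (Type u) (J j) (J i)).obj a
  have hεnat : ∀ {V V' : (F.obj ⟨op i⟩)ᵒᵖ} (m : V ⟶ V'),
      E.map ((ι F i).op.map m) ≫ ε.app V' = ε.app V ≫ a.obj.map m := fun m => ε.naturality m
  let π : ∀ f, P ⟶ Z f := fun f => ⟨{
    app := fun U => E.map (cartesianLift U.unop f).op ≫
      ε.app (op ((FibSite.invImage F f).obj U.unop))
    naturality := by
      intro U U' φ
      have h1 := hεnat ((FibSite.invImage F f).map φ.unop).op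
      have hX : ((ι F j).map φ.unop).op ≫ (cartesianLift U'.unop f).op =
          (cartesianLift U.unop f).op ≫
            (ι F i).op.map ((FibSite.invImage F f).map φ.unop).op := by
        exact congrArg Quiver.Hom.op (cartesianLift_naturality f φ.unop)
      show E.map ((ι F j).map φ.unop).op ≫ E.map (cartesianLift U'.unop f).op ≫
          ε.app (op ((FibSite.invImage F f).obj U'.unop)) =
        (E.map (cartesianLift U.unop f).op ≫ ε.app (op ((FibSite.invImage F f).obj U.unop))) ≫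
          a.obj.map ((FibSite.invImage F f).map φ.unop).op
      calc E.map ((ι F j).map φ.unop).op ≫ E.map (cartesianLift U'.unop f).op ≫
            ε.app (op ((FibSite.invImage F f).obj U'.unop))
          = E.map (((ι F j).map φ.unop).op ≫ (cartesianLift U'.unop f).op) ≫
            ε.app (op ((FibSite.invImage F f).obj U'.unop)) := by
              rw [E.map_comp, Category.assoc]
        _ = E.map ((cartesianLift U.unop f).op ≫
              (ι F i).op.map ((FibSite.invImage F f).map φ.unop).op) ≫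
            ε.app (op ((FibSite.invImage F f).obj U'.unop)) :=
              congrArg (fun z => E.map z ≫ ε.app (op ((FibSite.invImage F f).obj U'.unop))) hX
        _ = E.map (cartesianLift U.unop f).op ≫
              E.map ((ι F i).op.map ((FibSite.invImage F f).map φ.unop).op) ≫
            ε.app (op ((FibSite.invImage F f).obj U'.unop)) := by
              rw [E.map_comp, Category.assoc]
        _ = E.map (cartesianLift U.unop f).op ≫
              ε.app (op ((FibSite.invImage F f).obj U.unop)) ≫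
              a.obj.map ((FibSite.invImage F f).map φ.unop).op :=
              congrArg (fun z => E.map (cartesianLift U.unop f).op ≫ z) h1
        _ = _ := (Category.assoc _ _ _).symm }⟩
  refine ⟨Fan.mk P π, RanFib.isLimit_fan_of_bijective (J j) P Z π ?_, ⟨Iso.refl _⟩⟩
  intro U
  exact RanFib.bijective_of_unique_fac E ε (op (⟨j, U.unop⟩ : ∫ᶜ F))
    ((ι F i).op.isPointwiseRightKanExtensionRanCounit a.obj _)
    (fun f => op ((FibSite.invImage F f).obj U.unop)) (fun f => (cartesianLift U.unop f).op)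
    (fun V g => cart_fac U.unop V g)

end Groth.Agent.H10.FibTot
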