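import Mathlib
import Groth.Prelude.Def_FibSite
import Groth.Agent.H10.FibTot3
import Groth.Agent.H10.FibTot4
import Groth.Agent.H10.AdjFan

/-!
# Restriction to a fibre of the extension from another fibre (helper10)
-/

set_option autoImplicit false
universe u
open CategoryTheory CategoryTheory.Limits Opposite Pseudofunctor Pseudofunctor.CoGrothendieck

namespace Groth.Agent.H10.FibTot

section Proj
variable {𝒮 : Type u} [SmallCategory 𝒮] (F : Pseudofunctor (LocallyDiscrete 𝒮ᵒᵖ) Cat.{u, u})
  (J : FibSite.Topologies F) (i j : 𝒮)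
  [∀ S : 𝒮, (ι F S).IsContinuous (J S) (FibSite.totalTopology F J)]
  [(ι F i).IsCocontinuous (J i) (FibSite.totalTopology F J)]
  [∀ (P : (F.obj ⟨op i⟩)ᵒᵖ ⥤ Type u), (ι F i).op.HasPointwiseRightKanExtension P]
  [∀ (R S : 𝒮) (f : R ⟶ S), (FibSite.invImage F f).IsContinuous (J S) (J R)]

/-- the projection `ρ_j κ_i a ⟶ (f^*)_* a` -/
noncomputable def proj (a : Sheaf (J i) (Type u)) (f : i ⟶ j) :
    (FibSite.restr F J (Type u) j).obj ((FibSite.coextend F J (Type u) i).obj a) ⟶
      ((FibSite.invImage F f).sheafPushforwardContinuous (Type u) (J j) (J i)).obj a :=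
  ⟨{ app := fun U => ((ι F i).op.ran.obj a.obj).map (cartesianLift U.unop f).op ≫
      ((ι F i).op.ranCounit.app a.obj).app (op ((FibSite.invImage F f).obj U.unop))
     naturality := by
      intro U U' φ
      let E : (∫ᶜ F)ᵒᵖ ⥤ Type u := (ι F i).op.ran.obj a.obj
      let ε : (ι F i).op ⋙ E ⟶ a.obj := (ι F i).op.ranCounit.app a.obj
      have h1 : E.map ((ι F i).op.map ((FibSite.invImage F f).map φ.unop).op) ≫
          ε.app (op ((FibSite.invImage F f).obj U'.unop)) =
          ε.app (op ((FibSite.invImage F f).obj U.unop)) ≫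
            a.obj.map ((FibSite.invImage F f).map φ.unop).op :=
        ε.naturality ((FibSite.invImage F f).map φ.unop).op
      have hX : ((ι F j).map φ.unop).op ≫ (cartesianLift U'.unop f).op =
          (cartesianLift U.unop f).op ≫
            (ι F i).op.map ((FibSite.invImage F f).map φ.unop).op :=
        congrArg Quiver.Hom.op (cartesianLift_naturality f φ.unop)
      show E.map ((ι F j).map φ.unop).op ≫ E.map (cartesianLift U'.unop f).op ≫
          ε.app (op ((FibSite.invImage F f).obj U'.unop)) =
        (E.map (cartesianLift U.unop f).op ≫ ε.app (op ((FibSite.invImage F f).obj U.unop))) ≫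
          a.obj.map ((FibSite.invImage F f).map φ.unop).op
      calc E.map ((ι F j).map φ.unop).op ≫ E.map (cartesianLift U'.unop f).op ≫
            ε.app (op ((FibSite.invImage F f).obj U'.unop))
          = E.map (((ι F j).map φ.unop).op ≫ (cartesianLift U'.unop f).op) ≫
            ε.app (op ((FibSite.invImage F f).obj U'.unop)) := by
              rw [E.map_comp, Category.assoc]
        _ = E.map ((cartesianLift U.unop f).op ≫
              (ι F i).op.map ((FibSite.invImage F f).map φ.unop).op) ≫
            ε.app (op ((FibSite.invImage F f).obj U'.unop)) :=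
              congrArg (fun z => E.map z ≫ ε.app (op ((FibSite.invImage F f).obj U'.unop))) hX
        _ = E.map (cartesianLift U.unop f).op ≫
              E.map ((ι F i).op.map ((FibSite.invImage F f).map φ.unop).op) ≫
            ε.app (op ((FibSite.invImage F f).obj U'.unop)) := by
              rw [E.map_comp, Category.assoc]
        _ = E.map (cartesianLift U.unop f).op ≫
              ε.app (op ((FibSite.invImage F f).obj U.unop)) ≫
              a.obj.map ((FibSite.invImage F f).map φ.unop).op :=
              congrArg (fun z => E.map (cartesianLift U.unop f).op ≫ z) h1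
        _ = _ := (Category.assoc _ _ _).symm }⟩

theorem proj_isLimit (a : Sheaf (J i) (Type u)) :
    Nonempty (IsLimit (Fan.mk _ (proj F J i j a))) := by
  refine RanFib.isLimit_fan_of_bijective (J j) _ _ (proj F J i j a) ?_
  intro U
  exact RanFib.bijective_of_unique_fac ((ι F i).op.ran.obj a.obj)
    ((ι F i).op.ranCounit.app a.obj) (op (⟨j, U.unop⟩ : ∫ᶜ F))
    ((ι F i).op.isPointwiseRightKanExtensionRanCounit a.obj _)
    (fun f => op ((FibSite.invImage F f).obj U.unop)) (fun f => (cartesianLift U.unop f).op)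
    (fun V g => cart_fac U.unop V g)

theorem proj_naturality {a a' : Sheaf (J i) (Type u)} (h : a ⟶ a') (f : i ⟶ j) :
    (FibSite.restr F J (Type u) j).map ((FibSite.coextend F J (Type u) i).map h) ≫
        proj F J i j a' f =
      proj F J i j a f ≫
        ((FibSite.invImage F f).sheafPushforwardContinuous (Type u) (J j) (J i)).map h := by
  apply Sheaf.hom_ext
  apply NatTrans.ext
  funext U
  let E : (∫ᶜ F)ᵒᵖ ⥤ Type u := (ι F i).op.ran.obj a.obj
  let ε : (ι F i).op ⋙ E ⟶ a.obj := (ι F i).op.ranCounit.app a.obj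
  let E' : (∫ᶜ F)ᵒᵖ ⥤ Type u := (ι F i).op.ran.obj a'.obj
  let ε' : (ι F i).op ⋙ E' ⟶ a'.obj := (ι F i).op.ranCounit.app a'.obj
  let θ : E ⟶ E' := (ι F i).op.ran.map h.hom
  have hc : θ.app ((ι F i).op.obj (op ((FibSite.invImage F f).obj U.unop))) ≫
      ε'.app (op ((FibSite.invImage F f).obj U.unop)) =
      ε.app (op ((FibSite.invImage F f).obj U.unop)) ≫
        h.hom.app (op ((FibSite.invImage F f).obj U.unop)) :=
    congr_app ((ι F i).op.ranCounit.naturality h.hom) (op ((FibSite.invImage F f).obj U.unop))
  have hθ : E.map (cartesianLift U.unop f).op ≫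
      θ.app ((ι F i).op.obj (op ((FibSite.invImage F f).obj U.unop))) =
      θ.app (op (⟨j, U.unop⟩ : ∫ᶜ F)) ≫ E'.map (cartesianLift U.unop f).op :=
    θ.naturality (cartesianLift U.unop f).op
  show θ.app (op (⟨j, U.unop⟩ : ∫ᶜ F)) ≫ (E'.map (cartesianLift U.unop f).op ≫
      ε'.app (op ((FibSite.invImage F f).obj U.unop))) =
    (E.map (cartesianLift U.unop f).op ≫ ε.app (op ((FibSite.invImage F f).obj U.unop))) ≫
      h.hom.app (op ((FibSite.invImage F f).obj U.unop))
  calc θ.app (op (⟨j, U.unop⟩ : ∫ᶜ F)) ≫ (E'.map (cartesianLift U.unop f).op ≫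
        ε'.app (op ((FibSite.invImage F f).obj U.unop)))
      = (θ.app (op (⟨j, U.unop⟩ : ∫ᶜ F)) ≫ E'.map (cartesianLift U.unop f).op) ≫
        ε'.app (op ((FibSite.invImage F f).obj U.unop)) := (Category.assoc _ _ _).symm
    _ = (E.map (cartesianLift U.unop f).op ≫
        θ.app ((ι F i).op.obj (op ((FibSite.invImage F f).obj U.unop)))) ≫
        ε'.app (op ((FibSite.invImage F f).obj U.unop)) :=
          congrArg (fun z => z ≫ ε'.app (op ((FibSite.invImage F f).obj U.unop))) hθ.symm
    _ = E.map (cartesianLift U.unop f).op ≫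
        (θ.app ((ι F i).op.obj (op ((FibSite.invImage F f).obj U.unop))) ≫
        ε'.app (op ((FibSite.invImage F f).obj U.unop))) := Category.assoc _ _ _
    _ = E.map (cartesianLift U.unop f).op ≫
        (ε.app (op ((FibSite.invImage F f).obj U.unop)) ≫
        h.hom.app (op ((FibSite.invImage F f).obj U.unop))) :=
          congrArg (fun z => E.map (cartesianLift U.unop f).op ≫ z) hc
    _ = _ := (Category.assoc _ _ _).symm

/-- the projections as a natural transformation -/
noncomputable def projNat (f : i ⟶ j) :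
    FibSite.coextend F J (Type u) i ⋙ FibSite.restr F J (Type u) j ⟶
      (FibSite.invImage F f).sheafPushforwardContinuous (Type u) (J j) (J i) where
  app a := proj F J i j a f
  naturality _ _ h := proj_naturality F J i j h f

end Proj

theorem restr_extend {𝒮 : Type u} [SmallCategory 𝒮]
    (F : Pseudofunctor (LocallyDiscrete 𝒮ᵒᵖ) Cat.{u, u}) (J : FibSite.Topologies F)
    (hF : FibSite.IsPreFibSite F J) (i j : 𝒮)
    [∀ S : 𝒮, (ι F S).IsContinuous (J S) (FibSite.totalTopology F J)]
    [((ι F i).sheafPushforwardContinuous (Type u) (J i)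
      (FibSite.totalTopology F J)).IsRightAdjoint]
    [∀ (R S : 𝒮) (f : R ⟶ S), (FibSite.invImage F f).IsContinuous (J S) (J R)]
    [∀ (R S : 𝒮) (f : R ⟶ S),
      ((FibSite.invImage F f).sheafPushforwardContinuous (Type u) (J S) (J R)).IsRightAdjoint]
    (a : Sheaf (J i) (Type u)) :
    ∃ c : Cofan fun f : j ⟶ i =>
        ((FibSite.invImage F f).sheafPullback (Type u) (J i) (J j)).obj a,
      Nonempty (IsColimit c) ∧
        Nonempty (c.pt ≅ (FibSite.restr F J (Type u) j).obj
          ((FibSite.extend F J (Type u) i).obj a)) := by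
  have := ι_isCocontinuous F J hF j
  have : ∀ (P : (F.obj ⟨op j⟩)ᵒᵖ ⥤ Type u), (ι F j).op.HasPointwiseRightKanExtension P :=
    fun P => inferInstance
  let adj : FibSite.extend F J (Type u) i ⋙ FibSite.restr F J (Type u) j ⊣
      FibSite.coextend F J (Type u) j ⋙ FibSite.restr F J (Type u) i :=
    ((ι F i).sheafAdjunctionContinuous (Type u) (J i) (FibSite.totalTopology F J)).comp
      ((ι F j).sheafAdjunctionCocontinuous (Type u) (J j) (FibSite.totalTopology F J))
  exact AdjFan.exists_cofan adj
    (L := fun f : j ⟶ i => (FibSite.invImage F f).sheafPullback (Type u) (J i) (J j))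
    (R := fun f : j ⟶ i => (FibSite.invImage F f).sheafPushforwardContinuous (Type u) (J i) (J j))
    (fun f => (FibSite.invImage F f).sheafAdjunctionContinuous (Type u) (J i) (J j))
    (fun f => projNat F J j i f)
    (fun b => proj_isLimit F J j i b) a

end Groth.Agent.H10.FibTot
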