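import Mathlib
import Groth.Prelude.Def_FibSite
import Groth.Agent.H10.FibTot5

/-!
# The extension from the fibre over a terminal object is left exact (helper10)
-/

set_option autoImplicit false
universe u
open CategoryTheory CategoryTheory.Limits Opposite Pseudofunctor Pseudofunctor.CoGrothendieck

namespace Groth.Agent.H10.FibTot

/-- restrictions to the fibres jointly reflect isomorphisms -/
theorem isIso_of_restr {𝒮 : Type u} [SmallCategory 𝒮]
    (F : Pseudofunctor (LocallyDiscrete 𝒮ᵒᵖ) Cat.{u, u}) (J : FibSite.Topologies F)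
    [∀ S : 𝒮, (ι F S).IsContinuous (J S) (FibSite.totalTopology F J)]
    {X Y : Sheaf (FibSite.totalTopology F J) (Type u)} (g : X ⟶ Y)
    (hg : ∀ j, IsIso ((FibSite.restr F J (Type u) j).map g)) : IsIso g := by
  have h0 : ∀ X' : (∫ᶜ F)ᵒᵖ, IsIso (g.hom.app X') := by
    rintro ⟨⟨j, U⟩⟩
    have := hg j
    have h1 : IsIso ((sheafToPresheaf _ _).map ((FibSite.restr F J (Type u) j).map g)) :=
      inferInstance
    have h2 : IsIso (((sheafToPresheaf _ _).map
        ((FibSite.restr F J (Type u) j).map g)).app (op U)) := inferInstance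
    exact h2
  have h3 : IsIso g.hom := NatIso.isIso_of_isIso_app g.hom
  have h4 : IsIso ((sheafToPresheaf _ _).map g) := h3
  exact isIso_of_reflects_iso g (sheafToPresheaf _ _)

theorem extend_preservesFiniteLimits {𝒮 : Type u} [SmallCategory 𝒮]
    (F : Pseudofunctor (LocallyDiscrete 𝒮ᵒᵖ) Cat.{u, u}) (J : FibSite.Topologies F)
    (hF : FibSite.IsFibSite F J) (i : 𝒮) (hi : IsTerminal i)
    [(ι F i).IsContinuous (J i) (FibSite.totalTopology F J)]
    [((ι F i).sheafPushforwardContinuous (Type u) (J i)
      (FibSite.totalTopology F J)).IsRightAdjoint] :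
    PreservesFiniteLimits (FibSite.extend F J (Type u) i) := by
  have hP := hF.isPreFibSite
  have hcont : ∀ S : 𝒮, (ι F S).IsContinuous (J S) (FibSite.totalTopology F J) :=
    fun S => ι_isContinuous F J hP S
  have hcoc : ∀ S : 𝒮, (ι F S).IsCocontinuous (J S) (FibSite.totalTopology F J) :=
    fun S => ι_isCocontinuous F J hP S
  have hinv : ∀ (R S : 𝒮) (f : R ⟶ S), (FibSite.invImage F f).IsContinuous (J S) (J R) :=
    fun R S f => hP f
  have hkan : ∀ (S : 𝒮) (P : (F.obj ⟨op S⟩)ᵒᵖ ⥤ Type u),
      (ι F S).op.HasPointwiseRightKanExtension P := fun S P => inferInstance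
  have hρ : ∀ j, PreservesFiniteLimits (FibSite.restr F J (Type u) j) := fun j => by
    have : (FibSite.restr F J (Type u) j).IsRightAdjoint := inferInstance
    have : PreservesLimitsOfSize.{u, u} (FibSite.restr F J (Type u) j) :=
      (Adjunction.ofIsRightAdjoint (FibSite.restr F J (Type u) j)).rightAdjoint_preservesLimits
    infer_instance
  refine AdjFan.preservesFiniteLimits_of_jointly (FibSite.extend F J (Type u) i)
    (fun j : 𝒮 => FibSite.restr F J (Type u) j) (fun g hg => isIso_of_restr F J g hg) ?_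
  intro j
  obtain ⟨hc, hra, hpl⟩ := hF (hi.from j)
  let _ : Unique (j ⟶ i) := ⟨⟨hi.from j⟩, fun f => hi.hom_ext _ _⟩
  let adj : FibSite.extend F J (Type u) i ⋙ FibSite.restr F J (Type u) j ⊣
      FibSite.coextend F J (Type u) j ⋙ FibSite.restr F J (Type u) i :=
    ((ι F i).sheafAdjunctionContinuous (Type u) (J i) (FibSite.totalTopology F J)).comp
      ((ι F j).sheafAdjunctionCocontinuous (Type u) (J j) (FibSite.totalTopology F J))
  let π := projNat F J j i (hi.from j)
  have hπ : ∀ b, IsIso (π.app b) := fun b =>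
    AdjFan.isIso_proj_of_unique (proj_isLimit F J j i b).some
  have hπ' : IsIso π := NatIso.isIso_of_isIso_app π
  let adj' := adj.ofNatIsoRight (asIso π)
  let e := adj'.leftAdjointUniq
    ((FibSite.invImage F (hi.from j)).sheafAdjunctionContinuous (Type u) (J i) (J j))
  have : PreservesFiniteLimits
      ((FibSite.invImage F (hi.from j)).sheafPullback (Type u) (J i) (J j)) := hpl
  exact preservesFiniteLimits_of_natIso e.symm

end Groth.Agent.H10.FibTot
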