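import Mathlib
import Groth.Agent.H10.RanFib

/-!
# A Beck–Chevalley lemma for pointwise right Kan extensions of functors to types (helper10)
-/

set_option autoImplicit false
universe w u v₁ u₁ v₂ u₂ v₃ u₃ v₄ u₄
open CategoryTheory CategoryTheory.Limits Opposite CategoryTheory.Functor

namespace Groth.Agent.H10.RanBC

variable {C₁ : Type u₁} [Category.{v₁} C₁] {D₁ : Type u₂} [Category.{v₂} D₁]
  {C₂ : Type u₃} [Category.{v₃} C₂] {D₂ : Type u₄} [Category.{v₄} D₂]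
  (L₁ : C₁ ⥤ D₁) (L₂ : C₂ ⥤ D₂) (A : C₁ ⥤ C₂) (Φ : D₁ ⥤ D₂) (e : L₁ ⋙ Φ ≅ A ⋙ L₂)
  [∀ Q : C₁ ⥤ Type u, L₁.HasPointwiseRightKanExtension Q]
  [∀ Q : C₂ ⥤ Type u, L₂.HasPointwiseRightKanExtension Q]

/-- the map `L₁ ⋙ Φ ⋙ Ran_{L₂} Q ⟶ A ⋙ Q` -/
noncomputable def β (Q : C₂ ⥤ Type u) : L₁ ⋙ (Φ ⋙ L₂.ran.obj Q) ⟶ A ⋙ Q where
  app V := (L₂.ran.obj Q).map (e.hom.app V) ≫ (L₂.ranCounit.app Q).app (A.obj V)
  naturality V V' m := by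
    have h1 := (L₂.ranCounit.app Q).naturality (A.map m)
    have h2 := e.hom.naturality m
    show (L₂.ran.obj Q).map (Φ.map (L₁.map m)) ≫ (L₂.ran.obj Q).map (e.hom.app V') ≫
        (L₂.ranCounit.app Q).app (A.obj V') =
      ((L₂.ran.obj Q).map (e.hom.app V) ≫ (L₂.ranCounit.app Q).app (A.obj V)) ≫ Q.map (A.map m)
    have h1' : (L₂.ran.obj Q).map (L₂.map (A.map m)) ≫ (L₂.ranCounit.app Q).app (A.obj V') =
        (L₂.ranCounit.app Q).app (A.obj V) ≫ Q.map (A.map m) := h1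
    have h2' : Φ.map (L₁.map m) ≫ e.hom.app V' = e.hom.app V ≫ L₂.map (A.map m) := h2
    rw [Category.assoc, ← h1', ← Category.assoc, ← Category.assoc, ← Functor.map_comp,
      ← Functor.map_comp, h2']

/-- the comparison map -/
noncomputable def Ψ (Q : C₂ ⥤ Type u) : Φ ⋙ L₂.ran.obj Q ⟶ L₁.ran.obj (A ⋙ Q) :=
  (L₁.ran.obj (A ⋙ Q)).liftOfIsRightKanExtension (L₁.ranCounit.app (A ⋙ Q)) _ (β L₁ L₂ A Φ e Q)

lemma Ψ_fac_app (Q : C₂ ⥤ Type u) (V : C₁) (x : (L₂.ran.obj Q).obj (Φ.obj (L₁.obj V))) :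
    (L₁.ranCounit.app (A ⋙ Q)).app V ((Ψ L₁ L₂ A Φ e Q).app (L₁.obj V) x) =
      (L₂.ranCounit.app Q).app (A.obj V) ((L₂.ran.obj Q).map (e.hom.app V) x) :=
  ConcreteCategory.congr_hom ((L₁.ran.obj (A ⋙ Q)).liftOfIsRightKanExtension_fac_app
    (L₁.ranCounit.app (A ⋙ Q)) _ (β L₁ L₂ A Φ e Q) V) x

lemma Ψ_naturality {Q Q' : C₂ ⥤ Type u} (h : Q ⟶ Q') :
    whiskerLeft Φ (L₂.ran.map h) ≫ Ψ L₁ L₂ A Φ e Q' =
      Ψ L₁ L₂ A Φ e Q ≫ L₁.ran.map (whiskerLeft A h) := by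
  apply (L₁.ran.obj (A ⋙ Q')).hom_ext_of_isRightKanExtension (L₁.ranCounit.app (A ⋙ Q'))
  ext V x
  have c2 : ∀ (W : C₂) (z : (L₂.ran.obj Q).obj (L₂.obj W)),
      (L₂.ranCounit.app Q').app W ((L₂.ran.map h).app (L₂.obj W) z) =
        h.app W ((L₂.ranCounit.app Q).app W z) := fun W z =>
    ConcreteCategory.congr_hom (congr_app (L₂.ranCounit.naturality h) W) z
  have c1 : ∀ (z : (L₁.ran.obj (A ⋙ Q)).obj (L₁.obj V)),
      (L₁.ranCounit.app (A ⋙ Q')).app V ((L₁.ran.map (whiskerLeft A h)).app (L₁.obj V) z) =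
        h.app (A.obj V) ((L₁.ranCounit.app (A ⋙ Q)).app V z) := fun z =>
    ConcreteCategory.congr_hom (congr_app (L₁.ranCounit.naturality (whiskerLeft A h)) V) z
  have n1 : (L₂.ran.obj Q').map (e.hom.app V) ((L₂.ran.map h).app (Φ.obj (L₁.obj V)) x) =
      (L₂.ran.map h).app (L₂.obj (A.obj V)) ((L₂.ran.obj Q).map (e.hom.app V) x) :=
    (NatTrans.naturality_apply (L₂.ran.map h) (e.hom.app V) x).symm
  show (L₁.ranCounit.app (A ⋙ Q')).app V ((Ψ L₁ L₂ A Φ e Q').app (L₁.obj V)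
      ((L₂.ran.map h).app (Φ.obj (L₁.obj V)) x)) =
    (L₁.ranCounit.app (A ⋙ Q')).app V ((L₁.ran.map (whiskerLeft A h)).app (L₁.obj V)
      ((Ψ L₁ L₂ A Φ e Q).app (L₁.obj V) x))
  rw [Ψ_fac_app, n1, c2, c1, Ψ_fac_app]

theorem Ψ_bijective (Q : C₂ ⥤ Type u) (Y : D₁) {I : Type w} (c₁ : I → C₁)
    (γ₁ : ∀ f, Y ⟶ L₁.obj (c₁ f))
    (hfac₁ : ∀ (V : C₁) (g : Y ⟶ L₁.obj V),
      ∃! p : (Σ f : I, (c₁ f ⟶ V)), g = γ₁ p.1 ≫ L₁.map p.2)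
    (c₂ : I → C₂) (γ₂ : ∀ f, Φ.obj Y ⟶ L₂.obj (c₂ f))
    (hfac₂ : ∀ (V : C₂) (g : Φ.obj Y ⟶ L₂.obj V),
      ∃! p : (Σ f : I, (c₂ f ⟶ V)), g = γ₂ p.1 ≫ L₂.map p.2)
    (n : ∀ f, c₂ f ≅ A.obj (c₁ f))
    (hn : ∀ f, Φ.map (γ₁ f) ≫ e.hom.app (c₁ f) = γ₂ f ≫ L₂.map (n f).hom) :
    Function.Bijective ((Ψ L₁ L₂ A Φ e Q).app Y) := by
  have hF := RanFib.bijective_of_unique_fac (L₂.ran.obj Q) (L₂.ranCounit.app Q) (Φ.obj Y)
    (L₂.isPointwiseRightKanExtensionRanCounit Q _) c₂ γ₂ hfac₂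
  have hG := RanFib.bijective_of_unique_fac (L₁.ran.obj (A ⋙ Q)) (L₁.ranCounit.app (A ⋙ Q)) Y
    (L₁.isPointwiseRightKanExtensionRanCounit (A ⋙ Q) _) c₁ γ₁ hfac₁
  have hmid : Function.Bijective (fun (t : ∀ f, Q.obj (c₂ f)) (f : I) =>
      Q.map (n f).hom (t f)) := by
    refine Function.bijective_iff_has_inverse.mpr
      ⟨fun t f => Q.map (n f).inv (t f), fun t => funext fun f => ?_, fun t => funext fun f => ?_⟩
    · show Q.map (n f).inv (Q.map (n f).hom (t f)) = t f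
      rw [← Functor.map_comp_apply, Iso.hom_inv_id, Functor.map_id_apply]
    · show Q.map (n f).hom (Q.map (n f).inv (t f)) = t f
      rw [← Functor.map_comp_apply, Iso.inv_hom_id, Functor.map_id_apply]
  have hcomp : (fun (y : (L₁.ran.obj (A ⋙ Q)).obj Y) (f : I) =>
        (L₁.ranCounit.app (A ⋙ Q)).app (c₁ f) ((L₁.ran.obj (A ⋙ Q)).map (γ₁ f) y)) ∘
        (Ψ L₁ L₂ A Φ e Q).app Y =
      (fun (t : ∀ f, Q.obj (c₂ f)) (f : I) => Q.map (n f).hom (t f)) ∘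
        (fun (x : (L₂.ran.obj Q).obj (Φ.obj Y)) (f : I) =>
          (L₂.ranCounit.app Q).app (c₂ f) ((L₂.ran.obj Q).map (γ₂ f) x)) := by
    funext x f
    have e1 : (L₁.ran.obj (A ⋙ Q)).map (γ₁ f) ((Ψ L₁ L₂ A Φ e Q).app Y x) =
        (Ψ L₁ L₂ A Φ e Q).app (L₁.obj (c₁ f)) ((L₂.ran.obj Q).map (Φ.map (γ₁ f)) x) :=
      (NatTrans.naturality_apply (Ψ L₁ L₂ A Φ e Q) (γ₁ f) x).symm
    have e2 : ∀ (W : C₂) (m : c₂ f ⟶ W) (z : (L₂.ran.obj Q).obj (L₂.obj (c₂ f))),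
        (L₂.ranCounit.app Q).app W ((L₂.ran.obj Q).map (L₂.map m) z) =
          Q.map m ((L₂.ranCounit.app Q).app (c₂ f) z) := fun W m z =>
      ConcreteCategory.congr_hom ((L₂.ranCounit.app Q).naturality m) z
    show (L₁.ranCounit.app (A ⋙ Q)).app (c₁ f)
        ((L₁.ran.obj (A ⋙ Q)).map (γ₁ f) ((Ψ L₁ L₂ A Φ e Q).app Y x)) =
      Q.map (n f).hom ((L₂.ranCounit.app Q).app (c₂ f) ((L₂.ran.obj Q).map (γ₂ f) x))
    rw [e1, Ψ_fac_app, ← Functor.map_comp_apply, hn f, Functor.map_comp_apply, e2]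
  have h3 : Function.Bijective ((fun (y : (L₁.ran.obj (A ⋙ Q)).obj Y) (f : I) =>
        (L₁.ranCounit.app (A ⋙ Q)).app (c₁ f) ((L₁.ran.obj (A ⋙ Q)).map (γ₁ f) y)) ∘
        (Ψ L₁ L₂ A Φ e Q).app Y) := by
    rw [hcomp]
    exact hmid.comp hF
  exact (Function.Bijective.of_comp_iff' hG _).mp h3

end Groth.Agent.H10.RanBC
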