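import Mathlib
import Groth.Prelude.Def_FibSite
import Groth.Agent.H10.FibTot6
import Groth.Agent.H10.RanBC

/-!
# Cartesian functors between fibred sites: the induced functor on total sites (helper10)
-/

set_option autoImplicit false
universe v₂ u₂ v₁ u₁ u
open CategoryTheory CategoryTheory.Limits Opposite Pseudofunctor Pseudofunctor.CoGrothendieck
open scoped CategoryTheory.Pseudofunctor.StrongTrans

namespace Groth.Agent.H10.FibTot

section MapLemmas
variable {𝒮 : Type u₁} [Category.{v₁} 𝒮] {F G : Pseudofunctor (LocallyDiscrete 𝒮ᵒᵖ) Cat.{v₂, u₂}}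
  (α : G ⟶ F)

lemma map_id_fiber_eq (S : 𝒮) (V : G.obj ⟨op S⟩) :
    (α.app ⟨op S⟩).toFunctor.map ((G.mapId ⟨op S⟩).inv.toNatTrans.app V) ≫
      (α.naturality (𝟙 S).op.toLoc).hom.toNatTrans.app V =
    (F.mapId ⟨op S⟩).inv.toNatTrans.app ((α.app ⟨op S⟩).toFunctor.obj V) := by
  have h : (⟨𝟙 S, (α.app ⟨op S⟩).toFunctor.map ((G.mapId ⟨op S⟩).inv.toNatTrans.app V) ≫
      (α.naturality (𝟙 S).op.toLoc).hom.toNatTrans.app V⟩ :
      (⟨S, (α.app ⟨op S⟩).toFunctor.obj V⟩ : ∫ᶜ F) ⟶ ⟨S, (α.app ⟨op S⟩).toFunctor.obj V⟩) =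
      ⟨𝟙 S, (F.mapId ⟨op S⟩).inv.toNatTrans.app ((α.app ⟨op S⟩).toFunctor.obj V)⟩ :=
    (Pseudofunctor.CoGrothendieck.map α).map_id (⟨S, V⟩ : ∫ᶜ G)
  exact hom_mk_eq h

lemma map_ι_map (S : 𝒮) {V V' : G.obj ⟨op S⟩} (φ : V ⟶ V') :
    (Pseudofunctor.CoGrothendieck.map α).map ((ι G S).map φ) =
      (ι F S).map ((α.app ⟨op S⟩).toFunctor.map φ) := by
  show (⟨𝟙 S, (α.app ⟨op S⟩).toFunctor.map (φ ≫ (G.mapId ⟨op S⟩).inv.toNatTrans.app V') ≫
      (α.naturality (𝟙 S).op.toLoc).hom.toNatTrans.app V'⟩ :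
      (⟨S, (α.app ⟨op S⟩).toFunctor.obj V⟩ : ∫ᶜ F) ⟶ ⟨S, (α.app ⟨op S⟩).toFunctor.obj V'⟩) =
    ⟨𝟙 S, (α.app ⟨op S⟩).toFunctor.map φ ≫
      (F.mapId ⟨op S⟩).inv.toNatTrans.app ((α.app ⟨op S⟩).toFunctor.obj V')⟩
  congr 1
  exact (congrArg (fun z => z ≫ (α.naturality (𝟙 S).op.toLoc).hom.toNatTrans.app V')
    ((α.app ⟨op S⟩).toFunctor.map_comp φ _)).trans ((Category.assoc _ _ _).trans
      (congrArg (fun z => (α.app ⟨op S⟩).toFunctor.map φ ≫ z) (map_id_fiber_eq α S V')))

/-- the cartesian functor commutes with the fibre inclusions -/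
def ιCompMapIso (S : 𝒮) :
    ι G S ⋙ Pseudofunctor.CoGrothendieck.map α ≅ (α.app ⟨op S⟩).toFunctor ⋙ ι F S :=
  NatIso.ofComponents (fun V => Iso.refl _) (fun {V V'} φ => by
    show (Pseudofunctor.CoGrothendieck.map α).map ((ι G S).map φ) ≫ 𝟙 _ =
      𝟙 _ ≫ (ι F S).map ((α.app ⟨op S⟩).toFunctor.map φ)
    rw [Category.comp_id, Category.id_comp]
    exact map_ι_map α S φ)

/-- the opposite version -/
def ιCompMapIsoOp (S : 𝒮) :
    (ι G S).op ⋙ (Pseudofunctor.CoGrothendieck.map α).op ≅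
      (α.app ⟨op S⟩).toFunctor.op ⋙ (ι F S).op :=
  NatIso.ofComponents (fun V => Iso.refl _) (fun {V V'} m => by
    show ((Pseudofunctor.CoGrothendieck.map α).map ((ι G S).map m.unop)).op ≫ 𝟙 _ =
      𝟙 _ ≫ ((ι F S).map ((α.app ⟨op S⟩).toFunctor.map m.unop)).op
    rw [Category.comp_id, Category.id_comp]
    exact congrArg Quiver.Hom.op (map_ι_map α S m.unop))

lemma map_cartesianLift {S j : 𝒮} (f : S ⟶ j) (V : G.obj ⟨op j⟩) :
    (Pseudofunctor.CoGrothendieck.map α).map (cartesianLift V f) =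
      (ι F S).map ((α.naturality f.op.toLoc).hom.toNatTrans.app V) ≫
        cartesianLift ((α.app ⟨op j⟩).toFunctor.obj V) f := by
  have e2 := ι_map_comp ((α.naturality f.op.toLoc).hom.toNatTrans.app V)
    (cartesianLift ((α.app ⟨op j⟩).toFunctor.obj V) f)
  refine Eq.trans ?_ e2.symm
  show (⟨f, (α.app ⟨op S⟩).toFunctor.map (𝟙 _) ≫
      (α.naturality f.op.toLoc).hom.toNatTrans.app V⟩ :
      (⟨S, (α.app ⟨op S⟩).toFunctor.obj ((G.map f.op.toLoc).toFunctor.obj V)⟩ : ∫ᶜ F) ⟶
        ⟨j, (α.app ⟨op j⟩).toFunctor.obj V⟩) =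
    ⟨f, (α.naturality f.op.toLoc).hom.toNatTrans.app V ≫ 𝟙 _⟩
  congr 1
  exact (congrArg (fun z => z ≫ (α.naturality f.op.toLoc).hom.toNatTrans.app V)
    ((α.app ⟨op S⟩).toFunctor.map_id _)).trans ((Category.id_comp _).trans
      (Category.comp_id _).symm)

/-- the base change isomorphism of the cartesian functor, on opposite objects -/
def natIsoOp {S j : 𝒮} (f : S ⟶ j) (V : G.obj ⟨op j⟩) :
    (op ((FibSite.invImage F f).obj ((α.app ⟨op j⟩).toFunctor.obj V)) :
        (F.obj ⟨op S⟩)ᵒᵖ) ≅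
      op ((α.app ⟨op S⟩).toFunctor.obj ((FibSite.invImage G f).obj V)) where
  hom := Quiver.Hom.op ((α.naturality f.op.toLoc).hom.toNatTrans.app V)
  inv := Quiver.Hom.op ((α.naturality f.op.toLoc).inv.toNatTrans.app V)
  hom_inv_id := congrArg Quiver.Hom.op
    (Cat.Hom.inv_hom_id_toNatTrans_app (α.naturality f.op.toLoc) V)
  inv_hom_id := congrArg Quiver.Hom.op
    (Cat.Hom.hom_inv_id_toNatTrans_app (α.naturality f.op.toLoc) V)

end MapLemmas

section BC
variable {𝒮 : Type u} [SmallCategory 𝒮] (F G : Pseudofunctor (LocallyDiscrete 𝒮ᵒᵖ) Cat.{u, u})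
  (J : FibSite.Topologies F) (K : FibSite.Topologies G) (α : G ⟶ F) (S : 𝒮)
  [(ι F S).IsCocontinuous (J S) (FibSite.totalTopology F J)]
  [(ι G S).IsCocontinuous (K S) (FibSite.totalTopology G K)]
  [(α.app ⟨op S⟩).toFunctor.IsContinuous (K S) (J S)]
  [(Pseudofunctor.CoGrothendieck.map α).IsContinuous
    (FibSite.totalTopology G K) (FibSite.totalTopology F J)]

/-- the base change morphism `Φ_* κ^F_S a ⟶ κ^G_S (α_S)_* a` -/
noncomputable def bcHom (a : Sheaf (J S) (Type u)) :
    ((ι F S).sheafPushforwardCocontinuous (Type u) (J S) (FibSite.totalTopology F J) ⋙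
      (Pseudofunctor.CoGrothendieck.map α).sheafPushforwardContinuous (Type u)
        (FibSite.totalTopology G K) (FibSite.totalTopology F J)).obj a ⟶
    ((α.app ⟨op S⟩).toFunctor.sheafPushforwardContinuous (Type u) (K S) (J S) ⋙
      (ι G S).sheafPushforwardCocontinuous (Type u) (K S) (FibSite.totalTopology G K)).obj a :=
  ⟨RanBC.Ψ (ι G S).op (ι F S).op (α.app ⟨op S⟩).toFunctor.op
    (Pseudofunctor.CoGrothendieck.map α).op (ιCompMapIsoOp α S) a.obj⟩

theorem bcHom_isIso (a : Sheaf (J S) (Type u)) : IsIso (bcHom F G J K α S a) := by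
  have h0 : ∀ Y : (∫ᶜ G)ᵒᵖ, IsIso ((bcHom F G J K α S a).hom.app Y) := by
    rintro ⟨⟨j, V⟩⟩
    rw [isIso_iff_bijective]
    refine RanBC.Ψ_bijective (ι G S).op (ι F S).op (α.app ⟨op S⟩).toFunctor.op
      (Pseudofunctor.CoGrothendieck.map α).op (ιCompMapIsoOp α S) a.obj
      (op (⟨j, V⟩ : ∫ᶜ G)) (I := S ⟶ j)
      (fun f => op ((FibSite.invImage G f).obj V)) (fun f => (cartesianLift V f).op)
      (fun V' g => cart_fac V V' g)
      (fun f => op ((FibSite.invImage F f).obj ((α.app ⟨op j⟩).toFunctor.obj V)))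
      (fun f => (cartesianLift ((α.app ⟨op j⟩).toFunctor.obj V) f).op)
      (fun V' g => cart_fac ((α.app ⟨op j⟩).toFunctor.obj V) V' g)
      (fun f => natIsoOp α f V) (fun f => ?_)
    show ((Pseudofunctor.CoGrothendieck.map α).map (cartesianLift V f)).op ≫ 𝟙 _ =
      (cartesianLift ((α.app ⟨op j⟩).toFunctor.obj V) f).op ≫
        ((ι F S).map ((α.naturality f.op.toLoc).hom.toNatTrans.app V)).op
    rw [Category.comp_id]
    exact congrArg Quiver.Hom.op (map_cartesianLift α f V)
  have h3 : IsIso (bcHom F G J K α S a).hom := NatIso.isIso_of_isIso_app _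
  have h4 : IsIso ((sheafToPresheaf _ _).map (bcHom F G J K α S a)) := h3
  exact isIso_of_reflects_iso (bcHom F G J K α S a) (sheafToPresheaf _ _)

/-- the base change morphism as a natural transformation -/
noncomputable def bcNat :
    (ι F S).sheafPushforwardCocontinuous (Type u) (J S) (FibSite.totalTopology F J) ⋙
      (Pseudofunctor.CoGrothendieck.map α).sheafPushforwardContinuous (Type u)
        (FibSite.totalTopology G K) (FibSite.totalTopology F J) ⟶
    (α.app ⟨op S⟩).toFunctor.sheafPushforwardContinuous (Type u) (K S) (J S) ⋙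
      (ι G S).sheafPushforwardCocontinuous (Type u) (K S) (FibSite.totalTopology G K) where
  app a := bcHom F G J K α S a
  naturality a a' h := by
    apply Sheaf.hom_ext
    exact RanBC.Ψ_naturality (ι G S).op (ι F S).op (α.app ⟨op S⟩).toFunctor.op
      (Pseudofunctor.CoGrothendieck.map α).op (ιCompMapIsoOp α S) h.hom

instance : IsIso (bcNat F G J K α S) := by
  have : ∀ a, IsIso ((bcNat F G J K α S).app a) := fun a => bcHom_isIso F G J K α S a
  exact NatIso.isIso_of_isIso_app _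

end BC

theorem map_morphismOfSites {𝒮 : Type u} [SmallCategory 𝒮]
    (F G : Pseudofunctor (LocallyDiscrete 𝒮ᵒᵖ) Cat.{u, u}) (J : FibSite.Topologies F)
    (K : FibSite.Topologies G) (hF : FibSite.IsPreFibSite F J) (hG : FibSite.IsPreFibSite G K)
    (α : G ⟶ F)
    (hα : ∀ S : 𝒮, ∃ (_ : (α.app ⟨op S⟩).toFunctor.IsContinuous (K S) (J S))
      (_ : ((α.app ⟨op S⟩).toFunctor.sheafPushforwardContinuous (Type u) (K S)
        (J S)).IsRightAdjoint),
      PreservesFiniteLimits ((α.app ⟨op S⟩).toFunctor.sheafPullback (Type u) (K S) (J S))) :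
    ∃ (_ : (Pseudofunctor.CoGrothendieck.map α).IsContinuous
        (FibSite.totalTopology G K) (FibSite.totalTopology F J))
      (_ : ((Pseudofunctor.CoGrothendieck.map α).sheafPushforwardContinuous (Type u)
        (FibSite.totalTopology G K) (FibSite.totalTopology F J)).IsRightAdjoint),
      PreservesFiniteLimits ((Pseudofunctor.CoGrothendieck.map α).sheafPullback (Type u)
        (FibSite.totalTopology G K) (FibSite.totalTopology F J)) := by
  have hcF : ∀ S : 𝒮, (ι F S).IsContinuous (J S) (FibSite.totalTopology F J) :=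
    fun S => ι_isContinuous F J hF S
  have hcG : ∀ S : 𝒮, (ι G S).IsContinuous (K S) (FibSite.totalTopology G K) :=
    fun S => ι_isContinuous G K hG S
  have hccF : ∀ S : 𝒮, (ι F S).IsCocontinuous (J S) (FibSite.totalTopology F J) :=
    fun S => ι_isCocontinuous F J hF S
  have hccG : ∀ S : 𝒮, (ι G S).IsCocontinuous (K S) (FibSite.totalTopology G K) :=
    fun S => ι_isCocontinuous G K hG S
  have hcont : (Pseudofunctor.CoGrothendieck.map α).IsContinuous
      (FibSite.totalTopology G K) (FibSite.totalTopology F J) := by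
    refine (isContinuous_iff G K hG (FibSite.totalTopology F J) _).mpr (fun S => ?_)
    have := (hα S).1
    exact Functor.isContinuous_comp' (ιCompMapIso α S).symm (K S) (J S)
      (FibSite.totalTopology F J)
  have hra : ((Pseudofunctor.CoGrothendieck.map α).sheafPushforwardContinuous (Type u)
      (FibSite.totalTopology G K) (FibSite.totalTopology F J)).IsRightAdjoint := inferInstance
  refine ⟨hcont, hra, ?_⟩
  have hρF : ∀ j, PreservesFiniteLimits (FibSite.restr F J (Type u) j) := fun j => by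
    have : (FibSite.restr F J (Type u) j).IsRightAdjoint := inferInstance
    have : PreservesLimitsOfSize.{u, u} (FibSite.restr F J (Type u) j) :=
      (Adjunction.ofIsRightAdjoint (FibSite.restr F J (Type u) j)).rightAdjoint_preservesLimits
    infer_instance
  have hρG : ∀ j, PreservesFiniteLimits (FibSite.restr G K (Type u) j) := fun j => by
    have : (FibSite.restr G K (Type u) j).IsRightAdjoint := inferInstance
    have : PreservesLimitsOfSize.{u, u} (FibSite.restr G K (Type u) j) :=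
      (Adjunction.ofIsRightAdjoint (FibSite.restr G K (Type u) j)).rightAdjoint_preservesLimits
    infer_instance
  refine AdjFan.preservesFiniteLimits_of_jointly
    ((Pseudofunctor.CoGrothendieck.map α).sheafPullback (Type u)
      (FibSite.totalTopology G K) (FibSite.totalTopology F J))
    (fun j : 𝒮 => FibSite.restr F J (Type u) j) (fun g hg => isIso_of_restr F J g hg) ?_
  intro S
  obtain ⟨hc, hra', hpl⟩ := hα S
  let adj1 := ((Pseudofunctor.CoGrothendieck.map α).sheafAdjunctionContinuous (Type u)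
      (FibSite.totalTopology G K) (FibSite.totalTopology F J)).comp
    ((ι F S).sheafAdjunctionCocontinuous (Type u) (J S) (FibSite.totalTopology F J))
  let adj2 := ((ι G S).sheafAdjunctionCocontinuous (Type u) (K S)
      (FibSite.totalTopology G K)).comp
    ((α.app ⟨op S⟩).toFunctor.sheafAdjunctionContinuous (Type u) (K S) (J S))
  let adj1' := adj1.ofNatIsoRight (asIso (bcNat F G J K α S))
  let e := adj1'.leftAdjointUniq adj2
  have : PreservesFiniteLimits
      ((α.app ⟨op S⟩).toFunctor.sheafPullback (Type u) (K S) (J S)) := hpl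
  exact preservesFiniteLimits_of_natIso e.symm

end Groth.Agent.H10.FibTot
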