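import Mathlib
import Groth.Prelude.Def_FibSite
import Groth.Agent.H10.FibTot6

/-!
# Sheaves on a fibre are generated by restrictions of sheaves on the total site (helper10)

Every pointed sheaf `b` on a fibre is a retract of the restriction of the sheaf `κ b` on the total
site, and every sheaf is a pullback of pointed sheaves (`a = (a ⨿ 1) ×_{1 ⨿ 1} 1`).
-/

set_option autoImplicit false
universe u
open CategoryTheory CategoryTheory.Limits Opposite Pseudofunctor Pseudofunctor.CoGrothendieck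

namespace Groth.Agent.H10.FibTot

section Retract
variable {𝒮 : Type u} [SmallCategory 𝒮] (F : Pseudofunctor (LocallyDiscrete 𝒮ᵒᵖ) Cat.{u, u})
  (J : FibSite.Topologies F) (S : 𝒮)
  [∀ (R S : 𝒮) (f : R ⟶ S), (FibSite.invImage F f).IsContinuous (J S) (J R)]

/-- the constant map at a point -/
def constHom (b : Sheaf (J S) (Type u))
    (p : (Functor.const (F.obj ⟨op S⟩)ᵒᵖ).obj PUnit.{u+1} ⟶ b.obj) (f : S ⟶ S) :
    b ⟶ ((FibSite.invImage F f).sheafPushforwardContinuous (Type u) (J S) (J S)).obj b :=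
  ⟨{ app := fun W => ↾(fun _ => p.app (op ((FibSite.invImage F f).obj W.unop)) PUnit.unit)
     naturality := by
      intro W W' φ
      ext x
      exact NatTrans.naturality_apply p ((FibSite.invImage F f).map φ.unop).op PUnit.unit }⟩

/-- the canonical map `b ⟶ (𝟙^*)_* b` -/
def unitHom (b : Sheaf (J S) (Type u)) :
    b ⟶ ((FibSite.invImage F (𝟙 S)).sheafPushforwardContinuous (Type u) (J S) (J S)).obj b :=
  ⟨{ app := fun W => b.obj.map ((F.mapId ⟨op S⟩).hom.toNatTrans.app W.unop).op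
     naturality := by
      intro W W' φ
      have h := (F.mapId ⟨op S⟩).hom.toNatTrans.naturality φ.unop
      show b.obj.map φ ≫ b.obj.map ((F.mapId ⟨op S⟩).hom.toNatTrans.app W'.unop).op =
        b.obj.map ((F.mapId ⟨op S⟩).hom.toNatTrans.app W.unop).op ≫
          b.obj.map ((FibSite.invImage F (𝟙 S)).map φ.unop).op
      rw [← b.obj.map_comp, ← b.obj.map_comp]
      exact congrArg b.obj.map (congrArg Quiver.Hom.op h.symm) }⟩

/-- the canonical map `(𝟙^*)_* b ⟶ b` -/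
def unitInv (b : Sheaf (J S) (Type u)) :
    ((FibSite.invImage F (𝟙 S)).sheafPushforwardContinuous (Type u) (J S) (J S)).obj b ⟶ b :=
  ⟨{ app := fun W => b.obj.map ((F.mapId ⟨op S⟩).inv.toNatTrans.app W.unop).op
     naturality := by
      intro W W' φ
      have h := (F.mapId ⟨op S⟩).inv.toNatTrans.naturality φ.unop
      show b.obj.map ((FibSite.invImage F (𝟙 S)).map φ.unop).op ≫
          b.obj.map ((F.mapId ⟨op S⟩).inv.toNatTrans.app W'.unop).op =
        b.obj.map ((F.mapId ⟨op S⟩).inv.toNatTrans.app W.unop).op ≫ b.obj.map φ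
      rw [← b.obj.map_comp, ← b.obj.map_comp]
      exact congrArg b.obj.map (congrArg Quiver.Hom.op h.symm) }⟩

lemma unitHom_unitInv (b : Sheaf (J S) (Type u)) : unitHom F J S b ≫ unitInv F J S b = 𝟙 b := by
  apply Sheaf.hom_ext
  ext W x
  show b.obj.map ((F.mapId ⟨op S⟩).inv.toNatTrans.app W.unop).op
    (b.obj.map ((F.mapId ⟨op S⟩).hom.toNatTrans.app W.unop).op x) = x
  rw [← Functor.map_comp_apply, ← op_comp, Cat.Hom.inv_hom_id_toNatTrans_app]
  exact Functor.map_id_apply b.obj _ x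

variable [∀ S : 𝒮, (ι F S).IsContinuous (J S) (FibSite.totalTopology F J)]
  [(ι F S).IsCocontinuous (J S) (FibSite.totalTopology F J)]
  [∀ (P : (F.obj ⟨op S⟩)ᵒᵖ ⥤ Type u), (ι F S).op.HasPointwiseRightKanExtension P]

/-- a pointed sheaf on a fibre is a retract of the restriction of a sheaf on the total site -/
theorem retract_of_point (b : Sheaf (J S) (Type u))
    (p : (Functor.const (F.obj ⟨op S⟩)ᵒᵖ).obj PUnit.{u+1} ⟶ b.obj) :
    ∃ (i : b ⟶ (FibSite.restr F J (Type u) S).obj ((FibSite.coextend F J (Type u) S).obj b))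
      (r : (FibSite.restr F J (Type u) S).obj ((FibSite.coextend F J (Type u) S).obj b) ⟶ b),
      i ≫ r = 𝟙 b := by
  classical
  let σ : ∀ f : S ⟶ S,
      b ⟶ ((FibSite.invImage F f).sheafPushforwardContinuous (Type u) (J S) (J S)).obj b :=
    fun f => if h : f = 𝟙 S then (by subst h; exact unitHom F J S b) else constHom F J S b p f
  have hσ : σ (𝟙 S) = unitHom F J S b := dif_pos rfl
  obtain ⟨hl⟩ := proj_isLimit F J S S b
  refine ⟨Fan.IsLimit.lift hl σ, proj F J S S b (𝟙 S) ≫ unitInv F J S b, ?_⟩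
  have h1 : Fan.IsLimit.lift hl σ ≫ proj F J S S b (𝟙 S) = σ (𝟙 S) :=
    Fan.IsLimit.fac hl σ (𝟙 S)
  rw [← Category.assoc, h1, hσ, unitHom_unitInv]

end Retract

/-- A class of presheaves on a fibre which contains the restrictions of the sheaves on the total
site and is closed under retracts and pullbacks contains all sheaves on the fibre. -/
theorem sheaf_induction {𝒮 : Type u} [SmallCategory 𝒮]
    (F : Pseudofunctor (LocallyDiscrete 𝒮ᵒᵖ) Cat.{u, u}) (J : FibSite.Topologies F)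
    (hF : FibSite.IsPreFibSite F J) (S : 𝒮)
    (Pr : ((F.obj ⟨op S⟩)ᵒᵖ ⥤ Type u) → Prop)
    (h_retract : ∀ {X Y : (F.obj ⟨op S⟩)ᵒᵖ ⥤ Type u} (i : X ⟶ Y) (r : Y ⟶ X),
      i ≫ r = 𝟙 X → Pr Y → Pr X)
    (h_pb : ∀ {P X₁ X₂ X₀ : (F.obj ⟨op S⟩)ᵒᵖ ⥤ Type u} {fst : P ⟶ X₁} {snd : P ⟶ X₂}
      {f : X₁ ⟶ X₀} {g : X₂ ⟶ X₀}, IsPullback fst snd f g → Pr X₁ → Pr X₂ → Pr X₀ → Pr P)
    (h_restr : ∀ ℱ : Sheaf (FibSite.totalTopology F J) (Type u), Pr ((ι F S).op ⋙ ℱ.obj))
    (a : Sheaf (J S) (Type u)) : Pr a.obj := by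
  have hcont : ∀ S : 𝒮, (ι F S).IsContinuous (J S) (FibSite.totalTopology F J) :=
    fun S => ι_isContinuous F J hF S
  have hcoc : ∀ S : 𝒮, (ι F S).IsCocontinuous (J S) (FibSite.totalTopology F J) :=
    fun S => ι_isCocontinuous F J hF S
  have hinv : ∀ (R S : 𝒮) (f : R ⟶ S), (FibSite.invImage F f).IsContinuous (J S) (J R) :=
    fun R S f => hF f
  have hkan : ∀ (P : (F.obj ⟨op S⟩)ᵒᵖ ⥤ Type u), (ι F S).op.HasPointwiseRightKanExtension P :=
    fun P => inferInstance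
  have hbc : HasBinaryCoproducts (Sheaf (J S) (Type u)) :=
    hasColimitsOfShape_discrete _ WalkingPair
  -- pointed sheaves
  have key : ∀ (b : Sheaf (J S) (Type u)),
      ((Functor.const (F.obj ⟨op S⟩)ᵒᵖ).obj PUnit.{u+1} ⟶ b.obj) → Pr b.obj := by
    intro b p
    obtain ⟨i, r, hir⟩ := retract_of_point F J S b p
    exact h_retract i.hom r.hom (congrArg (fun z => z.hom) hir)
      (h_restr ((FibSite.coextend F J (Type u) S).obj b))
  -- the terminal sheaf is pointed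
  have hT : IsTerminal ((sheafToPresheaf (J S) (Type u)).obj (⊤_ (Sheaf (J S) (Type u)))) :=
    terminalIsTerminal.isTerminalObj (sheafToPresheaf (J S) (Type u)) _
  let pT : (Functor.const (F.obj ⟨op S⟩)ᵒᵖ).obj PUnit.{u+1} ⟶
      (⊤_ (Sheaf (J S) (Type u))).obj := hT.from _
  have h1 : Pr (⊤_ (Sheaf (J S) (Type u))).obj := key _ pT
  have h2 : Pr (a ⨿ ⊤_ (Sheaf (J S) (Type u))).obj :=
    key _ (pT ≫ (coprod.inr : ⊤_ (Sheaf (J S) (Type u)) ⟶ a ⨿ ⊤_ (Sheaf (J S) (Type u))).hom)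
  have h3 : Pr ((⊤_ (Sheaf (J S) (Type u))) ⨿ ⊤_ (Sheaf (J S) (Type u))).obj :=
    key _ (pT ≫ (coprod.inr : ⊤_ (Sheaf (J S) (Type u)) ⟶
      (⊤_ (Sheaf (J S) (Type u))) ⨿ ⊤_ (Sheaf (J S) (Type u))).hom)
  have vk := FinitaryExtensive.vanKampen _
    (coprodIsCoprod (⊤_ (Sheaf (J S) (Type u))) (⊤_ (Sheaf (J S) (Type u))))
  have sq := ((BinaryCofan.isVanKampen_iff _).mp vk
    (BinaryCofan.mk (coprod.inl : a ⟶ a ⨿ ⊤_ (Sheaf (J S) (Type u))) coprod.inr)
    (terminal.from a) (𝟙 _) (coprod.map (terminal.from a) (𝟙 _)) (coprod.inl_map _ _).symm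
    ((Category.id_comp _).trans ((coprod.inr_map _ _).trans (Category.id_comp _)).symm)).mp
    ⟨coprodIsCoprod a (⊤_ (Sheaf (J S) (Type u)))⟩
  have sq1 : IsPullback (coprod.inl : a ⟶ a ⨿ ⊤_ (Sheaf (J S) (Type u))) (terminal.from a)
      (coprod.map (terminal.from a) (𝟙 _))
      (coprod.inl : ⊤_ (Sheaf (J S) (Type u)) ⟶ _) := sq.1
  have sq2 := sq1.map (sheafToPresheaf (J S) (Type u))
  exact h_pb sq2 h2 h1 h3

end Groth.Agent.H10.FibTot
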