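import Mathlib

/-!
# Left exactness from pointed sections in extensive categories (helper10)

Let `H : ℰ ⥤ ℰ'` preserve binary coproducts and the terminal object between finitary extensive
categories with finite limits, `T : ℰ ⥤ ℰ` with `ε : T ⟶ 𝟭` such that `T ⋙ H` preserves
pullbacks, and suppose that every pointed object `b` has a section `b ⟶ T b` of `ε`, natural for
pointed maps.  Then `H` preserves finite limits.
-/

set_option autoImplicit false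
set_option linter.unusedSectionVars false
universe v₁ u₁ v₂ u₂
open CategoryTheory CategoryTheory.Limits

namespace Groth.Agent.H10.PtExt

variable {ℰ : Type u₁} [Category.{v₁} ℰ] {ℰ' : Type u₂} [Category.{v₂} ℰ']

section R
variable [HasTerminal ℰ] (H : ℰ ⥤ ℰ') (T : ℰ ⥤ ℰ) (ε : T ⟶ 𝟭 ℰ)
  (s : ∀ (b : ℰ) (_ : ⊤_ ℰ ⟶ b), b ⟶ T.obj b)

theorem isPullback_map_of_point (hs : ∀ b p, s b p ≫ ε.app b = 𝟙 b)
    (hnat : ∀ {b b' : ℰ} (m : b ⟶ b') (p : ⊤_ ℰ ⟶ b), s b p ≫ T.map m = m ≫ s b' (p ≫ m))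
    {P b₁ b₂ b₀ : ℰ} {fst : P ⟶ b₁} {snd : P ⟶ b₂}
    {f : b₁ ⟶ b₀} {g : b₂ ⟶ b₀} (sq : IsPullback fst snd f g) (pP : ⊤_ ℰ ⟶ P)
    (sqTH : IsPullback (H.map (T.map fst)) (H.map (T.map snd)) (H.map (T.map f))
      (H.map (T.map g))) :
    IsPullback (H.map fst) (H.map snd) (H.map f) (H.map g) := by
  have w : H.map fst ≫ H.map f = H.map snd ≫ H.map g := by
    rw [← H.map_comp, ← H.map_comp, sq.w]
  have n1 : s P pP ≫ T.map fst = fst ≫ s b₁ (pP ≫ fst) := hnat fst pP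
  have n2 : s P pP ≫ T.map snd = snd ≫ s b₂ (pP ≫ snd) := hnat snd pP
  have n3 : s b₁ (pP ≫ fst) ≫ T.map f = f ≫ s b₀ ((pP ≫ fst) ≫ f) := hnat f _
  have n4 : s b₂ (pP ≫ snd) ≫ T.map g = g ≫ s b₀ ((pP ≫ snd) ≫ g) := hnat g _
  have hp : (pP ≫ fst) ≫ f = (pP ≫ snd) ≫ g := by
    rw [Category.assoc, Category.assoc, sq.w]
  have e1 : T.map fst ≫ ε.app b₁ = ε.app P ≫ fst := ε.naturality fst
  have e2 : T.map snd ≫ ε.app b₂ = ε.app P ≫ snd := ε.naturality snd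
  have hc : ∀ c : PullbackCone (H.map f) (H.map g),
      (c.fst ≫ H.map (s b₁ (pP ≫ fst))) ≫ H.map (T.map f) =
        (c.snd ≫ H.map (s b₂ (pP ≫ snd))) ≫ H.map (T.map g) := by
    intro c
    rw [Category.assoc, Category.assoc, ← H.map_comp, ← H.map_comp, n3, n4, H.map_comp,
      H.map_comp, ← Category.assoc, ← Category.assoc, c.condition, hp]
  refine ⟨⟨w⟩, ⟨PullbackCone.IsLimit.mk w
    (fun c => sqTH.lift _ _ (hc c) ≫ H.map (ε.app P)) ?_ ?_ ?_⟩⟩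
  · intro c
    rw [Category.assoc, ← H.map_comp, ← e1, H.map_comp, ← Category.assoc, sqTH.lift_fst,
      Category.assoc, ← H.map_comp, hs, H.map_id, Category.comp_id]
  · intro c
    rw [Category.assoc, ← H.map_comp, ← e2, H.map_comp, ← Category.assoc, sqTH.lift_snd,
      Category.assoc, ← H.map_comp, hs, H.map_id, Category.comp_id]
  · intro c m h1 h2
    have hm : m ≫ H.map (s P pP) = sqTH.lift _ _ (hc c) := by
      apply sqTH.hom_ext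
      · rw [Category.assoc, ← H.map_comp, n1, H.map_comp, ← Category.assoc, h1,
          sqTH.lift_fst]
      · rw [Category.assoc, ← H.map_comp, n2, H.map_comp, ← Category.assoc, h2,
          sqTH.lift_snd]
    calc m = m ≫ H.map (s P pP ≫ ε.app P) := by rw [hs, H.map_id, Category.comp_id]
      _ = (m ≫ H.map (s P pP)) ≫ H.map (ε.app P) := by rw [H.map_comp, Category.assoc]
      _ = _ := by rw [hm]

end R

section VK
variable [HasFiniteLimits ℰ] [HasFiniteLimits ℰ'] [FinitaryExtensive ℰ] [FinitaryExtensive ℰ']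
  (H : ℰ ⥤ ℰ') [PreservesColimitsOfShape (Discrete WalkingPair) H]

/-- the van Kampen square of `m ⨿ 𝟙` -/
lemma vk_inl {b b' Z : ℰ} (m : b ⟶ b') :
    IsPullback (coprod.inl : b ⟶ b ⨿ Z) m (coprod.map m (𝟙 Z)) coprod.inl :=
  (((BinaryCofan.isVanKampen_iff _).mp (FinitaryExtensive.vanKampen _ (coprodIsCoprod b' Z))
    (BinaryCofan.mk (coprod.inl : b ⟶ b ⨿ Z) coprod.inr) m (𝟙 Z) (coprod.map m (𝟙 Z))
    (coprod.inl_map _ _).symm
    ((Category.id_comp _).trans ((coprod.inr_map _ _).trans (Category.id_comp _)).symm)).mp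
      ⟨coprodIsCoprod b Z⟩).1

lemma isColimit_map_coprod (b Z : ℰ) :
    Nonempty (IsColimit (BinaryCofan.mk (H.map (coprod.inl : b ⟶ b ⨿ Z)) (H.map coprod.inr))) :=
  ⟨isColimitMapCoconeBinaryCofanEquiv H _ _ (isColimitOfPreserves H (coprodIsCoprod b Z))⟩

/-- the image under `H` of the van Kampen square of `m ⨿ 𝟙` -/
lemma vk_inl_map {b b' Z : ℰ} (m : b ⟶ b') :
    IsPullback (H.map (coprod.inl : b ⟶ b ⨿ Z)) (H.map m) (H.map (coprod.map m (𝟙 Z)))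
      (H.map coprod.inl) := by
  obtain ⟨hc⟩ := isColimit_map_coprod H b' Z
  obtain ⟨hc'⟩ := isColimit_map_coprod H b Z
  have h1 : H.map m ≫ H.map (coprod.inl : b' ⟶ b' ⨿ Z) =
      H.map (coprod.inl : b ⟶ b ⨿ Z) ≫ H.map (coprod.map m (𝟙 Z)) := by
    rw [← H.map_comp, ← H.map_comp, coprod.inl_map]
  have h2 : H.map (𝟙 Z) ≫ H.map (coprod.inr : Z ⟶ b' ⨿ Z) =
      H.map (coprod.inr : Z ⟶ b ⨿ Z) ≫ H.map (coprod.map m (𝟙 Z)) := by
    rw [← H.map_comp, ← H.map_comp, coprod.inr_map]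
  exact (((BinaryCofan.isVanKampen_iff _).mp (FinitaryExtensive.vanKampen _ hc)
    (BinaryCofan.mk (H.map (coprod.inl : b ⟶ b ⨿ Z)) (H.map coprod.inr)) (H.map m)
    (H.map (𝟙 Z)) (H.map (coprod.map m (𝟙 Z))) h1 h2).mp ⟨hc'⟩).1

/-- `H` preserves pullbacks along coproduct injections -/
lemma isPullback_map_inl {X Xl b Z : ℰ} {k : Xl ⟶ X} {l : Xl ⟶ b} {w : X ⟶ b ⨿ Z}
    (sq : IsPullback k l w (coprod.inl : b ⟶ b ⨿ Z)) :
    IsPullback (H.map k) (H.map l) (H.map w) (H.map coprod.inl) := by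
  have sqr : IsPullback (pullback.fst w (coprod.inr : Z ⟶ b ⨿ Z)) (pullback.snd w coprod.inr)
      w coprod.inr := IsPullback.of_hasPullback _ _
  obtain ⟨hcX⟩ := ((BinaryCofan.isVanKampen_iff _).mp
    (FinitaryExtensive.vanKampen _ (coprodIsCoprod b Z))
    (BinaryCofan.mk k (pullback.fst w (coprod.inr : Z ⟶ b ⨿ Z))) l (pullback.snd w coprod.inr) w
    sq.w.symm sqr.w.symm).mpr ⟨sq, sqr⟩
  obtain ⟨hc⟩ := isColimit_map_coprod H b Z
  have hc' : IsColimit (BinaryCofan.mk (H.map k)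
      (H.map (pullback.fst w (coprod.inr : Z ⟶ b ⨿ Z)))) :=
    isColimitMapCoconeBinaryCofanEquiv H _ _ (isColimitOfPreserves H hcX)
  have h1 : H.map l ≫ H.map (coprod.inl : b ⟶ b ⨿ Z) = H.map k ≫ H.map w := by
    rw [← H.map_comp, ← H.map_comp, sq.w]
  have h2 : H.map (pullback.snd w (coprod.inr : Z ⟶ b ⨿ Z)) ≫ H.map (coprod.inr : Z ⟶ b ⨿ Z) =
      H.map (pullback.fst w (coprod.inr : Z ⟶ b ⨿ Z)) ≫ H.map w := by
    rw [← H.map_comp, ← H.map_comp, sqr.w]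
  exact (((BinaryCofan.isVanKampen_iff _).mp (FinitaryExtensive.vanKampen _ hc)
    (BinaryCofan.mk (H.map k) (H.map (pullback.fst w (coprod.inr : Z ⟶ b ⨿ Z)))) (H.map l)
    (H.map (pullback.snd w coprod.inr)) (H.map w) h1 h2).mp ⟨hc'⟩).1

end VK

section Main
variable [HasFiniteLimits ℰ] [HasFiniteLimits ℰ'] [FinitaryExtensive ℰ] [FinitaryExtensive ℰ']
  (H : ℰ ⥤ ℰ') [PreservesColimitsOfShape (Discrete WalkingPair) H]
  (T : ℰ ⥤ ℰ) (ε : T ⟶ 𝟭 ℰ) [PreservesLimitsOfShape WalkingCospan (T ⋙ H)]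
  (s : ∀ (b : ℰ) (_ : ⊤_ ℰ ⟶ b), b ⟶ T.obj b)

theorem isPullback_map_of_sections (hs : ∀ b p, s b p ≫ ε.app b = 𝟙 b)
    (hnat : ∀ {b b' : ℰ} (m : b ⟶ b') (p : ⊤_ ℰ ⟶ b), s b p ≫ T.map m = m ≫ s b' (p ≫ m))
    {P b₁ b₂ b₀ : ℰ} {fst : P ⟶ b₁} {snd : P ⟶ b₂}
    {f : b₁ ⟶ b₀} {g : b₂ ⟶ b₀} (sq : IsPullback fst snd f g) :
    IsPullback (H.map fst) (H.map snd) (H.map f) (H.map g) := by
  let Sf : b₁ ⨿ ⊤_ ℰ ⟶ b₀ ⨿ ⊤_ ℰ := coprod.map f (𝟙 _)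
  let Sg : b₂ ⨿ ⊤_ ℰ ⟶ b₀ ⨿ ⊤_ ℰ := coprod.map g (𝟙 _)
  have sq' : IsPullback (pullback.fst Sf Sg) (pullback.snd Sf Sg) Sf Sg :=
    IsPullback.of_hasPullback _ _
  have hk : (fst ≫ (coprod.inl : b₁ ⟶ b₁ ⨿ ⊤_ ℰ)) ≫ Sf =
      (snd ≫ (coprod.inl : b₂ ⟶ b₂ ⨿ ⊤_ ℰ)) ≫ Sg := by
    show (fst ≫ coprod.inl) ≫ coprod.map f (𝟙 _) = (snd ≫ coprod.inl) ≫ coprod.map g (𝟙 _)
    rw [Category.assoc, Category.assoc, coprod.inl_map, coprod.inl_map, ← Category.assoc,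
      ← Category.assoc, sq.w]
  let k₀ : P ⟶ pullback Sf Sg := pullback.lift _ _ hk
  have hk1 : k₀ ≫ pullback.fst Sf Sg = fst ≫ coprod.inl := pullback.lift_fst _ _ _
  have hk2 : k₀ ≫ pullback.snd Sf Sg = snd ≫ coprod.inl := pullback.lift_snd _ _ _
  have hp : (coprod.inr : ⊤_ ℰ ⟶ b₁ ⨿ ⊤_ ℰ) ≫ Sf = (coprod.inr : ⊤_ ℰ ⟶ b₂ ⨿ ⊤_ ℰ) ≫ Sg := by
    show coprod.inr ≫ coprod.map f (𝟙 _) = coprod.inr ≫ coprod.map g (𝟙 _)
    rw [coprod.inr_map, coprod.inr_map]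
  let pP' : ⊤_ ℰ ⟶ pullback Sf Sg := pullback.lift _ _ hp
  -- the left square in `ℰ`
  have big' : IsPullback (snd ≫ (coprod.inl : b₂ ⟶ b₂ ⨿ ⊤_ ℰ)) fst Sg
      (f ≫ (coprod.inl : b₀ ⟶ b₀ ⨿ ⊤_ ℰ)) := sq.flip.paste_horiz (vk_inl g)
  have big : IsPullback (k₀ ≫ pullback.snd Sf Sg) fst Sg
      ((coprod.inl : b₁ ⟶ b₁ ⨿ ⊤_ ℰ) ≫ Sf) := by
    have e : (coprod.inl : b₁ ⟶ b₁ ⨿ ⊤_ ℰ) ≫ Sf = f ≫ coprod.inl := coprod.inl_map _ _
    rw [hk2, e]
    exact big'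
  have sqL : IsPullback k₀ fst (pullback.fst Sf Sg) (coprod.inl : b₁ ⟶ b₁ ⨿ ⊤_ ℰ) :=
    IsPullback.of_right big hk1 sq'.flip
  have HsqL := isPullback_map_inl H sqL
  have Hsq' : IsPullback (H.map (pullback.fst Sf Sg)) (H.map (pullback.snd Sf Sg)) (H.map Sf)
      (H.map Sg) :=
    isPullback_map_of_point H T ε s hs hnat sq' pP' (sq'.map (T ⋙ H))
  have bigH := HsqL.paste_horiz Hsq'.flip
  have bigH' : IsPullback (H.map snd ≫ H.map (coprod.inl : b₂ ⟶ b₂ ⨿ ⊤_ ℰ)) (H.map fst)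
      (H.map Sg) (H.map f ≫ H.map (coprod.inl : b₀ ⟶ b₀ ⨿ ⊤_ ℰ)) := by
    have e1 : H.map k₀ ≫ H.map (pullback.snd Sf Sg) = H.map snd ≫ H.map coprod.inl := by
      rw [← H.map_comp, hk2, H.map_comp]
    have e2 : H.map (coprod.inl : b₁ ⟶ b₁ ⨿ ⊤_ ℰ) ≫ H.map Sf = H.map f ≫ H.map coprod.inl := by
      rw [← H.map_comp, ← H.map_comp]
      exact congrArg H.map (coprod.inl_map _ _)
    rw [← e1, ← e2]
    exact bigH
  have w : H.map snd ≫ H.map g = H.map fst ≫ H.map f := by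
    rw [← H.map_comp, ← H.map_comp, sq.w]
  exact (IsPullback.of_right bigH' w (vk_inl_map H g)).flip

theorem preservesFiniteLimits_of_sections (hterm : IsTerminal (H.obj (⊤_ ℰ)))
    (hs : ∀ b p, s b p ≫ ε.app b = 𝟙 b)
    (hnat : ∀ {b b' : ℰ} (m : b ⟶ b') (p : ⊤_ ℰ ⟶ b), s b p ≫ T.map m = m ≫ s b' (p ≫ m)) :
    PreservesFiniteLimits H := by
  have h1 : PreservesLimit (Functor.empty.{0} ℰ) H :=
    preservesLimit_of_preserves_limit_cone terminalIsTerminal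
      ((isLimitMapConeEmptyConeEquiv H (⊤_ ℰ)).symm hterm)
  have h2 : PreservesLimitsOfShape (Discrete.{0} PEmpty) H :=
    preservesLimitsOfShape_pempty_of_preservesTerminal H
  have h3 : ∀ {b₁ b₂ b₀ : ℰ} (f : b₁ ⟶ b₀) (g : b₂ ⟶ b₀), PreservesLimit (cospan f g) H := by
    intro b₁ b₂ b₀ f g
    have hsq := isPullback_map_of_sections H T ε s hs hnat (IsPullback.of_hasPullback f g)
    exact preservesLimit_of_preserves_limit_cone (pullbackIsPullback f g)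
      ((isLimitMapConePullbackConeEquiv H pullback.condition).symm hsq.isLimit)
  have h4 : PreservesLimitsOfShape WalkingCospan H :=
    ⟨fun {K} => preservesLimit_of_iso_diagram H (diagramIsoCospan K).symm⟩
  exact preservesFiniteLimits_of_preservesTerminal_and_pullbacks H

end Main

end Groth.Agent.H10.PtExt
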