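import Mathlib
import Groth.Prelude.Def_FibSite
import Groth.Agent.H10.FibTot7
import Groth.Agent.H10.FibTot8
import Groth.Agent.H10.PtExt

/-!
# A cartesian functor which is a morphism of total sites is a morphism of fibred sites (helper10)
-/

set_option autoImplicit false
universe w u
open CategoryTheory CategoryTheory.Limits Opposite Pseudofunctor Pseudofunctor.CoGrothendieck
open scoped CategoryTheory.Pseudofunctor.StrongTrans

namespace Groth.Agent.H10.FibTot

/-- a retract of a sheaf of types is a sheaf -/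
theorem isSheaf_of_retract {C : Type*} [Category C] (J : GrothendieckTopology C)
    {X Y : Cᵒᵖ ⥤ Type w} (i : X ⟶ Y) (r : Y ⟶ X) (h : i ≫ r = 𝟙 X)
    (hY : Presieve.IsSheaf J Y) : Presieve.IsSheaf J X := by
  have hri : ∀ (V : Cᵒᵖ) (x : X.obj V), r.app V (i.app V x) = x := fun V x =>
    ConcreteCategory.congr_hom (congr_app h V) x
  have hi : ∀ {V W : Cᵒᵖ} (f : V ⟶ W) (x : X.obj V), Y.map f (i.app V x) = i.app W (X.map f x) :=
    fun f x => (NatTrans.naturality_apply i f x).symm
  have hr : ∀ {V W : Cᵒᵖ} (f : V ⟶ W) (y : Y.obj V), X.map f (r.app V y) = r.app W (Y.map f y) :=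
    fun f y => (NatTrans.naturality_apply r f y).symm
  intro V R hR
  rw [← Presieve.isSeparatedFor_and_exists_isAmalgamation_iff_isSheafFor]
  constructor
  · intro x t₁ t₂ h₁ h₂
    have e : i.app _ t₁ = i.app _ t₂ := by
      refine (hY R hR).isSeparatedFor.ext ?_
      intro W f hf
      rw [hi, hi, h₁ f hf, h₂ f hf]
    calc t₁ = r.app _ (i.app _ t₁) := (hri _ _).symm
      _ = r.app _ (i.app _ t₂) := by rw [e]
      _ = t₂ := hri _ _
  · intro x hx
    let y : Presieve.FamilyOfElements Y R.arrows := fun W f hf => i.app _ (x f hf)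
    have hy : y.Compatible := by
      intro W₁ W₂ Z g₁ g₂ f₁ f₂ h₁ h₂ e
      show Y.map g₁.op (i.app _ (x f₁ h₁)) = Y.map g₂.op (i.app _ (x f₂ h₂))
      rw [hi, hi, hx g₁ g₂ h₁ h₂ e]
    refine ⟨r.app _ ((hY R hR).amalgamate y hy), ?_⟩
    intro W f hf
    show X.map f.op (r.app _ _) = x f hf
    rw [hr, (hY R hR).valid_glue hy f hf]
    exact hri _ _

section Sec
variable {𝒮 : Type u} [SmallCategory 𝒮] (F : Pseudofunctor (LocallyDiscrete 𝒮ᵒᵖ) Cat.{u, u})
  (J : FibSite.Topologies F) (S : 𝒮)
  [∀ (R S : 𝒮) (f : R ⟶ S), (FibSite.invImage F f).IsContinuous (J S) (J R)]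

open Classical in
/-- the components of the section of `ρκ b ⟶ b` for a pointed sheaf `b` -/
noncomputable def sigmaHom (b : Sheaf (J S) (Type u))
    (p : (Functor.const (F.obj ⟨op S⟩)ᵒᵖ).obj PUnit.{u+1} ⟶ b.obj) (f : S ⟶ S) :
    b ⟶ ((FibSite.invImage F f).sheafPushforwardContinuous (Type u) (J S) (J S)).obj b :=
  if h : f = 𝟙 S then (by subst h; exact unitHom F J S b) else constHom F J S b p f

lemma sigmaHom_id (b : Sheaf (J S) (Type u))
    (p : (Functor.const (F.obj ⟨op S⟩)ᵒᵖ).obj PUnit.{u+1} ⟶ b.obj) :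
    sigmaHom F J S b p (𝟙 S) = unitHom F J S b := dif_pos rfl

lemma sigmaHom_ne (b : Sheaf (J S) (Type u))
    (p : (Functor.const (F.obj ⟨op S⟩)ᵒᵖ).obj PUnit.{u+1} ⟶ b.obj) {f : S ⟶ S} (h : f ≠ 𝟙 S) :
    sigmaHom F J S b p f = constHom F J S b p f := dif_neg h

lemma unitHom_naturality {b b' : Sheaf (J S) (Type u)} (m : b ⟶ b') :
    unitHom F J S b ≫
        ((FibSite.invImage F (𝟙 S)).sheafPushforwardContinuous (Type u) (J S) (J S)).map m =
      m ≫ unitHom F J S b' := by
  apply Sheaf.hom_ext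
  ext W x
  exact NatTrans.naturality_apply m.hom ((F.mapId ⟨op S⟩).hom.toNatTrans.app W.unop).op x

lemma unitInv_naturality {b b' : Sheaf (J S) (Type u)} (m : b ⟶ b') :
    ((FibSite.invImage F (𝟙 S)).sheafPushforwardContinuous (Type u) (J S) (J S)).map m ≫
        unitInv F J S b' = unitInv F J S b ≫ m := by
  apply Sheaf.hom_ext
  ext W x
  exact (NatTrans.naturality_apply m.hom ((F.mapId ⟨op S⟩).inv.toNatTrans.app W.unop).op x).symm

lemma constHom_naturality {b b' : Sheaf (J S) (Type u)} (m : b ⟶ b')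
    (p : (Functor.const (F.obj ⟨op S⟩)ᵒᵖ).obj PUnit.{u+1} ⟶ b.obj) (f : S ⟶ S) :
    constHom F J S b p f ≫
        ((FibSite.invImage F f).sheafPushforwardContinuous (Type u) (J S) (J S)).map m =
      m ≫ constHom F J S b' (p ≫ m.hom) f := by
  apply Sheaf.hom_ext
  ext W x
  rfl

lemma sigmaHom_naturality {b b' : Sheaf (J S) (Type u)} (m : b ⟶ b')
    (p : (Functor.const (F.obj ⟨op S⟩)ᵒᵖ).obj PUnit.{u+1} ⟶ b.obj) (f : S ⟶ S) :
    sigmaHom F J S b p f ≫
        ((FibSite.invImage F f).sheafPushforwardContinuous (Type u) (J S) (J S)).map m =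
      m ≫ sigmaHom F J S b' (p ≫ m.hom) f := by
  by_cases h : f = 𝟙 S
  · subst h
    rw [sigmaHom_id, sigmaHom_id]
    exact unitHom_naturality F J S m
  · rw [sigmaHom_ne F J S b p h, sigmaHom_ne F J S b' _ h]
    exact constHom_naturality F J S m p f

variable [∀ S : 𝒮, (ι F S).IsContinuous (J S) (FibSite.totalTopology F J)]
  [(ι F S).IsCocontinuous (J S) (FibSite.totalTopology F J)]
  [∀ (P : (F.obj ⟨op S⟩)ᵒᵖ ⥤ Type u), (ι F S).op.HasPointwiseRightKanExtension P]

/-- the section `b ⟶ ρκ b` for a pointed sheaf `b` -/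
noncomputable def secHom (b : Sheaf (J S) (Type u))
    (p : (Functor.const (F.obj ⟨op S⟩)ᵒᵖ).obj PUnit.{u+1} ⟶ b.obj) :
    b ⟶ (FibSite.coextend F J (Type u) S ⋙ FibSite.restr F J (Type u) S).obj b :=
  Fan.IsLimit.lift (proj_isLimit F J S S b).some (sigmaHom F J S b p)

lemma secHom_proj (b : Sheaf (J S) (Type u))
    (p : (Functor.const (F.obj ⟨op S⟩)ᵒᵖ).obj PUnit.{u+1} ⟶ b.obj) (f : S ⟶ S) :
    secHom F J S b p ≫ proj F J S S b f = sigmaHom F J S b p f :=
  Fan.IsLimit.fac (proj_isLimit F J S S b).some (sigmaHom F J S b p) f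

/-- the retraction `ρκ ⟶ 𝟭` -/
noncomputable def retrNat :
    FibSite.coextend F J (Type u) S ⋙ FibSite.restr F J (Type u) S ⟶ 𝟭 _ where
  app b := proj F J S S b (𝟙 S) ≫ unitInv F J S b
  naturality b b' m := by
    have h1 := proj_naturality F J S S m (𝟙 S)
    show (FibSite.restr F J (Type u) S).map ((FibSite.coextend F J (Type u) S).map m) ≫
        proj F J S S b' (𝟙 S) ≫ unitInv F J S b' =
      (proj F J S S b (𝟙 S) ≫ unitInv F J S b) ≫ m
    rw [← Category.assoc, h1, Category.assoc, unitInv_naturality, Category.assoc]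

lemma secHom_retr (b : Sheaf (J S) (Type u))
    (p : (Functor.const (F.obj ⟨op S⟩)ᵒᵖ).obj PUnit.{u+1} ⟶ b.obj) :
    secHom F J S b p ≫ (retrNat F J S).app b = 𝟙 b := by
  show secHom F J S b p ≫ proj F J S S b (𝟙 S) ≫ unitInv F J S b = 𝟙 b
  rw [← Category.assoc, secHom_proj, sigmaHom_id, unitHom_unitInv]

lemma secHom_naturality {b b' : Sheaf (J S) (Type u)} (m : b ⟶ b')
    (p : (Functor.const (F.obj ⟨op S⟩)ᵒᵖ).obj PUnit.{u+1} ⟶ b.obj) :
    secHom F J S b p ≫
        (FibSite.coextend F J (Type u) S ⋙ FibSite.restr F J (Type u) S).map m =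
      m ≫ secHom F J S b' (p ≫ m.hom) := by
  refine Fan.IsLimit.hom_ext (proj_isLimit F J S S b').some _ _ (fun f => ?_)
  show (secHom F J S b p ≫
      (FibSite.restr F J (Type u) S).map ((FibSite.coextend F J (Type u) S).map m)) ≫
      proj F J S S b' f = (m ≫ secHom F J S b' (p ≫ m.hom)) ≫ proj F J S S b' f
  rw [Category.assoc, proj_naturality, ← Category.assoc, secHom_proj, Category.assoc,
    secHom_proj, sigmaHom_naturality]

end Sec

set_option synthInstance.maxHeartbeats 200000 in
set_option maxHeartbeats 1000000 in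
theorem fibre_morphismOfSites {𝒮 : Type u} [SmallCategory 𝒮]
    (F G : Pseudofunctor (LocallyDiscrete 𝒮ᵒᵖ) Cat.{u, u}) (J : FibSite.Topologies F)
    (K : FibSite.Topologies G) (hF : FibSite.IsPreFibSite F J) (hG : FibSite.IsPreFibSite G K)
    (α : G ⟶ F)
    (hα : ∃ (_ : (Pseudofunctor.CoGrothendieck.map α).IsContinuous
        (FibSite.totalTopology G K) (FibSite.totalTopology F J))
      (_ : ((Pseudofunctor.CoGrothendieck.map α).sheafPushforwardContinuous (Type u)
        (FibSite.totalTopology G K) (FibSite.totalTopology F J)).IsRightAdjoint),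
      PreservesFiniteLimits ((Pseudofunctor.CoGrothendieck.map α).sheafPullback (Type u)
        (FibSite.totalTopology G K) (FibSite.totalTopology F J))) (S : 𝒮) :
    ∃ (_ : (α.app ⟨op S⟩).toFunctor.IsContinuous (K S) (J S))
      (_ : ((α.app ⟨op S⟩).toFunctor.sheafPushforwardContinuous (Type u) (K S)
        (J S)).IsRightAdjoint),
      PreservesFiniteLimits ((α.app ⟨op S⟩).toFunctor.sheafPullback (Type u) (K S) (J S)) := by
  obtain ⟨hΦc, hΦra, hΦpl⟩ := hα
  have hcF : ∀ S : 𝒮, (ι F S).IsContinuous (J S) (FibSite.totalTopology F J) :=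
    fun S => ι_isContinuous F J hF S
  have hcG : ∀ S : 𝒮, (ι G S).IsContinuous (K S) (FibSite.totalTopology G K) :=
    fun S => ι_isContinuous G K hG S
  have hccF : ∀ S : 𝒮, (ι F S).IsCocontinuous (J S) (FibSite.totalTopology F J) :=
    fun S => ι_isCocontinuous F J hF S
  have hccG : ∀ S : 𝒮, (ι G S).IsCocontinuous (K S) (FibSite.totalTopology G K) :=
    fun S => ι_isCocontinuous G K hG S
  have hinvG : ∀ (R S : 𝒮) (f : R ⟶ S), (FibSite.invImage G f).IsContinuous (K S) (K R) :=
    fun R S f => hG f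
  -- continuity of the fibre functor
  have hAc : (α.app ⟨op S⟩).toFunctor.IsContinuous (K S) (J S) := by
    refine ⟨fun a => ?_⟩
    rw [← isSheaf_iff_isSheaf_of_type]
    refine sheaf_induction F J hF S
      (fun X => Presheaf.IsSheaf (K S) ((α.app ⟨op S⟩).toFunctor.op ⋙ X)) ?_ ?_ ?_ a
    · intro X Y i r hir hY
      rw [isSheaf_iff_isSheaf_of_type] at hY ⊢
      refine isSheaf_of_retract (K S) (Functor.whiskerLeft _ i) (Functor.whiskerLeft _ r) ?_ hY
      rw [← Functor.whiskerLeft_comp, hir]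
      rfl
    · intro P X₁ X₂ X₀ fst snd f g sq h₁ h₂ h₀
      have sq' := sq.map ((Functor.whiskeringLeft _ _ (Type u)).obj (α.app ⟨op S⟩).toFunctor.op)
      refine ObjectProperty.prop_of_isLimit (Presheaf.IsSheaf (K S)) sq'.isLimit ?_
      rintro (_ | _ | _)
      exacts [h₀, h₁, h₂]
    · intro ℱ
      have h1 : Presheaf.IsSheaf (FibSite.totalTopology G K)
          ((Pseudofunctor.CoGrothendieck.map α).op ⋙ ℱ.obj) :=
        (Pseudofunctor.CoGrothendieck.map α).op_comp_isSheaf_of_isSheaf _ _ _ ℱ.property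
      have h2 : Presheaf.IsSheaf (K S)
          ((ι G S).op ⋙ ((Pseudofunctor.CoGrothendieck.map α).op ⋙ ℱ.obj)) :=
        (ι G S).op_comp_isSheaf_of_isSheaf (K S) (FibSite.totalTopology G K) _ h1
      exact (Presheaf.isSheaf_of_iso_iff
        (Functor.isoWhiskerRight (ιCompMapIsoOp α S) ℱ.obj)).mp h2
  have hAra : ((α.app ⟨op S⟩).toFunctor.sheafPushforwardContinuous (Type u) (K S)
      (J S)).IsRightAdjoint := inferInstance
  refine ⟨hAc, hAra, ?_⟩
  -- left exactness
  have hρF : PreservesFiniteLimits (FibSite.restr F J (Type u) S) := by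
    have : (FibSite.restr F J (Type u) S).IsRightAdjoint := inferInstance
    have : PreservesLimitsOfSize.{u, u} (FibSite.restr F J (Type u) S) :=
      (Adjunction.ofIsRightAdjoint (FibSite.restr F J (Type u) S)).rightAdjoint_preservesLimits
    infer_instance
  have hρG : PreservesFiniteLimits (FibSite.restr G K (Type u) S) := by
    have : (FibSite.restr G K (Type u) S).IsRightAdjoint := inferInstance
    have : PreservesLimitsOfSize.{u, u} (FibSite.restr G K (Type u) S) :=
      (Adjunction.ofIsRightAdjoint (FibSite.restr G K (Type u) S)).rightAdjoint_preservesLimits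
    infer_instance
  have hκG : PreservesFiniteLimits (FibSite.coextend G K (Type u) S) := by
    have : PreservesLimitsOfSize.{u, u} (FibSite.coextend G K (Type u) S) :=
      ((ι G S).sheafAdjunctionCocontinuous (Type u) (K S)
        (FibSite.totalTopology G K)).rightAdjoint_preservesLimits
    infer_instance
  let adj1 := ((Pseudofunctor.CoGrothendieck.map α).sheafAdjunctionContinuous (Type u)
      (FibSite.totalTopology G K) (FibSite.totalTopology F J)).comp
    ((ι F S).sheafAdjunctionCocontinuous (Type u) (J S) (FibSite.totalTopology F J))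
  let adj2 := ((ι G S).sheafAdjunctionCocontinuous (Type u) (K S)
      (FibSite.totalTopology G K)).comp
    ((α.app ⟨op S⟩).toFunctor.sheafAdjunctionContinuous (Type u) (K S) (J S))
  let adj1' := adj1.ofNatIsoRight (asIso (bcNat F G J K α S))
  let e := adj1'.leftAdjointUniq adj2
  have h1 : PreservesFiniteLimits (FibSite.restr G K (Type u) S ⋙
      (α.app ⟨op S⟩).toFunctor.sheafPullback (Type u) (K S) (J S)) :=
    preservesFiniteLimits_of_natIso e
  have h2 : PreservesFiniteLimits (FibSite.coextend G K (Type u) S ⋙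
      (FibSite.restr G K (Type u) S ⋙
        (α.app ⟨op S⟩).toFunctor.sheafPullback (Type u) (K S) (J S))) := inferInstance
  have h3 : PreservesLimitsOfShape WalkingCospan
      ((FibSite.coextend G K (Type u) S ⋙ FibSite.restr G K (Type u) S) ⋙
        (α.app ⟨op S⟩).toFunctor.sheafPullback (Type u) (K S) (J S)) :=
    h2.preservesFiniteLimits WalkingCospan
  have h4 : PreservesColimitsOfSize.{0, 0}
      ((α.app ⟨op S⟩).toFunctor.sheafPullback (Type u) (K S) (J S)) :=
    ((α.app ⟨op S⟩).toFunctor.sheafAdjunctionContinuous (Type u) (K S)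
      (J S)).leftAdjoint_preservesColimits
  have h5 : PreservesColimitsOfShape (Discrete WalkingPair)
      ((α.app ⟨op S⟩).toFunctor.sheafPullback (Type u) (K S) (J S)) := inferInstance
  -- the terminal object
  have hterm : IsTerminal (((α.app ⟨op S⟩).toFunctor.sheafPullback (Type u) (K S) (J S)).obj
      (⊤_ (Sheaf (K S) (Type u)))) := by
    have t1 : IsTerminal ((FibSite.restr G K (Type u) S).obj
        (⊤_ (Sheaf (FibSite.totalTopology G K) (Type u)))) :=
      terminalIsTerminal.isTerminalObj (FibSite.restr G K (Type u) S) _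
    have t0 : PreservesLimitsOfShape (Discrete PEmpty.{1}) (FibSite.restr G K (Type u) S ⋙
        (α.app ⟨op S⟩).toFunctor.sheafPullback (Type u) (K S) (J S)) :=
      h1.preservesFiniteLimits _
    have t0' : PreservesLimit (Functor.empty.{0} (Sheaf (FibSite.totalTopology G K) (Type u)))
        (FibSite.restr G K (Type u) S ⋙
        (α.app ⟨op S⟩).toFunctor.sheafPullback (Type u) (K S) (J S)) := t0.preservesLimit
    have t2 : IsTerminal ((FibSite.restr G K (Type u) S ⋙
        (α.app ⟨op S⟩).toFunctor.sheafPullback (Type u) (K S) (J S)).obj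
        (⊤_ (Sheaf (FibSite.totalTopology G K) (Type u)))) :=
      terminalIsTerminal.isTerminalObj _ _
    exact t2.ofIso (((α.app ⟨op S⟩).toFunctor.sheafPullback (Type u) (K S) (J S)).mapIso
      (t1.uniqueUpToIso terminalIsTerminal))
  -- the point of the terminal sheaf
  have hT : IsTerminal ((sheafToPresheaf (K S) (Type u)).obj (⊤_ (Sheaf (K S) (Type u)))) :=
    terminalIsTerminal.isTerminalObj (sheafToPresheaf (K S) (Type u)) _
  let pT : (Functor.const (G.obj ⟨op S⟩)ᵒᵖ).obj PUnit.{u+1} ⟶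
      (⊤_ (Sheaf (K S) (Type u))).obj := hT.from _
  exact PtExt.preservesFiniteLimits_of_sections
    ((α.app ⟨op S⟩).toFunctor.sheafPullback (Type u) (K S) (J S))
    (FibSite.coextend G K (Type u) S ⋙ FibSite.restr G K (Type u) S) (retrNat G K S)
    (fun b p => secHom G K S b (pT ≫ p.hom)) hterm
    (fun b p => secHom_retr G K S b (pT ≫ p.hom))
    (fun {b b'} m p => (secHom_naturality G K S m (pT ≫ p.hom)).trans
      (by rw [Category.assoc]; rfl))

end Groth.Agent.H10.FibTot
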