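import Mathlib

/-! Functions on `Spec (R ⊗ A)` vanishing on a fibrewise dense open. -/

namespace Groth.Agent.H10.FibreDense

open TensorProduct

universe u

variable (k : Type u) [Field k] (A : Type u) [CommRing A] [Algebra k A]

/-- index type of the chosen basis -/
abbrev Idx := Module.Basis.ofVectorSpaceIndex k A

/-- the chosen `k`-basis of `A` -/
noncomputable def eb : Module.Basis (Idx k A) k A := Module.Basis.ofVectorSpace k A

section coef
variable (R : Type u) [CommRing R] [Algebra k R]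

/-- the induced `R`-basis of `R ⊗ A` -/
noncomputable def tb : Module.Basis (Idx k A) R (R ⊗[k] A) :=
  Algebra.TensorProduct.basis R (eb k A)

/-- coefficient -/
noncomputable def coef (z : R ⊗[k] A) (i : Idx k A) : R := (tb k A R).repr z i

variable {k A R}

theorem coef_add (x y : R ⊗[k] A) (i : Idx k A) :
    coef k A R (x + y) i = coef k A R x i + coef k A R y i := by
  simp [coef]

theorem coef_sub (x y : R ⊗[k] A) (i : Idx k A) :
    coef k A R (x - y) i = coef k A R x i - coef k A R y i := by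
  simp [coef]

theorem coef_neg (x : R ⊗[k] A) (i : Idx k A) :
    coef k A R (-x) i = -coef k A R x i := by
  simp [coef]

theorem coef_zero (i : Idx k A) : coef k A R (0 : R ⊗[k] A) i = 0 := by
  simp [coef]

theorem coef_smul (r : R) (x : R ⊗[k] A) (i : Idx k A) :
    coef k A R (r • x) i = r * coef k A R x i := by
  simp [coef]

theorem coef_tmul (r : R) (a : A) (i : Idx k A) :
    coef k A R (r ⊗ₜ[k] a) i = r * algebraMap k R ((eb k A).repr a i) := by
  simp [coef, tb, Algebra.TensorProduct.basis_repr_tmul]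

theorem coef_ext {z : R ⊗[k] A} (h : ∀ i, coef k A R z i = 0) : z = 0 := by
  apply (tb k A R).repr.injective
  ext i
  rw [map_zero, Finsupp.zero_apply]
  exact h i

theorem coef_sum (z : R ⊗[k] A) :
    z = ∑ i ∈ ((tb k A R).repr z).support, coef k A R z i ⊗ₜ[k] (eb k A i) := by
  conv_lhs => rw [← (tb k A R).linearCombination_repr z]
  rw [Finsupp.linearCombination_apply, Finsupp.sum]
  refine Finset.sum_congr rfl fun i _ => ?_
  exact Algebra.TensorProduct.basis_repr_symm_apply' (eb k A) _ i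

open Classical in
theorem coef_tmul_basis (r : R) (j i : Idx k A) :
    coef k A R (r ⊗ₜ[k] (eb k A j)) i = if i = j then r else 0 := by
  rw [coef_tmul, Module.Basis.repr_self, Finsupp.single_apply]
  by_cases h : j = i
  · rw [if_pos h, if_pos h.symm, map_one, mul_one]
  · rw [if_neg h, if_neg (fun h' : i = j => h h'.symm), map_zero, mul_zero]

theorem coef_map {R' : Type u} [CommRing R'] [Algebra k R'] (φ : R →ₐ[k] R')
    (z : R ⊗[k] A) (i : Idx k A) :
    coef k A R' (Algebra.TensorProduct.map φ (AlgHom.id k A) z) i = φ (coef k A R z i) := by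
  induction z using TensorProduct.induction_on with
  | zero => simp [coef_zero]
  | tmul r a =>
    rw [Algebra.TensorProduct.map_tmul, coef_tmul, coef_tmul, map_mul, AlgHom.commutes]
    rfl
  | add x y hx hy => rw [map_add, coef_add, coef_add, map_add, hx, hy]

theorem map_injective {R' : Type u} [CommRing R'] [Algebra k R'] (φ : R →ₐ[k] R')
    (hφ : Function.Injective φ) :
    Function.Injective (Algebra.TensorProduct.map φ (AlgHom.id k A)) := by
  rw [injective_iff_map_eq_zero]
  intro z hz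
  apply coef_ext
  intro i
  apply hφ
  rw [← coef_map, hz, coef_zero, map_zero]

theorem coef_mem_iff (W : Ideal R) (z : R ⊗[k] A) :
    (∀ i, coef k A R z i ∈ W) ↔
      Algebra.TensorProduct.map (Ideal.Quotient.mkₐ k W) (AlgHom.id k A) z = 0 := by
  constructor
  · intro h
    apply coef_ext
    intro i
    rw [coef_map]
    exact Ideal.Quotient.eq_zero_iff_mem.mpr (h i)
  · intro h i
    have h1 := coef_map (A := A) (Ideal.Quotient.mkₐ k W) z i
    rw [h, coef_zero] at h1
    exact Ideal.Quotient.eq_zero_iff_mem.mp h1.symm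

theorem coef_mul_mem (W : Ideal R) (t z : R ⊗[k] A) (h : ∀ i, coef k A R z i ∈ W) :
    ∀ i, coef k A R (t * z) i ∈ W := by
  rw [coef_mem_iff] at h ⊢
  rw [map_mul, h, mul_zero]

theorem coef_mul_prime (W : Ideal R) [NoZeroDivisors ((R ⧸ W) ⊗[k] A)] (t z : R ⊗[k] A)
    (h : ∀ i, coef k A R (t * z) i ∈ W) :
    (∀ i, coef k A R t i ∈ W) ∨ (∀ i, coef k A R z i ∈ W) := by
  rw [coef_mem_iff] at h
  rw [coef_mem_iff, coef_mem_iff]
  rw [map_mul] at h
  exact mul_eq_zero.mp h

theorem exists_descend (R₀ : Subalgebra k R) (z : R ⊗[k] A)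
    (h : ∀ i, coef k A R z i ∈ R₀) :
    ∃ z₀ : R₀ ⊗[k] A, Algebra.TensorProduct.map R₀.val (AlgHom.id k A) z₀ = z := by
  refine ⟨∑ i ∈ ((tb k A R).repr z).support,
    (⟨coef k A R z i, h i⟩ : R₀) ⊗ₜ[k] (eb k A i), ?_⟩
  rw [map_sum]
  conv_rhs => rw [coef_sum z]
  refine Finset.sum_congr rfl fun i _ => ?_
  rw [Algebra.TensorProduct.map_tmul]
  rfl

theorem coef_mem_adjoin [DecidableEq R] (z : R ⊗[k] A) (C : Finset R)
    (hC : ((tb k A R).repr z).support.image (coef k A R z) ⊆ C) :
    ∀ i, coef k A R z i ∈ Algebra.adjoin k (C : Set R) := by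
  intro i
  by_cases hi : i ∈ ((tb k A R).repr z).support
  · exact Algebra.subset_adjoin (hC (Finset.mem_image_of_mem _ hi))
  · have : coef k A R z i = 0 := Finsupp.notMem_support_iff.mp hi
    rw [this]
    exact Subalgebra.zero_mem _

end coef

section GI
variable [IsAlgClosed k] [IsDomain A]

theorem exists_point (B : Type u) [CommRing B] [Algebra k B] [Algebra.FiniteType k B]
    (𝔫 : Ideal B) [h𝔫 : 𝔫.IsMaximal] :
    ∃ φ : B →ₐ[k] k, ∀ β, φ β = 0 ↔ β ∈ 𝔫 := by
  letI : Field (B ⧸ 𝔫) := Ideal.Quotient.field 𝔫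
  haveI : Algebra.FiniteType k (B ⧸ 𝔫) :=
    Algebra.FiniteType.of_surjective (Ideal.Quotient.mkₐ k 𝔫) (Ideal.Quotient.mkₐ_surjective k 𝔫)
  haveI : Module.Finite k (B ⧸ 𝔫) := finite_of_finite_type_of_isJacobsonRing k (B ⧸ 𝔫)
  haveI : Algebra.IsIntegral k (B ⧸ 𝔫) := Algebra.IsIntegral.of_finite k (B ⧸ 𝔫)
  have hbij : Function.Bijective (algebraMap k (B ⧸ 𝔫)) :=
    IsAlgClosed.algebraMap_bijective_of_isIntegral
  let ψ : k ≃ₐ[k] (B ⧸ 𝔫) := AlgEquiv.ofBijective (Algebra.ofId k (B ⧸ 𝔫)) hbij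
  refine ⟨(ψ.symm : (B ⧸ 𝔫) →ₐ[k] k).comp (Ideal.Quotient.mkₐ k 𝔫), fun β => ?_⟩
  rw [AlgHom.comp_apply]
  constructor
  · intro h
    have h1 := ψ.symm.injective (h.trans (map_zero ψ.symm).symm)
    exact Ideal.Quotient.eq_zero_iff_mem.mp h1
  · intro h
    have h1 : (Ideal.Quotient.mkₐ k 𝔫) β = 0 := Ideal.Quotient.eq_zero_iff_mem.mpr h
    rw [h1]
    exact map_zero _

theorem noZeroDiv_fg (B : Type u) [CommRing B] [IsDomain B] [Algebra k B]
    [Algebra.FiniteType k B] : NoZeroDivisors (B ⊗[k] A) := by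
  constructor
  intro x y hxy
  by_contra hne
  push_neg at hne
  obtain ⟨hx, hy⟩ := hne
  obtain ⟨i, hi⟩ : ∃ i, coef k A B x i ≠ 0 := by
    by_contra! h; exact hx (coef_ext h)
  obtain ⟨j, hj⟩ : ∃ j, coef k A B y j ≠ 0 := by
    by_contra! h; exact hy (coef_ext h)
  have hprod : coef k A B x i * coef k A B y j ≠ 0 := mul_ne_zero hi hj
  haveI : IsJacobsonRing B := isJacobsonRing_of_finiteType (A := k) (B := B)
  have hjac : (⊥ : Ideal B).jacobson = ⊥ := IsJacobsonRing.out' ⊥ Ideal.isRadical_bot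
  obtain ⟨𝔫, h𝔫max, h𝔫⟩ : ∃ 𝔫 : Ideal B, 𝔫.IsMaximal ∧
      coef k A B x i * coef k A B y j ∉ 𝔫 := by
    by_contra! h
    apply hprod
    have h1 : coef k A B x i * coef k A B y j ∈ (⊥ : Ideal B).jacobson := by
      rw [Ideal.jacobson, Ideal.mem_sInf]
      rintro J ⟨-, hJ⟩
      exact h J hJ
    rw [hjac] at h1
    exact h1
  haveI := h𝔫max
  obtain ⟨φ, hφ⟩ := exists_point (k := k) B 𝔫
  have hΦx : Algebra.TensorProduct.map φ (AlgHom.id k A) x ≠ 0 := by
    intro h
    have h1 := coef_map (A := A) φ x i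
    rw [h, coef_zero] at h1
    exact h𝔫 (𝔫.mul_mem_right _ ((hφ _).mp h1.symm))
  have hΦy : Algebra.TensorProduct.map φ (AlgHom.id k A) y ≠ 0 := by
    intro h
    have h1 := coef_map (A := A) φ y j
    rw [h, coef_zero] at h1
    exact h𝔫 (𝔫.mul_mem_left _ ((hφ _).mp h1.symm))
  have hdom : ∀ u v : k ⊗[k] A, u * v = 0 → u = 0 ∨ v = 0 := by
    intro u v huv
    have h1 := congrArg (Algebra.TensorProduct.lid k A) huv
    rw [map_mul, map_zero] at h1
    rcases mul_eq_zero.mp h1 with h | h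
    · left
      exact (Algebra.TensorProduct.lid k A).injective (h.trans (map_zero _).symm)
    · right
      exact (Algebra.TensorProduct.lid k A).injective (h.trans (map_zero _).symm)
  rcases hdom _ _ (by rw [← map_mul, hxy, map_zero] :
      Algebra.TensorProduct.map φ (AlgHom.id k A) x *
        Algebra.TensorProduct.map φ (AlgHom.id k A) y = 0) with h | h
  · exact hΦx h
  · exact hΦy h

theorem noZeroDiv (B : Type u) [CommRing B] [IsDomain B] [Algebra k B] :
    NoZeroDivisors (B ⊗[k] A) := by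
  classical
  constructor
  intro x y hxy
  let C : Finset B := ((tb k A B).repr x).support.image (coef k A B x) ∪
    ((tb k A B).repr y).support.image (coef k A B y)
  obtain ⟨x₀, hx₀⟩ := exists_descend (Algebra.adjoin k (C : Set B)) x
    (coef_mem_adjoin x C Finset.subset_union_left)
  obtain ⟨y₀, hy₀⟩ := exists_descend (Algebra.adjoin k (C : Set B)) y
    (coef_mem_adjoin y C Finset.subset_union_right)
  haveI : Algebra.FiniteType k (Algebra.adjoin k (C : Set B)) :=
    (Subalgebra.fg_iff_finiteType _).mp (Subalgebra.fg_adjoin_finset C)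
  haveI := noZeroDiv_fg (k := k) (A := A) (Algebra.adjoin k (C : Set B))
  have hinj := map_injective (A := A) (Algebra.adjoin k (C : Set B)).val Subtype.val_injective
  have h0 : x₀ * y₀ = 0 := hinj (by rw [map_mul, hx₀, hy₀, hxy, map_zero])
  rcases mul_eq_zero.mp h0 with h | h
  · left; rw [← hx₀, h, map_zero]
  · right; rw [← hy₀, h, map_zero]

end GI

section core
variable {k A}

set_option linter.style.haveILetI false in
theorem core (R : Type u) [CommRing R] [Algebra k R] [IsNoetherianRing R] [IsLocalRing R]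
    [hD : NoZeroDivisors ((R ⧸ IsLocalRing.maximalIdeal R) ⊗[k] A)]
    (t f : R ⊗[k] A) (htf : t * f = 0)
    (ht : ∃ i, coef k A R t i ∉ IsLocalRing.maximalIdeal R) : f = 0 := by
  classical
  by_contra hf
  have hunit : ∀ r : R, r ∉ IsLocalRing.maximalIdeal R → IsUnit r := fun r hr => by
    by_contra h
    exact hr ((IsLocalRing.mem_maximalIdeal r).mpr h)
  obtain ⟨i₀, hi₀⟩ : ∃ i, coef k A R f i ≠ 0 := by
    by_contra! h; exact hf (coef_ext h)
  have hK : ⨅ n, (IsLocalRing.maximalIdeal R) ^ n = ⊥ :=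
    Ideal.iInf_pow_eq_bot_of_isLocalRing _ (IsLocalRing.maximalIdeal.isMaximal R).ne_top
  have h2 : ∃ N, ∃ i, coef k A R f i ∉ (IsLocalRing.maximalIdeal R) ^ N := by
    by_contra! h
    have h3 : coef k A R f i₀ ∈ ⨅ n, (IsLocalRing.maximalIdeal R) ^ n := by
      rw [Ideal.mem_iInf]
      intro n
      exact h n i₀
    rw [hK] at h3
    exact hi₀ h3
  have hn₀ := Nat.find_spec h2
  have hmin := fun m (hm : m < Nat.find h2) => Nat.find_min h2 hm
  have hn₀pos : Nat.find h2 ≠ 0 := by
    intro h0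
    obtain ⟨i, hi⟩ := hn₀
    rw [h0, pow_zero, Ideal.one_eq_top] at hi
    exact hi Submodule.mem_top
  obtain ⟨n, hn⟩ : ∃ n, Nat.find h2 = n + 1 := Nat.exists_eq_succ_of_ne_zero hn₀pos
  have hall : ∀ i, coef k A R f i ∈ (IsLocalRing.maximalIdeal R) ^ n := by
    intro i
    by_contra hi
    exact hmin n (by omega) ⟨i, hi⟩
  obtain ⟨i₁, hi₁⟩ : ∃ i, coef k A R f i ∉ (IsLocalRing.maximalIdeal R) ^ (n + 1) := hn ▸ hn₀
  -- the ideal W
  obtain ⟨W, ⟨hJW, hWI, hcW⟩, hWmax⟩ := set_has_maximal_iff_noetherian.mpr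
    (inferInstance : IsNoetherian R R)
    {W : Ideal R | (IsLocalRing.maximalIdeal R) ^ (n + 1) ≤ W ∧
      W ≤ (IsLocalRing.maximalIdeal R) ^ n ∧ coef k A R f i₁ ∉ W}
    ⟨(IsLocalRing.maximalIdeal R) ^ (n + 1), le_rfl, Ideal.pow_le_pow_right (Nat.le_succ n), hi₁⟩
  have hdecomp : ∀ x ∈ (IsLocalRing.maximalIdeal R) ^ n,
      ∃ ρ : R, x - ρ * coef k A R f i₁ ∈ W := by
    intro x hx
    by_cases hxW : x ∈ W
    · exact ⟨0, by simpa using hxW⟩
    · have hc : coef k A R f i₁ ∈ W ⊔ Ideal.span {x} := by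
        by_contra hc
        have hlt : W < W ⊔ Ideal.span {x} := lt_of_le_of_ne le_sup_left (fun h => hxW
          (h ▸ (le_sup_right : Ideal.span {x} ≤ W ⊔ Ideal.span {x})
            (Ideal.mem_span_singleton_self x)))
        exact hWmax (W ⊔ Ideal.span {x}) ⟨hJW.trans le_sup_left,
          sup_le hWI ((Ideal.span_singleton_le_iff_mem _).mpr hx), hc⟩ hlt
      obtain ⟨w, hw, y, hy, hwy⟩ := Submodule.mem_sup.mp hc
      obtain ⟨r, rfl⟩ := Ideal.mem_span_singleton'.mp hy
      have hr : r ∉ IsLocalRing.maximalIdeal R := by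
        intro hr
        apply hcW
        rw [← hwy]
        exact W.add_mem hw (hJW (by rw [pow_succ']; exact Ideal.mul_mem_mul hr hx))
      obtain ⟨u, rfl⟩ := hunit r hr
      refine ⟨↑u⁻¹, ?_⟩
      have h4 : x - ↑u⁻¹ * coef k A R f i₁ = -(↑u⁻¹ * w) := by
        rw [← hwy, mul_add, ← mul_assoc, Units.inv_mul, one_mul]
        ring
      rw [h4]
      exact W.neg_mem (Ideal.mul_mem_left W _ hw)
  have hc₁ : ∀ r, coef k A R f i₁ * r ∈ W → r ∈ IsLocalRing.maximalIdeal R := by
    intro r hr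
    by_contra hrm
    obtain ⟨u, rfl⟩ := hunit r hrm
    apply hcW
    have h5 : coef k A R f i₁ = ↑u⁻¹ * (coef k A R f i₁ * ↑u) := by
      rw [mul_comm (coef k A R f i₁), ← mul_assoc, Units.inv_mul, one_mul]
    rw [h5]
    exact Ideal.mul_mem_left W _ hr
  choose! ρ hρ using hdecomp
  -- the element h
  have hcoefh : ∀ i, coef k A R (∑ j ∈ ((tb k A R).repr f).support,
      (ρ (coef k A R f j)) ⊗ₜ[k] (eb k A j)) i =
      if i ∈ ((tb k A R).repr f).support then ρ (coef k A R f i) else 0 := by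
    intro i
    have hsum : ∀ (S : Finset (Idx k A)), coef k A R (∑ j ∈ S,
        (ρ (coef k A R f j)) ⊗ₜ[k] (eb k A j)) i = ∑ j ∈ S,
        coef k A R ((ρ (coef k A R f j)) ⊗ₜ[k] (eb k A j)) i := by
      intro S
      induction S using Finset.induction_on with
      | empty => simp [coef_zero]
      | insert a S ha ih => rw [Finset.sum_insert ha, Finset.sum_insert ha, coef_add, ih]
    rw [hsum]
    simp_rw [coef_tmul_basis]
    rw [Finset.sum_ite_eq]
  set h : R ⊗[k] A := ∑ j ∈ ((tb k A R).repr f).support,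
      (ρ (coef k A R f j)) ⊗ₜ[k] (eb k A j) with hh
  have hw : ∀ i, coef k A R (f - coef k A R f i₁ • h) i ∈ W := by
    intro i
    rw [coef_sub, coef_smul, hcoefh]
    by_cases hi : i ∈ ((tb k A R).repr f).support
    · rw [if_pos hi, mul_comm]
      exact hρ _ (hall i)
    · rw [if_neg hi, mul_zero, sub_zero]
      have h6 : coef k A R f i = 0 := Finsupp.notMem_support_iff.mp hi
      rw [h6]
      exact W.zero_mem
  have hw2 := coef_mul_mem W t _ hw
  have h7 : t * (f - coef k A R f i₁ • h) = -(coef k A R f i₁ • (t * h)) := by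
    rw [mul_sub, htf, zero_sub, mul_smul_comm]
  have hth : ∀ i, coef k A R (t * h) i ∈ IsLocalRing.maximalIdeal R := by
    intro i
    apply hc₁
    have h8 := hw2 i
    rw [h7, coef_neg, coef_smul] at h8
    have h9 := W.neg_mem h8
    rwa [neg_neg] at h9
  rcases coef_mul_prime (IsLocalRing.maximalIdeal R) t h hth with h1 | h1
  · obtain ⟨i, hi⟩ := ht
    exact hi (h1 i)
  · have hi₁S : i₁ ∈ ((tb k A R).repr f).support := by
      rw [Finsupp.mem_support_iff]
      intro h0
      apply hi₁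
      have : coef k A R f i₁ = 0 := h0
      rw [this]
      exact Ideal.zero_mem _
    have h10 := h1 i₁
    rw [hcoefh, if_pos hi₁S] at h10
    have h11 := hρ _ (hall i₁)
    have h12 : coef k A R f i₁ * (1 - ρ (coef k A R f i₁)) ∈ W := by
      have : coef k A R f i₁ * (1 - ρ (coef k A R f i₁)) =
          coef k A R f i₁ - ρ (coef k A R f i₁) * coef k A R f i₁ := by ring
      rw [this]
      exact h11
    have h13 := hc₁ _ h12
    have h14 : (1 : R) ∈ IsLocalRing.maximalIdeal R := by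
      have : (1 : R) = (1 - ρ (coef k A R f i₁)) + ρ (coef k A R f i₁) := by ring
      rw [this]
      exact Ideal.add_mem _ h13 h10
    exact (IsLocalRing.maximalIdeal.isMaximal R).ne_top ((Ideal.eq_top_iff_one _).mpr h14)

end core

section star
variable {k A} [IsAlgClosed k] [IsDomain A]

set_option linter.style.haveILetI false in
theorem star_fg (R₀ : Type u) [CommRing R₀] [Algebra k R₀] [Algebra.FiniteType k R₀]
    (𝔭 : Ideal R₀) [h𝔭 : 𝔭.IsPrime] (t f : R₀ ⊗[k] A) (htf : t * f = 0)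
    (ht : ∃ i, coef k A R₀ t i ∉ 𝔭) (hann : ∀ s : R₀, s • f = 0 → s ∈ 𝔭) : False := by
  classical
  haveI : IsNoetherianRing R₀ := Algebra.FiniteType.isNoetherianRing k R₀
  haveI : IsNoetherianRing (Localization.AtPrime 𝔭) :=
    IsLocalization.isNoetherianRing 𝔭.primeCompl (Localization.AtPrime 𝔭) inferInstance
  let φ : R₀ →ₐ[k] Localization.AtPrime 𝔭 := IsScalarTower.toAlgHom k R₀ (Localization.AtPrime 𝔭)
  haveI : NoZeroDivisors (((Localization.AtPrime 𝔭) ⧸
      IsLocalRing.maximalIdeal (Localization.AtPrime 𝔭)) ⊗[k] A) :=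
    noZeroDiv (k := k) (A := A) _
  have h1 : Algebra.TensorProduct.map φ (AlgHom.id k A) f = 0 := by
    apply core (Localization.AtPrime 𝔭) (Algebra.TensorProduct.map φ (AlgHom.id k A) t)
    · rw [← map_mul, htf, map_zero]
    · obtain ⟨i, hi⟩ := ht
      refine ⟨i, ?_⟩
      rw [coef_map]
      have hu : IsUnit (algebraMap R₀ (Localization.AtPrime 𝔭) (coef k A R₀ t i)) :=
        IsLocalization.map_units (Localization.AtPrime 𝔭)
          (⟨coef k A R₀ t i, hi⟩ : 𝔭.primeCompl)
      intro hmem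
      exact (IsLocalRing.mem_maximalIdeal _).mp hmem hu
  have h2 : ∀ i, ∃ s : 𝔭.primeCompl, (s : R₀) * coef k A R₀ f i = 0 := by
    intro i
    have h3 := coef_map (A := A) φ f i
    rw [h1, coef_zero] at h3
    exact (IsLocalization.map_eq_zero_iff 𝔭.primeCompl (Localization.AtPrime 𝔭) _).mp h3.symm
  choose s hs using h2
  have hprod : (∏ i ∈ ((tb k A R₀).repr f).support, (s i : R₀)) • f = 0 := by
    apply coef_ext
    intro i
    rw [coef_smul]
    by_cases hi : i ∈ ((tb k A R₀).repr f).support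
    · rw [← Finset.prod_erase_mul _ _ hi, mul_assoc, hs i, mul_zero]
    · have h6 : coef k A R₀ f i = 0 := Finsupp.notMem_support_iff.mp hi
      rw [h6, mul_zero]
  have h4 := hann _ hprod
  have h5 : (∏ i ∈ ((tb k A R₀).repr f).support, (s i : R₀)) ∈ 𝔭.primeCompl :=
    Submonoid.prod_mem _ (fun i _ => (s i).2)
  exact h5 h4

set_option linter.style.haveILetI false in
theorem star (R : Type u) [CommRing R] [Algebra k R] (𝔪 : Ideal R) [h𝔪 : 𝔪.IsPrime]
    (t f : R ⊗[k] A) (htf : t * f = 0) (ht : ∃ i, coef k A R t i ∉ 𝔪)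
    (hann : ∀ s : R, s • f = 0 → s ∈ 𝔪) : False := by
  classical
  let C : Finset R := ((tb k A R).repr t).support.image (coef k A R t) ∪
    ((tb k A R).repr f).support.image (coef k A R f)
  obtain ⟨t₀, ht₀⟩ := exists_descend (Algebra.adjoin k (C : Set R)) t
    (coef_mem_adjoin t C Finset.subset_union_left)
  obtain ⟨f₀, hf₀⟩ := exists_descend (Algebra.adjoin k (C : Set R)) f
    (coef_mem_adjoin f C Finset.subset_union_right)
  haveI : Algebra.FiniteType k (Algebra.adjoin k (C : Set R)) :=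
    (Subalgebra.fg_iff_finiteType _).mp (Subalgebra.fg_adjoin_finset C)
  have hinj := map_injective (A := A) (Algebra.adjoin k (C : Set R)).val Subtype.val_injective
  have h0 : t₀ * f₀ = 0 := hinj (by rw [map_mul, ht₀, hf₀, htf, map_zero])
  refine star_fg (Algebra.adjoin k (C : Set R))
    (𝔪.comap (Algebra.adjoin k (C : Set R)).val) t₀ f₀ h0 ?_ ?_
  · obtain ⟨i, hi⟩ := ht
    refine ⟨i, fun hmem => hi ?_⟩
    rw [Ideal.mem_comap, ← coef_map, ht₀] at hmem
    exact hmem
  · intro s hs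
    rw [Ideal.mem_comap]
    apply hann
    apply coef_ext
    intro i
    rw [coef_smul, ← hf₀, coef_map, ← map_mul, ← coef_smul, hs, coef_zero, map_zero]

end star

end Groth.Agent.H10.FibreDense
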