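import Mathlib
import Groth.Prelude.Def_EtMil

/-!
Helper lemmas about fibre squares of rings `B' = B ×_A A'` with `A' → A` surjective (helper10).
-/

set_option autoImplicit false
set_option linter.unusedSectionVars false
universe u

namespace Groth.Agent.H10

open TensorProduct

variable {B' B A' A : Type u} [CommRing B'] [CommRing B] [CommRing A'] [CommRing A]
  [Algebra B' B] [Algebra B' A'] [Algebra B A] [Algebra A' A] [Algebra B' A]
  [IsScalarTower B' B A] [IsScalarTower B' A' A]

theorem fs_ext (hsq : EtMil.IsFibreSquare B' B A' A) (b1 b2 : B')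
    (h1 : algebraMap B' B b1 = algebraMap B' B b2)
    (h2 : algebraMap B' A' b1 = algebraMap B' A' b2) : b1 = b2 := by
  obtain ⟨b0, _, hb0⟩ := hsq.2 (algebraMap B' B b1) (algebraMap B' A' b1)
    (by rw [← IsScalarTower.algebraMap_apply, ← IsScalarTower.algebraMap_apply])
  rw [hb0 b1 ⟨rfl, rfl⟩, hb0 b2 ⟨h1.symm, h2.symm⟩]

theorem fs_surj (hsq : EtMil.IsFibreSquare B' B A' A) :
    Function.Surjective (algebraMap B' B) := by
  intro b
  obtain ⟨a', ha'⟩ := hsq.1 (algebraMap B A b)
  obtain ⟨b', ⟨hb', _⟩, _⟩ := hsq.2 b a' ha'.symm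
  exact ⟨b', hb'⟩

theorem fs_exists_ker (hsq : EtMil.IsFibreSquare B' B A' A) (a' : A')
    (ha' : algebraMap A' A a' = 0) :
    ∃ j : B', algebraMap B' B j = 0 ∧ algebraMap B' A' j = a' := by
  obtain ⟨b', ⟨hb1, hb2⟩, _⟩ := hsq.2 0 a' (by rw [map_zero, ha'])
  exact ⟨b', hb1, hb2⟩

theorem fs_ker_map (j : B') (hj : algebraMap B' B j = 0) :
    algebraMap A' A (algebraMap B' A' j) = 0 := by
  rw [← IsScalarTower.algebraMap_apply, IsScalarTower.algebraMap_apply B' B A, hj, map_zero]

theorem fs_smul_eq_zero (hsq : EtMil.IsFibreSquare B' B A' A) (Q : Type u) [AddCommGroup Q]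
    [Module B' Q] (j : B') (hj : algebraMap B' B j = 0) (y : Q)
    (hy : (1 : A') ⊗ₜ[B'] y = (0 : A' ⊗[B'] Q)) : j • y = 0 := by
  have hex : ∀ a' : A', ∃ b' : B', algebraMap B' B b' = 0 ∧
      algebraMap B' A' b' = a' * algebraMap B' A' j := by
    intro a'
    apply fs_exists_ker hsq
    rw [map_mul, fs_ker_map j hj, mul_zero]
  choose ψ hψ1 hψ2 using hex
  let ψl : A' →ₗ[B'] B' :=
    { toFun := ψ
      map_add' := fun a b => by
        apply fs_ext hsq
        · rw [map_add, hψ1, hψ1, hψ1, add_zero]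
        · rw [map_add, hψ2, hψ2, hψ2, add_mul]
      map_smul' := fun c a => by
        apply fs_ext hsq
        · rw [RingHom.id_apply, smul_eq_mul, map_mul, hψ1, hψ1, mul_zero]
        · rw [RingHom.id_apply, smul_eq_mul, map_mul, hψ2, hψ2, Algebra.smul_def, mul_assoc] }
  have hψone : ψ 1 = j := by
    apply fs_ext hsq
    · rw [hψ1, hj]
    · rw [hψ2, one_mul]
  have := congrArg (fun t => TensorProduct.lid B' Q (ψl.rTensor Q t)) hy
  simp only [LinearMap.rTensor_tmul, TensorProduct.lid_tmul, map_zero] at this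
  have h2 : ψl 1 = ψ 1 := rfl
  rw [h2, hψone] at this
  exact this

theorem fs_mem_smul_top (hsq : EtMil.IsFibreSquare B' B A' A) (Q : Type u) [AddCommGroup Q]
    [Module B' Q] (x : Q) (hx : (1 : B) ⊗ₜ[B'] x = (0 : B ⊗[B'] Q)) :
    x ∈ (RingHom.ker (algebraMap B' B)) • (⊤ : Submodule B' Q) := by
  let f : B' →ₗ[B'] B := Algebra.linearMap B' B
  have hf : Function.Surjective f := fs_surj hsq
  have hex := rTensor_exact Q (LinearMap.exact_subtype_ker_map f) hf
  have h1 : f.rTensor Q ((1 : B') ⊗ₜ[B'] x) = 0 := by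
    rw [LinearMap.rTensor_tmul]
    have : f 1 = 1 := map_one (algebraMap B' B)
    rw [this, hx]
  obtain ⟨z, hz⟩ := (hex _).mp h1
  have key : ∀ z : (LinearMap.ker f) ⊗[B'] Q,
      TensorProduct.lid B' Q ((LinearMap.ker f).subtype.rTensor Q z) ∈
        (RingHom.ker (algebraMap B' B)) • (⊤ : Submodule B' Q) := by
    intro z
    induction z using TensorProduct.induction_on with
    | zero => simp
    | tmul k q =>
      rw [LinearMap.rTensor_tmul, TensorProduct.lid_tmul, Submodule.subtype_apply]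
      have hk : (k : B') ∈ RingHom.ker (algebraMap B' B) := by
        rw [RingHom.mem_ker]
        exact k.2
      exact Submodule.smul_mem_smul hk Submodule.mem_top
    | add a b ha hb => rw [map_add, map_add]; exact Submodule.add_mem _ ha hb
  have := key z
  rw [hz, TensorProduct.lid_tmul, one_smul] at this
  exact this

end Groth.Agent.H10
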