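import Mathlib

/-!
Helper lemmas about flat modules (helper10).
-/

set_option autoImplicit false
universe u

namespace Groth.Agent.H10

open TensorProduct

variable {R : Type u} [CommRing R]

/-- commutation of `rTensor` and `lTensor`. -/
theorem sq_rTensor_lTensor {A B A' B' : Type u} [AddCommGroup A] [Module R A] [AddCommGroup B] [Module R B]
    [AddCommGroup A'] [Module R A'] [AddCommGroup B'] [Module R B']
    (a : A →ₗ[R] A') (b : B →ₗ[R] B') (t : A ⊗[R] B) :
    (b.lTensor A') ((a.rTensor B) t) = (a.rTensor B') ((b.lTensor A) t) := by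
  rw [← LinearMap.comp_apply, ← LinearMap.comp_apply, LinearMap.lTensor_comp_rTensor,
    LinearMap.rTensor_comp_lTensor]

theorem rTensor_injective_of_flat_coker_aux {M₁ M₂ M₃ : Type u} [AddCommGroup M₁] [Module R M₁]
    [AddCommGroup M₂] [Module R M₂] [AddCommGroup M₃] [Module R M₃]
    (f : M₁ →ₗ[R] M₂) (g : M₂ →ₗ[R] M₃) (hf : Function.Injective f) (hexact : Function.Exact f g)
    (hg : Function.Surjective g) [Module.Flat R M₃]
    (N : Type u) [AddCommGroup N] [Module R N]
    (F : Type u) [AddCommGroup F] [Module R F] [Module.Flat R F]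
    (K : Type u) [AddCommGroup K] [Module R K]
    (ι : K →ₗ[R] F) (π : F →ₗ[R] N) (hιinj : Function.Injective ι) (hex : Function.Exact ι π)
    (hπs : Function.Surjective π) : Function.Injective (f.rTensor N) := by
  classical
  have hgf : g ∘ₗ f = 0 := by
    ext x
    exact hexact.apply_apply_eq_zero x
  have hπι : π ∘ₗ ι = 0 := by
    ext x
    exact hex.apply_apply_eq_zero x
  have hfF : Function.Injective (f.rTensor F) :=
    Module.Flat.rTensor_preserves_injective_linearMap f hf
  have hι3 : Function.Injective (ι.lTensor M₃) :=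
    Module.Flat.lTensor_preserves_injective_linearMap ι hιinj
  rw [injective_iff_map_eq_zero]
  intro z hz
  obtain ⟨w, rfl⟩ := LinearMap.lTensor_surjective M₁ hπs z
  have e2 : (π.lTensor M₂) ((f.rTensor F) w) = 0 := by
    rw [sq_rTensor_lTensor, hz]
  obtain ⟨v, hv⟩ := (lTensor_exact M₂ hex hπs _).mp e2
  have e4 : (g.rTensor K) v = 0 := by
    apply hι3
    rw [map_zero, sq_rTensor_lTensor, hv, ← LinearMap.comp_apply, ← LinearMap.rTensor_comp, hgf,
      LinearMap.rTensor_zero, LinearMap.zero_apply]
  obtain ⟨u, hu⟩ := (rTensor_exact K hexact hg _).mp e4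
  have e6 : (ι.lTensor M₁) u = w := by
    apply hfF
    rw [← sq_rTensor_lTensor, hu, hv]
  rw [← e6, ← LinearMap.comp_apply, ← LinearMap.lTensor_comp, hπι, LinearMap.lTensor_zero,
    LinearMap.zero_apply]

/-- If `0 → M₁ → M₂ → M₃ → 0` is exact with `M₃` flat, then `M₁ ⊗ N → M₂ ⊗ N` is injective for all `N`
(`Tor₁(M₃, N) = 0`). -/
theorem rTensor_injective_of_flat_coker {M₁ M₂ M₃ : Type u} [AddCommGroup M₁] [Module R M₁]
    [AddCommGroup M₂] [Module R M₂] [AddCommGroup M₃] [Module R M₃]
    (f : M₁ →ₗ[R] M₂) (g : M₂ →ₗ[R] M₃) (hf : Function.Injective f) (hexact : Function.Exact f g)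
    (hg : Function.Surjective g) [Module.Flat R M₃]
    (N : Type u) [AddCommGroup N] [Module R N] : Function.Injective (f.rTensor N) := by
  have hπs : Function.Surjective (Finsupp.linearCombination R (id : N → N)) :=
    Finsupp.linearCombination_id_surjective R N
  refine rTensor_injective_of_flat_coker_aux f g hf hexact hg N (N →₀ R)
    (LinearMap.ker (Finsupp.linearCombination R (id : N → N)))
    (LinearMap.ker (Finsupp.linearCombination R (id : N → N))).subtype
    (Finsupp.linearCombination R (id : N → N)) (Submodule.injective_subtype _) ?_ hπs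
  rw [LinearMap.exact_iff]
  exact (Submodule.range_subtype _).symm

/-- Kernel of a surjection between flat modules is flat. -/
theorem flat_of_exact_of_flat_flat {M₁ M₂ M₃ : Type u} [AddCommGroup M₁] [Module R M₁]
    [AddCommGroup M₂] [Module R M₂] [AddCommGroup M₃] [Module R M₃]
    (f : M₁ →ₗ[R] M₂) (g : M₂ →ₗ[R] M₃) (hf : Function.Injective f) (hexact : Function.Exact f g)
    (hg : Function.Surjective g) [Module.Flat R M₂] [Module.Flat R M₃] : Module.Flat R M₁ := by
  rw [Module.Flat.iff_lTensor_preserves_injective_linearMap]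
  intro N' N _ _ _ _ h hh
  have h2 : Function.Injective (h.lTensor M₂) :=
    Module.Flat.lTensor_preserves_injective_linearMap h hh
  have h3 : Function.Injective ((h.lTensor M₂) ∘ (f.rTensor N')) :=
    h2.comp (rTensor_injective_of_flat_coker f g hf hexact hg N')
  have h4 : (h.lTensor M₂) ∘ (f.rTensor N') = (f.rTensor N) ∘ (h.lTensor M₁) := by
    funext t
    exact sq_rTensor_lTensor f h t
  rw [h4] at h3
  exact Function.Injective.of_comp h3

/-- An extension of flat modules is flat. -/
theorem flat_of_exact_of_flat_left_right {M₁ M₂ M₃ : Type u} [AddCommGroup M₁] [Module R M₁]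
    [AddCommGroup M₂] [Module R M₂] [AddCommGroup M₃] [Module R M₃]
    (f : M₁ →ₗ[R] M₂) (g : M₂ →ₗ[R] M₃) (hf : Function.Injective f) (hexact : Function.Exact f g)
    (hg : Function.Surjective g) [Module.Flat R M₁] [Module.Flat R M₃] : Module.Flat R M₂ := by
  rw [Module.Flat.iff_lTensor_preserves_injective_linearMap]
  intro N' N _ _ _ _ h hh
  have h1 : Function.Injective (h.lTensor M₁) :=
    Module.Flat.lTensor_preserves_injective_linearMap h hh
  have h3 : Function.Injective (h.lTensor M₃) :=
    Module.Flat.lTensor_preserves_injective_linearMap h hh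
  rw [injective_iff_map_eq_zero]
  intro z hz
  have e1 : (g.rTensor N') z = 0 := by
    apply h3
    rw [map_zero, sq_rTensor_lTensor, hz, map_zero]
  obtain ⟨x, rfl⟩ := (rTensor_exact N' hexact hg _).mp e1
  have e2 : (h.lTensor M₁) x = 0 := by
    apply rTensor_injective_of_flat_coker f g hf hexact hg N
    rw [map_zero, ← sq_rTensor_lTensor, hz]
  rw [h1 (e2.trans (map_zero _).symm), map_zero]

/-- A product of two flat modules is flat. -/
theorem flat_prod (M N : Type u) [AddCommGroup M] [Module R M] [AddCommGroup N] [Module R N]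
    [Module.Flat R M] [Module.Flat R N] : Module.Flat R (M × N) := by
  -- `M × N` is an extension of `N` by `M`
  exact flat_of_exact_of_flat_left_right (LinearMap.inl R M N) (LinearMap.snd R M N)
    LinearMap.inl_injective
    (by
      intro x
      constructor
      · intro hx
        exact ⟨x.1, by ext <;> simp_all⟩
      · rintro ⟨m, rfl⟩
        simp)
    LinearMap.snd_surjective

end Groth.Agent.H10
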