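import Mathlib
import Groth.Prelude.Def_ModSite

/-!
# Existence of the internal hom for sheaves of modules on a small ringed site (helper10)
-/

set_option autoImplicit false
universe u
open CategoryTheory CategoryTheory.Limits Opposite MonoidalCategory

namespace Groth.Agent.H10.SheafHomEx

variable {C : Type u} [SmallCategory C] {J : GrothendieckTopology C}
  (R : Cᵒᵖ ⥤ CommRingCat.{u})

/-- presheaves of modules over the underlying presheaf of rings -/
abbrev PM := PresheafOfModules.{u} (R ⋙ forget₂ CommRingCat.{u} RingCat.{u})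

theorem tensorRight_isLeftAdjoint (N' : PM R) : (tensorRight N').IsLeftAdjoint := by
  haveI : WellPowered.{u} (PM R)ᵒᵖ := CategoryTheory.Abelian.wellPowered_opposite
  exact isLeftAdjoint_of_preservesColimits_of_isSeparating
    (PresheafOfModules.freeYoneda.isSeparating (R ⋙ forget₂ CommRingCat.{u} RingCat.{u})) _

theorem free_map_splitMono {S : Type u} [Ring S] {A B : Type u} (φ : A ⟶ B)
    (hφ : Function.Injective φ) :
    ∃ r : (ModuleCat.free S).obj B ⟶ (ModuleCat.free S).obj A,
      (ModuleCat.free S).map φ ≫ r = 𝟙 _ := by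
  classical
  refine ⟨ModuleCat.freeDesc (TypeCat.ofHom fun b =>
    if h : ∃ a, φ a = b then ModuleCat.freeMk h.choose else 0), ?_⟩
  apply ModuleCat.free_hom_ext
  intro x
  have h1 : ((ModuleCat.free S).map φ ≫ ModuleCat.freeDesc (TypeCat.ofHom fun b =>
      if h : ∃ a, φ a = b then (ModuleCat.freeMk h.choose : (ModuleCat.free S).obj A) else 0))
      (ModuleCat.freeMk x) =
      ModuleCat.freeDesc (TypeCat.ofHom fun b =>
      if h : ∃ a, φ a = b then (ModuleCat.freeMk h.choose : (ModuleCat.free S).obj A) else 0)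
        ((ModuleCat.free S).map φ (ModuleCat.freeMk x)) := rfl
  rw [h1, ModuleCat.free_map_apply, ModuleCat.freeDesc_apply]
  have hex : ∃ a, φ a = φ x := ⟨x, rfl⟩
  rw [TypeCat.ofHom_apply, dif_pos hex]
  exact congrArg ModuleCat.freeMk (hφ hex.choose_spec)


set_option backward.isDefEq.respectTransparency false in
theorem isLocallySurjective_whiskerRight {P Q : PM R} (f : P ⟶ Q) (N' : PM R)
    [hf : Presheaf.IsLocallySurjective J ((PresheafOfModules.toPresheaf _).map f)] :
    Presheaf.IsLocallySurjective J ((PresheafOfModules.toPresheaf _).map (f ▷ N')) := by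
  constructor
  intro U z
  have key : ∀ z : TensorProduct (R.obj (op U)) (Q.obj (op U)) (N'.obj (op U)),
      Presheaf.imageSieve ((PresheafOfModules.toPresheaf _).map (f ▷ N')) (U := U) z ∈ J U := by
    intro z
    induction z using TensorProduct.induction_on with
    | zero =>
      refine J.superset_covering ?_ (J.top_mem U)
      intro V g _
      exact ⟨0, by rw [map_zero, map_zero]⟩
    | tmul q n =>
      refine J.superset_covering ?_ (Presheaf.imageSieve_mem J
        ((PresheafOfModules.toPresheaf _).map f) (U := op U) q)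
      intro V g hg
      obtain ⟨p, hp⟩ := hg
      refine ⟨(p ⊗ₜ[R.obj (op V)] (N'.map g.op n) :
        TensorProduct (R.obj (op V)) (P.obj (op V)) (N'.obj (op V))), ?_⟩
      exact congrArg (fun w : Q.obj (op V) => w ⊗ₜ[R.obj (op V)] (N'.map g.op n)) hp
    | add z₁ z₂ h₁ h₂ =>
      refine J.superset_covering ?_ (J.intersection_covering h₁ h₂)
      rintro V g ⟨⟨t₁, ht₁⟩, ⟨t₂, ht₂⟩⟩
      exact ⟨t₁ + t₂, by rw [map_add, map_add, ht₁, ht₂]⟩
  exact key z

set_option backward.isDefEq.respectTransparency false in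
theorem freeObj_map_single (F : Cᵒᵖ ⥤ Type u) {Y Z : Cᵒᵖ} (k : Y ⟶ Z) (t : F.obj Y)
    (r : R.obj Y) :
    (PresheafOfModules.freeObj (R := R ⋙ forget₂ CommRingCat.{u} RingCat.{u}) F).map k
      (Finsupp.single t r : F.obj Y →₀ R.obj Y) =
      (Finsupp.single (F.map k t) (R.map k r) : F.obj Z →₀ R.obj Z) := by
  rw [PresheafOfModules.freeObj_map]
  show (Finsupp.lift _ _ _ _ (Finsupp.single t r)) = _
  rw [Finsupp.lift_apply, Finsupp.sum_single_index]
  · show (R.map k r) • (ModuleCat.freeMk (F.map k t) : F.obj Z →₀ R.obj Z) = _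
    rw [ModuleCat.freeMk, Finsupp.smul_single, smul_eq_mul, mul_one]
  · exact zero_smul _ _

set_option backward.isDefEq.respectTransparency false in
theorem isLocallySurjective_free_map_functorInclusion {X : C} (𝔖 : Sieve X) (h𝔖 : 𝔖 ∈ J X) :
    Presheaf.IsLocallySurjective J ((PresheafOfModules.toPresheaf _).map
      ((PresheafOfModules.free (R ⋙ forget₂ CommRingCat.{u} RingCat.{u})).map
        𝔖.functorInclusion)) := by
  constructor
  intro Y z
  have key : ∀ z : ((Y ⟶ X) →₀ R.obj (op Y)),
      Presheaf.imageSieve ((PresheafOfModules.toPresheaf _).map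
      ((PresheafOfModules.free (R ⋙ forget₂ CommRingCat.{u} RingCat.{u})).map
        𝔖.functorInclusion)) (U := Y) z ∈ J Y := by
    intro z
    refine Finsupp.induction_linear z ?_ ?_ ?_
    · refine J.superset_covering ?_ (J.top_mem Y)
      intro V g _
      exact ⟨0, by rw [map_zero, map_zero]⟩
    · intro z₁ z₂ h₁ h₂
      refine J.superset_covering ?_ (J.intersection_covering h₁ h₂)
      rintro V g ⟨⟨t₁, ht₁⟩, ⟨t₂, ht₂⟩⟩
      exact ⟨t₁ + t₂, by rw [map_add, map_add, ht₁, ht₂]⟩
    · intro t r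
      refine J.superset_covering ?_ (J.pullback_stable t h𝔖)
      intro Z k hk
      refine ⟨(Finsupp.single (⟨k ≫ t, hk⟩ : 𝔖.functor.obj (op Z)) (R.map k.op r) :
        𝔖.functor.obj (op Z) →₀ R.obj (op Z)), ?_⟩
      have h2 := freeObj_map_single R (yoneda.obj X) k.op t r
      refine Eq.trans ?_ h2.symm
      exact Finsupp.mapDomain_single
  exact key z

section Assembly

variable (O : Sheaf J CommRingCat.{u})

/-- the right adjoint of sheafification, with values in modules over `O.obj ⋙ forget₂` -/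
noncomputable abbrev GrF : ModSite.Mod O ⥤ PM O.obj :=
  (SheafOfModules.forget (ModSite.ringSh O) ⋙
    PresheafOfModules.restrictScalars (𝟙 (ModSite.ringSh O).obj) :
    ModSite.Mod O ⥤ PresheafOfModules.{u} (ModSite.ringSh O).obj)

/-- sheafification -/
noncomputable abbrev aF : PM O.obj ⥤ ModSite.Mod O := ModSite.sheafify O

/-- the sheafification adjunction -/
noncomputable def sadj : aF O ⊣ GrF O :=
  PresheafOfModules.sheafificationAdjunction.{u} (𝟙 (ModSite.ringSh O).obj)

theorem bijective_precomp_of_locallyBijective {A B : PM O.obj} (g : A ⟶ B)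
    [Presheaf.IsLocallyInjective J ((PresheafOfModules.toPresheaf _).map g)]
    [Presheaf.IsLocallySurjective J ((PresheafOfModules.toPresheaf _).map g)]
    (S : ModSite.Mod O) :
    Function.Bijective (fun ψ : B ⟶ (GrF O).obj S => g ≫ ψ) := by
  have hW : J.W ((PresheafOfModules.toPresheaf _).map g) := J.W_of_isLocallyBijective _
  have h1 : IsIso ((presheafToSheaf J AddCommGrpCat.{u}).map
      ((PresheafOfModules.toPresheaf _).map g)) := (J.W_iff _).mp hW
  have h2 : IsIso ((SheafOfModules.toSheaf _).map ((aF O).map g)) :=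
    (NatIso.isIso_map_iff (PresheafOfModules.sheafificationCompToSheaf.{u}
      (𝟙 (ModSite.ringSh O).obj)) g).mpr h1
  have h3 : IsIso ((aF O).map g) := isIso_of_reflects_iso _ (SheafOfModules.toSheaf _)
  have hnat : ∀ ψ : B ⟶ (GrF O).obj S, g ≫ ψ =
      ((sadj O).homEquiv A S) (((aF O).map g) ≫ ((sadj O).homEquiv B S).symm ψ) := by
    intro ψ
    rw [Adjunction.homEquiv_naturality_left, Equiv.apply_symm_apply]
  constructor
  · intro ψ₁ ψ₂ h
    have h' : g ≫ ψ₁ = g ≫ ψ₂ := h
    rw [hnat ψ₁, hnat ψ₂] at h'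
    have h4 := ((sadj O).homEquiv A S).injective h'
    have h5 := (cancel_epi ((aF O).map g)).mp h4
    exact ((sadj O).homEquiv B S).symm.injective h5
  · intro χ
    refine ⟨((sadj O).homEquiv B S) (inv ((aF O).map g) ≫ ((sadj O).homEquiv A S).symm χ), ?_⟩
    show g ≫ _ = χ
    rw [hnat, Equiv.symm_apply_apply, IsIso.hom_inv_id_assoc, Equiv.apply_symm_apply]


set_option backward.isDefEq.respectTransparency false in
theorem isLocallyInjective_free_map_whiskerRight {X : C} (𝔖 : Sieve X) (N' : PM O.obj) :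
    Presheaf.IsLocallyInjective J ((PresheafOfModules.toPresheaf _).map
      (((PresheafOfModules.free (O.obj ⋙ forget₂ CommRingCat.{u} RingCat.{u})).map
        𝔖.functorInclusion) ▷ N')) := by
  apply Presheaf.isLocallyInjective_of_injective
  intro Y
  obtain ⟨r, hr⟩ := free_map_splitMono (S := O.obj.obj Y) (𝔖.functorInclusion.app Y)
    (by
      intro a b hab
      exact Subtype.ext hab)
  have hsplit : ((ModuleCat.free (O.obj.obj Y)).map (𝔖.functorInclusion.app Y) ▷ N'.obj Y) ≫
      (r ▷ N'.obj Y) = 𝟙 _ := by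
    rw [← MonoidalCategory.comp_whiskerRight, hr, MonoidalCategory.id_whiskerRight]
  have : IsSplitMono ((ModuleCat.free (O.obj.obj Y)).map (𝔖.functorInclusion.app Y) ▷
      N'.obj Y) := ⟨⟨⟨_, hsplit⟩⟩⟩
  have hm : Function.Injective ((ModuleCat.free (O.obj.obj Y)).map
      (𝔖.functorInclusion.app Y) ▷ N'.obj Y) :=
    (ModuleCat.mono_iff_injective _).mp inferInstance
  exact hm

theorem isSheaf_rightAdjoint_obj (N' : PM O.obj) (H : PM O.obj ⥤ PM O.obj)
    (adj : tensorRight N' ⊣ H) (S : ModSite.Mod O) :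
    Presheaf.IsSheaf J (H.obj ((GrF O).obj S)).presheaf := by
  rw [Presheaf.isSheaf_iff_isSheaf_forget J _ (forget AddCommGrpCat.{u}),
    isSheaf_iff_isSheaf_of_type]
  intro X 𝔖 h𝔖
  rw [Presieve.isSheafFor_iff_yonedaSheafCondition]
  intro f
  let M₀ := H.obj ((GrF O).obj S)
  let fadj := PresheafOfModules.freeAdjunction (O.obj ⋙ forget₂ CommRingCat.{u} RingCat.{u})
  let θ : ∀ T : Cᵒᵖ ⥤ Type u, (T ⟶ M₀.presheaf ⋙ forget AddCommGrpCat.{u}) ≃
      ((tensorRight N').obj ((PresheafOfModules.free _).obj T) ⟶ (GrF O).obj S) :=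
    fun T => ((fadj.homEquiv T M₀).symm).trans (adj.homEquiv _ _).symm
  have hθ : ∀ {T T' : Cᵒᵖ ⥤ Type u} (i : T ⟶ T')
      (ψ : T' ⟶ M₀.presheaf ⋙ forget AddCommGrpCat.{u}),
      θ T (i ≫ ψ) = ((PresheafOfModules.free _).map i ▷ N') ≫ θ T' ψ := by
    intro T T' i ψ
    have e1 : (fadj.homEquiv T M₀).symm (i ≫ ψ) =
        (PresheafOfModules.free _).map i ≫ (fadj.homEquiv T' M₀).symm ψ :=
      Adjunction.homEquiv_naturality_left_symm fadj i ψ
    have e2 := Adjunction.homEquiv_naturality_left_symm adj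
      ((PresheafOfModules.free (O.obj ⋙ forget₂ CommRingCat.{u} RingCat.{u})).map i)
      ((fadj.homEquiv T' M₀).symm ψ) (Y := (GrF O).obj S)
    exact (congrArg (adj.homEquiv _ _).symm e1).trans e2
  have := isLocallySurjective_free_map_functorInclusion (J := J) O.obj 𝔖 h𝔖
  have := isLocallySurjective_whiskerRight (J := J) O.obj
    ((PresheafOfModules.free (O.obj ⋙ forget₂ CommRingCat.{u} RingCat.{u})).map
      𝔖.functorInclusion) N'
  have := isLocallyInjective_free_map_whiskerRight (J := J) O 𝔖 N'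
  have hbij := bijective_precomp_of_locallyBijective O
    (((PresheafOfModules.free (O.obj ⋙ forget₂ CommRingCat.{u} RingCat.{u})).map
      𝔖.functorInclusion) ▷ N') S
  obtain ⟨χ, hχ⟩ := hbij.surjective (θ _ f)
  have hχ' : ((PresheafOfModules.free (O.obj ⋙ forget₂ CommRingCat.{u} RingCat.{u})).map
      𝔖.functorInclusion ▷ N') ≫ χ = θ _ f := hχ
  refine ⟨(θ _).symm χ, ?_, ?_⟩
  · apply (θ _).injective
    rw [hθ, Equiv.apply_symm_apply]
    exact hχ'
  · intro g' hg'
    apply (θ _).injective
    rw [Equiv.apply_symm_apply]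
    apply hbij.injective
    show _ ≫ θ _ g' = _ ≫ χ
    rw [← hθ, hg', hχ']


theorem hasSheafHom (N : ModSite.Mod O) : ModSite.HasSheafHom N := by
  let N' : PM O.obj := N.val
  have hL : (tensorRight N').IsLeftAdjoint := tensorRight_isLeftAdjoint O.obj N'
  let H : PM O.obj ⥤ PM O.obj := (tensorRight N').rightAdjoint
  let adj : tensorRight N' ⊣ H := Adjunction.ofIsLeftAdjoint (tensorRight N')
  let G_obj : ModSite.Mod O → ModSite.Mod O := fun S =>
    { val := H.obj ((GrF O).obj S)
      isSheaf := isSheaf_rightAdjoint_obj O N' H adj S }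
  let e : ∀ (M S : ModSite.Mod O),
      ((((ModSite.tensorBi O).flip.obj N).obj M) ⟶ S) ≃ (M ⟶ G_obj S) := fun M S =>
    (((sadj O).homEquiv ((M.val : PM O.obj) ⊗ N') S).trans
      (adj.homEquiv (M.val : PM O.obj) ((GrF O).obj S))).trans
      { toFun := fun f => ⟨f⟩
        invFun := fun f => f.val
        left_inv := fun _ => rfl
        right_inv := fun _ => rfl }
  have he : ∀ (M' M S : ModSite.Mod O) (f : M' ⟶ M)
      (g : (((ModSite.tensorBi O).flip.obj N).obj M) ⟶ S),
      e M' S (((ModSite.tensorBi O).flip.obj N).map f ≫ g) = f ≫ e M S g := by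
    intro M' M S f g
    apply SheafOfModules.hom_ext
    let MV' : PM O.obj := M'.val
    let MV : PM O.obj := M.val
    let fv : MV' ⟶ MV := f.val
    have h1 : (sadj O).homEquiv (MV' ⊗ N') S
        (((ModSite.tensorBi O).flip.obj N).map f ≫ g) =
        (fv ▷ N') ≫ (sadj O).homEquiv (MV ⊗ N') S g :=
      Adjunction.homEquiv_naturality_left (sadj O) (fv ▷ N') g
    have h2 := Adjunction.homEquiv_naturality_left adj fv
      ((sadj O).homEquiv (MV ⊗ N') S g)
    exact (congrArg (adj.homEquiv MV' ((GrF O).obj S)) h1).trans h2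
  exact (Adjunction.adjunctionOfEquivRight e he).isLeftAdjoint


theorem isIso_sheafify_map_of_bijective {A B : PM O.obj} (g : A ⟶ B)
    (h : ∀ S : ModSite.Mod O, Function.Bijective (fun ψ : B ⟶ (GrF O).obj S => g ≫ ψ)) :
    IsIso ((aF O).map g) := by
  rw [isIso_iff_coyoneda_map_bijective]
  intro S
  have h0 : (fun x : (aF O).obj B ⟶ S => (aF O).map g ≫ x) =
      ((sadj O).homEquiv A S).symm ∘ (fun ψ => g ≫ ψ) ∘ ((sadj O).homEquiv B S) := by
    funext x
    simp only [Function.comp]
    rw [← Adjunction.homEquiv_naturality_left, Equiv.symm_apply_apply]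
  rw [h0]
  exact ((sadj O).homEquiv A S).symm.bijective.comp
    ((h S).comp ((sadj O).homEquiv B S).bijective)

theorem isIso_sheafify_whiskerRight_unit (M N' : PM O.obj) :
    IsIso ((aF O).map (((sadj O).unit.app M) ▷ N')) := by
  apply isIso_sheafify_map_of_bijective
  intro S
  have hL : (tensorRight N').IsLeftAdjoint := tensorRight_isLeftAdjoint O.obj N'
  let H : PM O.obj ⥤ PM O.obj := (tensorRight N').rightAdjoint
  let adj : tensorRight N' ⊣ H := Adjunction.ofIsLeftAdjoint (tensorRight N')
  let S₂ : ModSite.Mod O :=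
    { val := H.obj ((GrF O).obj S)
      isSheaf := isSheaf_rightAdjoint_obj O N' H adj S }
  have hinj : Presheaf.IsLocallyInjective J
      ((PresheafOfModules.toPresheaf _).map ((sadj O).unit.app M)) := by
    show Presheaf.IsLocallyInjective J (CategoryTheory.toSheafify J M.presheaf)
    infer_instance
  have hsurj : Presheaf.IsLocallySurjective J
      ((PresheafOfModules.toPresheaf _).map ((sadj O).unit.app M)) := by
    show Presheaf.IsLocallySurjective J (CategoryTheory.toSheafify J M.presheaf)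
    infer_instance
  have hb : Function.Bijective
      (fun φ : (GrF O).obj ((aF O).obj M) ⟶ (GrF O).obj S₂ => (sadj O).unit.app M ≫ φ) :=
    bijective_precomp_of_locallyBijective O ((sadj O).unit.app M) S₂
  have hb' : Function.Bijective
      (fun φ : (GrF O).obj ((aF O).obj M) ⟶ H.obj ((GrF O).obj S) =>
        (sadj O).unit.app M ≫ φ) := hb
  have h0 : (fun ψ : (GrF O).obj ((aF O).obj M) ⊗ N' ⟶ (GrF O).obj S =>
      (((sadj O).unit.app M) ▷ N') ≫ ψ) =
      (adj.homEquiv _ _).symm ∘ (fun φ => (sadj O).unit.app M ≫ φ) ∘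
        (adj.homEquiv ((GrF O).obj ((aF O).obj M)) ((GrF O).obj S)) := by
    funext ψ
    simp only [Function.comp]
    have h1 := Adjunction.homEquiv_naturality_left adj ((sadj O).unit.app M) ψ
    exact ((adj.homEquiv _ _).symm_apply_apply _).symm.trans
      (congrArg (adj.homEquiv _ _).symm h1)
  show Function.Bijective (fun ψ : (GrF O).obj ((aF O).obj M) ⊗ N' ⟶ (GrF O).obj S =>
      (((sadj O).unit.app M) ▷ N') ≫ ψ)
  rw [h0]
  exact (adj.homEquiv _ _).symm.bijective.comp (hb'.comp (adj.homEquiv _ _).bijective)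

theorem isIso_sheafify_tensorHom_units (M N : PM O.obj) :
    IsIso ((aF O).map (((sadj O).unit.app M) ⊗ₘ ((sadj O).unit.app N))) := by
  have h1 : IsIso ((aF O).map (((sadj O).unit.app M) ▷ N)) :=
    isIso_sheafify_whiskerRight_unit O M N
  have h3 := isIso_sheafify_whiskerRight_unit O N ((GrF O).obj ((aF O).obj M))
  have hbr : ((GrF O).obj ((aF O).obj M)) ◁ ((sadj O).unit.app N) =
      (β_ _ _).hom ≫ (((sadj O).unit.app N) ▷ ((GrF O).obj ((aF O).obj M))) ≫ (β_ _ _).inv := by
    rw [← Category.assoc, ← BraidedCategory.braiding_naturality_right, Category.assoc,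
      Iso.hom_inv_id, Category.comp_id]
  have h2 : IsIso ((aF O).map (((GrF O).obj ((aF O).obj M)) ◁ ((sadj O).unit.app N))) := by
    rw [hbr, Functor.map_comp, Functor.map_comp]
    infer_instance
  rw [MonoidalCategory.tensorHom_def, Functor.map_comp]
  exact @IsIso.comp_isIso _ _ _ _ _ _ _ h1 h2


end Assembly

end Groth.Agent.H10.SheafHomEx
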