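import Groth.Agent.H10.ModFlat
import Groth.Agent.S9110

/-!
# Flatness and short exact sequences (helper10)

* an abstract diagram chase (`mono_of_chase`) and its bifunctor form;
* every presheaf / sheaf of modules is a quotient of a flat one;
* tensoring a short exact sequence with flat right-hand term stays short exact;
* two-out-of-three for flatness in short exact sequences.
-/

set_option autoImplicit false
universe u
open CategoryTheory CategoryTheory.Limits Opposite MonoidalCategory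

namespace Groth.Agent.H10.FlatSeq

section Chase

variable {𝒜 : Type*} [Category 𝒜]

theorem mono_of_sq_left {A B A' B' : 𝒜} (x : A ⟶ B) (y : A' ⟶ B')
    (a : A' ⟶ A) (b : B' ⟶ B) [IsIso a] [Mono y] [Mono b] (h : a ≫ x = y ≫ b) : Mono x := by
  have hx : x = inv a ≫ y ≫ b := by rw [← h, IsIso.inv_hom_id_assoc]
  rw [hx]; infer_instance

theorem mono_of_sq_right {A B A' B' : 𝒜} (x : A ⟶ B) (y : A' ⟶ B')
    (a : A ⟶ A') (b : B ⟶ B') [Mono a] [Mono y] (h : x ≫ b = a ≫ y) : Mono x := by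
  haveI : Mono (x ≫ b) := by rw [h]; infer_instance
  exact mono_of_mono x b

variable [Abelian 𝒜]

theorem mono_of_chase {AK BK CK AP BP CP AG BG : 𝒜}
    (fK : AK ⟶ BK) (gK : BK ⟶ CK) (fP : AP ⟶ BP) (gP : BP ⟶ CP) (fG : AG ⟶ BG)
    (aK : AK ⟶ AP) (aπ : AP ⟶ AG) (bK : BK ⟶ BP) (bπ : BP ⟶ BG) (cK : CK ⟶ CP)
    (c1 : fK ≫ bK = aK ≫ fP) (c2 : gK ≫ cK = bK ≫ gP) (c3 : fP ≫ bπ = aπ ≫ fG)
    (z1 : fP ≫ gP = 0) (z2 : aK ≫ aπ = 0) (wK : fK ≫ gK = 0) (wb : bK ≫ bπ = 0)
    (eK : (ShortComplex.mk fK gK wK).Exact) (eb : (ShortComplex.mk bK bπ wb).Exact)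
    [Epi aπ] [Mono cK] [Mono fP] : Mono fG := by
  apply Preadditive.mono_of_cancel_zero
  intro Z x hx
  obtain ⟨Z₁, e₁, he₁, x₁, hx₁⟩ := surjective_up_to_refinements_of_epi aπ x
  have h2 : (x₁ ≫ fP) ≫ bπ = 0 := by
    calc (x₁ ≫ fP) ≫ bπ = x₁ ≫ (fP ≫ bπ) := Category.assoc _ _ _
      _ = x₁ ≫ (aπ ≫ fG) := by rw [c3]
      _ = (x₁ ≫ aπ) ≫ fG := (Category.assoc _ _ _).symm
      _ = (e₁ ≫ x) ≫ fG := by rw [hx₁]
      _ = e₁ ≫ (x ≫ fG) := Category.assoc _ _ _
      _ = 0 := by rw [hx, comp_zero]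
  obtain ⟨Z₂, e₂, he₂, y, hy0⟩ := eb.exact_up_to_refinements (x₁ ≫ fP) h2
  have hy : e₂ ≫ x₁ ≫ fP = y ≫ bK := hy0
  have h3 : y ≫ gK = 0 := by
    have : (y ≫ gK) ≫ cK = 0 ≫ cK := by
      calc (y ≫ gK) ≫ cK = y ≫ (gK ≫ cK) := Category.assoc _ _ _
        _ = y ≫ (bK ≫ gP) := by rw [c2]
        _ = (y ≫ bK) ≫ gP := (Category.assoc _ _ _).symm
        _ = (e₂ ≫ x₁ ≫ fP) ≫ gP := by rw [hy]
        _ = e₂ ≫ x₁ ≫ (fP ≫ gP) := by simp only [Category.assoc]
        _ = 0 ≫ cK := by rw [z1, comp_zero, comp_zero, zero_comp]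
    exact (cancel_mono cK).mp this
  obtain ⟨Z₃, e₃, he₃, z, hz0⟩ := eK.exact_up_to_refinements y h3
  have hz : e₃ ≫ y = z ≫ fK := hz0
  have h4 : z ≫ aK = e₃ ≫ e₂ ≫ x₁ := by
    have : (z ≫ aK) ≫ fP = (e₃ ≫ e₂ ≫ x₁) ≫ fP := by
      calc (z ≫ aK) ≫ fP = z ≫ (aK ≫ fP) := Category.assoc _ _ _
        _ = z ≫ (fK ≫ bK) := by rw [c1]
        _ = (z ≫ fK) ≫ bK := (Category.assoc _ _ _).symm
        _ = (e₃ ≫ y) ≫ bK := by rw [hz]
        _ = e₃ ≫ (y ≫ bK) := Category.assoc _ _ _
        _ = e₃ ≫ (e₂ ≫ x₁ ≫ fP) := by rw [hy]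
        _ = (e₃ ≫ e₂ ≫ x₁) ≫ fP := by simp only [Category.assoc]
    exact (cancel_mono fP).mp this
  have h5 : (e₃ ≫ e₂ ≫ e₁) ≫ x = 0 := by
    calc (e₃ ≫ e₂ ≫ e₁) ≫ x = e₃ ≫ e₂ ≫ (e₁ ≫ x) := by simp only [Category.assoc]
      _ = e₃ ≫ e₂ ≫ (x₁ ≫ aπ) := by rw [hx₁]
      _ = (e₃ ≫ e₂ ≫ x₁) ≫ aπ := by simp only [Category.assoc]
      _ = (z ≫ aK) ≫ aπ := by rw [h4]
      _ = 0 := by rw [Category.assoc, z2, comp_zero]
  haveI : Epi (e₃ ≫ e₂ ≫ e₁) := by
    haveI := he₁
    haveI := he₂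
    haveI := he₃
    infer_instance
  exact (cancel_epi (e₃ ≫ e₂ ≫ e₁)).mp (h5.trans comp_zero.symm)

theorem mono_app_of_flat_resolution (Bi : 𝒜 ⥤ 𝒜 ⥤ 𝒜)
    [∀ X, (Bi.obj X).Additive] [∀ X, PreservesFiniteColimits (Bi.obj X)]
    [∀ Y, (Bi.flip.obj Y).Additive] [∀ Y, PreservesFiniteColimits (Bi.flip.obj Y)]
    (S : ShortComplex 𝒜) (hS : S.ShortExact) (hC : (Bi.obj S.X₃).PreservesMonomorphisms)
    {P G : 𝒜} (π : P ⟶ G) [Epi π] (hP : (Bi.flip.obj P).PreservesMonomorphisms) :
    Mono ((Bi.map S.f).app G) := by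
  haveI := hC
  haveI := hP
  haveI := hS.mono_f
  let R : ShortComplex 𝒜 := ShortComplex.kernelSequence π
  have hR : R.ShortExact :=
    ShortComplex.ShortExact.mk' (ShortComplex.kernelSequence_exact π) inferInstance
      (inferInstanceAs (Epi π))
  have pK : PreservesFiniteColimits (Bi.flip.obj (kernel π)) := inferInstance
  have pB : PreservesFiniteColimits (Bi.obj S.X₂) := inferInstance
  have pA : PreservesFiniteColimits (Bi.obj S.X₁) := inferInstance
  have rK0 := ((Functor.preservesFiniteColimits_tfae (Bi.flip.obj (kernel π))).out 3 0).mp pK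
  have rB0 := ((Functor.preservesFiniteColimits_tfae (Bi.obj S.X₂)).out 3 0).mp pB
  have rA0 := ((Functor.preservesFiniteColimits_tfae (Bi.obj S.X₁)).out 3 0).mp pA
  have rK := rK0 S hS
  have rB := rB0 R hR
  have rA := rA0 R hR
  have z1 : (Bi.map S.f).app P ≫ (Bi.map S.g).app P = 0 := by
    have : (Bi.flip.obj P).map S.f ≫ (Bi.flip.obj P).map S.g = 0 := by
      rw [← Functor.map_comp, S.zero, Functor.map_zero]
    exact this
  have z2 : (Bi.obj S.X₁).map (kernel.ι π) ≫ (Bi.obj S.X₁).map π = 0 := by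
    rw [← Functor.map_comp, kernel.condition, Functor.map_zero]
  haveI : Epi ((Bi.obj S.X₁).map π) := rA.2
  haveI : Mono ((Bi.obj S.X₃).map (kernel.ι π)) := inferInstance
  haveI : Mono ((Bi.map S.f).app P) := inferInstanceAs (Mono ((Bi.flip.obj P).map S.f))
  exact mono_of_chase ((Bi.map S.f).app (kernel π)) ((Bi.map S.g).app (kernel π))
    ((Bi.map S.f).app P) ((Bi.map S.g).app P) ((Bi.map S.f).app G)
    ((Bi.obj S.X₁).map (kernel.ι π)) ((Bi.obj S.X₁).map π)
    ((Bi.obj S.X₂).map (kernel.ι π)) ((Bi.obj S.X₂).map π)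
    ((Bi.obj S.X₃).map (kernel.ι π))
    ((Bi.map S.f).naturality (kernel.ι π)).symm ((Bi.map S.g).naturality (kernel.ι π)).symm
    ((Bi.map S.f).naturality π).symm z1 z2
    (S.map (Bi.flip.obj (kernel π))).zero (R.map (Bi.obj S.X₂)).zero rK.1 rB.1

theorem shortExact_map_flip (Bi : 𝒜 ⥤ 𝒜 ⥤ 𝒜)
    [∀ X, (Bi.obj X).Additive] [∀ X, PreservesFiniteColimits (Bi.obj X)]
    [∀ Y, (Bi.flip.obj Y).Additive] [∀ Y, PreservesFiniteColimits (Bi.flip.obj Y)]
    (S : ShortComplex 𝒜) (hS : S.ShortExact) (hC : (Bi.obj S.X₃).PreservesMonomorphisms)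
    {P G : 𝒜} (π : P ⟶ G) [Epi π] (hP : (Bi.flip.obj P).PreservesMonomorphisms)
    [(Bi.flip.obj G).PreservesZeroMorphisms] :
    (S.map (Bi.flip.obj G)).ShortExact := by
  have pG : PreservesFiniteColimits (Bi.flip.obj G) := inferInstance
  have r0 := ((Functor.preservesFiniteColimits_tfae (Bi.flip.obj G)).out 3 0).mp pG
  have r := r0 S hS
  have hm : Mono ((Bi.map S.f).app G) := mono_app_of_flat_resolution Bi S hS hC π hP
  exact ShortComplex.ShortExact.mk' r.1 hm r.2

end Chase

section PM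

variable {C : Type u} [SmallCategory C] (O : Cᵒᵖ ⥤ CommRingCat.{u})

open Groth.Agent.H10.SheafHomEx

theorem pm_tensorRight_additive (F : PM O) : (tensorRight F).Additive := by
  haveI := tensorRight_isLeftAdjoint O F
  haveI : PreservesBinaryBiproducts (tensorRight F) :=
    preservesBinaryBiproducts_of_preservesBinaryCoproducts _
  exact Functor.additive_of_preservesBinaryBiproducts _

theorem pm_tensorRight_pfc (F : PM O) : PreservesFiniteColimits (tensorRight F) := by
  haveI := tensorRight_isLeftAdjoint O F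
  infer_instance

theorem pm_tensorLeft_pfc (F : PM O) : PreservesFiniteColimits (tensorLeft F) := by
  haveI := pm_tensorRight_pfc O F
  exact preservesFiniteColimits_of_natIso (BraidedCategory.tensorLeftIsoTensorRight F).symm

theorem pm_tensorLeft_additive (F : PM O) : (tensorLeft F).Additive := by
  haveI := pm_tensorRight_additive O F
  exact Functor.additive_of_iso (BraidedCategory.tensorLeftIsoTensorRight F).symm

set_option backward.isDefEq.respectTransparency false in
theorem flat_freeObj (T : Cᵒᵖ ⥤ Type u) (X : Cᵒᵖ) :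
    Module.Flat (O.obj X)
      ((PresheafOfModules.freeObj (R := O ⋙ forget₂ CommRingCat.{u} RingCat.{u}) T).obj X) := by
  show Module.Flat (O.obj X) (T.obj X →₀ O.obj X)
  infer_instance

theorem epi_free_counit (G : PM O) :
    Epi ((PresheafOfModules.freeAdjunction
      (O ⋙ forget₂ CommRingCat.{u} RingCat.{u})).counit.app G) :=
  inferInstance

theorem pm_shortExact_tensorRight (S : ShortComplex (PM O)) (hS : S.ShortExact)
    (hF : (tensorRight S.X₃).PreservesMonomorphisms) (G : PM O)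
    [(tensorRight G).PreservesZeroMorphisms] : (S.map (tensorRight G)).ShortExact := by
  haveI : ∀ X : PM O, ((curriedTensor (PM O)).obj X).Additive :=
    fun X => pm_tensorLeft_additive O X
  haveI : ∀ X : PM O, PreservesFiniteColimits ((curriedTensor (PM O)).obj X) :=
    fun X => pm_tensorLeft_pfc O X
  haveI : ∀ Y : PM O, ((curriedTensor (PM O)).flip.obj Y).Additive :=
    fun Y => pm_tensorRight_additive O Y
  haveI : ∀ Y : PM O, PreservesFiniteColimits ((curriedTensor (PM O)).flip.obj Y) :=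
    fun Y => pm_tensorRight_pfc O Y
  let P : PM O := (PresheafOfModules.free _).obj (G.presheaf ⋙ forget AddCommGrpCat)
  let π : P ⟶ G := (PresheafOfModules.freeAdjunction _).counit.app G
  haveI : Epi π := epi_free_counit O G
  have hP : (tensorRight P).PreservesMonomorphisms := by
    have h := (Groth.Agent.S9110.result O P (fun X => flat_freeObj O _ X)).1
    haveI := h
    infer_instance
  have hC : (tensorLeft S.X₃).PreservesMonomorphisms := by
    haveI := hF
    exact Functor.PreservesMonomorphisms.of_iso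
      (BraidedCategory.tensorLeftIsoTensorRight S.X₃).symm
  exact shortExact_map_flip (curriedTensor (PM O)) S hS hC π hP

end PM

section Sheaf

variable {C : Type u} [SmallCategory C] {J : GrothendieckTopology C}
  (O : Sheaf J CommRingCat.{u})

open Groth.Agent.H10.SheafHomEx Groth.Agent.H10.ModFlat

theorem isIso_sheafify_whiskerLeft_unit (Q A : PM O.obj) :
    IsIso ((aF O).map (A ◁ ((sadj O).unit.app Q))) := by
  have h3 := isIso_sheafify_whiskerRight_unit O Q A
  have hbr : A ◁ ((sadj O).unit.app Q) =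
      (β_ _ _).hom ≫ (((sadj O).unit.app Q) ▷ A) ≫ (β_ _ _).inv := by
    rw [← Category.assoc, ← BraidedCategory.braiding_naturality_right, Category.assoc,
      Iso.hom_inv_id, Category.comp_id]
  rw [hbr, Functor.map_comp, Functor.map_comp]
  infer_instance

theorem isFlat_sheafify_of_flat_sections (Q : PM O.obj)
    (hQ : ∀ X : Cᵒᵖ, Module.Flat (O.obj.obj X) (Q.obj X)) :
    ModSite.IsFlat ((aF O).obj Q) := by
  rw [isFlat_iff]
  constructor
  intro M' M m hm
  let MV' : PM O.obj := M'.val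
  let MV : PM O.obj := M.val
  let mv : MV' ⟶ MV := m.val
  let QV : PM O.obj := (GrF O).obj ((aF O).obj Q)
  let η : Q ⟶ QV := (sadj O).unit.app Q
  have hmv : Mono mv := by
    haveI : (GrF O).IsRightAdjoint := (sadj O).isRightAdjoint
    exact inferInstanceAs (Mono ((GrF O).map m))
  have hQ' := (Groth.Agent.S9110.result O.obj Q hQ).1
  have h1 : Mono (mv ▷ Q) := by
    haveI := hQ'
    haveI := hmv
    exact inferInstanceAs (Mono ((tensorRight Q).map mv))
  have h2 : Mono ((aF O).map (mv ▷ Q)) := by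
    haveI := h1
    haveI : PreservesFiniteLimits (aF O) :=
      inferInstanceAs (PreservesFiniteLimits
        (PresheafOfModules.sheafification.{u} (𝟙 (ModSite.ringSh O).obj)))
    infer_instance
  have e : (aF O).map (MV' ◁ η) ≫ (aF O).map (mv ▷ QV) =
      (aF O).map (mv ▷ Q) ≫ (aF O).map (MV ◁ η) := by
    rw [← Functor.map_comp, ← Functor.map_comp, MonoidalCategory.whisker_exchange]
  haveI := isIso_sheafify_whiskerLeft_unit O Q MV'
  haveI := isIso_sheafify_whiskerLeft_unit O Q MV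
  haveI := h2
  have h4 : Mono ((aF O).map (mv ▷ QV)) := mono_of_sq_left _ _ _ _ e
  exact h4

theorem exists_flat_epi (F : ModSite.Mod O) :
    ∃ (G : ModSite.Mod O) (π : G ⟶ F), ModSite.IsFlat G ∧ Epi π := by
  let FV : PM O.obj := (GrF O).obj F
  let T : Cᵒᵖ ⥤ Type u := FV.presheaf ⋙ forget AddCommGrpCat
  let Q : PM O.obj := (PresheafOfModules.free _).obj T
  let ε : Q ⟶ FV := (PresheafOfModules.freeAdjunction _).counit.app FV
  haveI : Epi ε := epi_free_counit O.obj FV
  refine ⟨(aF O).obj Q, ((sadj O).homEquiv Q F).symm ε,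
    isFlat_sheafify_of_flat_sections O Q (fun X => flat_freeObj O.obj T X), ?_⟩
  constructor
  intro H f g hfg
  have e1 := Adjunction.homEquiv_naturality_right (sadj O) (((sadj O).homEquiv Q F).symm ε) f
  have e2 := Adjunction.homEquiv_naturality_right (sadj O) (((sadj O).homEquiv Q F).symm ε) g
  rw [Equiv.apply_symm_apply] at e1 e2
  have h1 : ε ≫ (GrF O).map f = ε ≫ (GrF O).map g := by
    rw [← e1, ← e2, hfg]
  have h2 : (GrF O).map f = (GrF O).map g := (cancel_epi ε).mp h1
  haveI : IsIso (sadj O).counit :=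
    inferInstanceAs (IsIso (PresheafOfModules.sheafificationAdjunction.{u}
      (𝟙 (ModSite.ringSh O).obj)).counit)
  exact (sadj O).fullyFaithfulROfIsIsoCounit.map_injective h2

theorem tensorBi_obj_additive (M : ModSite.Mod O) : ((ModSite.tensorBi O).obj M).Additive := by
  haveI := T_additive O M
  exact Functor.additive_of_iso (sigma O M).symm

theorem T_pfc (M : ModSite.Mod O) : PreservesFiniteColimits (T O M) := by
  haveI := T_isLeftAdjoint O M
  infer_instance

theorem tensorBi_obj_pfc (M : ModSite.Mod O) :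
    PreservesFiniteColimits ((ModSite.tensorBi O).obj M) := by
  haveI := T_pfc O M
  exact preservesFiniteColimits_of_natIso (sigma O M).symm

theorem tensorBi_obj_preservesMono_of_isFlat (M : ModSite.Mod O) (h : ModSite.IsFlat M) :
    ((ModSite.tensorBi O).obj M).PreservesMonomorphisms := by
  haveI := (isFlat_iff O M).mp h
  exact Functor.PreservesMonomorphisms.of_iso (sigma O M).symm

theorem shortExact_tensor_right (S : ShortComplex (ModSite.Mod O)) (hS : S.ShortExact)
    (hF : ModSite.IsFlat S.X₃) (G : ModSite.Mod O)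
    [((ModSite.tensorBi O).flip.obj G).PreservesZeroMorphisms] :
    (S.map ((ModSite.tensorBi O).flip.obj G)).ShortExact := by
  haveI : ∀ X, ((ModSite.tensorBi O).obj X).Additive := fun X => tensorBi_obj_additive O X
  haveI : ∀ X, PreservesFiniteColimits ((ModSite.tensorBi O).obj X) :=
    fun X => tensorBi_obj_pfc O X
  haveI : ∀ Y, ((ModSite.tensorBi O).flip.obj Y).Additive := fun Y => T_additive O Y
  haveI : ∀ Y, PreservesFiniteColimits ((ModSite.tensorBi O).flip.obj Y) := fun Y => T_pfc O Y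
  obtain ⟨P, π, hP, hπ⟩ := exists_flat_epi O G
  haveI := hπ
  exact shortExact_map_flip (ModSite.tensorBi O) S hS
    (tensorBi_obj_preservesMono_of_isFlat O _ hF) π ((isFlat_iff O P).mp hP)

theorem shortExact_tensor_left (S : ShortComplex (ModSite.Mod O)) (hS : S.ShortExact)
    (hF : ModSite.IsFlat S.X₃) (M : ModSite.Mod O)
    [((ModSite.tensorBi O).obj M).PreservesZeroMorphisms] :
    (S.map ((ModSite.tensorBi O).obj M)).ShortExact := by
  haveI : ∀ X, ((ModSite.tensorBi O).flip.obj X).Additive := fun X => T_additive O X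
  haveI : ∀ X, PreservesFiniteColimits ((ModSite.tensorBi O).flip.obj X) := fun X => T_pfc O X
  haveI : ∀ Y, ((ModSite.tensorBi O).flip.flip.obj Y).Additive :=
    fun Y => tensorBi_obj_additive O Y
  haveI : ∀ Y, PreservesFiniteColimits ((ModSite.tensorBi O).flip.flip.obj Y) :=
    fun Y => tensorBi_obj_pfc O Y
  obtain ⟨P, π, hP, hπ⟩ := exists_flat_epi O M
  haveI := hπ
  exact shortExact_map_flip (ModSite.tensorBi O).flip S hS ((isFlat_iff O _).mp hF) π
    (tensorBi_obj_preservesMono_of_isFlat O P hP)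

theorem isFlat_mid (S : ShortComplex (ModSite.Mod O)) (hS : S.ShortExact)
    (h₂ : ModSite.IsFlat S.X₁) (h₀ : ModSite.IsFlat S.X₃) : ModSite.IsFlat S.X₂ := by
  rw [isFlat_iff]
  constructor
  intro M' M m hm
  haveI : ∀ X, ((ModSite.tensorBi O).obj X).PreservesZeroMorphisms := fun X => by
    haveI := tensorBi_obj_additive O X
    infer_instance
  have e' := shortExact_tensor_left O S hS h₀ M'
  have e := shortExact_tensor_left O S hS h₀ M
  let φ : S.map ((ModSite.tensorBi O).obj M') ⟶ S.map ((ModSite.tensorBi O).obj M) :=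
    S.mapNatTrans ((ModSite.tensorBi O).map m)
  haveI : Mono (S.map ((ModSite.tensorBi O).obj M')).f := e'.mono_f
  haveI : Mono (S.map ((ModSite.tensorBi O).obj M)).f := e.mono_f
  haveI : Mono φ.τ₁ := by
    haveI := (isFlat_iff O _).mp h₂
    exact inferInstanceAs (Mono ((T O S.X₁).map m))
  haveI : Mono φ.τ₃ := by
    haveI := (isFlat_iff O _).mp h₀
    exact inferInstanceAs (Mono ((T O S.X₃).map m))
  exact ShortComplex.mono_τ₂_of_exact_of_mono φ e'.exact

theorem isFlat_left (S : ShortComplex (ModSite.Mod O)) (hS : S.ShortExact)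
    (h₁ : ModSite.IsFlat S.X₂) (h₀ : ModSite.IsFlat S.X₃) : ModSite.IsFlat S.X₁ := by
  rw [isFlat_iff]
  constructor
  intro M' M m hm
  haveI : ∀ X, ((ModSite.tensorBi O).obj X).PreservesZeroMorphisms := fun X => by
    haveI := tensorBi_obj_additive O X
    infer_instance
  have e' := shortExact_tensor_left O S hS h₀ M'
  haveI : Mono (((ModSite.tensorBi O).obj M').map S.f) := e'.mono_f
  haveI : Mono ((T O S.X₂).map m) := by
    haveI := (isFlat_iff O _).mp h₁
    infer_instance
  have sq : (T O S.X₁).map m ≫ ((ModSite.tensorBi O).obj M).map S.f =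
      ((ModSite.tensorBi O).obj M').map S.f ≫ (T O S.X₂).map m :=
    (((ModSite.tensorBi O).map m).naturality S.f).symm
  exact mono_of_sq_right _ _ _ _ sq

end Sheaf

end Groth.Agent.H10.FlatSeq
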