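import Mathlib
import Groth.Prelude.Def_ModSite

set_option autoImplicit false
universe u
open CategoryTheory CategoryTheory.Limits Opposite

namespace Groth.Agent.H10.FreeOn

variable {C : Type u} [SmallCategory C] {J : GrothendieckTopology C}
  (O : Sheaf J CommRingCat.{u}) (U : C)

/-- the value at the terminal object of `Over U` of the section attached to `h` -/
noncomputable def ev (F : ModSite.Mod O) (h : ModSite.freeOn O U ⟶ F) : ModSite.sect F U :=
  (SheafOfModules.unitHomEquiv ((ModSite.restr O U).obj F)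
    ((ModSite.extZeroAdj O U).homEquiv _ F h)).val (op (Over.mk (𝟙 U)))

theorem ev_comp {F F' : ModSite.Mod O} (h : ModSite.freeOn O U ⟶ F) (φ : F ⟶ F') :
    ev O U F' (h ≫ φ) = φ.val.app (op U) (ev O U F h) := by
  unfold ev
  rw [Adjunction.homEquiv_naturality_right, SheafOfModules.unitHomEquiv_comp_apply]
  rfl

theorem ev_surjective (F : ModSite.Mod O) : Function.Surjective (ev O U F) := by
  intro s
  let M := ((ModSite.restr O U).obj F)
  let P : Cᵒᵖ ⥤ Type u := F.val.presheaf ⋙ forget AddCommGrpCat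
  let s' : P.obj (op U) := s
  let T : (Over U)ᵒᵖ ⥤ Type u := (Over.forget U).op ⋙ P
  have hcompat : ∀ ⦃Y Y' : (Over U)ᵒᵖ⦄ (g : Y ⟶ Y'),
      T.map g (P.map Y.unop.hom.op s') = P.map Y'.unop.hom.op s' := by
    intro Y Y' g
    have h1 := FunctorToTypes.map_comp_apply P Y.unop.hom.op (g.unop.left).op s'
    have h2 : Y.unop.hom.op ≫ (g.unop.left).op = Y'.unop.hom.op := by
      rw [← op_comp, Over.w]
    rw [h2] at h1
    exact h1.symm
  let sec0 : T.sections :=
    ⟨fun Y => P.map Y.unop.hom.op s', fun {Y Y'} g => hcompat g⟩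
  let sec : M.sections := sec0
  refine ⟨((ModSite.extZeroAdj O U).homEquiv _ F).symm
    ((SheafOfModules.unitHomEquiv M).symm sec), ?_⟩
  unfold ev
  rw [Equiv.apply_symm_apply, Equiv.apply_symm_apply]
  exact FunctorToTypes.map_id_apply P s'

theorem ev_injective (F : ModSite.Mod O) : Function.Injective (ev O U F) := by
  intro h h' hh
  apply ((ModSite.extZeroAdj O U).homEquiv _ F).injective
  apply (SheafOfModules.unitHomEquiv ((ModSite.restr O U).obj F)).injective
  apply PresheafOfModules.sections_ext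
  intro Y
  rcases Y with ⟨Y0⟩
  have e := PresheafOfModules.sections_property
    ((SheafOfModules.unitHomEquiv ((ModSite.restr O U).obj F))
      ((ModSite.extZeroAdj O U).homEquiv _ F h))
    (X := op (Over.mk (𝟙 U))) (Y := op Y0) (Over.homMk Y0.hom).op
  have e' := PresheafOfModules.sections_property
    ((SheafOfModules.unitHomEquiv ((ModSite.restr O U).obj F))
      ((ModSite.extZeroAdj O U).homEquiv _ F h'))
    (X := op (Over.mk (𝟙 U))) (Y := op Y0) (Over.homMk Y0.hom).op
  have hh' : ((SheafOfModules.unitHomEquiv ((ModSite.restr O U).obj F))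
      ((ModSite.extZeroAdj O U).homEquiv _ F h)).val (op (Over.mk (𝟙 U))) =
      ((SheafOfModules.unitHomEquiv ((ModSite.restr O U).obj F))
      ((ModSite.extZeroAdj O U).homEquiv _ F h')).val (op (Over.mk (𝟙 U))) := hh
  rw [← e, ← e', hh']

theorem ev_bijective (F : ModSite.Mod O) : Function.Bijective (ev O U F) :=
  ⟨ev_injective O U F, ev_surjective O U F⟩

theorem freeOn_isSeparating (G : Set C)
    (hG : ∀ X : C, ∃ (ι : Type u) (Y : ι → C) (f : ∀ i, Y i ⟶ X),
      Sieve.ofArrows Y f ∈ J X ∧ ∀ i, Y i ∈ G) :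
    (ObjectProperty.ofObj fun X : G => ModSite.freeOn O (X : C)).IsSeparating := by
  intro F F' f g hfg
  have h1 : ∀ (X : C), X ∈ G → ∀ s : ModSite.sect F X,
      f.val.app (op X) s = g.val.app (op X) s := by
    intro X hX s
    obtain ⟨h, rfl⟩ := ev_surjective O X F s
    rw [← ev_comp, ← ev_comp,
      hfg _ (ObjectProperty.ofObj_apply (fun X : G => ModSite.freeOn O (X : C)) ⟨X, hX⟩) h]
  apply SheafOfModules.hom_ext
  apply PresheafOfModules.hom_ext
  intro Y
  rcases Y with ⟨Y0⟩
  apply ModuleCat.hom_ext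
  apply LinearMap.ext
  intro s
  obtain ⟨ι, Z, k, hk, hZ⟩ := hG Y0
  let P' : Cᵒᵖ ⥤ Type u := F'.val.presheaf ⋙ forget AddCommGrpCat
  have hsh : Presieve.IsSheaf J P' := (isSheaf_iff_isSheaf_of_type _ _).mp
    ((Presheaf.isSheaf_iff_isSheaf_forget J _ (forget AddCommGrpCat)).mp F'.isSheaf)
  have hsep : Presieve.IsSeparatedFor P' (Presieve.ofArrows Z k) :=
    (Presieve.isSeparatedFor_iff_generate).mpr (hsh _ hk).isSeparatedFor
  let t₁ : P'.obj (op Y0) := f.val.app (op Y0) s
  let t₂ : P'.obj (op Y0) := g.val.app (op Y0) s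
  have key : t₁ = t₂ := by
    apply hsep.ext
    rintro W w ⟨i⟩
    show F'.val.map (k i).op (f.val.app (op Y0) s) = F'.val.map (k i).op (g.val.app (op Y0) s)
    rw [← PresheafOfModules.naturality_apply, ← PresheafOfModules.naturality_apply]
    exact h1 (Z i) (hZ i) _
  exact key

end Groth.Agent.H10.FreeOn
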