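import Mathlib
import Groth.Prelude.Def_SGA4a

set_option autoImplicit false
open CategoryTheory Limits Opposite

universe u v

namespace Groth.Agent.H10.FunTopos

variable {C : Type u} [SmallCategory C] (J : GrothendieckTopology C) (D : Type u) [SmallCategory D]

/-- inclusion of a slice -/
abbrev inc (a : Dᵒᵖ) : C ⥤ Dᵒᵖ × C where
  obj c := (a, c)
  map f := Prod.mkHom (𝟙 a) f
  map_id c := rfl
  map_comp f g := by
    apply Prod.hom_ext
    · exact (Category.id_comp _).symm
    · rfl

/-- cylinder sieve -/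
def cyl (a : Dᵒᵖ) {c : C} (T : Sieve c) : Sieve ((a, c) : Dᵒᵖ × C) where
  arrows _ p := T.arrows p.2
  downward_closed hp q := T.downward_closed hp q.2

/-- the coverage -/
def cov : Coverage (Dᵒᵖ × C) where
  coverings X := {R | ∃ T : Sieve X.2, T ∈ J X.2 ∧ R = (cyl D X.1 T).arrows}
  pullback := by
    rintro ⟨a, c⟩ ⟨a', c'⟩ p R ⟨T, hT, rfl⟩
    refine ⟨(cyl D a' (T.pullback p.2)).arrows,
      ⟨T.pullback p.2, J.pullback_stable p.2 hT, rfl⟩, ?_⟩
    intro Z q hq
    exact ⟨Z, 𝟙 Z, q ≫ p, hq, Category.id_comp _⟩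

set_option backward.isDefEq.respectTransparency false in
theorem inc_isContinuous (a : Dᵒᵖ) : (inc D a).IsContinuous J (cov J D).toGrothendieck := by
  apply Functor.isContinuous_of_coverPreserving
  · constructor
    intro ℱ Z T x hx Y₁ Y₂ X f₁ f₂ g₁ g₂ hg₁ hg₂ e
    obtain ⟨a₀, c₀⟩ := X
    have e1 : f₁.1 ≫ 𝟙 a = f₂.1 ≫ 𝟙 a := (Prod.hom_ext_iff.1 e).1
    have e2 : f₁.2 ≫ g₁ = f₂.2 ≫ g₂ := (Prod.hom_ext_iff.1 e).2
    rw [Category.comp_id, Category.comp_id] at e1
    have hc : ℱ.obj.map ((inc D a).map f₁.2).op (x g₁ hg₁) =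
        ℱ.obj.map ((inc D a).map f₂.2).op (x g₂ hg₂) := hx f₁.2 f₂.2 hg₁ hg₂ e2
    have d1 : f₁ = (Prod.mkHom f₁.1 (𝟙 c₀) : ((a₀, c₀) : Dᵒᵖ × C) ⟶ (a, c₀)) ≫
        (inc D a).map f₁.2 := by
      apply Prod.hom_ext
      · exact (Category.comp_id _).symm
      · exact (Category.id_comp _).symm
    have d2 : f₂ = (Prod.mkHom f₁.1 (𝟙 c₀) : ((a₀, c₀) : Dᵒᵖ × C) ⟶ (a, c₀)) ≫
        (inc D a).map f₂.2 := by
      apply Prod.hom_ext
      · rw [e1]; exact (Category.comp_id _).symm
      · exact (Category.id_comp _).symm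
    rw [d1, d2, op_comp, op_comp, Functor.map_comp_apply, Functor.map_comp_apply, hc]
  · constructor
    intro c T hT
    refine Coverage.mem_toGrothendieck_sieves_of_superset (cov J D)
      (R := (cyl D a T).arrows) ?_ ⟨T, hT, rfl⟩
    rintro ⟨a', c'⟩ p hp
    refine ⟨c', p.2, (Prod.mkHom p.1 (𝟙 c') : ((a', c') : Dᵒᵖ × C) ⟶ (a, c')), hp, ?_⟩
    apply Prod.hom_ext
    · exact (Category.comp_id _).symm
    · exact (Category.id_comp _).symm

theorem slice_isSheaf (P : Sheaf (cov J D).toGrothendieck (Type u)) (a : Dᵒᵖ) :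
    Presheaf.IsSheaf J ((inc D a).op ⋙ P.obj) := by
  haveI := inc_isContinuous J D a
  exact Functor.op_comp_isSheaf (inc D a) J (cov J D).toGrothendieck P

set_option backward.isDefEq.respectTransparency false in
theorem isSheafFor_cyl (P : (Dᵒᵖ × C)ᵒᵖ ⥤ Type u) (a : Dᵒᵖ) {c : C} (T : Sieve c)
    (h : Presieve.IsSheafFor ((inc D a).op ⋙ P) T.arrows) :
    Presieve.IsSheafFor P (cyl D a T).arrows := by
  intro x hx
  let y : Presieve.FamilyOfElements ((inc D a).op ⋙ P) T.arrows :=
    fun c' f hf => x ((inc D a).map f) hf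
  have hy : y.Compatible := by
    intro c₁ c₂ c₀ g₁ g₂ f₁ f₂ h₁ h₂ e
    exact @hx _ _ _ ((inc D a).map g₁) ((inc D a).map g₂) ((inc D a).map f₁) ((inc D a).map f₂)
      h₁ h₂ (by rw [← Functor.map_comp, ← Functor.map_comp, e])
  obtain ⟨t, ht, huniq⟩ := h y hy
  have hsc := (Presieve.compatible_iff_sieveCompatible x).1 hx
  refine ⟨t, ?_, ?_⟩
  · rintro ⟨a', c'⟩ p hp
    have h1 : P.map ((inc D a).map p.2).op t = x ((inc D a).map p.2) hp := ht p.2 hp
    have key : ∀ (p' : ((a', c') : Dᵒᵖ × C) ⟶ (a, c)) (hp' : (cyl D a T).arrows p'),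
        p' = (Prod.mkHom p.1 (𝟙 c') : ((a', c') : Dᵒᵖ × C) ⟶ (a, c')) ≫ (inc D a).map p.2 →
        P.map p'.op t = x p' hp' := by
      intro p' hp' e
      subst e
      rw [hsc ((inc D a).map p.2)
        (Prod.mkHom p.1 (𝟙 c') : ((a', c') : Dᵒᵖ × C) ⟶ (a, c')) hp, ← h1, op_comp,
        Functor.map_comp_apply]
    refine key p hp ?_
    apply Prod.hom_ext
    · exact (Category.comp_id _).symm
    · exact (Category.id_comp _).symm
  · intro t' ht'
    apply huniq
    intro c' f hf
    exact ht' ((inc D a).map f) hf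

/-- transition maps of slices -/
def slMap (P : (Dᵒᵖ × C)ᵒᵖ ⥤ Type u) {d d' : D} (g : d ⟶ d') :
    (inc D (op d)).op ⋙ P ⟶ (inc D (op d')).op ⋙ P where
  app c := P.map (Quiver.Hom.op
    (Prod.mkHom g.op (𝟙 c.unop) : ((op d', c.unop) : Dᵒᵖ × C) ⟶ (op d, c.unop)))
  naturality c c' f := by
    have e : (Prod.mkHom g.op (𝟙 c'.unop) : ((op d', c'.unop) : Dᵒᵖ × C) ⟶ (op d, c'.unop)) ≫
        (inc D (op d)).map f.unop =
        (inc D (op d')).map f.unop ≫
          (Prod.mkHom g.op (𝟙 c.unop) : ((op d', c.unop) : Dᵒᵖ × C) ⟶ (op d, c.unop)) := by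
      apply Prod.hom_ext
      · exact (Category.comp_id _).trans (Category.id_comp _).symm
      · exact (Category.id_comp _).trans (Category.comp_id _).symm
    show P.map ((inc D (op d)).map f.unop).op ≫ P.map (Quiver.Hom.op _) =
      P.map (Quiver.Hom.op _) ≫ P.map ((inc D (op d')).map f.unop).op
    rw [← P.map_comp, ← P.map_comp, ← op_comp, ← op_comp, e]

/-- the comparison functor on objects -/
def Φobj (P : Sheaf (cov J D).toGrothendieck (Type u)) : D ⥤ Sheaf J (Type u) where
  obj d := ⟨(inc D (op d)).op ⋙ P.obj, slice_isSheaf J D P (op d)⟩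
  map g := ObjectProperty.homMk (slMap D P.obj g)
  map_id d := by
    apply ObjectProperty.hom_ext
    apply NatTrans.ext
    funext c
    refine ConcreteCategory.hom_ext _ _ (fun x => ?_)
    exact Functor.map_id_apply P.obj (op ((op d, c.unop) : Dᵒᵖ × C)) x
  map_comp {d d' d''} g g' := by
    apply ObjectProperty.hom_ext
    apply NatTrans.ext
    funext c
    have e : (Prod.mkHom (g ≫ g').op (𝟙 c.unop) : ((op d'', c.unop) : Dᵒᵖ × C) ⟶ (op d, c.unop)) =
        (Prod.mkHom g'.op (𝟙 c.unop) : ((op d'', c.unop) : Dᵒᵖ × C) ⟶ (op d', c.unop)) ≫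
          (Prod.mkHom g.op (𝟙 c.unop) : ((op d', c.unop) : Dᵒᵖ × C) ⟶ (op d, c.unop)) := by
      apply Prod.hom_ext
      · rfl
      · exact (Category.comp_id _).symm
    show P.obj.map (Quiver.Hom.op _) = P.obj.map (Quiver.Hom.op _) ≫ P.obj.map (Quiver.Hom.op _)
    rw [e, op_comp, P.obj.map_comp]

/-- the comparison functor on morphisms -/
def Φmap {P Q : Sheaf (cov J D).toGrothendieck (Type u)} (α : P ⟶ Q) :
    Φobj J D P ⟶ Φobj J D Q where
  app d := ObjectProperty.homMk (Functor.whiskerLeft (inc D (op d)).op α.hom)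
  naturality d d' g := by
    apply ObjectProperty.hom_ext
    apply NatTrans.ext
    funext c
    exact α.hom.naturality _

/-- the comparison functor -/
def Φ : Sheaf (cov J D).toGrothendieck (Type u) ⥤ (D ⥤ Sheaf J (Type u)) where
  obj := Φobj J D
  map := Φmap J D
  map_id P := by
    apply NatTrans.ext; funext d; apply ObjectProperty.hom_ext; rfl
  map_comp α β := by
    apply NatTrans.ext; funext d; apply ObjectProperty.hom_ext; rfl

instance : (Φ J D).Faithful where
  map_injective {P Q} α β h := by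
    apply ObjectProperty.hom_ext
    apply NatTrans.ext
    funext X
    obtain ⟨⟨⟨d⟩, c⟩⟩ := X
    exact congrArg (fun γ : Φobj J D P ⟶ Φobj J D Q => (γ.app d).hom.app (op c)) h

set_option backward.isDefEq.respectTransparency false in
/-- preimage of a morphism -/
def fullPre {P Q : Sheaf (cov J D).toGrothendieck (Type u)} (β : Φobj J D P ⟶ Φobj J D Q) :
    P.obj ⟶ Q.obj where
  app X := (β.app X.unop.1.unop).hom.app (op X.unop.2)
  naturality X Y f := by
    obtain ⟨⟨⟨d⟩, c⟩⟩ := X
    obtain ⟨⟨⟨d'⟩, c'⟩⟩ := Y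
    refine ConcreteCategory.hom_ext _ _ (fun x => ?_)
    have N1 : ∀ x, (β.app d).hom.app (op c') (P.obj.map ((inc D (op d)).map f.unop.2).op x) =
        Q.obj.map ((inc D (op d)).map f.unop.2).op ((β.app d).hom.app (op c) x) :=
      fun x => NatTrans.naturality_apply (β.app d).hom f.unop.2.op x
    have N2 : ∀ y, (β.app d').hom.app (op c')
        (P.obj.map (Quiver.Hom.op
          (Prod.mkHom f.unop.1 (𝟙 c') : ((op d', c') : Dᵒᵖ × C) ⟶ (op d, c'))) y) =
        Q.obj.map (Quiver.Hom.op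
          (Prod.mkHom f.unop.1 (𝟙 c') : ((op d', c') : Dᵒᵖ × C) ⟶ (op d, c')))
          ((β.app d).hom.app (op c') y) := by
      intro y
      have := congrArg (fun γ : (Φobj J D P).obj d ⟶ (Φobj J D Q).obj d' => γ.hom.app (op c'))
        (β.naturality f.unop.1.unop)
      exact ConcreteCategory.congr_hom this y
    have key : ∀ (f' : (op ((op d, c) : Dᵒᵖ × C)) ⟶ op ((op d', c') : Dᵒᵖ × C)),
        f' = Quiver.Hom.op ((inc D (op d)).map f.unop.2) ≫ Quiver.Hom.op
          (Prod.mkHom f.unop.1 (𝟙 c') : ((op d', c') : Dᵒᵖ × C) ⟶ (op d, c')) →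
        (β.app d').hom.app (op c') (P.obj.map f' x) =
          Q.obj.map f' ((β.app d).hom.app (op c) x) := by
      intro f' e
      subst e
      rw [Functor.map_comp_apply, Functor.map_comp_apply, N2, N1]
    refine key f ?_
    apply Quiver.Hom.unop_inj
    apply Prod.hom_ext
    · exact (Category.comp_id _).symm
    · exact (Category.id_comp _).symm

instance : (Φ J D).Full where
  map_surjective {P Q} β := by
    refine ⟨ObjectProperty.homMk (fullPre J D β), ?_⟩
    apply NatTrans.ext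
    funext d
    apply ObjectProperty.hom_ext
    apply NatTrans.ext
    funext c
    rfl

/-- glue a diagram of sheaves into a presheaf on the product -/
def glue (G : D ⥤ Sheaf J (Type u)) : (Dᵒᵖ × C)ᵒᵖ ⥤ Type u where
  obj X := (G.obj X.unop.1.unop).obj.obj (op X.unop.2)
  map {X Y} f := ↾fun x => (G.obj Y.unop.1.unop).obj.map f.unop.2.op
    ((G.map f.unop.1.unop).hom.app (op X.unop.2) x)
  map_id X := by
    refine ConcreteCategory.hom_ext _ _ (fun x => ?_)
    show (G.obj X.unop.1.unop).obj.map (𝟙 (op X.unop.2))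
      ((G.map (𝟙 X.unop.1.unop)).hom.app (op X.unop.2) x) = x
    rw [G.map_id]
    exact Functor.map_id_apply _ _ _
  map_comp {X Y Z} f f' := by
    refine ConcreteCategory.hom_ext _ _ (fun x => ?_)
    show (G.obj Z.unop.1.unop).obj.map (f.unop.2.op ≫ f'.unop.2.op)
        ((G.map (f.unop.1.unop ≫ f'.unop.1.unop)).hom.app (op X.unop.2) x) =
      (G.obj Z.unop.1.unop).obj.map f'.unop.2.op ((G.map f'.unop.1.unop).hom.app (op Y.unop.2)
        ((G.obj Y.unop.1.unop).obj.map f.unop.2.op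
          ((G.map f.unop.1.unop).hom.app (op X.unop.2) x)))
    rw [G.map_comp, Functor.map_comp_apply]
    have nat := NatTrans.naturality_apply (G.map f'.unop.1.unop).hom f.unop.2.op
      ((G.map f.unop.1.unop).hom.app (op X.unop.2) x)
    exact congrArg ((G.obj Z.unop.1.unop).obj.map f'.unop.2.op) nat.symm

set_option backward.isDefEq.respectTransparency false in
/-- slices of the glued presheaf -/
def isoSl (G : D ⥤ Sheaf J (Type u)) (d : D) :
    (inc D (op d)).op ⋙ glue J D G ≅ (G.obj d).obj :=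
  NatIso.ofComponents (fun c => Iso.refl _) (by
    intro c c' f
    refine ConcreteCategory.hom_ext _ _ (fun x => ?_)
    show (G.obj d).obj.map f.unop.op ((G.map (𝟙 d)).hom.app (op c.unop) x) =
      (G.obj d).obj.map f x
    rw [G.map_id]
    rfl)

set_option backward.isDefEq.respectTransparency false in
theorem glue_isSheaf (G : D ⥤ Sheaf J (Type u)) :
    Presheaf.IsSheaf (cov J D).toGrothendieck (glue J D G) := by
  rw [isSheaf_iff_isSheaf_of_type, Presieve.isSheaf_coverage]
  rintro ⟨a, c⟩ R ⟨T, hT, rfl⟩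
  apply isSheafFor_cyl
  obtain ⟨d⟩ := a
  refine Presieve.isSheafFor_iso (isoSl J D G d).symm ?_
  exact ((isSheaf_iff_isSheaf_of_type _ _).1 (G.obj d).property) T hT

set_option backward.isDefEq.respectTransparency false in
instance : (Φ J D).EssSurj where
  mem_essImage G := by
    have iso : (Φ J D).obj ⟨glue J D G, glue_isSheaf J D G⟩ ≅ G := by
      refine NatIso.ofComponents (fun d => ObjectProperty.isoMk _ (isoSl J D G d)) ?_
      intro d d' g
      apply ObjectProperty.hom_ext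
      apply NatTrans.ext
      funext c
      refine ConcreteCategory.hom_ext _ _ (fun x => ?_)
      show (G.obj d').obj.map (𝟙 (op c.unop)) ((G.map g).hom.app (op c.unop) x) =
        (G.map g).hom.app c x
      exact Functor.map_id_apply _ _ _
    exact ⟨_, ⟨iso⟩⟩

theorem isTopos_functor {E : Type v} [Category.{u} E] (hE : SGA4.IsTopos E)
    (D : Type u) [SmallCategory D] : SGA4.IsTopos (D ⥤ E) := by
  obtain ⟨C, hC, J, ⟨e⟩⟩ := hE
  haveI : (Φ J D).IsEquivalence := {}
  exact ⟨Dᵒᵖ × C, inferInstance, (cov J D).toGrothendieck,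
    ⟨(e.congrRight).trans (Φ J D).asEquivalence.symm⟩⟩

end Groth.Agent.H10.FunTopos
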