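import Mathlib
import Groth.Prelude.Def_LocCohZ
import Groth.Agent.H10.LocCohM
import Groth.Agent.H10.CohTopE

set_option autoImplicit false
set_option linter.unusedSectionVars false
universe u
open CategoryTheory CategoryTheory.Limits TopologicalSpace Opposite

namespace Groth.Agent.H10.GammaZHom

open Groth.Agent.H10.CohTopB

variable {X Y : TopCat.{u}} (f : Y ⟶ X) (hf : Topology.IsOpenEmbedding f)
variable [hc : hf.isOpenMap.functor.IsContinuous (Opens.grothendieckTopology Y)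
  (Opens.grothendieckTopology X)]
variable {Γ : CohTop.Ab X ⥤ CohTop.Ab X} (ι : Γ ⟶ 𝟭 (CohTop.Ab X))
    (w : ∀ G : CohTop.Ab X,
      ι.app G ≫ (TopCat.Sheaf.pullbackPushforwardAdjunction AddCommGrpCat.{u} f).unit.app G = 0)
    (hΓ : ∀ G : CohTop.Ab X, IsLimit (KernelFork.ofι (ι.app G) (w G)))
    {W V : Opens X} (h : W ≤ V)
    (hW1 : W ≤ hf.isOpenMap.functor.obj ((Opens.map f).obj V))
    (hW2 : hf.isOpenMap.functor.obj ((Opens.map f).obj V) ≤ W)

include hW2 in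
lemma comp_unit (G : CohTop.Ab X) (φ : LocCohZ.zq h ⟶ G) :
    (cokernel.π ((freeFunctor X).map (homOfLE h)) ≫ φ) ≫
      (TopCat.Sheaf.pullbackPushforwardAdjunction AddCommGrpCat.{u} f).unit.app G = 0 := by
  rw [LocCohM.comp_unit_eq_zero_iff f hf]
  have e : (freeFunctor X).map (hf.isOpenMap.adjunction.counit.app V) =
      (freeFunctor X).map (homOfLE hW2) ≫ (freeFunctor X).map (homOfLE h) := by
    rw [← Functor.map_comp]
    congr 1
  rw [e, Category.assoc, ← Category.assoc _ (cokernel.π _), cokernel.condition, zero_comp,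
    comp_zero]

include hW1 w in
lemma desc_cond (G : CohTop.Ab X) (τ : (freeFunctor X).obj V ⟶ Γ.obj G) :
    (freeFunctor X).map (homOfLE h) ≫ (τ ≫ ι.app G) = 0 := by
  have hτu : (τ ≫ ι.app G) ≫
      (TopCat.Sheaf.pullbackPushforwardAdjunction AddCommGrpCat.{u} f).unit.app _ = 0 := by
    rw [Category.assoc]
    exact (congrArg (τ ≫ ·) (w G)).trans comp_zero
  have h0 := (LocCohM.comp_unit_eq_zero_iff f hf _ V (τ ≫ ι.app G)).mp hτu
  have e : (freeFunctor X).map (homOfLE h) =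
      (freeFunctor X).map (homOfLE hW1) ≫
        (freeFunctor X).map (hf.isOpenMap.adjunction.counit.app V) := by
    rw [← Functor.map_comp]
    congr 1
  rw [e, Category.assoc, h0, comp_zero]

/-- the lift -/
noncomputable def lift' (G : CohTop.Ab X) (φ : LocCohZ.zq h ⟶ G) :
    (freeFunctor X).obj V ⟶ Γ.obj G :=
  (hΓ G).lift (KernelFork.ofι (cokernel.π ((freeFunctor X).map (homOfLE h)) ≫ φ)
    (comp_unit f hf h hW2 G φ))

lemma lift'_ι (G : CohTop.Ab X) (φ : LocCohZ.zq h ⟶ G) :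
    lift' f hf ι w hΓ h hW2 G φ ≫ ι.app G =
      cokernel.π ((freeFunctor X).map (homOfLE h)) ≫ φ :=
  (hΓ G).fac _ WalkingParallelPair.zero

/-- `Hom(ℤ_V/ℤ_W, G) ≃+ Hom(ℤ_V, Γ G)` -/
noncomputable def homEquiv (G : CohTop.Ab X) :
    (LocCohZ.zq h ⟶ G) ≃+ ((freeFunctor X).obj V ⟶ Γ.obj G) where
  toFun φ := lift' f hf ι w hΓ h hW2 G φ
  invFun τ := cokernel.desc _ (τ ≫ ι.app G) (desc_cond f hf ι w h hW1 G τ)
  left_inv φ := by
    apply coequalizer.hom_ext
    rw [cokernel.π_desc]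
    exact lift'_ι f hf ι w hΓ h hW2 G φ
  right_inv τ := by
    have hm : Mono (ι.app G) := mono_of_isLimit_fork (hΓ G)
    rw [← cancel_mono (ι.app G), lift'_ι]
    exact cokernel.π_desc _ _ _
  map_add' φ φ' := by
    have hm : Mono (ι.app G) := mono_of_isLimit_fork (hΓ G)
    rw [← cancel_mono (ι.app G), Preadditive.add_comp, lift'_ι, lift'_ι, lift'_ι,
      Preadditive.comp_add]

lemma homEquiv_apply (G : CohTop.Ab X) (φ : LocCohZ.zq h ⟶ G) :
    homEquiv f hf ι w hΓ h hW1 hW2 G φ = lift' f hf ι w hΓ h hW2 G φ := rfl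

lemma lift'_nat {G G' : CohTop.Ab X} (g : G ⟶ G') (φ : LocCohZ.zq h ⟶ G) :
    lift' f hf ι w hΓ h hW2 G' (φ ≫ g) = lift' f hf ι w hΓ h hW2 G φ ≫ Γ.map g := by
  have hm : Mono (ι.app G') := mono_of_isLimit_fork (hΓ G')
  rw [← cancel_mono (ι.app G'), lift'_ι, Category.assoc]
  have hn : Γ.map g ≫ ι.app G' = ι.app G ≫ g := ι.naturality g
  rw [hn, reassoc_of% (lift'_ι f hf ι w hΓ h hW2 G φ)]
  rfl

/-- `Γ_Z(V, -) ≅ Hom(ℤ_V/ℤ_W, -)` -/
noncomputable def iso :
    preadditiveCoyoneda.obj (op (LocCohZ.zq h)) ≅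
      Γ ⋙ sheafToPresheaf (Opens.grothendieckTopology X) AddCommGrpCat.{u} ⋙
        (evaluation (Opens X)ᵒᵖ AddCommGrpCat.{u}).obj (op V) :=
  NatIso.ofComponents
    (fun G => ((homEquiv f hf ι w hΓ h hW1 hW2 G).trans
      (secAddEquiv V (Γ.obj G))).toAddCommGrpIso)
    (by
      intro G G' g
      apply ConcreteCategory.hom_ext
      intro φ
      show secEquiv V (Γ.obj G') (lift' f hf ι w hΓ h hW2 G' ((φ : LocCohZ.zq h ⟶ G) ≫ g)) =
        (Γ.map g).hom.app (op V) (secEquiv V (Γ.obj G) (lift' f hf ι w hΓ h hW2 G φ))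
      rw [lift'_nat, secEquiv_comp])

end Groth.Agent.H10.GammaZHom
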