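import Mathlib
import Groth.Prelude.Def_CohTop
import Groth.Agent.H10.PullLex
import Groth.Agent.H10.KerFlasque

set_option autoImplicit false
universe u
open CategoryTheory CategoryTheory.Limits TopologicalSpace Opposite

namespace Groth.Agent.H10.Godement

/-- every abelian sheaf on a discrete space is flasque -/
theorem flasque_of_discrete {Y : TopCat.{u}} [DiscreteTopology Y] (G : CohTop.Ab Y) :
    TopCat.Sheaf.IsFlasque G where
  epi {U V} i := by
    rw [AddCommGrpCat.epi_iff_surjective]
    intro s
    let V₂ : Opens Y := ⟨(U.unop : Set Y) \ (V.unop : Set Y), isOpen_discrete _⟩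
    have hW : U.unop ≤ V.unop ⊔ V₂ := by
      intro y hy
      by_cases h : y ∈ V.unop
      · exact Or.inl h
      · exact Or.inr ⟨hy, h⟩
    have hbot : V.unop ⊓ V₂ = ⊥ := by
      ext y
      constructor
      · rintro ⟨h1, -, h2⟩
        exact (h2 h1).elim
      · intro h
        exact h.elim
    have hsub : Subsingleton (G.obj.obj (op (V.unop ⊓ V₂))) := by
      have ht := TopCat.Sheaf.isTerminalOfEqEmpty G hbot
      have hz : IsZero (G.obj.obj (op (V.unop ⊓ V₂))) :=
        (isZero_zero _).of_iso (ht.uniqueUpToIso HasZeroObject.zeroIsTerminal)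
      exact AddCommGrpCat.subsingleton_of_isZero hz
    obtain ⟨t, ht, -⟩ := KerFlasque.glue₂ G V.unop V₂ U.unop i.unop
      (homOfLE (fun y hy => hy.1)) hW s 0 (hsub.elim _ _)
    exact ⟨t, ht⟩

/-- if the pullback of `K` along `f` vanishes then the stalks of `K` at points in the image of `f`
vanish -/
theorem isZero_stalk_of_isZero_pull {X Y : TopCat.{u}} (f : Y ⟶ X) (K : CohTop.Ab X)
    (hz : IsZero ((CohTop.pull f).obj K)) (x : Y) : IsZero (CohTop.stalk K (f x)) := by
  classical
  let adj : CohTop.pull f ⊣ CohTop.push f :=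
    TopCat.Sheaf.pullbackPushforwardAdjunction AddCommGrpCat.{u} f
  let A : AddCommGrpCat.{u} := CohTop.stalk K (f x)
  let u : K.obj ⟶ skyscraperPresheaf (f x) A :=
    StalkSkyscraperPresheafAdjunctionAuxs.toSkyscraperPresheaf (f x) (𝟙 A)
  let S : CohTop.Ab Y := skyscraperSheaf x A
  let u' : K ⟶ (CohTop.push f).obj S := ⟨u⟩
  have h0 : u' = 0 := (adj.homEquiv K S).symm.injective (hz.eq_of_src _ _)
  have h1 : u = 0 := congrArg (fun φ => φ.hom) h0
  rw [IsZero.iff_id_eq_zero]
  have h2 := StalkSkyscraperPresheafAdjunctionAuxs.fromStalk_to_skyscraper (f x) (𝟙 A)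
  rw [← h2]
  change StalkSkyscraperPresheafAdjunctionAuxs.fromStalk (f x) u = 0
  rw [h1]
  refine TopCat.Presheaf.stalk_hom_ext K.obj fun U hxU => ?_
  rw [StalkSkyscraperPresheafAdjunctionAuxs.germ_fromStalk]
  simp

/-- a sheaf all of whose stalks vanish is zero -/
theorem isZero_of_stalks {X : TopCat.{u}} (K : CohTop.Ab X)
    (h : ∀ x : X, IsZero (CohTop.stalk K x)) : IsZero K := by
  rw [IsZero.iff_id_eq_zero]
  apply Sheaf.hom_ext
  apply NatTrans.ext
  funext V
  apply ConcreteCategory.hom_ext
  intro s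
  apply TopCat.Presheaf.section_ext K V.unop
  intro x hx
  have := AddCommGrpCat.subsingleton_of_isZero (h x)
  exact Subsingleton.elim _ _

/-- for surjective `f`, the unit `F ⟶ f_* f⁻¹ F` is a monomorphism -/
theorem mono_unit_of_surjective {X Y : TopCat.{u}} (f : Y ⟶ X) (hf : Function.Surjective f)
    (F : CohTop.Ab X) :
    Mono ((TopCat.Sheaf.pullbackPushforwardAdjunction AddCommGrpCat.{u} f).unit.app F) := by
  let adj : CohTop.pull f ⊣ CohTop.push f :=
    TopCat.Sheaf.pullbackPushforwardAdjunction AddCommGrpCat.{u} f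
  have hlex : PreservesFiniteLimits (CohTop.pull f) := PullLex.pull_preservesFiniteLimits f
  have hpm : (CohTop.pull f).PreservesMonomorphisms := inferInstance
  let k := kernel.ι (adj.unit.app F)
  have hk : k ≫ adj.unit.app F = 0 := kernel.condition _
  have hLk : (CohTop.pull f).map k = 0 := by
    apply (adj.homEquiv _ _).injective
    rw [adj.homEquiv_unit, adj.homEquiv_unit]
    have hn := adj.unit.naturality k
    simp only [Functor.id_obj, Functor.id_map, Functor.comp_obj, Functor.comp_map] at hn
    rw [← hn, hk, Functor.map_zero, comp_zero]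
  have hm : Mono ((CohTop.pull f).map k) := inferInstance
  have hz : IsZero ((CohTop.pull f).obj (kernel (adj.unit.app F))) :=
    IsZero.of_mono_eq_zero _ hLk
  have hK : IsZero (kernel (adj.unit.app F)) := by
    apply isZero_of_stalks
    intro y
    obtain ⟨x, rfl⟩ := hf y
    exact isZero_stalk_of_isZero_pull f _ hz x
  exact Preadditive.mono_of_kernel_zero (hK.eq_of_src _ _)

end Groth.Agent.H10.Godement
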