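import Mathlib
import Groth.Agent.H10.DerAdj

set_option autoImplicit false

open CategoryTheory Limits

namespace Groth.Agent.H10.KInj

variable {A B : Type*} [Category A] [Category B] [Abelian A] [Abelian B]
  {L : A ⥤ B} {R : B ⥤ A} [L.Additive] [R.Additive]
  [PreservesFiniteLimits L] [PreservesFiniteColimits L]

theorem acyclic_map (K : CochainComplex A ℤ) (hK : K.Acyclic) :
    ((L.mapHomologicalComplex (ComplexShape.up ℤ)).obj K).Acyclic := by
  intro i
  show ((K.sc i).map L).Exact
  exact (hK i).map L

/-- a right adjoint whose left adjoint is exact preserves K-injective complexes -/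
theorem isKInjective_map (adj : L ⊣ R) (I : CochainComplex B ℤ) [I.IsKInjective] :
    CochainComplex.IsKInjective ((R.mapHomologicalComplex (ComplexShape.up ℤ)).obj I) := by
  constructor
  intro K f hK
  let adjC := DerAdj.mapHomologicalComplexAdj adj (ComplexShape.up ℤ)
  let g : (L.mapHomologicalComplex (ComplexShape.up ℤ)).obj K ⟶ I := (adjC.homEquiv K I).symm f
  have hg : f = adjC.unit.app K ≫ (R.mapHomologicalComplex (ComplexShape.up ℤ)).map g := by
    have := (adjC.homEquiv K I).apply_symm_apply f
    rw [Adjunction.homEquiv_unit] at this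
    exact this.symm
  obtain ⟨h⟩ := CochainComplex.IsKInjective.nonempty_homotopy_zero g (acyclic_map K hK)
  have h2 := (R.mapHomotopy h).compLeft (adjC.unit.app K)
  rw [hg]
  refine ⟨h2.trans (Homotopy.ofEq ?_)⟩
  simp

end Groth.Agent.H10.KInj
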