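import Mathlib

set_option autoImplicit false

open CategoryTheory Limits

namespace Groth.Agent.H10.KerLex

universe v u

variable {𝒜 : Type u} [Category.{v} 𝒜] [Abelian 𝒜]
  {Γ T : 𝒜 ⥤ 𝒜} [Γ.Additive] [T.PreservesMonomorphisms]
  (ι : Γ ⟶ 𝟭 𝒜) (η : 𝟭 𝒜 ⟶ T) (w : ∀ X, ι.app X ≫ η.app X = 0)
  (hΓ : ∀ X, IsLimit (KernelFork.ofι (ι.app X) (w X)))

include hΓ in
/-- the kernel of a natural transformation `𝟭 ⟶ T`, `T` preserving monos, is left exact -/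
theorem preservesFiniteLimits_of_kernel : PreservesFiniteLimits Γ := by
  have hmono : ∀ X, Mono (ι.app X) := fun X => mono_of_isLimit_fork (hΓ X)
  rw [Functor.preservesFiniteLimits_iff_forall_exact_map_and_mono]
  intro S hS
  have := hS.mono_f
  have hm : Mono (Γ.map S.f) := by
    have h : Γ.map S.f ≫ ι.app S.X₂ = ι.app S.X₁ ≫ S.f := ι.naturality S.f
    have : Mono (Γ.map S.f ≫ ι.app S.X₂) := by rw [h]; infer_instance
    exact mono_of_mono _ (ι.app S.X₂)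
  refine ⟨?_, hm⟩
  rw [ShortComplex.exact_iff_exact_up_to_refinements]
  intro A x₂ hx₂
  change A ⟶ Γ.obj S.X₂ at x₂
  change x₂ ≫ Γ.map S.g = 0 at hx₂
  have h1 : (x₂ ≫ ι.app S.X₂) ≫ S.g = 0 := by
    have hn : ι.app S.X₂ ≫ S.g = Γ.map S.g ≫ ι.app S.X₃ := (ι.naturality S.g).symm
    rw [Category.assoc, hn, ← Category.assoc, hx₂, zero_comp]
  let y : A ⟶ S.X₁ := hS.exact.lift (x₂ ≫ ι.app S.X₂) h1
  have hy : y ≫ S.f = x₂ ≫ ι.app S.X₂ := hS.exact.lift_f _ _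
  have h2 : y ≫ η.app S.X₁ = 0 := by
    have : Mono (T.map S.f) := inferInstance
    rw [← cancel_mono (T.map S.f), Category.assoc, zero_comp]
    have hn : η.app S.X₁ ≫ T.map S.f = S.f ≫ η.app S.X₂ := (η.naturality S.f).symm
    rw [hn, ← Category.assoc, hy, Category.assoc]
    have hw := w S.X₂
    rw [hw, comp_zero]
  let x₁ : A ⟶ Γ.obj S.X₁ := (hΓ S.X₁).lift (KernelFork.ofι y h2)
  have hx₁ : x₁ ≫ ι.app S.X₁ = y := (hΓ S.X₁).fac (KernelFork.ofι y h2) WalkingParallelPair.zero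
  refine ⟨A, 𝟙 A, inferInstance, x₁, ?_⟩
  rw [Category.id_comp]
  have := hmono S.X₂
  have key : x₂ = x₁ ≫ Γ.map S.f := by
    rw [← cancel_mono (ι.app S.X₂)]
    have h : Γ.map S.f ≫ ι.app S.X₂ = ι.app S.X₁ ≫ S.f := ι.naturality S.f
    rw [Category.assoc, h, ← Category.assoc, hx₁, hy]
  exact key

end Groth.Agent.H10.KerLex
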