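import Mathlib
import Groth.Agent.Lib.Helper9.Lim8

/-!
Cofiltered limits of schemes with affine transition maps which are topological embeddings:
if some stage is Noetherian, the projections from the limit are eventually dominant.
-/

set_option autoImplicit false
universe u
open CategoryTheory AlgebraicGeometry Limits TopologicalSpace

namespace Groth.Agent.H10.Lim8Emb

open Groth.Agent.Helper9.Lim8

theorem eventually_isDominant {I : Type u} [SmallCategory I] [IsCofiltered I]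
    (D : I ⥤ Scheme.{u}) (c : Cone D) (hc : IsLimit c)
    [∀ (i j : I) (f : i ⟶ j), IsAffineHom (D.map f)] (i₀ : I)
    [NoetherianSpace (D.obj i₀)]
    (he : ∀ (i j : I) (φ : i ⟶ j), Topology.IsEmbedding ⇑(D.map φ)) :
    ∃ (i : I) (_ : i ⟶ i₀), ∀ (j : I) (_ : j ⟶ i), IsDominant (c.π.app j) := by
  classical
  have hA : ∀ {i j : I} (f : i ⟶ j), IsAffineHom (D.map f) := fun f => inferInstance
  let 𝒵 : Set (Closeds (D.obj i₀)) :=
    {Z | ∃ (j : I) (φ : j ⟶ i₀), (Z : Set (D.obj i₀)) = closure (Set.range ⇑(D.map φ))}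
  have hne : 𝒵.Nonempty :=
    ⟨⟨closure (Set.range ⇑(D.map (𝟙 i₀))), isClosed_closure⟩, i₀, 𝟙 i₀, rfl⟩
  have hwf : WellFoundedLT (Closeds (D.obj i₀)) := inferInstance
  obtain ⟨Z₀, ⟨j₀, φ₀, hZ₀⟩, hmin⟩ := hwf.wf.has_min 𝒵 hne
  refine ⟨j₀, φ₀, fun j ψ => ⟨?_⟩⟩
  rw [DenseRange, dense_iff_inter_open]
  rintro O hO ⟨s, hs⟩
  by_contra hcon
  have hpre : ⇑(c.π.app j) ⁻¹' O = ∅ := by
    ext x
    simp only [Set.mem_preimage, Set.mem_empty_iff_false, iff_false]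
    intro hx
    exact hcon ⟨_, hx, x, rfl⟩
  have e := he j i₀ (ψ ≫ φ₀)
  have : NoetherianSpace (D.obj j) := e.isInducing.noetherianSpace
  have hOc : Topology.IsConstructible O :=
    IsRetrocompact.isConstructible hO (fun U _ _ => NoetherianSpace.isCompact _)
  obtain ⟨k, ρ, hk⟩ := exists_preimage_eq_empty D c hc hOc hpre
  obtain ⟨O', hO', hOO'⟩ := e.isInducing.isOpen_iff.1 hO
  have ht : (D.map (ψ ≫ φ₀)) s ∈ O' := by
    have : s ∈ ⇑(D.map (ψ ≫ φ₀)) ⁻¹' O' := by rw [hOO']; exact hs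
    exact this
  let Z₁ : Closeds (D.obj i₀) :=
    ⟨closure (Set.range ⇑(D.map (ρ ≫ ψ ≫ φ₀))), isClosed_closure⟩
  have hZ₁ : Z₁ ∈ 𝒵 := ⟨k, ρ ≫ ψ ≫ φ₀, rfl⟩
  have hle : Z₁ ≤ Z₀ := by
    change (Z₁ : Set (D.obj i₀)) ⊆ (Z₀ : Set (D.obj i₀))
    rw [hZ₀]
    apply closure_mono
    rintro _ ⟨x, rfl⟩
    refine ⟨D.map (ρ ≫ ψ) x, ?_⟩
    rw [← Scheme.Hom.comp_apply, ← D.map_comp, Category.assoc]
  have heq : Z₁ = Z₀ := by
    by_contra hne'
    exact hmin Z₁ hZ₁ (lt_of_le_of_ne hle hne')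
  have ht0 : (D.map (ψ ≫ φ₀)) s ∈ (Z₁ : Set (D.obj i₀)) := by
    rw [heq, hZ₀]
    apply subset_closure
    refine ⟨D.map ψ s, ?_⟩
    rw [← Scheme.Hom.comp_apply, ← D.map_comp]
  obtain ⟨_, hy1, ⟨x, rfl⟩⟩ := mem_closure_iff.1 ht0 O' hO' ht
  have hx : D.map ρ x ∈ O := by
    rw [← hOO']
    change (D.map (ψ ≫ φ₀)) (D.map ρ x) ∈ O'
    rw [← Scheme.Hom.comp_apply, ← D.map_comp]
    exact hy1
  have : x ∈ ⇑(D.map ρ) ⁻¹' O := hx
  rw [hk] at this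
  exact this

end Groth.Agent.H10.Lim8Emb
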