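import Mathlib
import Groth.Prelude.Def_LocCohZ
import Groth.Agent.H10.CohTopB

set_option autoImplicit false
universe u
open CategoryTheory CategoryTheory.Limits TopologicalSpace Opposite Abelian

namespace Groth.Agent.H10.LocCohFl

variable {X : TopCat.{u}}

theorem HZ_eq_zero (F : CohTop.Ab X) [TopCat.Sheaf.IsFlasque F] {W V : Opens X} (h : W ≤ V)
    (n : ℕ) (x : LocCohZ.HZ F (n + 1) h) : x = 0 := by
  have hS := LocCohZ.zqSeq_shortExact h
  have h1 : (Ext.mk₀ (LocCohZ.zqSeq h).g).comp x (zero_add (n + 1)) = 0 :=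
    CohTopB.ext_free_eq_zero V n F _
  obtain ⟨x₁, hx₁⟩ := Ext.contravariant_sequence_exact₃ hS F x h1 (show 1 + n = n + 1 by omega)
  cases n with
  | zero =>
    let φ : (CohTopB.freeFunctor X).obj W ⟶ F := Ext.homEquiv₀ x₁
    obtain ⟨t, ht⟩ := (AddCommGrpCat.epi_iff_surjective _).mp
      (TopCat.Presheaf.IsFlasque.epi (F := F.obj) (homOfLE h).op) (CohTopB.secEquiv W F φ)
    let ψ : (CohTopB.freeFunctor X).obj V ⟶ F := (CohTopB.secEquiv V F).symm t
    have e : (LocCohZ.zqSeq h).f ≫ ψ = φ := by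
      apply (CohTopB.secEquiv W F).injective
      have := CohTopB.secEquiv_map (homOfLE h) ψ
      refine this.trans ?_
      rw [Equiv.apply_symm_apply]
      exact ht
    have e2 : x₁ = (Ext.mk₀ (LocCohZ.zqSeq h).f).comp (Ext.mk₀ ψ) (zero_add 0) := by
      rw [Ext.mk₀_comp_mk₀, e]
      exact (Ext.mk₀_homEquiv₀_apply x₁).symm
    rw [← hx₁, e2]
    exact hS.extClass_comp_assoc _
  | succ m =>
    have : x₁ = 0 := CohTopB.ext_free_eq_zero W m F x₁
    rw [← hx₁, this, Ext.comp_zero] <;> rfl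

end Groth.Agent.H10.LocCohFl
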