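import Mathlib
import Groth.Prelude.Def_CohCx
import Groth.Agent.H10.CohTopB
import Groth.Agent.H10.ShriekEx
import Groth.Agent.H10.ExtAdj

set_option autoImplicit false
universe u
open CategoryTheory CategoryTheory.Limits TopologicalSpace Opposite

namespace Groth.Agent.H10.TopRestrD

variable {X Y : TopCat.{u}} (f : Y ⟶ X) (hf : Topology.IsOpenEmbedding f)

/-- the image functor of an open embedding is a discrete fibration -/
def liftsOpenEmb (V : Opens X) : ShriekEx.Lifts.{u} hf.isOpenMap.functor V where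
  I := ULift.{u} (PLift (V ≤ hf.isOpenMap.functor.obj ⊤))
  c _ := (Opens.map f).obj V
  e i := homOfLE (by
    intro x hx
    obtain ⟨y, -, rfl⟩ := i.down.down hx
    exact ⟨y, hx, rfl⟩)
  uniq W g := by
    have h1 : V ≤ hf.isOpenMap.functor.obj ⊤ :=
      le_trans (leOfHom g) (hf.isOpenMap.functor.map (homOfLE le_top)).le
    have h2 : (Opens.map f).obj V ≤ W := by
      intro y hy
      obtain ⟨y', hy', e⟩ := (leOfHom g) hy
      have : y' = y := hf.injective e
      exact this ▸ hy'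
    refine ⟨⟨⟨⟨h1⟩⟩, homOfLE h2⟩, Subsingleton.elim _ _, ?_⟩
    rintro ⟨⟨⟨i⟩⟩, p⟩ _
    congr 1

variable [hc : hf.isOpenMap.functor.IsContinuous (Opens.grothendieckTopology Y)
  (Opens.grothendieckTopology X)]

/-- restriction to the open subspace -/
noncomputable abbrev R : CohTop.Ab X ⥤ CohTop.Ab Y :=
  hf.isOpenMap.functor.sheafPushforwardContinuous AddCommGrpCat.{u}
    (Opens.grothendieckTopology Y) (Opens.grothendieckTopology X)

/-- extension by zero -/
noncomputable abbrev L : CohTop.Ab Y ⥤ CohTop.Ab X :=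
  hf.isOpenMap.functor.sheafPullback AddCommGrpCat.{u}
    (Opens.grothendieckTopology Y) (Opens.grothendieckTopology X)

/-- the adjunction -/
noncomputable abbrev adjL : L f hf ⊣ R f hf :=
  hf.isOpenMap.functor.sheafAdjunctionContinuous AddCommGrpCat.{u}
    (Opens.grothendieckTopology Y) (Opens.grothendieckTopology X)

instance : PreservesFiniteLimits (L f hf) :=
  ShriekEx.sheafPullback_preservesFiniteLimits.{u} hf.isOpenMap.functor AddCommGrpCat.{u} _ _
    (fun V => liftsOpenEmb f hf V)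

/-- `j_! ℤ_W ≅ ℤ_{j W}` -/
noncomputable def freeIso (W : Opens Y) :
    (L f hf).obj ((CohTopB.freeFunctor Y).obj W) ≅
      (CohTopB.freeFunctor X).obj (hf.isOpenMap.functor.obj W) :=
  Coyoneda.ext _ _
    (fun {Z} φ => (CohTopB.secEquiv (hf.isOpenMap.functor.obj W) Z).symm
      (CohTopB.secEquiv W ((R f hf).obj Z) ((adjL f hf).homEquiv _ _ φ)))
    (fun {Z} ψ => ((adjL f hf).homEquiv _ _).symm ((CohTopB.secEquiv W ((R f hf).obj Z)).symm
      (CohTopB.secEquiv (hf.isOpenMap.functor.obj W) Z ψ)))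
    (fun {Z} φ => by
      simp only [Equiv.apply_symm_apply, Equiv.symm_apply_apply])
    (fun {Z} ψ => by
      simp only [Equiv.apply_symm_apply, Equiv.symm_apply_apply])
    (fun {Z Z'} ψ g => by
      rw [← Adjunction.homEquiv_naturality_right_symm]
      congr 1
      apply (CohTopB.secEquiv W ((R f hf).obj Z')).injective
      rw [Equiv.apply_symm_apply, CohTopB.secEquiv_comp, CohTopB.secEquiv_comp,
        Equiv.apply_symm_apply]
      rfl)

open DerivedCategory in
theorem HDU_restr [HasDerivedCategory.{u} (CohTop.Ab X)] [HasDerivedCategory.{u} (CohTop.Ab Y)]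
    [PreservesFiniteLimits (R f hf)] [PreservesFiniteColimits (R f hf)]
    (K : DerivedCategory (CohTop.Ab X)) (p : ℤ) (W : Opens Y) :
    Nonempty (CohCx.HDU K p (hf.isOpenMap.functor.obj W) ≃+
      CohCx.HDU ((R f hf).mapDerivedCategory.obj K) p W) := by
  haveI : (R f hf).Additive := Functor.additive_of_preserves_binary_products _
  haveI : (L f hf).Additive := (adjL f hf).left_adjoint_additive
  haveI : PreservesFiniteColimits (L f hf) := by
    have : PreservesColimitsOfSize.{0, 0} (L f hf) := (adjL f hf).leftAdjoint_preservesColimits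
    exact PreservesColimitsOfSize.preservesFiniteColimits _
  let L' := (L f hf).mapDerivedCategory
  let R' := (R f hf).mapDerivedCategory
  let adj' : L' ⊣ R' := DerAdj.mapDerivedCategoryAdj (adjL f hf)
  let A : CohTop.Ab Y := (CohTopB.freeFunctor Y).obj W
  let B : CohTop.Ab X := (CohTopB.freeFunctor X).obj (hf.isOpenMap.functor.obj W)
  let sL := ((L f hf).mapDerivedCategorySingleFunctor 0).app A
  let e0 : ((singleFunctor (CohTop.Ab X) 0).obj B ⟶ K⟦p⟧) ≃+
      ((singleFunctor (CohTop.Ab X) 0).obj ((L f hf).obj A) ⟶ K⟦p⟧) :=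
    ExtAdj.preAddEquiv ((singleFunctor (CohTop.Ab X) 0).mapIso (freeIso f hf W)) _
  let e2 : ((singleFunctor (CohTop.Ab X) 0).obj ((L f hf).obj A) ⟶ K⟦p⟧) ≃+
      (L'.obj ((singleFunctor (CohTop.Ab Y) 0).obj A) ⟶ K⟦p⟧) :=
    ExtAdj.preAddEquiv sL _
  let e3 : (L'.obj ((singleFunctor (CohTop.Ab Y) 0).obj A) ⟶ K⟦p⟧) ≃+
      ((singleFunctor (CohTop.Ab Y) 0).obj A ⟶ R'.obj (K⟦p⟧)) :=
    adj'.homAddEquiv _ _
  let e4 : ((singleFunctor (CohTop.Ab Y) 0).obj A ⟶ R'.obj (K⟦p⟧)) ≃+
      ((singleFunctor (CohTop.Ab Y) 0).obj A ⟶ (R'.obj K)⟦p⟧) :=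
    ExtAdj.postAddEquiv _ ((R'.commShiftIso p).app _)
  exact ⟨e0.trans (e2.trans (e3.trans e4))⟩

end Groth.Agent.H10.TopRestrD
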