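import Mathlib
import Groth.Prelude.Def_LocCohZ
import Groth.Agent.H10.TopRestrD
import Groth.Agent.H10.ExtAdjNat

set_option autoImplicit false
universe u
open CategoryTheory CategoryTheory.Limits TopologicalSpace Opposite

namespace Groth.Agent.H10.LocCohRestr

open Groth.Agent.H10.TopRestrD Groth.Agent.H10.CohTopB

theorem coyoneda_ext_hom_comp {C : Type*} [Category C] (X Y : C) (p : ∀ {Z : C}, (X ⟶ Z) → (Y ⟶ Z))
    (q : ∀ {Z : C}, (Y ⟶ Z) → (X ⟶ Z))
    (h₁ : ∀ {Z : C} (f : X ⟶ Z), q (p f) = f) (h₂ : ∀ {Z : C} (f : Y ⟶ Z), p (q f) = f)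
    (n : ∀ {Z Z' : C} (f : Y ⟶ Z) (g : Z ⟶ Z'), q (f ≫ g) = q f ≫ g) {Z : C} (ψ : Y ⟶ Z) :
    (Coyoneda.ext X Y p q h₁ h₂ n).hom ≫ ψ = q ψ := by
  have : (Coyoneda.ext X Y p q h₁ h₂ n).hom = q (𝟙 Y) := rfl
  rw [this, ← n, Category.id_comp]

variable {X Y : TopCat.{u}} (f : Y ⟶ X) (hf : Topology.IsOpenEmbedding f)
variable [hc : hf.isOpenMap.functor.IsContinuous (Opens.grothendieckTopology Y)
  (Opens.grothendieckTopology X)]

lemma qmap_nat (W : Opens Y) {Z Z' : CohTop.Ab X}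
    (ψ : (freeFunctor X).obj (hf.isOpenMap.functor.obj W) ⟶ Z) (g : Z ⟶ Z') :
    ((adjL f hf).homEquiv _ _).symm
      ((secEquiv W ((R f hf).obj Z')).symm (secEquiv (hf.isOpenMap.functor.obj W) Z' (ψ ≫ g))) =
    ((adjL f hf).homEquiv _ _).symm
      ((secEquiv W ((R f hf).obj Z)).symm (secEquiv (hf.isOpenMap.functor.obj W) Z ψ)) ≫ g := by
  rw [← Adjunction.homEquiv_naturality_right_symm]
  congr 1
  apply (secEquiv W ((R f hf).obj Z')).injective
  rw [Equiv.apply_symm_apply, secEquiv_comp, secEquiv_comp, Equiv.apply_symm_apply]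
  rfl

lemma freeIso_hom_comp (W : Opens Y) {Z : CohTop.Ab X}
    (ψ : (freeFunctor X).obj (hf.isOpenMap.functor.obj W) ⟶ Z) :
    (freeIso f hf W).hom ≫ ψ = ((adjL f hf).homEquiv _ _).symm
      ((secEquiv W ((R f hf).obj Z)).symm (secEquiv (hf.isOpenMap.functor.obj W) Z ψ)) := by
  have h : (freeIso f hf W).hom = ((adjL f hf).homEquiv _ _).symm
      ((secEquiv W ((R f hf).obj _)).symm (secEquiv (hf.isOpenMap.functor.obj W) _ (𝟙 _))) := rfl
  rw [h, ← qmap_nat, Category.id_comp]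

lemma freeIso_nat {W' V' : Opens Y} (i : W' ⟶ V') :
    (L f hf).map ((freeFunctor Y).map i) ≫ (freeIso f hf V').hom =
      (freeIso f hf W').hom ≫ (freeFunctor X).map (hf.isOpenMap.functor.map i) := by
  have h1 := freeIso_hom_comp f hf V' (𝟙 _)
  rw [Category.comp_id] at h1
  rw [h1, freeIso_hom_comp, ← Adjunction.homEquiv_naturality_left_symm]
  congr 1
  apply (secEquiv W' _).injective
  rw [secEquiv_map, Equiv.apply_symm_apply, Equiv.apply_symm_apply]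
  have h2 := secEquiv_map (hf.isOpenMap.functor.map i) (𝟙 ((freeFunctor X).obj (hf.isOpenMap.functor.obj V')))
  rw [Category.comp_id] at h2
  rw [h2]
  rfl

instance : (L f hf).Additive := (adjL f hf).left_adjoint_additive

instance : PreservesFiniteColimits (L f hf) := by
  have : PreservesColimitsOfSize.{0, 0} (L f hf) := (adjL f hf).leftAdjoint_preservesColimits
  exact PreservesColimitsOfSize.preservesFiniteColimits _

/-- `j_!(ℤ_{V'}/ℤ_{W'}) ≅ ℤ_{jV'}/ℤ_{jW'}` -/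
noncomputable def zqIso {W' V' : Opens Y} (h' : W' ≤ V') :
    (L f hf).obj (LocCohZ.zq h') ≅
      LocCohZ.zq (hf.isOpenMap.functor.map (homOfLE h')).le :=
  (PreservesCokernel.iso (L f hf) _) ≪≫
    cokernel.mapIso _ _ (freeIso f hf W') (freeIso f hf V') (freeIso_nat f hf (homOfLE h'))

/-- precomposition with an isomorphism on `Ext` -/
noncomputable def extPreEquiv {C : Type*} [Category C] [Abelian C] [HasExt.{u} C] {A A' : C}
    (e : A ≅ A') (F : C) (n : ℕ) : Abelian.Ext.{u} A' F n ≃+ Abelian.Ext.{u} A F n where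
  toFun x := (Abelian.Ext.mk₀ e.hom).comp x (zero_add n)
  invFun y := (Abelian.Ext.mk₀ e.inv).comp y (zero_add n)
  left_inv x := by
    simp only
    rw [Abelian.Ext.mk₀_comp_mk₀_assoc, e.inv_hom_id, Abelian.Ext.mk₀_id_comp]
  right_inv y := by
    simp only
    rw [Abelian.Ext.mk₀_comp_mk₀_assoc, e.hom_inv_id, Abelian.Ext.mk₀_id_comp]
  map_add' x y := Abelian.Ext.comp_add _ _ _ _

lemma extPreEquiv_nat {C : Type*} [Category C] [Abelian C] [HasExt.{u} C] {A A' : C}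
    (e : A ≅ A') {F G : C} (φ : F ⟶ G) (n : ℕ) (x : Abelian.Ext.{u} A' F n) :
    extPreEquiv e G n (x.comp (Abelian.Ext.mk₀ φ) (add_zero n)) =
      (extPreEquiv e F n x).comp (Abelian.Ext.mk₀ φ) (add_zero n) := by
  show (Abelian.Ext.mk₀ e.hom).comp (x.comp (Abelian.Ext.mk₀ φ) (add_zero n)) (zero_add n) =
    ((Abelian.Ext.mk₀ e.hom).comp x (zero_add n)).comp (Abelian.Ext.mk₀ φ) (add_zero n)
  rw [Abelian.Ext.comp_assoc]
  omega

theorem HZ_restr [PreservesFiniteLimits (R f hf)] [PreservesFiniteColimits (R f hf)]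
    {W' V' : Opens Y} (h' : W' ≤ V') (i : ℕ) :
    ∃ e : ∀ F : CohTop.Ab X,
        LocCohZ.HZ F i (hf.isOpenMap.functor.map (homOfLE h')).le ≃+
          LocCohZ.HZ ((R f hf).obj F) i h',
      ∀ (F G : CohTop.Ab X) (φ : F ⟶ G)
        (x : LocCohZ.HZ F i (hf.isOpenMap.functor.map (homOfLE h')).le),
        e G (LocCohZ.map φ i _ x) = LocCohZ.map ((R f hf).map φ) i h' (e F x) := by
  have : (R f hf).Additive := Functor.additive_of_preserves_binary_products _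
  refine ⟨fun F => (extPreEquiv (zqIso f hf h') F i).trans
    (ExtAdjNat.extAdjEquiv.{u, u} (adjL f hf) (LocCohZ.zq h') F i), ?_⟩
  intro F G φ x
  show ExtAdjNat.extAdjEquiv.{u, u} (adjL f hf) (LocCohZ.zq h') G i
      (extPreEquiv (zqIso f hf h') G i (x.comp (Abelian.Ext.mk₀ φ) (add_zero i))) =
    (ExtAdjNat.extAdjEquiv.{u, u} (adjL f hf) (LocCohZ.zq h') F i
      (extPreEquiv (zqIso f hf h') F i x)).comp (Abelian.Ext.mk₀ ((R f hf).map φ)) (add_zero i)
  rw [extPreEquiv_nat, ExtAdjNat.extAdjEquiv_naturality]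

theorem HZ_congr {W₁ W₂ V₁ V₂ : Opens X} (eW : W₁ = W₂) (eV : V₁ = V₂) (h₁ : W₁ ≤ V₁)
    (h₂ : W₂ ≤ V₂) (i : ℕ) :
    ∃ e : ∀ F : CohTop.Ab X, LocCohZ.HZ F i h₁ ≃+ LocCohZ.HZ F i h₂,
      ∀ (F G : CohTop.Ab X) (φ : F ⟶ G) (x : LocCohZ.HZ F i h₁),
        e G (LocCohZ.map φ i h₁ x) = LocCohZ.map φ i h₂ (e F x) := by
  subst eW eV
  exact ⟨fun F => AddEquiv.refl _, fun _ _ _ _ => rfl⟩

end Groth.Agent.H10.LocCohRestr
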