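import Mathlib
import Groth.Prelude.Def_LocCohZ
import Groth.Agent.H10.LocCohRestr
import Groth.Agent.H10.KerFlasque
import Groth.Agent.H10.KerLex
import Groth.Agent.H10.LocCohTop
import Groth.Agent.H10.CohTopJ
import Groth.Agent.H10.CohTopC

set_option autoImplicit false
universe u
open CategoryTheory CategoryTheory.Limits TopologicalSpace Opposite

namespace Groth.Agent.H10.LocCohVan

open Groth.Agent.H10.TopRestrD Groth.Agent.H10.CohTopB Groth.Agent.H10.LocCohRestr

/-- a presheaf all of whose sections vanish locally has zero sheafification -/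
theorem isZero_sheafify {Y : TopCat.{u}} (P : (Opens Y)ᵒᵖ ⥤ AddCommGrpCat.{u})
    (h : ∀ (V : Opens Y) (s : P.obj (op V)), ∃ (ι : Type u) (Vk : ι → Opens Y)
      (hV : ∀ k, Vk k ≤ V), iSup Vk = V ∧ ∀ k, P.map (homOfLE (hV k)).op s = 0) :
    IsZero ((presheafToSheaf (Opens.grothendieckTopology Y) AddCommGrpCat.{u}).obj P) := by
  have claim : ∀ (G : CohTop.Ab Y) (φ : P ⟶ G.obj), φ = 0 := by
    intro G φ
    apply NatTrans.ext
    funext V
    apply ConcreteCategory.hom_ext
    intro s
    obtain ⟨ι, Vk, hV, hcov, hz⟩ := h V.unop s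
    show φ.app V s = 0
    refine TopCat.Sheaf.eq_of_locally_eq' G Vk V.unop (fun k => homOfLE (hV k)) hcov.ge _ _ ?_
    intro k
    have hn := ConcreteCategory.congr_hom (φ.naturality (homOfLE (hV k)).op) s
    simp only [ConcreteCategory.comp_apply] at hn
    rw [map_zero]
    refine hn.symm.trans ?_
    erw [hz k]
    exact map_zero _
  rw [IsZero.iff_id_eq_zero]
  apply ((sheafificationAdjunction (Opens.grothendieckTopology Y) AddCommGrpCat.{u}).homEquiv _ _).injective
  rw [claim _ (((sheafificationAdjunction (Opens.grothendieckTopology Y) AddCommGrpCat.{u}).homEquiv _ _) (𝟙 _)),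
    claim _ (((sheafificationAdjunction (Opens.grothendieckTopology Y) AddCommGrpCat.{u}).homEquiv _ _) 0)]

variable {X Y : TopCat.{u}} (f : Y ⟶ X) (hf : Topology.IsOpenEmbedding f)
variable [hc : hf.isOpenMap.functor.IsContinuous (Opens.grothendieckTopology Y)
  (Opens.grothendieckTopology X)]

/-- sectionwise, the unit `F ⟶ j_* j^* F` is restriction to `V ∩ U`, up to an isomorphism -/
theorem unit_app_factor (F : CohTop.Ab X) (V : Opens X) :
    ∃ g : ((CohTop.push f).obj ((CohTop.pull f).obj F)).obj.obj (op V) ⟶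
        F.obj.obj (op (hf.isOpenMap.functor.obj ((Opens.map f).obj V))), IsIso g ∧
      ((TopCat.Sheaf.pullbackPushforwardAdjunction AddCommGrpCat.{u} f).unit.app F).hom.app (op V) ≫ g =
        F.obj.map (hf.isOpenMap.adjunction.counit.app V).op := by
  let adjS : hf.isOpenMap.functor ⊣ Opens.map f := hf.isOpenMap.adjunction
  let adjR := adjS.sheafPushforwardContinuous (E := AddCommGrpCat.{u})
    (Opens.grothendieckTopology Y) (Opens.grothendieckTopology X)
  let adj : CohTop.pull f ⊣ CohTop.push f :=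
    TopCat.Sheaf.pullbackPushforwardAdjunction AddCommGrpCat.{u} f
  let e : CohTop.pull f ≅ _ := adj.leftAdjointUniq adjR
  have h1 : adj.unit.app F ≫ (CohTop.push f).map (e.hom.app F) = adjR.unit.app F :=
    Adjunction.unit_leftAdjointUniq_hom_app adj adjR F
  have h2 : (adjR.unit.app F).hom.app (op V) = F.obj.map (adjS.counit.app V).op := by
    simp [adjR]
  have h3 : (adj.unit.app F).hom.app (op V) ≫ ((CohTop.push f).map (e.hom.app F)).hom.app (op V) =
      F.obj.map (adjS.counit.app V).op := by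
    rw [← h2, ← h1]
    rfl
  have h4 : IsIso (((CohTop.push f).map (e.hom.app F)).hom.app (op V)) := by
    have : IsIso ((CohTop.push f).map (e.hom.app F)) := inferInstance
    have : IsIso ((sheafToPresheaf _ _).map ((CohTop.push f).map (e.hom.app F))) := inferInstance
    exact NatIso.isIso_app_of_isIso ((sheafToPresheaf _ _).map ((CohTop.push f).map (e.hom.app F))) (op V)
  exact ⟨_, h4, h3⟩

theorem unit_mono (F : CohTop.Ab X)
    (h : ∀ V : Opens X, Function.Injective (F.obj.map (hf.isOpenMap.adjunction.counit.app V).op)) :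
    Mono ((TopCat.Sheaf.pullbackPushforwardAdjunction AddCommGrpCat.{u} f).unit.app F) := by
  have hV : ∀ V : (Opens X)ᵒᵖ, Mono
      (((TopCat.Sheaf.pullbackPushforwardAdjunction AddCommGrpCat.{u} f).unit.app F).hom.app V) := by
    intro V
    obtain ⟨g, hg, hfac⟩ := unit_app_factor f hf F V.unop
    have : Mono (F.obj.map (hf.isOpenMap.adjunction.counit.app V.unop).op) :=
      (AddCommGrpCat.mono_iff_injective _).mpr (h V.unop)
    rw [← hfac] at this
    exact mono_of_mono _ g
  have : Mono ((TopCat.Sheaf.pullbackPushforwardAdjunction AddCommGrpCat.{u} f).unit.app F).hom :=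
    NatTrans.mono_of_mono_app _
  exact (sheafToPresheaf _ _).mono_of_mono_map this

theorem unit_epi (F : CohTop.Ab X)
    (h : ∀ V : Opens X, Function.Surjective (F.obj.map (hf.isOpenMap.adjunction.counit.app V).op)) :
    Epi ((TopCat.Sheaf.pullbackPushforwardAdjunction AddCommGrpCat.{u} f).unit.app F) := by
  have hV : ∀ V : (Opens X)ᵒᵖ, Epi
      (((TopCat.Sheaf.pullbackPushforwardAdjunction AddCommGrpCat.{u} f).unit.app F).hom.app V) := by
    intro V
    obtain ⟨g, hg, hfac⟩ := unit_app_factor f hf F V.unop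
    have h1 : Epi (F.obj.map (hf.isOpenMap.adjunction.counit.app V.unop).op) :=
      (AddCommGrpCat.epi_iff_surjective _).mpr (h V.unop)
    have h2 : ((TopCat.Sheaf.pullbackPushforwardAdjunction AddCommGrpCat.{u} f).unit.app F).hom.app V =
        F.obj.map (hf.isOpenMap.adjunction.counit.app V.unop).op ≫ inv g := by
      rw [← hfac, Category.assoc, IsIso.hom_inv_id, Category.comp_id]
    rw [h2]
    infer_instance
  have : Epi ((TopCat.Sheaf.pullbackPushforwardAdjunction AddCommGrpCat.{u} f).unit.app F).hom :=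
    NatTrans.epi_of_epi_app _
  exact (sheafToPresheaf _ _).epi_of_epi_map this

section Theta

variable [PreservesFiniteLimits (R f hf)] [PreservesFiniteColimits (R f hf)]

instance : (R f hf).Additive := Functor.additive_of_preserves_binary_products _

/-- `Ext^i(ℤ_{jW}, F) ≃ Ext^i(ℤ_W, F|_Y)` -/
noncomputable def Θ (W : Opens Y) (F : CohTop.Ab X) (i : ℕ) :
    Abelian.Ext.{u} ((freeFunctor X).obj (hf.isOpenMap.functor.obj W)) F i ≃+
      Abelian.Ext.{u} ((freeFunctor Y).obj W) ((R f hf).obj F) i :=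
  (extPreEquiv (freeIso f hf W) F i).trans
    (ExtAdjNat.extAdjEquiv.{u, u} (adjL f hf) ((freeFunctor Y).obj W) F i)

lemma Θ_nat {W' W : Opens Y} (a : W' ⟶ W) (F : CohTop.Ab X) (i : ℕ)
    (x : Abelian.Ext.{u} ((freeFunctor X).obj (hf.isOpenMap.functor.obj W)) F i) :
    Θ f hf W' F i ((Abelian.Ext.mk₀ ((freeFunctor X).map (hf.isOpenMap.functor.map a))).comp x
        (zero_add i)) =
      (Abelian.Ext.mk₀ ((freeFunctor Y).map a)).comp (Θ f hf W F i x) (zero_add i) := by
  show ExtAdjNat.extAdjEquiv.{u, u} (adjL f hf) ((freeFunctor Y).obj W') F i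
      ((Abelian.Ext.mk₀ (freeIso f hf W').hom).comp
        ((Abelian.Ext.mk₀ ((freeFunctor X).map (hf.isOpenMap.functor.map a))).comp x
          (zero_add i)) (zero_add i)) =
    (Abelian.Ext.mk₀ ((freeFunctor Y).map a)).comp
      (ExtAdjNat.extAdjEquiv.{u, u} (adjL f hf) ((freeFunctor Y).obj W) F i
        ((Abelian.Ext.mk₀ (freeIso f hf W).hom).comp x (zero_add i))) (zero_add i)
  rw [← ExtAdjNat.extAdjEquiv_naturality_left, Abelian.Ext.mk₀_comp_mk₀_assoc,
    Abelian.Ext.mk₀_comp_mk₀_assoc, freeIso_nat]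

theorem Rpush_isZero (F : CohTop.Ab X) (n : ℕ)
    (hsurj : ∀ (V : Opens X)
      (x : Abelian.Ext.{u} ((freeFunctor X).obj
        (hf.isOpenMap.functor.obj ((Opens.map f).obj V))) F (n + 1)),
      ∃ y : Abelian.Ext.{u} ((freeFunctor X).obj V) F (n + 1),
        (Abelian.Ext.mk₀ ((freeFunctor X).map (hf.isOpenMap.adjunction.counit.app V))).comp y
          (zero_add (n + 1)) = x) :
    IsZero ((CohTop.Rpush f (n + 1)).obj ((R f hf).obj F)) := by
  obtain ⟨e⟩ := higher_direct_image_eq_sheafify f ((R f hf).obj F) (n + 1)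
  refine IsZero.of_iso ?_ e
  apply isZero_sheafify
  intro V ξ
  change Abelian.Ext.{u} ((freeFunctor Y).obj ((Opens.map f).obj V)) ((R f hf).obj F) (n + 1) at ξ
  obtain ⟨y, hy⟩ := hsurj V ((Θ f hf ((Opens.map f).obj V) F (n + 1)).symm ξ)
  obtain ⟨ι, Vk, hV, hcov, hz⟩ := kill_on_cover n F V y
  refine ⟨ι, Vk, hV, hcov, fun k => ?_⟩
  show (Abelian.Ext.mk₀ ((freeFunctor Y).map ((Opens.map f).map (homOfLE (hV k))))).comp ξ
    (zero_add (n + 1)) = 0
  have hξ : ξ = Θ f hf ((Opens.map f).obj V) F (n + 1)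
      ((Θ f hf ((Opens.map f).obj V) F (n + 1)).symm ξ) := (AddEquiv.apply_symm_apply _ _).symm
  rw [hξ, ← Θ_nat, ← hy, Abelian.Ext.mk₀_comp_mk₀_assoc]
  have e1 : (freeFunctor X).map (hf.isOpenMap.functor.map ((Opens.map f).map (homOfLE (hV k)))) ≫
      (freeFunctor X).map (hf.isOpenMap.adjunction.counit.app V) =
      (freeFunctor X).map (hf.isOpenMap.adjunction.counit.app (Vk k)) ≫
        (freeFunctor X).map (homOfLE (hV k)) := by
    rw [← Functor.map_comp, ← Functor.map_comp]
    congr 1
  rw [e1, ← Abelian.Ext.mk₀_comp_mk₀_assoc, hz k, Abelian.Ext.comp_zero, map_zero]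

theorem loc_vanish
    (hinj : ∀ I : CohTop.Ab X, Injective I → Injective ((R f hf).obj I))
    {Γ : CohTop.Ab X ⥤ CohTop.Ab X} [Γ.Additive] (ι : Γ ⟶ 𝟭 (CohTop.Ab X))
    (w : ∀ G : CohTop.Ab X,
      ι.app G ≫ (TopCat.Sheaf.pullbackPushforwardAdjunction AddCommGrpCat.{u} f).unit.app G = 0)
    (hΓ : ∀ G : CohTop.Ab X, IsLimit (KernelFork.ofι (ι.app G) (w G)))
    (F : CohTop.Ab X) (N : ℕ)
    (h0i : ∀ V : Opens X,
      Function.Injective (F.obj.map (hf.isOpenMap.adjunction.counit.app V).op))
    (h0s : 0 < N → ∀ V : Opens X,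
      Function.Surjective (F.obj.map (hf.isOpenMap.adjunction.counit.app V).op))
    (hs : ∀ n : ℕ, n + 1 < N → ∀ (V : Opens X)
      (x : Abelian.Ext.{u} ((freeFunctor X).obj
        (hf.isOpenMap.functor.obj ((Opens.map f).obj V))) F (n + 1)),
      ∃ y : Abelian.Ext.{u} ((freeFunctor X).obj V) F (n + 1),
        (Abelian.Ext.mk₀ ((freeFunctor X).map (hf.isOpenMap.adjunction.counit.app V))).comp y
          (zero_add (n + 1)) = x) :
    ∀ i : ℕ, i ≤ N → IsZero ((Γ.rightDerived i).obj F) := by
  let adjS : hf.isOpenMap.functor ⊣ Opens.map f := hf.isOpenMap.adjunction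
  let adjR := adjS.sheafPushforwardContinuous (E := AddCommGrpCat.{u})
    (Opens.grothendieckTopology Y) (Opens.grothendieckTopology X)
  let adj : CohTop.pull f ⊣ CohTop.push f :=
    TopCat.Sheaf.pullbackPushforwardAdjunction AddCommGrpCat.{u} f
  let e : CohTop.pull f ≅ R f hf := adj.leftAdjointUniq adjR
  have hlim' : PreservesFiniteLimits (CohTop.pull f) :=
    preservesFiniteLimits_of_natIso e.symm
  have hcolim : PreservesFiniteColimits (CohTop.pull f) := by
    have : PreservesColimitsOfSize.{0, 0} (CohTop.pull f) :=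
      adj.leftAdjoint_preservesColimits
    exact PreservesColimitsOfSize.preservesFiniteColimits _
  have hadd : (CohTop.pull f).Additive := adj.left_adjoint_additive
  have hL : ∀ I : CohTop.Ab X, Injective I → Injective ((CohTop.pull f).obj I) := by
    intro I hI
    exact Injective.of_iso (e.app I).symm (hinj I hI)
  have hmono : ∀ V : Opens X, Mono (adjS.counit.app V) :=
    fun V => ⟨fun _ _ _ => Subsingleton.elim _ _⟩
  have hepi : ∀ I : CohTop.Ab X, Injective I → Epi (adj.unit.app I) := by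
    intro I hI
    exact Groth.Agent.H10.FlasqueInj.epi_unit.{u} (Opens.grothendieckTopology _)
      (Opens.grothendieckTopology _) adjS hmono I
  obtain ⟨-, h1, h2⟩ := Groth.Agent.H10.LocCohAbs.main adj hL hepi ι w hΓ
  intro i hi
  match i, hi with
  | 0, _ =>
    have hpl : PreservesLimitsOfSize.{0, 0} (CohTop.push f) := adj.rightAdjoint_preservesLimits
    have hpf : PreservesFiniteLimits (CohTop.push f) :=
      PreservesLimitsOfSize.preservesFiniteLimits _
    have hT : PreservesFiniteLimits (CohTop.pull f ⋙ CohTop.push f) :=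
      comp_preservesFiniteLimits _ _
    have hTm : (CohTop.pull f ⋙ CohTop.push f).PreservesMonomorphisms := inferInstance
    have hΓlim : PreservesFiniteLimits Γ :=
      KerLex.preservesFiniteLimits_of_kernel ι adj.unit w hΓ
    refine IsZero.of_iso ?_ (Γ.rightDerivedZeroIsoSelf.app F)
    have hm : Mono (adj.unit.app F) := unit_mono f hf F h0i
    have hz : ι.app F = 0 := by
      rw [← cancel_mono (adj.unit.app F), w, zero_comp]
    have : Mono (ι.app F) := mono_of_isLimit_fork (hΓ F)
    exact IsZero.of_mono_eq_zero (ι.app F) hz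
  | 1, hi =>
    obtain ⟨φ⟩ := h1 F
    refine IsZero.of_iso ?_ φ.symm
    have : Epi (adj.unit.app F) := unit_epi f hf F (h0s (by omega))
    exact isZero_cokernel_of_epi _
  | n + 2, hi =>
    obtain ⟨φ⟩ := h2 n
    have hz := Rpush_isZero f hf F n (hs n (by omega))
    exact IsZero.of_iso hz ((φ.app F).symm ≪≫ (CohTop.Rpush f (n + 1)).mapIso (e.app F))

end Theta

end Groth.Agent.H10.LocCohVan
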