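import Mathlib
import Groth.Prelude.Def_LocCohZ
import Groth.Agent.H10.LocCohVan

set_option autoImplicit false
universe u
open CategoryTheory CategoryTheory.Limits TopologicalSpace Opposite

namespace Groth.Agent.H10.LocCohVan

open Groth.Agent.H10.CohTopB

variable {X : TopCat.{u}}

lemma res_eq (F : CohTop.Ab X) (i : ℕ) {V W : Opens X} (h : W ≤ V) (y : CohTop.HU F i V) :
    CohTop.res F i h y =
      (Abelian.Ext.mk₀ ((freeFunctor X).map (homOfLE h))).comp
        (y : Abelian.Ext.{u} ((freeFunctor X).obj V) F i) (zero_add i) := rfl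

lemma homEquiv₀_mk₀ {C : Type*} [Category C] [Abelian C] [HasExt.{u} C] {A B : C} (g : A ⟶ B) :
    Abelian.Ext.homEquiv₀ (Abelian.Ext.mk₀ g : Abelian.Ext.{u} A B 0) = g :=
  Abelian.Ext.homEquiv₀.apply_symm_apply g

/-- sections as `Ext⁰` -/
noncomputable def sec0 (F : CohTop.Ab X) (V : Opens X) :
    Abelian.Ext.{u} ((freeFunctor X).obj V) F 0 ≃ F.obj.obj (op V) :=
  Abelian.Ext.homEquiv₀.trans (secEquiv V F)

lemma sec0_comp (F : CohTop.Ab X) {V W : Opens X} (a : W ⟶ V)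
    (y : Abelian.Ext.{u} ((freeFunctor X).obj V) F 0) :
    sec0 F W ((Abelian.Ext.mk₀ ((freeFunctor X).map a)).comp y (zero_add 0)) =
      F.obj.map a.op (sec0 F V y) := by
  have hy : y = Abelian.Ext.mk₀ (Abelian.Ext.homEquiv₀ y) := (Abelian.Ext.mk₀_homEquiv₀_apply y).symm
  rw [hy, Abelian.Ext.mk₀_comp_mk₀]
  show secEquiv W F (Abelian.Ext.homEquiv₀ (Abelian.Ext.mk₀ _)) =
    F.obj.map a.op (secEquiv V F (Abelian.Ext.homEquiv₀ (Abelian.Ext.mk₀ _)))
  rw [homEquiv₀_mk₀, homEquiv₀_mk₀, secEquiv_map]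

theorem transport_surj (F : CohTop.Ab X) (i : ℕ) {V W₁ W₂ : Opens X} (e : W₁ = W₂) (h₁ : W₁ ≤ V)
    (a : W₂ ⟶ V) (hs : Function.Surjective (CohTop.res F i h₁))
    (x : Abelian.Ext.{u} ((freeFunctor X).obj W₂) F i) :
    ∃ y : Abelian.Ext.{u} ((freeFunctor X).obj V) F i,
      (Abelian.Ext.mk₀ ((freeFunctor X).map a)).comp y (zero_add i) = x := by
  subst e
  obtain ⟨y, hy⟩ := hs x
  exact ⟨y, hy⟩

theorem transport_inj0 (F : CohTop.Ab X) {V W₁ W₂ : Opens X} (e : W₁ = W₂) (h₁ : W₁ ≤ V)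
    (a : W₂ ⟶ V) (hs : Function.Injective (CohTop.res F 0 h₁)) :
    Function.Injective (F.obj.map a.op) := by
  subst e
  intro s s' hss
  have h1 := sec0_comp F a ((sec0 F V).symm s)
  have h2 := sec0_comp F a ((sec0 F V).symm s')
  rw [Equiv.apply_symm_apply] at h1 h2
  have h3 : (Abelian.Ext.mk₀ ((freeFunctor X).map a)).comp ((sec0 F V).symm s) (zero_add 0) =
      (Abelian.Ext.mk₀ ((freeFunctor X).map a)).comp ((sec0 F V).symm s') (zero_add 0) := by
    apply (sec0 F W₁).injective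
    rw [h1, h2]
    exact hss
  have h4 := hs h3
  exact (sec0 F V).symm.injective h4

theorem transport_surj0 (F : CohTop.Ab X) {V W₁ W₂ : Opens X} (e : W₁ = W₂) (h₁ : W₁ ≤ V)
    (a : W₂ ⟶ V) (hs : Function.Surjective (CohTop.res F 0 h₁)) :
    Function.Surjective (F.obj.map a.op) := by
  subst e
  intro t
  obtain ⟨y, hy⟩ := hs ((sec0 F W₁).symm t)
  refine ⟨sec0 F V y, ?_⟩
  have h1 := sec0_comp F a y
  rw [← h1]
  have : (Abelian.Ext.mk₀ ((freeFunctor X).map a)).comp y (zero_add 0) = (sec0 F W₁).symm t := hy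
  rw [this, Equiv.apply_symm_apply]

end Groth.Agent.H10.LocCohVan
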