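import Mathlib
import Groth.Prelude.Def_W4c3perfectstacksMV

set_option autoImplicit false
set_option linter.unusedSectionVars false
universe v u
open CategoryTheory CategoryTheory.Limits CategoryTheory.Pretriangulated
open W4c3perfectstacks W4c3perfectstacks.MVSq

namespace Groth.Agent.H10.MVSq

section General

variable {C D : Type u} [Category.{v} C] [Category.{v} D]

lemma isZero_rightAdjoint_obj [HasZeroMorphisms C] [HasZeroMorphisms D] {L : C ⥤ D} {G : D ⥤ C}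
    (adj : L ⊣ G) {X : D} (hX : IsZero X) : IsZero (G.obj X) := by
  rw [IsZero.iff_id_eq_zero]
  exact (adj.homEquiv _ _).symm.injective (hX.eq_of_tgt _ _)

lemma eq_zero_of_isZero_left [HasZeroMorphisms C] [HasZeroMorphisms D] {L : C ⥤ D} {G : D ⥤ C}
    (adj : L ⊣ G) {K : C} {Y : D} (hK : IsZero (L.obj K)) (u : K ⟶ G.obj Y) : u = 0 :=
  (adj.homEquiv _ _).symm.injective (hK.eq_of_src _ _)

lemma isZero_obj_shift [Preadditive C] [Preadditive D] [HasShift C ℤ] [HasShift D ℤ]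
    [∀ n : ℤ, (shiftFunctor D n).Additive] (L : C ⥤ D) [L.CommShift ℤ] {K : C}
    (hK : IsZero (L.obj K)) (n : ℤ) : IsZero (L.obj (K⟦n⟧)) :=
  IsZero.of_iso ((shiftFunctor D n).map_isZero hK) ((L.commShiftIso n).app K)

lemma lift_map_comm [Preadditive C] [HasBinaryBiproducts C]
    {N₁ N₂ A₁ A₂ F₁ F₂ : C} (φ : N₁ ⟶ N₂) (a₁ : N₁ ⟶ A₁) (a₂ : N₂ ⟶ A₂) (f₁ : N₁ ⟶ F₁)
    (f₂ : N₂ ⟶ F₂) (α : A₁ ⟶ A₂) (β : F₁ ⟶ F₂) (h1 : a₁ ≫ α = φ ≫ a₂) (h2 : f₁ ≫ β = φ ≫ f₂) :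
    biprod.lift a₁ f₁ ≫ biprod.map α β = φ ≫ biprod.lift a₂ f₂ := by
  apply biprod.hom_ext
  · simp [h1]
  · simp [h2]

lemma desc_neg_map_comm [Preadditive C] [HasBinaryBiproducts C]
    {E₁ E₂ A₁ A₂ F₁ F₂ : C} (Φ : E₁ ⟶ E₂) (x₁ : A₁ ⟶ E₁) (x₂ : A₂ ⟶ E₂) (y₁ : F₁ ⟶ E₁)
    (y₂ : F₂ ⟶ E₂) (α : A₁ ⟶ A₂) (β : F₁ ⟶ F₂) (h1 : x₁ ≫ Φ = α ≫ x₂) (h2 : y₁ ≫ Φ = β ≫ y₂) :
    biprod.desc x₁ (-y₁) ≫ Φ = biprod.map α β ≫ biprod.desc x₂ (-y₂) := by
  apply biprod.hom_ext'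
  · simp [h1]
  · simp [h2]

lemma unit_comp_injective {L : C ⥤ D} {G : D ⥤ C} (adj : L ⊣ G) [IsIso adj.counit] {N : C} {Z : D}
    (y₁ y₂ : G.obj (L.obj N) ⟶ G.obj Z) (h : adj.unit.app N ≫ y₁ = adj.unit.app N ≫ y₂) :
    y₁ = y₂ := by
  have hG := adj.fullyFaithfulROfIsIsoCounit
  have e : ∀ m : L.obj N ⟶ Z, adj.unit.app N ≫ G.map m = adj.homEquiv N Z m :=
    fun m => (Adjunction.homEquiv_unit adj N Z m).symm
  rw [← hG.map_preimage y₁, ← hG.map_preimage y₂] at h ⊢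
  rw [e, e] at h
  rw [(adj.homEquiv _ _).injective h]

lemma exists_unit_comp {L : C ⥤ D} {G : D ⥤ C} (adj : L ⊣ G) {N : C} {Z : D}
    (x : N ⟶ G.obj Z) : ∃ y : G.obj (L.obj N) ⟶ G.obj Z, adj.unit.app N ≫ y = x :=
  ⟨G.map ((adj.homEquiv N Z).symm x),
    ((Adjunction.homEquiv_unit adj N Z _).symm).trans (Equiv.apply_symm_apply _ _)⟩

lemma bijective_precomp_of_isIso_map {L : C ⥤ D} {G : D ⥤ C} (adj : L ⊣ G) {X Y : C}
    (f : X ⟶ Y) [IsIso (L.map f)] (Z : D) :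
    Function.Bijective (fun t : Y ⟶ G.obj Z => f ≫ t) := by
  have key : ∀ t : Y ⟶ G.obj Z, f ≫ t = adj.homEquiv _ _ (L.map f ≫ (adj.homEquiv _ _).symm t) := by
    intro t
    rw [Adjunction.homEquiv_naturality_left, Equiv.apply_symm_apply]
  constructor
  · intro t₁ t₂ h
    dsimp only at h
    rw [key, key] at h
    have h2 := (adj.homEquiv _ _).injective h
    rw [cancel_epi] at h2
    exact (adj.homEquiv _ _).symm.injective h2
  · intro x
    refine ⟨adj.homEquiv _ _ (inv (L.map f) ≫ (adj.homEquiv _ _).symm x), ?_⟩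
    dsimp only
    rw [key, Equiv.symm_apply_apply, IsIso.hom_inv_id_assoc, Equiv.apply_symm_apply]

lemma isIso_map_of_bijective_precomp {L : C ⥤ D} {G : D ⥤ C} (adj : L ⊣ G) {X Y : C}
    (f : X ⟶ Y) (h : ∀ Z : D, Function.Bijective (fun t : Y ⟶ G.obj Z => f ≫ t)) :
    IsIso (L.map f) := by
  rw [isIso_iff_coyoneda_map_bijective]
  intro T
  have key : (fun x : L.obj Y ⟶ T => L.map f ≫ x) =
      (adj.homEquiv _ _).symm ∘ (fun t : Y ⟶ G.obj T => f ≫ t) ∘ (adj.homEquiv _ _) := by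
    funext x
    dsimp only [Function.comp]
    rw [Equiv.eq_symm_apply, Adjunction.homEquiv_naturality_left]
  rw [key]
  exact (adj.homEquiv _ _).symm.bijective.comp ((h T).comp (adj.homEquiv _ _).bijective)

lemma symm_unit_comp_map {L : C ⥤ D} {G : D ⥤ C} (adj : L ⊣ G) {N X : C} {Y : D}
    (x : N ⟶ X) (m : L.obj X ⟶ Y) :
    (adj.homEquiv N Y).symm (x ≫ adj.unit.app X ≫ G.map m) = L.map x ≫ m := by
  rw [Equiv.symm_apply_eq, Adjunction.homEquiv_naturality_left]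
  exact congrArg (x ≫ ·) (Adjunction.homEquiv_unit adj X Y m).symm

lemma symm_eq_zero_iff [Preadditive C] [Preadditive D] {L : C ⥤ D} {G : D ⥤ C} (adj : L ⊣ G)
    [G.Additive] {N : C} {Y : D} (x : N ⟶ G.obj Y) (h : (adj.homEquiv N Y).symm x = 0) :
    x = 0 := by
  have := Adjunction.homEquiv_unit adj N Y ((adj.homEquiv N Y).symm x)
  rw [Equiv.apply_symm_apply, h, Functor.map_zero, comp_zero] at this
  exact this

end General


section Abstract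

variable {S : Type u} [Category.{v} S] [Preadditive S] [HasZeroObject S] [HasShift S ℤ]
  [∀ n : ℤ, (shiftFunctor S n).Additive] [Pretriangulated S]

lemma exists_mv_triangle_aux
    {N A FN E : S} (b : N ⟶ A) (ηN : N ⟶ FN) (ηA : A ⟶ E) (Fb : FN ⟶ E)
    (comm : b ≫ ηA = ηN ≫ Fb)
    (P Kc : S → Prop)
    (H1 : ∀ Z, P Z → Function.Bijective (fun t : E ⟶ Z => Fb ≫ t))
    (H2 : ∀ Z, P Z → ∀ y₁ y₂ : A ⟶ Z, b ≫ y₁ = b ≫ y₂ → y₁ = y₂)
    (H3 : ∀ Z, P Z → ∀ s : N⟦(1:ℤ)⟧ ⟶ Z, ∃ s' : A⟦(1:ℤ)⟧ ⟶ Z, s = b⟦(1:ℤ)⟧' ≫ s')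
    (H4 : ∀ (X₀ X Y : S) (g : X₀ ⟶ X) (f : X ⟶ Y) (h : Y ⟶ X₀⟦(1:ℤ)⟧),
      Triangle.mk g f h ∈ distTriang S →
      (∀ Z, P Z → Function.Bijective (fun t : Y ⟶ Z => f ≫ t)) → Kc X₀)
    (H5 : ∀ K, Kc K → Kc (K⟦(1:ℤ)⟧))
    (H6E : ∀ K, Kc K → ∀ x : K ⟶ E, x = 0)
    (H6A : ∀ K, Kc K → ∀ x : K ⟶ A, x = 0)
    (H7s : ∀ K, Kc K → ∀ w : K ⟶ FN, ∃ g : K ⟶ N, g ≫ ηN = w)
    (H7i : ∀ K, Kc K → ∀ y : K ⟶ N⟦(1:ℤ)⟧, y ≫ ηN⟦(1:ℤ)⟧' = 0 → y = 0) :
    ∃ d : E ⟶ N⟦(1:ℤ)⟧,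
      Triangle.mk (biprod.lift b ηN) (biprod.desc ηA (-Fb)) d ∈ distTriang S := by
  obtain ⟨E', v', d', hT⟩ := distinguished_cocone_triangle (biprod.lift b ηN)
  have huv : biprod.lift b ηN ≫ biprod.desc ηA (-Fb) = 0 := by
    rw [biprod.lift_desc, Preadditive.comp_neg, comm, add_neg_cancel]
  obtain ⟨κ, hκ⟩ : ∃ κ : E' ⟶ E, biprod.desc ηA (-Fb) = v' ≫ κ :=
    Triangle.yoneda_exact₂ _ hT _ huv
  have hd'u : d' ≫ (biprod.lift b ηN)⟦(1:ℤ)⟧' = 0 := comp_distTriang_mor_zero₃₁ _ hT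
  have hd'b : d' ≫ b⟦(1:ℤ)⟧' = 0 := by
    have := congrArg (· ≫ (biprod.fst : A ⊞ FN ⟶ A)⟦(1:ℤ)⟧') hd'u
    simpa only [Category.assoc, ← Functor.map_comp, biprod.lift_fst, zero_comp] using this
  have hd'η : d' ≫ ηN⟦(1:ℤ)⟧' = 0 := by
    have := congrArg (· ≫ (biprod.snd : A ⊞ FN ⟶ FN)⟦(1:ℤ)⟧') hd'u
    simpa only [Category.assoc, ← Functor.map_comp, biprod.lift_snd, zero_comp] using this
  have huv' : biprod.lift b ηN ≫ v' = 0 := comp_distTriang_mor_zero₁₂ _ hT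
  have hinr : biprod.inr ≫ v' ≫ κ = -Fb := by rw [← hκ, biprod.inr_desc]
  have star : ∀ Z, P Z → Function.Bijective (fun t : E ⟶ Z => κ ≫ t) := by
    intro Z hZ
    constructor
    · intro t₁ t₂ h
      dsimp only at h
      apply (H1 Z hZ).1
      dsimp only
      have : (-Fb) ≫ t₁ = (-Fb) ≫ t₂ := by
        rw [← hinr]; simp only [Category.assoc, h]
      simpa only [Preadditive.neg_comp, neg_inj] using this
    · intro x'
      obtain ⟨t, ht⟩ := (H1 Z hZ).2 (-(biprod.inr ≫ v' ≫ x'))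
      dsimp only at ht
      have hvt : biprod.desc ηA (-Fb) ≫ t = v' ≫ x' := by
        apply biprod.hom_ext'
        · rw [biprod.inl_desc_assoc]
          apply H2 Z hZ
          have h1 : biprod.lift b ηN ≫ v' ≫ x' = 0 := by
            rw [← Category.assoc, huv', zero_comp]
          rw [biprod.lift_eq, Preadditive.add_comp, Category.assoc, Category.assoc] at h1
          rw [← Category.assoc, comm, Category.assoc, ht, Preadditive.comp_neg]
          exact (eq_neg_of_add_eq_zero_left h1).symm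
        · rw [biprod.inr_desc_assoc, Preadditive.neg_comp, ht, neg_neg]
      have h2 : v' ≫ (κ ≫ t - x') = 0 := by
        rw [Preadditive.comp_sub, ← Category.assoc, ← hκ, hvt, sub_self]
      obtain ⟨s, hs⟩ : ∃ s : N⟦(1:ℤ)⟧ ⟶ Z, κ ≫ t - x' = d' ≫ s :=
        Triangle.yoneda_exact₃ _ hT _ h2
      obtain ⟨s', hs'⟩ := H3 Z hZ s
      refine ⟨t, ?_⟩
      dsimp only
      rw [← sub_eq_zero, hs, hs', ← Category.assoc, hd'b, zero_comp]
  obtain ⟨X, f, h, hTκ⟩ := distinguished_cocone_triangle₁ κ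
  have hX : Kc X := H4 X E' E f κ h hTκ star
  have vanE' : ∀ K, Kc K → ∀ x : K ⟶ E', x = 0 := by
    intro K hK x
    have hxd : x ≫ d' = 0 := H7i K hK _ (by rw [Category.assoc, hd'η, comp_zero])
    obtain ⟨w, hw⟩ : ∃ w : K ⟶ A ⊞ FN, x = w ≫ v' := Triangle.coyoneda_exact₃ _ hT x hxd
    obtain ⟨g, hg⟩ := H7s K hK (w ≫ biprod.snd)
    have hwg : w = g ≫ biprod.lift b ηN := by
      apply biprod.hom_ext
      · rw [Category.assoc, biprod.lift_fst, H6A K hK (w ≫ biprod.fst), H6A K hK (g ≫ b)]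
      · rw [Category.assoc, biprod.lift_snd, hg]
    rw [hw, hwg, Category.assoc, huv', comp_zero]
  have hf0 : f = 0 := vanE' X hX f
  have hXzero : IsZero X := by
    have hX1 : Kc (X⟦(1:ℤ)⟧) := H5 X hX
    obtain ⟨g, hg⟩ : ∃ g : X⟦(1:ℤ)⟧ ⟶ E, 𝟙 (X⟦(1:ℤ)⟧) = g ≫ h :=
      Triangle.coyoneda_exact₁ _ hTκ (𝟙 (X⟦(1:ℤ)⟧)) (by
        change 𝟙 _ ≫ f⟦(1:ℤ)⟧' = 0
        rw [hf0, Functor.map_zero, comp_zero])
    have hg0 : g = 0 := H6E _ hX1 g
    rw [hg0, zero_comp] at hg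
    rw [IsZero.iff_id_eq_zero]
    apply (shiftFunctor S (1:ℤ)).map_injective
    rw [CategoryTheory.Functor.map_id, Functor.map_zero, hg]
  haveI : IsIso κ := (Triangle.isZero₁_iff_isIso₂ _ hTκ).1 hXzero
  refine ⟨inv κ ≫ d', ?_⟩
  refine isomorphic_distinguished _ hT _
    (Triangle.isoMk _ _ (Iso.refl _) (Iso.refl _) (asIso κ).symm ?_ ?_ ?_)
  · change biprod.lift b ηN ≫ 𝟙 _ = 𝟙 _ ≫ biprod.lift b ηN
    rw [Category.comp_id, Category.id_comp]
  · change biprod.desc ηA (-Fb) ≫ inv κ = 𝟙 _ ≫ v'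
    rw [Category.id_comp, hκ, Category.assoc, IsIso.hom_inv_id, Category.comp_id]
  · change (inv κ ≫ d') ≫ (𝟙 N)⟦(1:ℤ)⟧' = inv κ ≫ d'
    rw [CategoryTheory.Functor.map_id, Category.comp_id]

lemma isIso_neg' {X Y : S} (f : X ⟶ Y) [IsIso f] : IsIso (-f) :=
  ⟨⟨-inv f, by simp, by simp⟩⟩

lemma isIso_comp_of_biprod_triangle {X Y Z Y₁ Y₂ : S} (α : X ⟶ Y) (v : Y ⟶ Z)
    (d : Z ⟶ X⟦(1:ℤ)⟧) (hT : Triangle.mk α v d ∈ distTriang S)
    (p₁ : Y ⟶ Y₁) (p₂ : Y ⟶ Y₂) (i₁ : Y₁ ⟶ Y) (i₂ : Y₂ ⟶ Y)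
    (h11 : i₁ ≫ p₁ = 𝟙 _) (h21 : i₂ ≫ p₁ = 0)
    (htot : p₁ ≫ i₁ + p₂ ≫ i₂ = 𝟙 _) [IsIso (i₂ ≫ v)] : IsIso (α ≫ p₁) := by
  have hαv : α ≫ v = 0 := comp_distTriang_mor_zero₁₂ _ hT
  have hvd : v ≫ d = 0 := comp_distTriang_mor_zero₂₃ _ hT
  have hv : v = p₁ ≫ i₁ ≫ v + p₂ ≫ i₂ ≫ v := by
    rw [← Category.assoc, ← Category.assoc, ← Preadditive.add_comp, htot, Category.id_comp]
  refine isIso_of_yoneda_map_bijective _ (fun W => ⟨?_, ?_⟩)
  · intro w₁ w₂ h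
    dsimp only at h
    rw [← sub_eq_zero]
    set w := w₁ - w₂ with hw
    have h1 : w ≫ α ≫ p₁ = 0 := by rw [hw, Preadditive.sub_comp, h, sub_self]
    have h2 : w ≫ α ≫ p₂ = 0 := by
      have h3 : w ≫ α ≫ v = 0 := by rw [hαv, comp_zero]
      rw [hv, Preadditive.comp_add, Preadditive.comp_add, ← Category.assoc α, ← Category.assoc w,
        ← Category.assoc w, Category.assoc w α p₁, h1, zero_comp, zero_add] at h3
      have h4 : (w ≫ α ≫ p₂) ≫ (i₂ ≫ v) = 0 := by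
        simpa only [Category.assoc] using h3
      rw [← cancel_mono (i₂ ≫ v), h4, zero_comp]
    have h5 : w ≫ α = 0 := by
      have : w ≫ α = (w ≫ α) ≫ (p₁ ≫ i₁ + p₂ ≫ i₂) := by rw [htot, Category.comp_id]
      rw [this, Preadditive.comp_add, Category.assoc, Category.assoc, ← Category.assoc α,
        ← Category.assoc w, h1, zero_comp, zero_add, ← Category.assoc α, ← Category.assoc w,
        h2, zero_comp]
    obtain ⟨g, hg⟩ : ∃ g : W⟦(1:ℤ)⟧ ⟶ Z, w⟦(1:ℤ)⟧' = g ≫ d :=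
      Triangle.coyoneda_exact₁ _ hT (w⟦(1:ℤ)⟧') (by
        change w⟦(1:ℤ)⟧' ≫ α⟦(1:ℤ)⟧' = 0
        rw [← Functor.map_comp, h5, Functor.map_zero])
    have hg2 : g = (g ≫ inv (i₂ ≫ v) ≫ i₂) ≫ v := by
      rw [Category.assoc, Category.assoc, IsIso.inv_hom_id, Category.comp_id]
    have : w⟦(1:ℤ)⟧' = 0 := by
      rw [hg, hg2, Category.assoc, hvd, comp_zero]
    apply (shiftFunctor S (1:ℤ)).map_injective
    rw [this, Functor.map_zero]
  · intro y₁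
    set y : W ⟶ Y := y₁ ≫ i₁ - (y₁ ≫ (i₁ ≫ v) ≫ inv (i₂ ≫ v)) ≫ i₂ with hy
    have hyv : y ≫ v = 0 := by
      rw [hy, Preadditive.sub_comp]
      simp only [Category.assoc, IsIso.inv_hom_id, Category.comp_id, sub_self]
    obtain ⟨w, hw⟩ : ∃ w : W ⟶ X, y = w ≫ α := Triangle.coyoneda_exact₂ _ hT y hyv
    refine ⟨w, ?_⟩
    dsimp only
    rw [← Category.assoc, ← hw, hy, Preadditive.sub_comp, Category.assoc, h11, Category.comp_id,
      Category.assoc, h21, comp_zero, sub_zero]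

end Abstract

section MV

variable {S S' R R' : Type u} [Category.{v} S] [Category.{v} S'] [Category.{v} R] [Category.{v} R']
    [Preadditive S] [Preadditive S'] [Preadditive R] [Preadditive R']
    [HasZeroObject S] [HasZeroObject S'] [HasZeroObject R] [HasZeroObject R']
    [HasShift S ℤ] [HasShift S' ℤ] [HasShift R ℤ] [HasShift R' ℤ]
    [∀ n : ℤ, (shiftFunctor S n).Additive] [∀ n : ℤ, (shiftFunctor S' n).Additive]
    [∀ n : ℤ, (shiftFunctor R n).Additive] [∀ n : ℤ, (shiftFunctor R' n).Additive]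
    [Pretriangulated S] [Pretriangulated S'] [Pretriangulated R] [Pretriangulated R']
    [IsTriangulated S] [IsTriangulated S'] [IsTriangulated R] [IsTriangulated R']
    (q : W4c3perfectstacks.MVSq S S' R R')
    [q.jst.CommShift ℤ] [q.fst.CommShift ℤ] [q.jpst.CommShift ℤ] [q.gst.CommShift ℤ]
    [q.jst.IsTriangulated] [q.fst.IsTriangulated] [q.jpst.IsTriangulated] [q.gst.IsTriangulated]

lemma isZero_jst_fls_of_bc {M : S'} (hbc : IsIso (q.bcApp M)) (hM : IsZero (q.jpst.obj M)) :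
    IsZero (q.jst.obj (q.fls.obj M)) :=
  IsZero.of_iso (isZero_rightAdjoint_obj q.adjG hM) (asIso (q.bcApp M))

lemma isZero_jpst_fst {K : S} (hK : IsZero (q.jst.obj K)) :
    IsZero (q.jpst.obj (q.fst.obj K)) :=
  IsZero.of_iso (q.gst.map_isZero hK) (q.e.app K).symm

lemma eq_zero_to_fst_jls (hq : q.IsMV) {L : S'} (hL : IsZero (q.jpst.obj L)) (P : R)
    (g : L ⟶ q.fst.obj (q.jls.obj P)) : g = 0 := by
  haveI := hq.isIso_bc2App P
  rw [← cancel_mono (q.bc2App P), zero_comp]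
  exact eq_zero_of_isZero_left q.adjJp hL _

lemma exists_triangle (hq : q.IsMV) (N : S) :
    ∃ (C : S) (a : C ⟶ N) (c : q.jls.obj (q.jst.obj N) ⟶ C⟦(1 : ℤ)⟧),
      Triangle.mk a (q.adjJ.unit.app N) c ∈ distTriang S ∧ IsZero (q.jst.obj C) := by
  obtain ⟨C, a, c, hT⟩ := distinguished_cocone_triangle₁ (q.adjJ.unit.app N)
  refine ⟨C, a, c, hT, ?_⟩
  have h := q.adjJ.left_triangle_components N
  haveI := hq.isIso_counitJ
  haveI : IsIso (q.jst.map (q.adjJ.unit.app N)) := by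
    rw [IsIso.eq_inv_of_inv_hom_id h]
    infer_instance
  exact (Triangle.isZero₁_iff_isIso₂ _ (q.jst.map_distinguished _ hT)).2 this

lemma bijective_comp_unit (hq : q.IsMV) {K : S} (hK : IsZero (q.jst.obj K)) (N : S) :
    Function.Bijective (fun g : K ⟶ N => g ≫ q.adjF.unit.app N) := by
  obtain ⟨C, a, c, hT, hC⟩ := exists_triangle q hq N
  haveI : IsIso (q.adjF.unit.app C) := hq.isIso_unitF C hC
  have hT' := q.fst.map_distinguished _ hT
  have hL : IsZero (q.jpst.obj (q.fst.obj K)) := isZero_jpst_fst q hK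
  constructor
  · intro g₁ g₂ hg
    dsimp only at hg
    rw [← sub_eq_zero]
    set d := g₁ - g₂ with hd
    have hdη : d ≫ q.adjF.unit.app N = 0 := by rw [hd, Preadditive.sub_comp, hg, sub_self]
    have hdb : d ≫ q.adjJ.unit.app N = 0 := eq_zero_of_isZero_left q.adjJ hK _
    obtain ⟨d', hd'⟩ : ∃ d' : K ⟶ C, d = d' ≫ a := Triangle.coyoneda_exact₂ _ hT d hdb
    have hFd : q.fst.map d = 0 := by
      have h1 := q.adjF.left_triangle_components N
      calc q.fst.map d = q.fst.map d ≫ (q.fst.map (q.adjF.unit.app N) ≫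
              q.adjF.counit.app (q.fst.obj N)) := by rw [h1, Category.comp_id]
        _ = q.fst.map (d ≫ q.adjF.unit.app N) ≫ q.adjF.counit.app (q.fst.obj N) := by
              rw [Functor.map_comp, Category.assoc]
        _ = 0 := by rw [hdη, Functor.map_zero, zero_comp]
    have hFd' : q.fst.map d' ≫ q.fst.map a = 0 := by rw [← Functor.map_comp, ← hd', hFd]
    have hsh : (q.fst.map d')⟦(1:ℤ)⟧' = 0 := by
      obtain ⟨g, hg⟩ : ∃ g : (q.fst.obj K)⟦(1:ℤ)⟧ ⟶ q.fst.obj (q.jls.obj (q.jst.obj N)),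
          (q.fst.map d')⟦(1:ℤ)⟧' = g ≫ _ :=
        Triangle.coyoneda_exact₁ _ hT' ((q.fst.map d')⟦(1:ℤ)⟧') (by
          change (q.fst.map d')⟦(1:ℤ)⟧' ≫ (q.fst.map a)⟦(1:ℤ)⟧' = 0
          rw [← Functor.map_comp, hFd', Functor.map_zero])
      have : g = 0 := eq_zero_to_fst_jls q hq (isZero_obj_shift q.jpst hL 1) _ g
      rw [hg, this, zero_comp]
    have hFd'0 : q.fst.map d' = 0 :=
      (shiftFunctor S' (1:ℤ)).map_injective (by rw [hsh, Functor.map_zero])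
    have h3 : d' ≫ q.adjF.unit.app C = 0 := by
      haveI : q.fls.Additive := q.adjF.right_adjoint_additive
      have := q.adjF.unit.naturality d'
      dsimp at this
      rw [this, hFd'0, Functor.map_zero, comp_zero]
    have hd'0 : d' = 0 := by
      rw [← cancel_mono (q.adjF.unit.app C), h3, zero_comp]
    rw [hd', hd'0, zero_comp]
  · intro w
    set h := (q.adjF.homEquiv K (q.fst.obj N)).symm w with hh
    have hhb : h ≫ q.fst.map (q.adjJ.unit.app N) = 0 := eq_zero_to_fst_jls q hq hL _ _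
    obtain ⟨h', hh'⟩ : ∃ h' : q.fst.obj K ⟶ q.fst.obj C, h = h' ≫ q.fst.map a :=
      Triangle.coyoneda_exact₂ _ hT' h hhb
    refine ⟨(q.adjF.homEquiv K (q.fst.obj C) h' ≫ inv (q.adjF.unit.app C)) ≫ a, ?_⟩
    dsimp only
    have nat := q.adjF.unit.naturality a
    dsimp at nat
    rw [Category.assoc, Category.assoc, nat, IsIso.inv_hom_id_assoc,
      ← Adjunction.homEquiv_naturality_right, ← hh', hh, Equiv.apply_symm_apply]

lemma bijective_fst_map (hq : q.IsMV) {K : S} (hK : IsZero (q.jst.obj K)) (N : S) :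
    Function.Bijective (fun g : K ⟶ N => q.fst.map g) := by
  have h1 := bijective_comp_unit q hq hK N
  have h2 := (q.adjF.homEquiv K (q.fst.obj N)).symm.bijective
  have : (fun g : K ⟶ N => q.fst.map g) =
      (q.adjF.homEquiv K (q.fst.obj N)).symm ∘ (fun g : K ⟶ N => g ≫ q.adjF.unit.app N) := by
    funext g
    dsimp only [Function.comp]
    rw [Equiv.eq_symm_apply, Adjunction.homEquiv_unit]
    have := q.adjF.unit.naturality g
    dsimp at this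
    exact this.symm
  rw [this]
  exact h2.comp h1

lemma eq_zero_to_fls_fst_jls (hq : q.IsMV) {K : S} (hK : IsZero (q.jst.obj K)) (P : R)
    (g : K ⟶ q.fls.obj (q.fst.obj (q.jls.obj P))) : g = 0 :=
  (q.adjF.homEquiv _ _).symm.injective
    ((eq_zero_to_fst_jls q hq (isZero_jpst_fst q hK) P _).trans
      (eq_zero_to_fst_jls q hq (isZero_jpst_fst q hK) P _).symm)

lemma mv_natural (hq : q.IsMV) (N₁ N₂ : S) (φ : N₁ ⟶ N₂)
    (d₁ : q.fls.obj (q.fst.obj (q.jls.obj (q.jst.obj N₁))) ⟶ N₁⟦(1 : ℤ)⟧)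
    (d₂ : q.fls.obj (q.fst.obj (q.jls.obj (q.jst.obj N₂))) ⟶ N₂⟦(1 : ℤ)⟧)
    (h₁ : Triangle.mk (biprod.lift (q.adjJ.unit.app N₁) (q.adjF.unit.app N₁))
        (biprod.desc (q.adjF.unit.app (q.jls.obj (q.jst.obj N₁)))
          (-(q.fls.map (q.fst.map (q.adjJ.unit.app N₁))))) d₁ ∈ distTriang S)
    (h₂ : Triangle.mk (biprod.lift (q.adjJ.unit.app N₂) (q.adjF.unit.app N₂))
        (biprod.desc (q.adjF.unit.app (q.jls.obj (q.jst.obj N₂)))
          (-(q.fls.map (q.fst.map (q.adjJ.unit.app N₂))))) d₂ ∈ distTriang S) :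
    d₁ ≫ (shiftFunctor S (1 : ℤ)).map φ =
      q.fls.map (q.fst.map (q.jls.map (q.jst.map φ))) ≫ d₂ := by
  haveI : q.fls.Additive := q.adjF.right_adjoint_additive
  obtain ⟨C, a, c, hT, hC⟩ := exists_triangle q hq N₁
  have natJ := q.adjJ.unit.naturality φ
  have natF := q.adjF.unit.naturality φ
  have natFA := q.adjF.unit.naturality (q.jls.map (q.jst.map φ))
  dsimp at natJ natF natFA
  have comm : biprod.lift (q.adjJ.unit.app N₁) (q.adjF.unit.app N₁) ≫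
      biprod.map (q.jls.map (q.jst.map φ)) (q.fls.map (q.fst.map φ)) =
      φ ≫ biprod.lift (q.adjJ.unit.app N₂) (q.adjF.unit.app N₂) := by
    exact lift_map_comm _ _ _ _ _ _ _ natJ.symm natF.symm
  obtain ⟨ψ, hψ₁, hψ₂⟩ : ∃ ψ : q.fls.obj (q.fst.obj (q.jls.obj (q.jst.obj N₁))) ⟶
      q.fls.obj (q.fst.obj (q.jls.obj (q.jst.obj N₂))),
      biprod.desc (q.adjF.unit.app (q.jls.obj (q.jst.obj N₁)))
          (-(q.fls.map (q.fst.map (q.adjJ.unit.app N₁)))) ≫ ψ =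
        biprod.map (q.jls.map (q.jst.map φ)) (q.fls.map (q.fst.map φ)) ≫
          biprod.desc (q.adjF.unit.app (q.jls.obj (q.jst.obj N₂)))
          (-(q.fls.map (q.fst.map (q.adjJ.unit.app N₂)))) ∧
      d₁ ≫ (shiftFunctor S (1 : ℤ)).map φ = ψ ≫ d₂ :=
    complete_distinguished_triangle_morphism _ _ h₁ h₂ φ
      (biprod.map (q.jls.map (q.jst.map φ)) (q.fls.map (q.fst.map φ))) comm
  set Φ := q.fls.map (q.fst.map (q.jls.map (q.jst.map φ))) with hΦ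
  have hvτ : biprod.desc (q.adjF.unit.app (q.jls.obj (q.jst.obj N₁)))
      (-(q.fls.map (q.fst.map (q.adjJ.unit.app N₁)))) ≫ (ψ - Φ) = 0 := by
    rw [Preadditive.comp_sub, hψ₁, sub_eq_zero]
    symm
    refine desc_neg_map_comm _ _ _ _ _ _ _ natFA.symm ?_
    rw [hΦ, ← Functor.map_comp, ← Functor.map_comp, ← Functor.map_comp, ← Functor.map_comp, natJ]
  obtain ⟨s, hs⟩ : ∃ s : N₁⟦(1 : ℤ)⟧ ⟶ q.fls.obj (q.fst.obj (q.jls.obj (q.jst.obj N₂))),
      ψ - Φ = d₁ ≫ s := Triangle.yoneda_exact₃ _ h₁ (ψ - Φ) hvτ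
  have hd₁u : d₁ ≫ (q.adjJ.unit.app N₁)⟦(1:ℤ)⟧' = 0 := by
    have h1 : d₁ ≫ (biprod.lift (q.adjJ.unit.app N₁) (q.adjF.unit.app N₁))⟦(1:ℤ)⟧' = 0 :=
      comp_distTriang_mor_zero₃₁ _ h₁
    have h2 := congrArg (· ≫ (biprod.fst)⟦(1:ℤ)⟧') h1
    simp only [Category.assoc, ← Functor.map_comp, biprod.lift_fst, zero_comp] at h2
    exact h2
  obtain ⟨g, hg⟩ : ∃ g : q.fls.obj (q.fst.obj (q.jls.obj (q.jst.obj N₁))) ⟶ C⟦(1 : ℤ)⟧,
      d₁ = g ≫ (-a⟦(1:ℤ)⟧') :=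
    Triangle.coyoneda_exact₃ _ (rot_of_distTriang _ (rot_of_distTriang _ hT)) d₁ (by
      change d₁ ≫ (-(q.adjJ.unit.app N₁)⟦(1:ℤ)⟧') = 0
      rw [Preadditive.comp_neg, hd₁u, neg_zero])
  have has : a⟦(1:ℤ)⟧' ≫ s = 0 :=
    eq_zero_to_fls_fst_jls q hq (isZero_obj_shift q.jst hC 1) _ _
  have h0 : ψ - Φ = 0 := by
    rw [hs, hg, Category.assoc, Preadditive.neg_comp, has, neg_zero, comp_zero]
  rw [hψ₂, sub_eq_zero.mp h0]

lemma mv_exists (hq : q.IsMV) (N : S) :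
    ∃ d : q.fls.obj (q.fst.obj (q.jls.obj (q.jst.obj N))) ⟶ N⟦(1 : ℤ)⟧,
      Triangle.mk (biprod.lift (q.adjJ.unit.app N) (q.adjF.unit.app N))
        (biprod.desc (q.adjF.unit.app (q.jls.obj (q.jst.obj N)))
          (-(q.fls.map (q.fst.map (q.adjJ.unit.app N))))) d ∈ distTriang S := by
  haveI : q.fls.Additive := q.adjF.right_adjoint_additive
  letI : q.fls.CommShift ℤ := q.adjF.rightAdjointCommShift ℤ
  haveI : q.adjF.CommShift ℤ := q.adjF.commShift_of_leftAdjoint ℤ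
  haveI : q.fls.IsTriangulated := q.adjF.isTriangulated_rightAdjoint
  letI : q.jls.CommShift ℤ := q.adjJ.rightAdjointCommShift ℤ
  haveI : q.adjJ.CommShift ℤ := q.adjJ.commShift_of_leftAdjoint ℤ
  haveI := hq.isIso_counitJ
  refine exists_mv_triangle_aux (q.adjJ.unit.app N) (q.adjF.unit.app N)
    (q.adjF.unit.app (q.jls.obj (q.jst.obj N))) (q.fls.map (q.fst.map (q.adjJ.unit.app N)))
    (q.adjF.unit.naturality (q.adjJ.unit.app N))
    (fun Z => ∃ Z₀ : R, Z = q.jls.obj Z₀) (fun K => IsZero (q.jst.obj K))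
    ?_ ?_ ?_ ?_ ?_ ?_ ?_ ?_ ?_
  · rintro Z ⟨Z₀, rfl⟩
    obtain ⟨C, a, c, hT, hC⟩ := exists_triangle q hq N
    have hT3 := q.jst.map_distinguished _
      (q.fls.map_distinguished _ (q.fst.map_distinguished _ hT))
    have hzero : IsZero (q.jst.obj (q.fls.obj (q.fst.obj C))) :=
      isZero_jst_fls_of_bc q (hq.isIso_bcApp _) (isZero_jpst_fst q hC)
    haveI : IsIso (q.jst.map (q.fls.map (q.fst.map (q.adjJ.unit.app N)))) :=
      (Triangle.isZero₁_iff_isIso₂ _ hT3).1 hzero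
    exact bijective_precomp_of_isIso_map q.adjJ _ Z₀
  · rintro Z ⟨Z₀, rfl⟩ y₁ y₂ h
    exact unit_comp_injective q.adjJ y₁ y₂ h
  · rintro Z ⟨Z₀, rfl⟩ s
    have h1 := q.adjJ.unit_app_shift_commShiftIso_inv_app ℤ (1:ℤ) N
    have key : ∀ s : N⟦(1:ℤ)⟧ ⟶ q.jls.obj Z₀, ∃ s' : (q.jls.obj (q.jst.obj N))⟦(1:ℤ)⟧ ⟶
        q.jls.obj Z₀, s = (q.adjJ.unit.app N)⟦(1:ℤ)⟧' ≫ s' := by
      intro s
      obtain ⟨y, hy⟩ := exists_unit_comp q.adjJ s
      refine ⟨((q.jst ⋙ q.jls).commShiftIso (1:ℤ)).inv.app N ≫ y, ?_⟩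
      rw [← Category.assoc, h1]
      exact hy.symm
    exact key s
  · intro X₀ X Y g f h hT hbij
    haveI : IsIso (q.jst.map f) :=
      isIso_map_of_bijective_precomp q.adjJ f (fun Z₀ => hbij _ ⟨Z₀, rfl⟩)
    exact (Triangle.isZero₁_iff_isIso₂ _ (q.jst.map_distinguished _ hT)).2
      (inferInstanceAs (IsIso (q.jst.map f)))
  · exact fun K hK => isZero_obj_shift q.jst hK 1
  · exact fun K hK x => eq_zero_to_fls_fst_jls q hq hK _ x
  · exact fun K hK x => eq_zero_of_isZero_left q.adjJ hK x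
  · exact fun K hK w => (bijective_comp_unit q hq hK N).2 w
  · intro K hK
    have h1 := q.adjF.unit_app_shift_commShiftIso_inv_app ℤ (1:ℤ) N
    have key : ∀ y : K ⟶ N⟦(1:ℤ)⟧, y ≫ (q.adjF.unit.app N)⟦(1:ℤ)⟧' = 0 → y = 0 := by
      intro y hy
      apply (bijective_comp_unit q hq hK (N⟦(1:ℤ)⟧)).1
      dsimp only
      rw [zero_comp, ← h1, ← Category.assoc, hy, zero_comp]
    exact key

lemma mv_existsUnique (hq : q.IsMV) (N : S) :
    ∃! d : q.fls.obj (q.fst.obj (q.jls.obj (q.jst.obj N))) ⟶ N⟦(1 : ℤ)⟧,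
      Triangle.mk (biprod.lift (q.adjJ.unit.app N) (q.adjF.unit.app N))
        (biprod.desc (q.adjF.unit.app (q.jls.obj (q.jst.obj N)))
          (-(q.fls.map (q.fst.map (q.adjJ.unit.app N))))) d ∈ distTriang S := by
  obtain ⟨d, hd⟩ := mv_exists q hq N
  refine ⟨d, hd, fun d' hd' => ?_⟩
  have h := mv_natural q hq N N (𝟙 N) d' d hd' hd
  simpa only [CategoryTheory.Functor.map_id, Category.comp_id, Category.id_comp] using h

lemma isIso_jst_fls_map (hq : q.IsMV) {M₁ M₂ : S'} (w : M₁ ⟶ M₂) [IsIso (q.jpst.map w)] :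
    IsIso (q.jst.map (q.fls.map w)) := by
  haveI : q.fls.Additive := q.adjF.right_adjoint_additive
  letI : q.fls.CommShift ℤ := q.adjF.rightAdjointCommShift ℤ
  haveI : q.adjF.CommShift ℤ := q.adjF.commShift_of_leftAdjoint ℤ
  haveI : q.fls.IsTriangulated := q.adjF.isTriangulated_rightAdjoint
  obtain ⟨X₂, f₂, h₂, hT₂⟩ := distinguished_cocone_triangle₁ w
  have hz : IsZero (q.jpst.obj X₂) :=
    (Triangle.isZero₁_iff_isIso₂ _ (q.jpst.map_distinguished _ hT₂)).2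
      (inferInstanceAs (IsIso (q.jpst.map w)))
  have hT₂' := q.jst.map_distinguished _ (q.fls.map_distinguished _ hT₂)
  exact (Triangle.isZero₁_iff_isIso₂ _ hT₂').1 (isZero_jst_fls_of_bc q (hq.isIso_bcApp _) hz)

lemma glue_isIso (hq : q.IsMV) (NU : R) (N' : S') (δ : q.jpst.obj N' ≅ q.gst.obj NU) (N : S)
    (a : N ⟶ q.jls.obj NU ⊞ q.fls.obj N')
    (d : q.fls.obj (q.jpls.obj (q.gst.obj NU)) ⟶ N⟦(1 : ℤ)⟧)
    (hT : Triangle.mk a
      (biprod.desc (q.adjF.unit.app (q.jls.obj NU) ≫ q.fls.map (q.bc2App NU))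
        (-(q.fls.map (q.adjJp.unit.app N' ≫ q.jpls.map δ.hom)))) d ∈ distTriang S) :
    IsIso ((q.adjJ.homEquiv N NU).symm (a ≫ biprod.fst)) ∧
      IsIso ((q.adjF.homEquiv N N').symm (a ≫ biprod.snd)) := by
  haveI : q.fls.Additive := q.adjF.right_adjoint_additive
  haveI := hq.isIso_counitJ
  haveI := hq.isIso_counitJp
  set w₂ : N' ⟶ q.jpls.obj (q.gst.obj NU) := q.adjJp.unit.app N' ≫ q.jpls.map δ.hom with hw₂
  set v₁ : q.jls.obj NU ⟶ q.fls.obj (q.jpls.obj (q.gst.obj NU)) :=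
    q.adjF.unit.app (q.jls.obj NU) ≫ q.fls.map (q.bc2App NU) with hv₁
  haveI hw₂iso : IsIso (q.jpst.map w₂) := by
    have h := q.adjJp.left_triangle_components N'
    haveI : IsIso (q.jpst.map (q.adjJp.unit.app N')) := by
      rw [IsIso.eq_inv_of_inv_hom_id h]; infer_instance
    rw [hw₂, Functor.map_comp]; infer_instance
  haveI := isIso_jst_fls_map q hq w₂
  -- (1)
  have h1 : IsIso (q.jst.map (a ≫ biprod.fst)) := by
    have hTj := q.jst.map_distinguished _ hT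
    rw [Functor.map_comp]
    haveI : IsIso ((-q.jst.map (biprod.inr : q.fls.obj N' ⟶ q.jls.obj NU ⊞ q.fls.obj N')) ≫
        q.jst.map (biprod.desc v₁ (-(q.fls.map w₂)))) := by
      rw [Preadditive.neg_comp, ← Functor.map_comp, biprod.inr_desc, Functor.map_neg, neg_neg]
      infer_instance
    exact isIso_comp_of_biprod_triangle (q.jst.map a)
      (q.jst.map (biprod.desc v₁ (-(q.fls.map w₂)))) _ hTj
      (q.jst.map biprod.fst) (-q.jst.map biprod.snd) (q.jst.map biprod.inl)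
      (-q.jst.map biprod.inr)
      (by rw [← Functor.map_comp, biprod.inl_fst, CategoryTheory.Functor.map_id])
      (by rw [Preadditive.neg_comp, ← Functor.map_comp, biprod.inr_fst, Functor.map_zero,
        neg_zero])
      (by rw [Preadditive.neg_comp, Preadditive.comp_neg, neg_neg, ← Functor.map_comp,
        ← Functor.map_comp, ← Functor.map_add, biprod.total, CategoryTheory.Functor.map_id])
  set l₁ := (q.adjJ.homEquiv N NU).symm (a ≫ biprod.fst) with hl₁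
  set l₂ := (q.adjF.homEquiv N N').symm (a ≫ biprod.snd) with hl₂
  have hl₁' : l₁ = q.jst.map (a ≫ biprod.fst) ≫ q.adjJ.counit.app NU :=
    Adjunction.homEquiv_counit _ _ _ _
  haveI hl₁iso : IsIso l₁ := by rw [hl₁']; infer_instance
  refine ⟨hl₁iso, ?_⟩
  -- relation from the triangle
  have rel : (a ≫ biprod.fst) ≫ v₁ = (a ≫ biprod.snd) ≫ q.fls.map w₂ := by
    have h0 : a ≫ biprod.desc v₁ (-(q.fls.map w₂)) = 0 := comp_distTriang_mor_zero₁₂ _ hT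
    rw [biprod.desc_eq, Preadditive.comp_add, Preadditive.comp_neg, Preadditive.comp_neg,
      ← sub_eq_add_neg, sub_eq_zero] at h0
    simpa only [Category.assoc] using h0
  have relF : q.fst.map (a ≫ biprod.fst) ≫ q.bc2App NU = l₂ ≫ w₂ := by
    have e1 : (q.adjF.homEquiv N _).symm ((a ≫ biprod.fst) ≫ v₁) =
        q.fst.map (a ≫ biprod.fst) ≫ q.bc2App NU :=
      symm_unit_comp_map q.adjF (a ≫ biprod.fst) (q.bc2App NU)
    have e2 : (q.adjF.homEquiv N _).symm ((a ≫ biprod.snd) ≫ q.fls.map w₂) = l₂ ≫ w₂ :=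
      Adjunction.homEquiv_naturality_right_symm _ _ _
    rw [← e1, rel, e2]
  have relJ : q.e.inv.app N ≫ q.gst.map l₁ = q.jpst.map l₂ ≫ δ.hom := by
    have e3 : (q.adjJp.homEquiv _ _).symm (l₂ ≫ w₂) = q.jpst.map l₂ ≫ δ.hom :=
      symm_unit_comp_map q.adjJp l₂ δ.hom
    have hbc2 : q.bc2App NU = q.adjJp.unit.app _ ≫
        q.jpls.map (q.e.inv.app (q.jls.obj NU) ≫ q.gst.map (q.adjJ.counit.app NU)) := by
      rw [MVSq.bc2App, Functor.map_comp]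
    have e4 : (q.adjJp.homEquiv _ _).symm (q.fst.map (a ≫ biprod.fst) ≫ q.bc2App NU) =
        q.jpst.map (q.fst.map (a ≫ biprod.fst)) ≫
          (q.e.inv.app (q.jls.obj NU) ≫ q.gst.map (q.adjJ.counit.app NU)) := by
      rw [hbc2]
      exact symm_unit_comp_map q.adjJp (q.fst.map (a ≫ biprod.fst)) _
    have nat := q.e.inv.naturality (a ≫ biprod.fst)
    dsimp at nat
    rw [← e3, ← relF, e4, ← Category.assoc, nat, Category.assoc, ← Functor.map_comp, ← hl₁']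
  haveI hjl₂ : IsIso (q.jpst.map l₂) := by
    have : q.jpst.map l₂ = (q.e.inv.app N ≫ q.gst.map l₁) ≫ δ.inv := by
      rw [relJ, Category.assoc, Iso.hom_inv_id, Category.comp_id]
    rw [this]; infer_instance
  -- vanishing
  have hE : ∀ K₀ : S, IsZero (q.jst.obj K₀) →
      ∀ x : K₀ ⟶ q.fls.obj (q.jpls.obj (q.gst.obj NU)), x = 0 := by
    intro K₀ hK₀ x
    apply symm_eq_zero_iff q.adjF
    exact eq_zero_of_isZero_left q.adjJp (isZero_jpst_fst q hK₀) _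
  have hl₂nat : ∀ {K₀ : S} (g : K₀ ⟶ N), q.fst.map g ≫ l₂ =
      (q.adjF.homEquiv K₀ N').symm (g ≫ a ≫ biprod.snd) := fun g =>
    (Adjunction.homEquiv_naturality_left_symm _ _ _).symm
  have inj2b : ∀ (K' : S') (_ : IsZero (q.jpst.obj K')) (x : K' ⟶ q.fst.obj N),
      x ≫ l₂ = 0 → x = 0 := by
    intro K' hK' x hx
    haveI : IsIso (q.adjF.counit.app K') := hq.isIso_counitF K' hK'
    have hK₀ : IsZero (q.jst.obj (q.fls.obj K')) :=
      isZero_jst_fls_of_bc q (hq.isIso_bcApp _) hK'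
    obtain ⟨g, hg⟩ := (bijective_fst_map q hq hK₀ N).2 (q.adjF.counit.app K' ≫ x)
    dsimp only at hg
    have h2 : (q.adjF.homEquiv _ N').symm (g ≫ a ≫ biprod.snd) = 0 := by
      rw [← hl₂nat, hg, Category.assoc, hx, comp_zero]
    have h3 : g ≫ a ≫ biprod.snd = 0 := symm_eq_zero_iff q.adjF _ h2
    have h4 : g ≫ a = 0 := by
      apply biprod.hom_ext
      · rw [zero_comp]; exact eq_zero_of_isZero_left q.adjJ hK₀ _
      · rw [zero_comp, Category.assoc, h3]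
    have h5 : g = 0 := by
      obtain ⟨t, ht⟩ : ∃ t : (q.fls.obj K')⟦(1:ℤ)⟧ ⟶ q.fls.obj (q.jpls.obj (q.gst.obj NU)),
          g⟦(1:ℤ)⟧' = t ≫ d :=
        Triangle.coyoneda_exact₁ _ hT (g⟦(1:ℤ)⟧') (by
          change g⟦(1:ℤ)⟧' ≫ a⟦(1:ℤ)⟧' = 0
          rw [← Functor.map_comp, h4, Functor.map_zero])
      rw [hE _ (isZero_obj_shift q.jst hK₀ 1) t, zero_comp] at ht
      apply (shiftFunctor S (1:ℤ)).map_injective
      rw [ht, Functor.map_zero]
    rw [h5, Functor.map_zero] at hg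
    rw [← cancel_epi (q.adjF.counit.app K'), ← hg, comp_zero]
  have surj2b : ∀ (K' : S') (_ : IsZero (q.jpst.obj K')) (θ : K' ⟶ N'),
      ∃ x : K' ⟶ q.fst.obj N, x ≫ l₂ = θ := by
    intro K' hK' θ
    haveI : IsIso (q.adjF.counit.app K') := hq.isIso_counitF K' hK'
    have hK₀ : IsZero (q.jst.obj (q.fls.obj K')) :=
      isZero_jst_fls_of_bc q (hq.isIso_bcApp _) hK'
    obtain ⟨g, hg⟩ : ∃ g : q.fls.obj K' ⟶ N, q.fls.map θ ≫ biprod.inr = g ≫ a :=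
      Triangle.coyoneda_exact₂ _ hT (q.fls.map θ ≫ biprod.inr) (hE _ hK₀ _)
    refine ⟨inv (q.adjF.counit.app K') ≫ q.fst.map g, ?_⟩
    have h6 : g ≫ a ≫ biprod.snd = q.fls.map θ := by
      rw [← Category.assoc, ← hg, Category.assoc, biprod.inr_snd, Category.comp_id]
    rw [Category.assoc, hl₂nat, h6, Adjunction.homEquiv_counit]
    have nat := q.adjF.counit.naturality θ
    dsimp at nat
    rw [nat, IsIso.inv_hom_id_assoc]
  -- conclusion
  obtain ⟨X', f', h', hTl⟩ := distinguished_cocone_triangle₁ l₂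
  have hX' : IsZero (q.jpst.obj X') :=
    (Triangle.isZero₁_iff_isIso₂ _ (q.jpst.map_distinguished _ hTl)).2
      (inferInstanceAs (IsIso (q.jpst.map l₂)))
  have hf' : f' = 0 := inj2b X' hX' f' (comp_distTriang_mor_zero₁₂ _ hTl)
  have hXz : IsZero X' := by
    obtain ⟨g, hg⟩ : ∃ g : X'⟦(1:ℤ)⟧ ⟶ N', 𝟙 (X'⟦(1:ℤ)⟧) = g ≫ h' :=
      Triangle.coyoneda_exact₁ _ hTl (𝟙 (X'⟦(1:ℤ)⟧)) (by
        change 𝟙 _ ≫ f'⟦(1:ℤ)⟧' = 0
        rw [hf', Functor.map_zero, comp_zero])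
    obtain ⟨x, hx⟩ := surj2b (X'⟦(1:ℤ)⟧) (isZero_obj_shift q.jpst hX' 1) g
    have h23 : l₂ ≫ h' = 0 := comp_distTriang_mor_zero₂₃ _ hTl
    rw [← hx, Category.assoc, h23, comp_zero] at hg
    rw [IsZero.iff_id_eq_zero]
    apply (shiftFunctor S' (1:ℤ)).map_injective
    rw [CategoryTheory.Functor.map_id, Functor.map_zero, hg]
  exact (Triangle.isZero₁_iff_isIso₂ _ hTl).1 hXz

end MV

end Groth.Agent.H10.MVSq
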