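import Mathlib
import Groth.Prelude.Def_W4c3perfectstacksMV
import Groth.Prelude.Def_CohDer
import Groth.Agent.H10.MVSq
import Groth.Agent.H10.DecSum

set_option autoImplicit false
set_option linter.unusedSectionVars false
set_option linter.style.haveILetI false
universe v u
open CategoryTheory CategoryTheory.Limits CategoryTheory.Pretriangulated
open W4c3perfectstacks W4c3perfectstacks.MVSq
open Groth.Agent.H10.DecSum

namespace Groth.Agent.H10.MVCompact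

section General

variable {C D : Type u} [Category.{v} C] [Category.{v} D] [Preadditive C] [Preadditive D]

lemma Dec.normal {K : D} {P : C ⥤ D} {ι : Type v} {M : ι → C} [HasCoproduct M]
    (hD : Dec K P M) (θ : K ⟶ P.obj (∐ M)) :
    ∃ (s : Finset ι) (ψ : ∀ i, K ⟶ P.obj (M i)), (∀ i, i ∉ s → ψ i = 0) ∧
      ∀ t, s ⊆ t → θ = ∑ i ∈ t, ψ i ≫ P.map (Sigma.ι M i) := by
  classical
  obtain ⟨s, ψ₀, h⟩ := hD θ
  refine ⟨s, fun i => if i ∈ s then ψ₀ i else 0, fun i hi => if_neg hi, fun t hst => ?_⟩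
  rw [h, ← Finset.sum_subset hst]
  · refine Finset.sum_congr rfl (fun i hi => ?_)
    beta_reduce
    rw [if_pos hi]
  · intro i _ hi
    beta_reduce
    rw [if_neg hi, zero_comp]

end General

section MV

variable {S S' R R' : Type u} [Category.{v} S] [Category.{v} S'] [Category.{v} R] [Category.{v} R']
    [Preadditive S] [Preadditive S'] [Preadditive R] [Preadditive R']
    [HasZeroObject S] [HasZeroObject S'] [HasZeroObject R] [HasZeroObject R']
    [HasShift S ℤ] [HasShift S' ℤ] [HasShift R ℤ] [HasShift R' ℤ]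
    [∀ n : ℤ, (shiftFunctor S n).Additive] [∀ n : ℤ, (shiftFunctor S' n).Additive]
    [∀ n : ℤ, (shiftFunctor R n).Additive] [∀ n : ℤ, (shiftFunctor R' n).Additive]
    [Pretriangulated S] [Pretriangulated S'] [Pretriangulated R] [Pretriangulated R']
    [IsTriangulated S] [IsTriangulated S'] [IsTriangulated R] [IsTriangulated R']
    (q : W4c3perfectstacks.MVSq S S' R R')
    [q.jst.CommShift ℤ] [q.fst.CommShift ℤ] [q.jpst.CommShift ℤ] [q.gst.CommShift ℤ]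
    [q.jst.IsTriangulated] [q.fst.IsTriangulated] [q.jpst.IsTriangulated] [q.gst.IsTriangulated]
    [HasCoproducts.{v} S] [HasCoproducts.{v} S'] [HasCoproducts.{v} R] [HasCoproducts.{v} R']

lemma bc2App_nat {P₁ P₂ : R} (u : P₁ ⟶ P₂) :
    q.fst.map (q.jls.map u) ≫ q.bc2App P₂ = q.bc2App P₁ ≫ q.jpls.map (q.gst.map u) := by
  have n1 := q.adjJp.unit.naturality (q.fst.map (q.jls.map u))
  have n2 := q.e.inv.naturality (q.jls.map u)
  have n3 := q.adjJ.counit.naturality u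
  dsimp at n1 n2 n3
  have key : q.jpst.map (q.fst.map (q.jls.map u)) ≫ q.e.inv.app (q.jls.obj P₂) ≫
      q.gst.map (q.adjJ.counit.app P₂) =
      q.e.inv.app (q.jls.obj P₁) ≫ q.gst.map (q.adjJ.counit.app P₁) ≫ q.gst.map u := by
    rw [← Category.assoc, n2, Category.assoc, ← q.gst.map_comp, n3, q.gst.map_comp]
  dsimp only [MVSq.bc2App]
  rw [← Category.assoc, n1, Category.assoc, ← q.jpls.map_comp, ← q.jpls.map_comp, key]
  simp only [Functor.map_comp, Category.assoc]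

variable {q}

lemma dec_T₁ {N : S} (hU : Cpt (q.jst.obj N)) {ι : Type v} (M : ι → S) :
    Dec N (q.jst ⋙ q.jls) M := by
  haveI : q.jls.Additive := q.adjJ.right_adjoint_additive
  haveI : PreservesColimitsOfSize.{v, v} q.jst := q.adjJ.leftAdjoint_preservesColimits
  exact Dec.adj q.adjJ q.jst M (Dec.of_cpt hU q.jst M)

lemma dec_T₂ {N : S} (hX' : Cpt (q.fst.obj N)) {ι : Type v} (M : ι → S) :
    Dec N (q.fst ⋙ q.fls) M := by
  haveI : q.fls.Additive := q.adjF.right_adjoint_additive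
  haveI : PreservesColimitsOfSize.{v, v} q.fst := q.adjF.leftAdjoint_preservesColimits
  exact Dec.adj q.adjF q.fst M (Dec.of_cpt hX' q.fst M)

lemma dec_B (hq : q.IsMV) {N' : S} (hc : Cpt (q.jpst.obj (q.fst.obj N'))) {ι : Type v}
    (M : ι → S) : Dec N' (((q.jst ⋙ q.jls) ⋙ q.fst) ⋙ q.fls) M := by
  haveI : q.fls.Additive := q.adjF.right_adjoint_additive
  haveI : q.jpls.Additive := q.adjJp.right_adjoint_additive
  haveI : PreservesColimitsOfSize.{v, v} q.jst := q.adjJ.leftAdjoint_preservesColimits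
  haveI : PreservesColimitsOfSize.{v, v} q.gst := q.adjG.leftAdjoint_preservesColimits
  have h1 : Dec (q.jpst.obj (q.fst.obj N')) (q.jst ⋙ q.gst) M := Dec.of_cpt hc _ M
  have h2 : Dec (q.fst.obj N') ((q.jst ⋙ q.gst) ⋙ q.jpls) M := Dec.adj q.adjJp _ M h1
  have h3 : Dec (q.fst.obj N') ((q.jst ⋙ q.jls) ⋙ q.fst) M := by
    haveI : ∀ X : S, IsIso (q.bc2App (q.jst.obj X)) := fun X => hq.isIso_bc2App _
    let α : ∀ X : S, ((q.jst ⋙ q.jls) ⋙ q.fst).obj X ≅ ((q.jst ⋙ q.gst) ⋙ q.jpls).obj X :=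
      fun X => asIso (q.bc2App (q.jst.obj X))
    exact Dec.of_natIso (P := (q.jst ⋙ q.jls) ⋙ q.fst) (P' := (q.jst ⋙ q.gst) ⋙ q.jpls) M α
      (fun i => bc2App_nat q _) h2
  exact Dec.adj q.adjF _ M h3

lemma cpt_shift {D : Type u} [Category.{v} D] [Preadditive D] [HasShift D ℤ]
    [∀ n : ℤ, (shiftFunctor D n).Additive] [HasCoproducts.{v} D] {K : D} (hK : Cpt K) :
    Cpt (K⟦(1 : ℤ)⟧) := by
  let E := shiftEquiv D (1 : ℤ)
  haveI : PreservesColimitsOfSize.{v, v} E.inverse :=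
    E.symm.toAdjunction.leftAdjoint_preservesColimits
  haveI : E.functor.Additive := (inferInstance : (shiftFunctor D (1 : ℤ)).Additive)
  exact Cpt.map_leftAdjoint E.toAdjunction hK

lemma cpt_jpst_fst_shift {N : S} (hU' : Cpt (q.gst.obj (q.jst.obj N))) :
    Cpt (q.jpst.obj (q.fst.obj (N⟦(1 : ℤ)⟧))) := by
  have h1 : Cpt ((q.gst.obj (q.jst.obj N))⟦(1 : ℤ)⟧) := cpt_shift hU'
  have e2 : (q.gst.obj (q.jst.obj N))⟦(1 : ℤ)⟧ ≅ ((q.fst ⋙ q.jpst).obj N)⟦(1 : ℤ)⟧ :=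
    (shiftFunctor R' (1 : ℤ)).mapIso (q.e.app N)
  have e1 : (q.fst ⋙ q.jpst).obj (N⟦(1 : ℤ)⟧) ≅ ((q.fst ⋙ q.jpst).obj N)⟦(1 : ℤ)⟧ :=
    ((q.fst ⋙ q.jpst).commShiftIso (1 : ℤ)).app N
  exact Cpt.of_iso (e2 ≪≫ e1.symm) h1

variable (q)

noncomputable abbrev aM (X : S) : X ⟶ q.jls.obj (q.jst.obj X) ⊞ q.fls.obj (q.fst.obj X) :=
  biprod.lift (q.adjJ.unit.app X) (q.adjF.unit.app X)

noncomputable abbrev bM (X : S) : q.jls.obj (q.jst.obj X) ⊞ q.fls.obj (q.fst.obj X) ⟶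
    q.fls.obj (q.fst.obj (q.jls.obj (q.jst.obj X))) :=
  biprod.desc (q.adjF.unit.app (q.jls.obj (q.jst.obj X)))
    (-(q.fls.map (q.fst.map (q.adjJ.unit.app X))))

noncomputable abbrev Amap {X Y : S} (u : X ⟶ Y) :
    q.jls.obj (q.jst.obj X) ⊞ q.fls.obj (q.fst.obj X) ⟶
      q.jls.obj (q.jst.obj Y) ⊞ q.fls.obj (q.fst.obj Y) :=
  biprod.map (q.jls.map (q.jst.map u)) (q.fls.map (q.fst.map u))

abbrev Bf : S ⥤ S := ((q.jst ⋙ q.jls) ⋙ q.fst) ⋙ q.fls

lemma nat_a {X Y : S} (u : X ⟶ Y) : u ≫ aM q Y = aM q X ≫ Amap q u := by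
  have natJ := q.adjJ.unit.naturality u
  have natF := q.adjF.unit.naturality u
  dsimp at natJ natF
  exact (MVSq.lift_map_comm _ _ _ _ _ _ _ natJ.symm natF.symm).symm

lemma nat_b {X Y : S} (u : X ⟶ Y) : Amap q u ≫ bM q Y = bM q X ≫ (Bf q).map u := by
  haveI : q.fls.Additive := q.adjF.right_adjoint_additive
  have natJ := q.adjJ.unit.naturality u
  have natFA := q.adjF.unit.naturality (q.jls.map (q.jst.map u))
  dsimp at natJ natFA
  refine (MVSq.desc_neg_map_comm _ _ _ _ _ _ _ natFA.symm ?_).symm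
  change q.fls.map (q.fst.map (q.adjJ.unit.app X)) ≫
      q.fls.map (q.fst.map (q.jls.map (q.jst.map u))) =
    q.fls.map (q.fst.map u) ≫ q.fls.map (q.fst.map (q.adjJ.unit.app Y))
  rw [← Functor.map_comp, ← Functor.map_comp, ← Functor.map_comp, ← Functor.map_comp, natJ]

variable {q}

theorem cpt_of_pullbacks (hq : q.IsMV) (N : S)
    (hU : Cpt (q.jst.obj N)) (hX' : Cpt (q.fst.obj N))
    (hU' : Cpt (q.gst.obj (q.jst.obj N))) : Cpt N := by
  classical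
  haveI : q.jls.Additive := q.adjJ.right_adjoint_additive
  haveI : q.fls.Additive := q.adjF.right_adjoint_additive
  intro ι M φ
  choose dM hdM using fun i => MVSq.mv_exists q hq (M i)
  obtain ⟨d, hd⟩ := MVSq.mv_exists q hq (∐ M)
  obtain ⟨s₁, ψ₁, -, h₁⟩ := Dec.normal (dec_T₁ hU M) (φ ≫ q.adjJ.unit.app (∐ M))
  obtain ⟨s₂, ψ₂, -, h₂⟩ := Dec.normal (dec_T₂ hX' M) (φ ≫ q.adjF.unit.app (∐ M))
  have h₁' := h₁ (s₁ ∪ s₂) Finset.subset_union_left
  have h₂' := h₂ (s₁ ∪ s₂) Finset.subset_union_right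
  generalize s₁ ∪ s₂ = s at h₁' h₂'
  let ψ : ∀ i, N ⟶ q.jls.obj (q.jst.obj (M i)) ⊞ q.fls.obj (q.fst.obj (M i)) :=
    fun i => biprod.lift (ψ₁ i) (ψ₂ i)
  have hψ : φ ≫ aM q (∐ M) = ∑ i ∈ s, ψ i ≫ Amap q (Sigma.ι M i) := by
    apply biprod.hom_ext
    · rw [Category.assoc, biprod.lift_fst, Preadditive.sum_comp, h₁']
      refine Finset.sum_congr rfl (fun i _ => ?_)
      rw [Category.assoc, biprod.map_fst, biprod.lift_fst_assoc]
      rfl
    · rw [Category.assoc, biprod.lift_snd, Preadditive.sum_comp, h₂']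
      refine Finset.sum_congr rfl (fun i _ => ?_)
      rw [Category.assoc, biprod.map_snd, biprod.lift_snd_assoc]
      rfl
  have hab : aM q (∐ M) ≫ bM q (∐ M) = 0 := comp_distTriang_mor_zero₁₂ _ hd
  have h2 : ∑ i ∈ s, (ψ i ≫ bM q (M i)) ≫ (Bf q).map (Sigma.ι M i) = 0 := by
    have h0 : (φ ≫ aM q (∐ M)) ≫ bM q (∐ M) = 0 := by rw [Category.assoc, hab, comp_zero]
    rw [hψ, Preadditive.sum_comp] at h0
    rw [← h0]
    refine Finset.sum_congr rfl (fun i _ => ?_)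
    rw [Category.assoc, Category.assoc, nat_b]
  have h2' : ∀ i ∈ s, ψ i ≫ bM q (M i) = 0 := sum_eq_zero_imp (Bf q) M s _ h2
  have h3 : ∀ i, ∃ φi : N ⟶ M i, i ∈ s → ψ i = φi ≫ aM q (M i) := by
    intro i
    by_cases hi : i ∈ s
    · obtain ⟨g, hg⟩ := Triangle.coyoneda_exact₂ _ (hdM i) (ψ i) (h2' i hi)
      exact ⟨g, fun _ => hg⟩
    · exact ⟨0, fun h => absurd h hi⟩
  choose φs hφs using h3
  obtain ⟨φ', hφ'⟩ : ∃ φ' : N ⟶ ∐ M, φ' = φ - ∑ i ∈ s, φs i ≫ Sigma.ι M i := ⟨_, rfl⟩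
  have h4 : φ' ≫ aM q (∐ M) = 0 := by
    rw [hφ', Preadditive.sub_comp, Preadditive.sum_comp, hψ, sub_eq_zero]
    refine Finset.sum_congr rfl (fun i hi => ?_)
    rw [Category.assoc, nat_a, ← Category.assoc, ← hφs i hi]
  obtain ⟨χ, hχ⟩ : ∃ χ : N⟦(1 : ℤ)⟧ ⟶ (Bf q).obj (∐ M), φ'⟦(1 : ℤ)⟧' = χ ≫ d :=
      Triangle.coyoneda_exact₁ _ hd (φ'⟦(1 : ℤ)⟧') (by
    change φ'⟦(1 : ℤ)⟧' ≫ (aM q (∐ M))⟦(1 : ℤ)⟧' = 0
    rw [← Functor.map_comp, h4, Functor.map_zero])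
  obtain ⟨t, χs, -, hχs⟩ := Dec.normal (dec_B hq (cpt_jpst_fst_shift hU') M) χ
  have hχ' := hχs (s ∪ t) Finset.subset_union_right
  let ξ : ∀ i, N ⟶ M i := fun i => (shiftFunctor S (1 : ℤ)).preimage (χs i ≫ dM i)
  have hξ : φ' = ∑ i ∈ s ∪ t, ξ i ≫ Sigma.ι M i := by
    apply (shiftFunctor S (1 : ℤ)).map_injective
    refine hχ.trans ?_
    rw [hχ', Functor.map_sum, Preadditive.sum_comp]
    refine Finset.sum_congr rfl (fun i _ => ?_)
    rw [Functor.map_comp, Functor.map_preimage, Category.assoc, Category.assoc]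
    congr 1
    exact (MVSq.mv_natural q hq (M i) (∐ M) (Sigma.ι M i) (dM i) d (hdM i) hd).symm
  refine ⟨s ∪ t, fun i => ξ i + (if i ∈ s then φs i else 0), ?_⟩
  have h5 : φ = φ' + ∑ i ∈ s, φs i ≫ Sigma.ι M i := by rw [hφ']; abel
  rw [h5, hξ]
  simp only [Preadditive.add_comp, Finset.sum_add_distrib]
  congr 1
  rw [← Finset.sum_subset (Finset.subset_union_left : s ⊆ s ∪ t)]
  · refine Finset.sum_congr rfl (fun i hi => ?_)
    rw [if_pos hi]
  · intro i _ hi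
    rw [if_neg hi, zero_comp]

theorem isCompactObject_of_pullbacks (hq : q.IsMV) (N : S)
    (hU : CohDer.IsCompactObject (q.jst.obj N)) (hX' : CohDer.IsCompactObject (q.fst.obj N))
    (hU' : CohDer.IsCompactObject (q.gst.obj (q.jst.obj N))) : CohDer.IsCompactObject N :=
  isCompactObject_of_cpt (cpt_of_pullbacks hq N (cpt_of_isCompactObject hU)
    (cpt_of_isCompactObject hX') (cpt_of_isCompactObject hU'))

end MV

end Groth.Agent.H10.MVCompact
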