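import Mathlib
import Groth.Prelude.Def_CohCx

set_option autoImplicit false
universe u
open CategoryTheory CategoryTheory.Limits Opposite Pretriangulated

namespace Groth.Agent.H10.MVHyperA
set_option linter.unusedSectionVars false

variable {C : Type u} [SmallCategory C] {J : GrothendieckTopology C}
  [HasWeakSheafify J (Type u)] [HasDerivedCategory.{u} (Sheaf J AddCommGrpCat.{u})]
  (S : J.MayerVietorisSquare) (K : DerivedCategory (Sheaf J AddCommGrpCat.{u}))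

/-- the single functor -/
noncomputable abbrev Q : Sheaf J AddCommGrpCat.{u} ⥤ DerivedCategory (Sheaf J AddCommGrpCat.{u}) :=
  DerivedCategory.singleFunctor (Sheaf J AddCommGrpCat.{u}) 0

/-- free sheaf -/
noncomputable abbrev Z (U : C) : Sheaf J AddCommGrpCat.{u} := CohCx.freeSheaf J U

/-- free sheaf map -/
noncomputable abbrev Fm {U V : C} (f : V ⟶ U) : Z (J := J) V ⟶ Z U := CohCx.freeSheafMap J f

lemma sc_f : S.shortComplex.f = biprod.lift (Fm S.f₁₂) (-(Fm S.f₁₃)) := rfl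
lemma sc_g : S.shortComplex.g = biprod.desc (Fm S.f₂₄) (Fm S.f₃₄) := rfl

/-- the triangle -/
noncomputable abbrev T : Triangle (DerivedCategory (Sheaf J AddCommGrpCat.{u})) :=
  S.shortComplex_shortExact.singleTriangle

lemma hT : T S ∈ distTriang (DerivedCategory (Sheaf J AddCommGrpCat.{u})) :=
  S.shortComplex_shortExact.singleTriangle_distinguished

/-- the shift iso -/
noncomputable abbrev sh (n : ℤ) :
    (shiftFunctor (DerivedCategory (Sheaf J AddCommGrpCat.{u})) (1 : ℤ)).obj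
      ((shiftFunctor (DerivedCategory (Sheaf J AddCommGrpCat.{u})) n).obj K) ≅
    (shiftFunctor (DerivedCategory (Sheaf J AddCommGrpCat.{u})) (n + 1)).obj K :=
  ((shiftFunctorAdd' (DerivedCategory (Sheaf J AddCommGrpCat.{u})) n 1 (n + 1) rfl).app K).symm

/-- the connecting map -/
noncomputable def δ (n : ℤ) : CohCx.HDU K n S.X₁ →+ CohCx.HDU K (n + 1) S.X₄ :=
  (Preadditive.leftComp _ (T S).mor₃).comp
    ((Preadditive.rightComp _ (sh K n).hom).comp
      (shiftFunctor (DerivedCategory (Sheaf J AddCommGrpCat.{u})) (1 : ℤ)).mapAddHom)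

lemma δ_apply (n : ℤ) (w : CohCx.HDU K n S.X₁) :
    δ S K n w = (T S).mor₃ ≫
      (shiftFunctor (DerivedCategory (Sheaf J AddCommGrpCat.{u})) (1 : ℤ)).map w ≫ (sh K n).hom :=
  rfl

lemma res_apply (n : ℤ) {U V : C} (f : V ⟶ U) (x : CohCx.HDU K n U) :
    CohCx.HDUres K n f x = (Q (J := J)).map (Fm f) ≫ x := rfl

section Rel

variable {A B : Sheaf J AddCommGrpCat.{u}}

omit [HasWeakSheafify J (Type u)] in
@[reassoc]
lemma inl_fst : (Q (J := J)).map (biprod.inl : A ⟶ A ⊞ B) ≫ (Q (J := J)).map biprod.fst = 𝟙 _ := by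
  rw [← Functor.map_comp, biprod.inl_fst, CategoryTheory.Functor.map_id]

omit [HasWeakSheafify J (Type u)] in
@[reassoc]
lemma inl_snd : (Q (J := J)).map (biprod.inl : A ⟶ A ⊞ B) ≫ (Q (J := J)).map biprod.snd = 0 := by
  rw [← Functor.map_comp, biprod.inl_snd, Functor.map_zero]

omit [HasWeakSheafify J (Type u)] in
@[reassoc]
lemma inr_fst : (Q (J := J)).map (biprod.inr : B ⟶ A ⊞ B) ≫ (Q (J := J)).map biprod.fst = 0 := by
  rw [← Functor.map_comp, biprod.inr_fst, Functor.map_zero]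

omit [HasWeakSheafify J (Type u)] in
@[reassoc]
lemma inr_snd : (Q (J := J)).map (biprod.inr : B ⟶ A ⊞ B) ≫ (Q (J := J)).map biprod.snd = 𝟙 _ := by
  rw [← Functor.map_comp, biprod.inr_snd, CategoryTheory.Functor.map_id]

omit [HasWeakSheafify J (Type u)] in
lemma total : (Q (J := J)).map (biprod.fst : A ⊞ B ⟶ A) ≫ (Q (J := J)).map biprod.inl +
    (Q (J := J)).map (biprod.snd : A ⊞ B ⟶ B) ≫ (Q (J := J)).map biprod.inr = 𝟙 _ := by
  rw [← Functor.map_comp, ← Functor.map_comp, ← Functor.map_add, biprod.total, CategoryTheory.Functor.map_id]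

end Rel

@[reassoc]
lemma mor₁_fst : (T S).mor₁ ≫ (Q (J := J)).map biprod.fst = (Q (J := J)).map (Fm S.f₁₂) := by
  change (Q (J := J)).map (biprod.lift (Fm S.f₁₂) (-(Fm S.f₁₃))) ≫
    (Q (J := J)).map (biprod.fst : Z S.X₂ ⊞ Z S.X₃ ⟶ Z S.X₂) = _
  rw [← Functor.map_comp, biprod.lift_fst]

@[reassoc]
lemma mor₁_snd : (T S).mor₁ ≫ (Q (J := J)).map biprod.snd = -(Q (J := J)).map (Fm S.f₁₃) := by
  change (Q (J := J)).map (biprod.lift (Fm S.f₁₂) (-(Fm S.f₁₃))) ≫
    (Q (J := J)).map (biprod.snd : Z S.X₂ ⊞ Z S.X₃ ⟶ Z S.X₃) = _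
  rw [← Functor.map_comp, biprod.lift_snd, Functor.map_neg]

@[reassoc]
lemma inl_mor₂ : (Q (J := J)).map biprod.inl ≫ (T S).mor₂ = (Q (J := J)).map (Fm S.f₂₄) := by
  change (Q (J := J)).map (biprod.inl : Z S.X₂ ⟶ Z S.X₂ ⊞ Z S.X₃) ≫
    (Q (J := J)).map (biprod.desc (Fm S.f₂₄) (Fm S.f₃₄)) = _
  rw [← Functor.map_comp, biprod.inl_desc]

@[reassoc]
lemma inr_mor₂ : (Q (J := J)).map biprod.inr ≫ (T S).mor₂ = (Q (J := J)).map (Fm S.f₃₄) := by
  change (Q (J := J)).map (biprod.inr : Z S.X₃ ⟶ Z S.X₂ ⊞ Z S.X₃) ≫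
    (Q (J := J)).map (biprod.desc (Fm S.f₂₄) (Fm S.f₃₄)) = _
  rw [← Functor.map_comp, biprod.inr_desc]

end Groth.Agent.H10.MVHyperA
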