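import Mathlib
import Groth.Prelude.Def_CohCx
import Groth.Agent.H10.MVHyperA

set_option autoImplicit false
universe u
open CategoryTheory CategoryTheory.Limits Opposite Pretriangulated

namespace Groth.Agent.H10.MVHyperC
set_option linter.unusedSectionVars false

open Groth.Agent.H10.MVHyperA

variable {C : Type u} [SmallCategory C] {J : GrothendieckTopology C}
  [HasWeakSheafify J (Type u)] [HasDerivedCategory.{u} (Sheaf J AddCommGrpCat.{u})]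
  (S : J.MayerVietorisSquare)

/-- the derived category -/
abbrev D (J : GrothendieckTopology C) [HasDerivedCategory.{u} (Sheaf J AddCommGrpCat.{u})] :=
  DerivedCategory (Sheaf J AddCommGrpCat.{u})

/-- first map -/
noncomputable def m₁ : (Q (J := J)).obj (Z S.X₁) ⟶ (Q (J := J)).obj (Z S.X₂ ⊞ Z S.X₃) :=
  (T S).mor₁

/-- second map -/
noncomputable def m₂ : (Q (J := J)).obj (Z S.X₂ ⊞ Z S.X₃) ⟶ (Q (J := J)).obj (Z S.X₄) :=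
  (T S).mor₂

/-- third map -/
noncomputable def m₃ : (Q (J := J)).obj (Z S.X₄) ⟶
    (shiftFunctor (D J) (1 : ℤ)).obj ((Q (J := J)).obj (Z S.X₁)) :=
  (T S).mor₃

@[reassoc]
lemma m₁_fst : m₁ S ≫ (Q (J := J)).map biprod.fst = (Q (J := J)).map (Fm S.f₁₂) := mor₁_fst S

@[reassoc]
lemma m₁_snd : m₁ S ≫ (Q (J := J)).map biprod.snd = -(Q (J := J)).map (Fm S.f₁₃) := mor₁_snd S

@[reassoc]
lemma inl_m₂ : (Q (J := J)).map biprod.inl ≫ m₂ S = (Q (J := J)).map (Fm S.f₂₄) := inl_mor₂ S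

@[reassoc]
lemma inr_m₂ : (Q (J := J)).map biprod.inr ≫ m₂ S = (Q (J := J)).map (Fm S.f₃₄) := inr_mor₂ S

@[reassoc]
lemma m₂₃ : m₂ S ≫ m₃ S = 0 := comp_distTriang_mor_zero₂₃ _ (hT S)

@[reassoc]
lemma m₃₁ : m₃ S ≫ (shiftFunctor (D J) (1 : ℤ)).map (m₁ S) = 0 :=
  comp_distTriang_mor_zero₃₁ _ (hT S)

lemma ex₂ {X : D J} (f : (Q (J := J)).obj (Z S.X₂ ⊞ Z S.X₃) ⟶ X) (hf : m₁ S ≫ f = 0) :
    ∃ g : (Q (J := J)).obj (Z S.X₄) ⟶ X, f = m₂ S ≫ g :=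
  Triangle.yoneda_exact₂ _ (hT S) f hf

lemma ex₃ {X : D J} (f : (Q (J := J)).obj (Z S.X₄) ⟶ X) (hf : m₂ S ≫ f = 0) :
    ∃ g : (shiftFunctor (D J) (1 : ℤ)).obj ((Q (J := J)).obj (Z S.X₁)) ⟶ X, f = m₃ S ≫ g :=
  Triangle.yoneda_exact₃ _ (hT S) f hf

lemma ex₁ {X : D J} (f : (shiftFunctor (D J) (1 : ℤ)).obj ((Q (J := J)).obj (Z S.X₁)) ⟶ X)
    (hf : m₃ S ≫ f = 0) :
    ∃ g : (shiftFunctor (D J) (1 : ℤ)).obj ((Q (J := J)).obj (Z S.X₂ ⊞ Z S.X₃)) ⟶ X,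
      f = -((shiftFunctor (D J) (1 : ℤ)).map (m₁ S) ≫ g) := by
  obtain ⟨g, hg⟩ := Triangle.yoneda_exact₂ _ (rot_of_distTriang _ (rot_of_distTriang _ (hT S))) f hf
  refine ⟨g, ?_⟩
  rw [hg]
  exact Preadditive.neg_comp _ _

lemma hFm : Fm (J := J) S.f₁₂ ≫ Fm S.f₂₄ = Fm S.f₁₃ ≫ Fm S.f₃₄ := by
  have h : biprod.lift (Fm S.f₁₂) (-(Fm S.f₁₃)) ≫ biprod.desc (Fm S.f₂₄) (Fm S.f₃₄) = 0 :=
    S.shortComplex.zero
  rw [biprod.lift_desc, Preadditive.neg_comp, ← sub_eq_add_neg, sub_eq_zero] at h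
  exact h

end Groth.Agent.H10.MVHyperC
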