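import Mathlib
import Groth.Prelude.Def_CohCx
import Groth.Agent.H10.MVHyperC
import Groth.Agent.H10.AbEx

set_option autoImplicit false
universe u
open CategoryTheory CategoryTheory.Limits Opposite Pretriangulated

namespace Groth.Agent.H10.MVHyperB
set_option linter.unusedSectionVars false

open Groth.Agent.H10.MVHyperA Groth.Agent.H10.MVHyperC

variable {C : Type u} [SmallCategory C] {J : GrothendieckTopology C}
  [HasWeakSheafify J (Type u)] [HasDerivedCategory.{u} (Sheaf J AddCommGrpCat.{u})]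
  (S : J.MayerVietorisSquare) (K : DerivedCategory (Sheaf J AddCommGrpCat.{u}))

lemma m₁_eq : m₁ S = (Q (J := J)).map (Fm S.f₁₂) ≫ (Q (J := J)).map biprod.inl +
    (-(Q (J := J)).map (Fm S.f₁₃)) ≫ (Q (J := J)).map biprod.inr := by
  have h : m₁ S ≫ ((Q (J := J)).map (biprod.fst : Z S.X₂ ⊞ Z S.X₃ ⟶ Z S.X₂) ≫
      (Q (J := J)).map biprod.inl +
      (Q (J := J)).map (biprod.snd : Z S.X₂ ⊞ Z S.X₃ ⟶ Z S.X₃) ≫ (Q (J := J)).map biprod.inr) =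
      m₁ S := by
    rw [total, Category.comp_id]
  rw [← h]
  simp only [Preadditive.comp_add, m₁_fst_assoc, m₁_snd_assoc]

lemma m₂_eq : m₂ S = (Q (J := J)).map biprod.fst ≫ (Q (J := J)).map (Fm S.f₂₄) +
    (Q (J := J)).map biprod.snd ≫ (Q (J := J)).map (Fm S.f₃₄) := by
  have h : ((Q (J := J)).map (biprod.fst : Z S.X₂ ⊞ Z S.X₃ ⟶ Z S.X₂) ≫
      (Q (J := J)).map biprod.inl +
      (Q (J := J)).map (biprod.snd : Z S.X₂ ⊞ Z S.X₃ ⟶ Z S.X₃) ≫ (Q (J := J)).map biprod.inr) ≫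
      m₂ S = m₂ S := by
    rw [total, Category.id_comp]
  rw [← h]
  simp only [Preadditive.add_comp, Category.assoc, inl_m₂, inr_m₂]

lemma hz : (Q (J := J)).map (Fm S.f₁₂) ≫ (Q (J := J)).map (Fm S.f₂₄) =
    (Q (J := J)).map (Fm S.f₁₃) ≫ (Q (J := J)).map (Fm S.f₃₄) := by
  have h := congrArg (Q (J := J)).map (hFm S)
  rw [Functor.map_comp, Functor.map_comp] at h
  exact h

/-- δ in terms of `m₃` -/
lemma δ_eq (n : ℤ) (w : CohCx.HDU K n S.X₁) :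
    δ S K n w = m₃ S ≫ (shiftFunctor (D J) (1 : ℤ)).map w ≫ (sh K n).hom := rfl

/-- the map out of the middle term attached to a pair -/
noncomputable abbrev pairMap (n : ℤ) (y₂ : CohCx.HDU K n S.X₂) (y₃ : CohCx.HDU K n S.X₃) :
    (Q (J := J)).obj (Z S.X₂ ⊞ Z S.X₃) ⟶ (shiftFunctor (D J) n).obj K :=
  (Q (J := J)).map biprod.fst ≫ y₂ + (Q (J := J)).map biprod.snd ≫ y₃

lemma m₁_pairMap (n : ℤ) (y₂ : CohCx.HDU K n S.X₂) (y₃ : CohCx.HDU K n S.X₃) :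
    m₁ S ≫ pairMap S K n y₂ y₃ =
      (Q (J := J)).map (Fm S.f₁₂) ≫ y₂ + -((Q (J := J)).map (Fm S.f₁₃) ≫ y₃) := by
  simp only [pairMap, Preadditive.comp_add, m₁_fst_assoc, m₁_snd_assoc, Preadditive.neg_comp]

lemma exact_a (n : ℤ) (y₂ : CohCx.HDU K n S.X₂) (y₃ : CohCx.HDU K n S.X₃)
    (h : (Q (J := J)).map (Fm S.f₁₂) ≫ y₂ + -((Q (J := J)).map (Fm S.f₁₃) ≫ y₃) = 0) :
    ∃ x : CohCx.HDU K n S.X₄, (Q (J := J)).map (Fm S.f₂₄) ≫ x = y₂ ∧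
      (Q (J := J)).map (Fm S.f₃₄) ≫ x = y₃ := by
  have hφ : m₁ S ≫ pairMap S K n y₂ y₃ = 0 := by rw [m₁_pairMap, h]
  obtain ⟨x, hx⟩ := ex₂ S (pairMap S K n y₂ y₃) hφ
  refine ⟨x, ?_, ?_⟩
  · rw [← inl_m₂_assoc, ← hx]
    simp only [pairMap, Preadditive.comp_add, inl_fst_assoc, inl_snd_assoc, zero_comp, add_zero]
  · rw [← inr_m₂_assoc, ← hx]
    simp only [pairMap, Preadditive.comp_add, inr_fst_assoc, inr_snd_assoc, zero_comp, zero_add]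

lemma zero_b (n : ℤ) (y₂ : CohCx.HDU K n S.X₂) (y₃ : CohCx.HDU K n S.X₃) :
    δ S K n ((Q (J := J)).map (Fm S.f₁₂) ≫ y₂ + -((Q (J := J)).map (Fm S.f₁₃) ≫ y₃)) = 0 := by
  rw [← m₁_pairMap, δ_eq, Functor.map_comp, Category.assoc, m₃₁_assoc, zero_comp]

lemma zero_c (n : ℤ) (w : CohCx.HDU K n S.X₁) :
    (Q (J := J)).map (Fm S.f₂₄) ≫ δ S K n w = 0 ∧ (Q (J := J)).map (Fm S.f₃₄) ≫ δ S K n w = 0 := by
  constructor
  · rw [δ_eq, ← inl_m₂_assoc, m₂₃_assoc, zero_comp, comp_zero]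
  · rw [δ_eq, ← inr_m₂_assoc, m₂₃_assoc, zero_comp, comp_zero]

lemma exact_c (n : ℤ) (x : CohCx.HDU K (n + 1) S.X₄)
    (h₂ : (Q (J := J)).map (Fm S.f₂₄) ≫ x = 0) (h₃ : (Q (J := J)).map (Fm S.f₃₄) ≫ x = 0) :
    ∃ w : CohCx.HDU K n S.X₁, δ S K n w = x := by
  have hx : m₂ S ≫ x = 0 := by
    rw [m₂_eq, Preadditive.add_comp, Category.assoc, Category.assoc, h₂, h₃, comp_zero,
      comp_zero, add_zero]
  obtain ⟨g, hg⟩ := ex₃ S x hx
  refine ⟨(shiftFunctor (D J) (1 : ℤ)).preimage (g ≫ (sh K n).inv), ?_⟩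
  rw [δ_eq, Functor.map_preimage, Category.assoc, Iso.inv_hom_id, Category.comp_id, hg]

lemma exact_b (n : ℤ) (w : CohCx.HDU K n S.X₁) (h : δ S K n w = 0) :
    ∃ (y₂ : CohCx.HDU K n S.X₂) (y₃ : CohCx.HDU K n S.X₃),
      (Q (J := J)).map (Fm S.f₁₂) ≫ y₂ + -((Q (J := J)).map (Fm S.f₁₃) ≫ y₃) = w := by
  rw [δ_eq] at h
  obtain ⟨g, hg⟩ := ex₁ S ((shiftFunctor (D J) (1 : ℤ)).map w ≫ (sh K n).hom) h
  let φ : (Q (J := J)).obj (Z S.X₂ ⊞ Z S.X₃) ⟶ (shiftFunctor (D J) n).obj K :=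
    (shiftFunctor (D J) (1 : ℤ)).preimage (-(g ≫ (sh K n).inv))
  have hw : w = m₁ S ≫ φ := by
    apply (shiftFunctor (D J) (1 : ℤ)).map_injective
    have hmg : (shiftFunctor (D J) (1 : ℤ)).map (m₁ S) ≫ g =
        -((shiftFunctor (D J) (1 : ℤ)).map w ≫ (sh K n).hom) := by
      rw [hg, neg_neg]
    rw [Functor.map_comp, Functor.map_preimage, Preadditive.comp_neg, ← Category.assoc, hmg,
      Preadditive.neg_comp, neg_neg, Category.assoc, Iso.hom_inv_id, Category.comp_id]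
  refine ⟨(Q (J := J)).map biprod.inl ≫ φ, (Q (J := J)).map biprod.inr ≫ φ, ?_⟩
  rw [hw]
  conv_rhs => rw [m₁_eq]
  simp only [Preadditive.add_comp, Category.assoc, Preadditive.neg_comp]

end Groth.Agent.H10.MVHyperB
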