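import Mathlib
import Groth.Prelude.Def_CohCx
import Groth.Agent.H10.MVHyperB

set_option autoImplicit false
universe u
open CategoryTheory CategoryTheory.Limits Opposite Pretriangulated

namespace Groth.Agent.H10.MVHyperD
set_option linter.unusedSectionVars false

open Groth.Agent.H10.MVHyperA Groth.Agent.H10.MVHyperC Groth.Agent.H10.MVHyperB

variable {C : Type u} [SmallCategory C] {J : GrothendieckTopology C}
  [HasWeakSheafify J (Type u)] [HasDerivedCategory.{u} (Sheaf J AddCommGrpCat.{u})]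
  (S : J.MayerVietorisSquare) (K : DerivedCategory (Sheaf J AddCommGrpCat.{u}))

theorem main : ∃ δ : ∀ n : ℤ, CohCx.HDU K n S.X₁ →+ CohCx.HDU K (n + 1) S.X₄,
      ∀ n : ℤ,
        (ComposableArrows.mk₂
          (AddCommGrpCat.ofHom ((CohCx.HDUres K n S.f₂₄).prod (CohCx.HDUres K n S.f₃₄)))
          (AddCommGrpCat.ofHom ((CohCx.HDUres K n S.f₁₂).coprod (-(CohCx.HDUres K n S.f₁₃))))).Exact ∧
        (ComposableArrows.mk₂
          (AddCommGrpCat.ofHom ((CohCx.HDUres K n S.f₁₂).coprod (-(CohCx.HDUres K n S.f₁₃))))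
          (AddCommGrpCat.ofHom (δ n))).Exact ∧
        (ComposableArrows.mk₂ (AddCommGrpCat.ofHom (δ n))
          (AddCommGrpCat.ofHom ((CohCx.HDUres K (n + 1) S.f₂₄).prod
            (CohCx.HDUres K (n + 1) S.f₃₄)))).Exact := by
  refine ⟨fun n => MVHyperA.δ S K n, fun n => ⟨?_, ?_, ?_⟩⟩
  · apply AbEx.exact_mk₂
    · intro x
      change (Q (J := J)).map (Fm S.f₁₂) ≫ ((Q (J := J)).map (Fm S.f₂₄) ≫ x) +
        -((Q (J := J)).map (Fm S.f₁₃) ≫ ((Q (J := J)).map (Fm S.f₃₄) ≫ x)) = 0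
      rw [← Category.assoc, ← Category.assoc, hz, add_neg_cancel]
    · rintro ⟨y₂, y₃⟩ h
      obtain ⟨x, h2, h3⟩ := exact_a S K n y₂ y₃ h
      exact ⟨x, Prod.ext h2 h3⟩
  · apply AbEx.exact_mk₂
    · rintro ⟨y₂, y₃⟩
      exact zero_b S K n y₂ y₃
    · intro w h
      obtain ⟨y₂, y₃, hy⟩ := exact_b S K n w h
      exact ⟨(y₂, y₃), hy⟩
  · apply AbEx.exact_mk₂
    · intro w
      exact Prod.ext (zero_c S K n w).1 (zero_c S K n w).2
    · intro x h
      have h2 : (Q (J := J)).map (Fm S.f₂₄) ≫ x = 0 := congrArg Prod.fst h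
      have h3 : (Q (J := J)).map (Fm S.f₃₄) ≫ x = 0 := congrArg Prod.snd h
      exact exact_c S K n x h2 h3

end Groth.Agent.H10.MVHyperD
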