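import Mathlib
import Groth.Prelude.Def_EtMil
import Groth.Agent.H10.FibreSquare

/-!
Pointwise vanishing lemmas over a Milnor square (helper10).
-/

set_option autoImplicit false
universe u

namespace Groth.Agent.H10

open TensorProduct

variable {B' B A' A : Type u} [CommRing B'] [CommRing B] [CommRing A'] [CommRing A]
  [Algebra B' B] [Algebra B' A'] [Algebra B A] [Algebra A' A] [Algebra B' A]
  [IsScalarTower B' B A] [IsScalarTower B' A' A]

/-- An element of a flat module dying in both base changes is zero. -/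
theorem fs_eq_zero_of_flat (hsq : EtMil.IsFibreSquare B' B A' A) (P : Type u) [AddCommGroup P]
    [Module B' P] [Module.Flat B' P] (x : P)
    (h1 : (1 : B) ⊗ₜ[B'] x = (0 : B ⊗[B'] P)) (h2 : (1 : A') ⊗ₜ[B'] x = (0 : A' ⊗[B'] P)) :
    x = 0 := by
  let ι : B' →ₗ[B'] B × A' := (Algebra.linearMap B' B).prod (Algebra.linearMap B' A')
  have hι : Function.Injective ι := by
    intro a b hab
    have := Prod.ext_iff.1 hab
    exact fs_ext hsq a b this.1 this.2
  have hinj := Module.Flat.rTensor_preserves_injective_linearMap (M := P) ι hι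
  have h3 : ι.rTensor P ((1 : B') ⊗ₜ x) = 0 := by
    rw [LinearMap.rTensor_tmul]
    have h5 : ι 1 = (LinearMap.inl B' B A') 1 + (LinearMap.inr B' B A') 1 := by
      simp [ι]
    rw [h5, TensorProduct.add_tmul]
    have e1 : (LinearMap.inl B' B A') 1 ⊗ₜ[B'] x =
        (LinearMap.inl B' B A').rTensor P ((1 : B) ⊗ₜ x) := rfl
    have e2 : (LinearMap.inr B' B A') 1 ⊗ₜ[B'] x =
        (LinearMap.inr B' B A').rTensor P ((1 : A') ⊗ₜ x) := rfl
    rw [e1, e2, h1, h2, map_zero, map_zero, add_zero]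
  have h4 : (1 : B') ⊗ₜ[B'] x = 0 := hinj (by rw [h3, map_zero])
  have := congrArg (TensorProduct.lid B' P) h4
  simpa using this

/-- A module whose two base changes vanish is zero. -/
theorem fs_eq_zero_of_tensor_eq_zero (hsq : EtMil.IsFibreSquare B' B A' A) (Q : Type u)
    [AddCommGroup Q] [Module B' Q]
    (h1 : ∀ y : Q, (1 : B) ⊗ₜ[B'] y = (0 : B ⊗[B'] Q))
    (h2 : ∀ y : Q, (1 : A') ⊗ₜ[B'] y = (0 : A' ⊗[B'] Q)) (x : Q) : x = 0 := by
  have hx := fs_mem_smul_top hsq Q x (h1 x)
  refine Submodule.smul_induction_on hx (fun j hj y _ => ?_) (fun a b ha hb => ?_)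
  · exact fs_smul_eq_zero hsq Q j (RingHom.mem_ker.1 hj) y (h2 y)
  · rw [ha, hb, add_zero]

end Groth.Agent.H10
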