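import Mathlib
import Groth.Prelude.Def_EtMil

/-!
Descent of flatness along a Milnor square `B' = B ×_A A'` (helper10).
-/

set_option autoImplicit false
set_option linter.unusedSectionVars false
universe u

namespace Groth.Agent.H10

open TensorProduct

/-- (L1) an injective `S`-linear map stays injective after `- ⊗[R] L` if `S ⊗[R] L` is `S`-flat. -/
theorem l1_rTensor_injective {R S : Type u} [CommRing R] [CommRing S] [Algebra R S]
    (L : Type u) [AddCommGroup L] [Module R L] [Module.Flat S (S ⊗[R] L)]
    {P Q : Type u} [AddCommGroup P] [Module R P] [Module S P] [IsScalarTower R S P]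
    [AddCommGroup Q] [Module R Q] [Module S Q] [IsScalarTower R S Q]
    (f : P →ₗ[S] Q) (hf : Function.Injective f) :
    Function.Injective ((f.restrictScalars R).rTensor L) := by
  have h1 : Function.Injective (f.rTensor (S ⊗[R] L)) :=
    Module.Flat.rTensor_preserves_injective_linearMap f hf
  have hcomm : ∀ z : P ⊗[S] (S ⊗[R] L),
      (f.restrictScalars R).rTensor L
        (TensorProduct.AlgebraTensorModule.cancelBaseChange R S S P L z) =
      TensorProduct.AlgebraTensorModule.cancelBaseChange R S S Q L
        (f.rTensor (S ⊗[R] L) z) := by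
    intro z
    induction z using TensorProduct.induction_on with
    | zero => simp
    | tmul p sl =>
      induction sl using TensorProduct.induction_on with
      | zero => simp
      | tmul s l =>
        simp only [LinearMap.rTensor_tmul,
          TensorProduct.AlgebraTensorModule.cancelBaseChange_tmul,
          LinearMap.coe_restrictScalars, map_smul]
      | add a b ha hb => simp only [TensorProduct.tmul_add, map_add, ha, hb]
    | add a b ha hb => simp only [map_add, ha, hb]
  intro x y hxy
  obtain ⟨x', rfl⟩ :=
    (TensorProduct.AlgebraTensorModule.cancelBaseChange R S S P L).surjective x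
  obtain ⟨y', rfl⟩ :=
    (TensorProduct.AlgebraTensorModule.cancelBaseChange R S S P L).surjective y
  rw [hcomm, hcomm] at hxy
  have h2 := h1 ((TensorProduct.AlgebraTensorModule.cancelBaseChange R S S Q L).injective hxy)
  rw [h2]

/-- (L2) a four-lemma for `- ⊗ L`. -/
theorem l2_four {R : Type u} [CommRing R] (L : Type u) [AddCommGroup L] [Module R L]
    {X' X Xb Y Yb : Type u} [AddCommGroup X'] [Module R X'] [AddCommGroup X] [Module R X]
    [AddCommGroup Xb] [Module R Xb] [AddCommGroup Y] [Module R Y] [AddCommGroup Yb] [Module R Yb]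
    (a : X' →ₗ[R] X) (b : X →ₗ[R] Xb) (hex : Function.Exact a b) (hb : Function.Surjective b)
    (ξ : X →ₗ[R] Y) (ξb : Xb →ₗ[R] Yb) (b' : Y →ₗ[R] Yb) (hcomm : b' ∘ₗ ξ = ξb ∘ₗ b)
    (h1 : Function.Injective ((ξ ∘ₗ a).rTensor L)) (h2 : Function.Injective (ξb.rTensor L)) :
    Function.Injective (ξ.rTensor L) := by
  rw [injective_iff_map_eq_zero]
  intro z hz
  have h3 : ξb.rTensor L (b.rTensor L z) = 0 := by
    rw [← LinearMap.comp_apply, ← LinearMap.rTensor_comp, ← hcomm, LinearMap.rTensor_comp,
      LinearMap.comp_apply, hz, map_zero]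
  have h4 : b.rTensor L z = 0 := by
    apply h2
    rw [h3, map_zero]
  obtain ⟨w, rfl⟩ := (rTensor_exact L hex hb z).mp h4
  have h5 : (ξ ∘ₗ a).rTensor L w = 0 := by
    rw [LinearMap.rTensor_comp, LinearMap.comp_apply]
    exact hz
  have h6 : w = 0 := by
    apply h1
    rw [h5, map_zero]
  rw [h6, map_zero]

theorem rTensor_injective_of_bijective {R : Type u} [CommRing R] (L : Type u) [AddCommGroup L]
    [Module R L] {M N : Type u} [AddCommGroup M] [Module R M] [AddCommGroup N] [Module R N]
    (ζ : M →ₗ[R] N) (hζ : Function.Bijective ζ) : Function.Injective (ζ.rTensor L) := by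
  let e := LinearEquiv.ofBijective ζ hζ
  have he : (e.symm : N →ₗ[R] M) ∘ₗ ζ = LinearMap.id := by
    ext x
    exact e.symm_apply_apply x
  have h : (e.symm : N →ₗ[R] M).rTensor L ∘ₗ ζ.rTensor L = LinearMap.id := by
    rw [← LinearMap.rTensor_comp, he, LinearMap.rTensor_id]
  intro x y hxy
  have hx := LinearMap.congr_fun h x
  have hy := LinearMap.congr_fun h y
  simp only [LinearMap.comp_apply, LinearMap.id_apply] at hx hy
  rw [← hx, ← hy, hxy]

end Groth.Agent.H10
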