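import Mathlib
import Groth.Prelude.Def_EtMil
import Groth.Agent.H10.FibreSquare
import Groth.Agent.H10.MilnorFlatBase

set_option autoImplicit false
set_option linter.unusedSectionVars false
set_option maxHeartbeats 400000
universe u

namespace Groth.Agent.H10

open TensorProduct

variable {B' B A' A : Type u} [CommRing B'] [CommRing B] [CommRing A'] [CommRing A]
  [Algebra B' B] [Algebra B' A'] [Algebra B A] [Algebra A' A] [Algebra B' A]
  [IsScalarTower B' B A] [IsScalarTower B' A' A]

/-- (Lemma D, abstract form) dévissage modulo `J = ker (B' → B)`. -/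
theorem lemD_aux (hsq : EtMil.IsFibreSquare B' B A' A) (L' : Type u) [AddCommGroup L']
    [Module B' L'] [Module.Flat B (B ⊗[B'] L')]
    {X Y Yb : Type u} [AddCommGroup X] [Module B' X] [AddCommGroup Y] [Module B' Y]
    [AddCommGroup Yb] [Module B' Yb] [Module B Yb] [IsScalarTower B' B Yb]
    (ξ : X →ₗ[B'] Y) (b' : Y →ₗ[B'] Yb)
    (hb' : ∀ y, b' y = 0 ↔ y ∈ (RingHom.ker (algebraMap B' B)) • (⊤ : Submodule B' Y))
    (h : Function.Injective ((ξ ∘ₗ (Submodule.comap ξ
      ((RingHom.ker (algebraMap B' B)) • (⊤ : Submodule B' Y))).subtype).rTensor L')) :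
    Function.Injective (ξ.rTensor L') := by
  let b0 : X →ₗ[B'] Yb := b' ∘ₗ ξ
  let Xb : Submodule B Yb := Submodule.span B (Set.range b0)
  have hXb : ∀ t ∈ Xb, ∃ x, b0 x = t := by
    intro t ht
    induction ht using Submodule.span_induction with
    | mem t ht => exact ht
    | zero => exact ⟨0, map_zero _⟩
    | add s t _ _ hs ht =>
      obtain ⟨x, rfl⟩ := hs
      obtain ⟨y, rfl⟩ := ht
      exact ⟨x + y, map_add _ _ _⟩
    | smul β t _ ht =>
      obtain ⟨x, rfl⟩ := ht
      obtain ⟨β', rfl⟩ := fs_surj hsq β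
      exact ⟨β' • x, by rw [map_smul, algebraMap_smul]⟩
  let b : X →ₗ[B'] ↥Xb :=
    { toFun := fun x => ⟨b0 x, Submodule.subset_span ⟨x, rfl⟩⟩
      map_add' := fun x y => Subtype.ext (map_add b0 x y)
      map_smul' := fun c x => Subtype.ext (map_smul b0 c x) }
  have hbsurj : Function.Surjective b := by
    rintro ⟨t, ht⟩
    obtain ⟨x, hx⟩ := hXb t ht
    exact ⟨x, Subtype.ext hx⟩
  have hex : Function.Exact (Submodule.comap ξ
      ((RingHom.ker (algebraMap B' B)) • (⊤ : Submodule B' Y))).subtype b := by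
    intro x
    constructor
    · intro hx
      have h0 : b' (ξ x) = 0 := congrArg Subtype.val hx
      exact ⟨⟨x, (hb' _).mp h0⟩, rfl⟩
    · rintro ⟨x', rfl⟩
      apply Subtype.ext
      exact (hb' _).mpr x'.2
  refine l2_four L' (Xb := ↥Xb) _ b hex hbsurj ξ (Xb.subtype.restrictScalars B') b' ?_ h ?_
  · exact LinearMap.ext fun x => rfl
  · exact l1_rTensor_injective (R := B') (S := B) L' (P := ↥Xb) (Q := Yb) Xb.subtype
      Xb.injective_subtype

theorem mk_one_eq_zero_iff (hsq : EtMil.IsFibreSquare B' B A' A)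
    {Y : Type u} [AddCommGroup Y] [Module B' Y] (y : Y) :
    TensorProduct.mk B' B Y 1 y = 0 ↔
      y ∈ (RingHom.ker (algebraMap B' B)) • (⊤ : Submodule B' Y) := by
  constructor
  · intro h0
    exact fs_mem_smul_top hsq Y y h0
  · intro hy
    refine Submodule.smul_induction_on hy (fun j hj y _ => ?_) (fun x y hx hy => ?_)
    · show (1 : B) ⊗ₜ[B'] (j • y) = 0
      rw [TensorProduct.tmul_smul, TensorProduct.smul_tmul', Algebra.smul_def,
        RingHom.mem_ker.mp hj, zero_mul, TensorProduct.zero_tmul]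
    · rw [map_add, hx, hy, add_zero]

/-- (Lemma D) dévissage modulo `J = ker (B' → B)`. -/
theorem lemD (hsq : EtMil.IsFibreSquare B' B A' A) (L' : Type u) [AddCommGroup L'] [Module B' L']
    [Module.Flat B (B ⊗[B'] L')]
    {X Y : Type u} [AddCommGroup X] [Module B' X] [AddCommGroup Y] [Module B' Y]
    (ξ : X →ₗ[B'] Y)
    (h : Function.Injective ((ξ ∘ₗ (Submodule.comap ξ
      ((RingHom.ker (algebraMap B' B)) • (⊤ : Submodule B' Y))).subtype).rTensor L')) :
    Function.Injective (ξ.rTensor L') :=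
  lemD_aux hsq L' (Yb := B ⊗[B'] Y) ξ (TensorProduct.mk B' B Y 1)
    (fun y => mk_one_eq_zero_iff hsq y) h

/-- (Step 3) injective maps into `J = ker (B' → B)` stay injective after `- ⊗ L'`. -/
theorem step3 (hsq : EtMil.IsFibreSquare B' B A' A) (L' : Type u) [AddCommGroup L'] [Module B' L']
    [Module.Flat B (B ⊗[B'] L')] [Module.Flat A' (A' ⊗[B'] L')]
    {X : Type u} [AddCommGroup X] [Module B' X] (η : X →ₗ[B'] B') (hη : Function.Injective η)
    (hηJ : ∀ x, η x ∈ RingHom.ker (algebraMap B' B)) :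
    Function.Injective (η.rTensor L') := by
  let f : B' →ₗ[B'] A' := Algebra.linearMap B' A'
  let g : X →ₗ[B'] A' := f ∘ₗ η
  have hg : ∀ x, g x = algebraMap B' A' (η x) := fun x => rfl
  have hginj : Function.Injective g := by
    intro x y hxy
    apply hη
    apply fs_ext hsq
    · rw [RingHom.mem_ker.mp (hηJ x), RingHom.mem_ker.mp (hηJ y)]
    · exact hxy
  suffices hsuff : Function.Injective (g.rTensor L') by
    have hc : g.rTensor L' = f.rTensor L' ∘ₗ η.rTensor L' := LinearMap.rTensor_comp L' f η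
    rw [hc, LinearMap.coe_comp] at hsuff
    exact Function.Injective.of_comp hsuff
  let W : Ideal A' := Ideal.span (Set.range g)
  let ξ : X →ₗ[B'] ↥W :=
    { toFun := fun x => ⟨g x, Ideal.subset_span ⟨x, rfl⟩⟩
      map_add' := fun x y => Subtype.ext (map_add g x y)
      map_smul' := fun c x => Subtype.ext (map_smul g c x) }
  have hgξ : g = (W.subtype.restrictScalars B') ∘ₗ ξ := LinearMap.ext fun x => rfl
  have hW : Function.Injective ((W.subtype.restrictScalars B').rTensor L') :=
    l1_rTensor_injective (R := B') (S := A') L' (P := ↥W) (Q := A') W.subtype W.injective_subtype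
  suffices hξ : Function.Injective (ξ.rTensor L') by
    rw [hgξ, LinearMap.rTensor_comp, LinearMap.coe_comp]
    exact hW.comp hξ
  apply lemD hsq L' ξ
  -- the ideal `V = I' • W`
  let V : Ideal A' := (RingHom.ker (algebraMap A' A)) • W
  have hVW : V ≤ W := Submodule.smul_le.mpr fun r _ n hn => W.smul_mem r hn
  -- (c1)
  have hc1 : ∀ w ∈ W, ∀ a' ∈ RingHom.ker (algebraMap A' A), ∃ x : X, g x = a' * w := by
    intro w hw
    induction hw using Submodule.span_induction with
    | mem w hw =>
      obtain ⟨x₀, rfl⟩ := hw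
      intro a' ha'
      obtain ⟨j, _, hj2⟩ := fs_exists_ker hsq a' (RingHom.mem_ker.mp ha')
      refine ⟨j • x₀, ?_⟩
      rw [hg, map_smul, smul_eq_mul, map_mul, hj2, hg]
    | zero => exact fun a' _ => ⟨0, by rw [map_zero, mul_zero]⟩
    | add s t _ _ hs ht =>
      intro a' ha'
      obtain ⟨x, hx⟩ := hs a' ha'
      obtain ⟨y, hy⟩ := ht a' ha'
      exact ⟨x + y, by rw [map_add, hx, hy, mul_add]⟩
    | smul r w _ hw =>
      intro a' ha'
      obtain ⟨x, hx⟩ := hw (a' * r) (Ideal.mul_mem_right r _ ha')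
      exact ⟨x, by rw [hx, smul_eq_mul, mul_assoc]⟩
  have hJV : ∀ w ∈ (RingHom.ker (algebraMap B' B)) • (⊤ : Submodule B' ↥W), (w : A') ∈ V := by
    intro w hw
    refine Submodule.smul_induction_on hw (fun j hj w _ => ?_) (fun x y hx hy => ?_)
    · show j • (w : A') ∈ V
      rw [Algebra.smul_def]
      exact Submodule.smul_mem_smul (RingHom.mem_ker.mpr (fs_ker_map j (RingHom.mem_ker.mp hj))) w.2
    · exact V.add_mem hx hy
  let X' := Submodule.comap ξ ((RingHom.ker (algebraMap B' B)) • (⊤ : Submodule B' ↥W))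
  let ζ : ↥X' →ₗ[B'] ↥V :=
    { toFun := fun x => ⟨g x.1, hJV _ x.2⟩
      map_add' := fun x y => Subtype.ext (map_add g x.1 y.1)
      map_smul' := fun c x => Subtype.ext (map_smul g c x.1) }
  have hζ : Function.Bijective ζ := by
    constructor
    · intro x y hxy
      apply Subtype.ext
      apply hginj
      exact congrArg Subtype.val hxy
    · rintro ⟨v, hv⟩
      have hP : ∃ x : X, ξ x ∈ (RingHom.ker (algebraMap B' B)) • (⊤ : Submodule B' ↥W) ∧
          g x = v := by
        refine Submodule.smul_induction_on hv (fun m hm n hn => ?_) (fun x y hx hy => ?_)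
        · obtain ⟨j, hj1, hj2⟩ := fs_exists_ker hsq m (RingHom.mem_ker.mp hm)
          obtain ⟨x, hx⟩ := hc1 n hn m hm
          refine ⟨x, ?_, hx⟩
          have hξx : ξ x = j • (⟨n, hn⟩ : ↥W) := by
            apply Subtype.ext
            show g x = j • n
            rw [hx, Algebra.smul_def, hj2]
          rw [hξx]
          exact Submodule.smul_mem_smul (RingHom.mem_ker.mpr hj1) Submodule.mem_top
        · obtain ⟨x1, hx1, hx1'⟩ := hx
          obtain ⟨y1, hy1, hy1'⟩ := hy
          refine ⟨x1 + y1, ?_, by rw [map_add, hx1', hy1']⟩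
          rw [map_add]
          exact Submodule.add_mem _ hx1 hy1
      obtain ⟨x, hx1, hx2⟩ := hP
      exact ⟨⟨x, hx1⟩, Subtype.ext hx2⟩
  have hfac : ξ ∘ₗ X'.subtype = ((Submodule.inclusion hVW).restrictScalars B') ∘ₗ ζ :=
    LinearMap.ext fun x => rfl
  show Function.Injective ((ξ ∘ₗ X'.subtype).rTensor L')
  rw [hfac, LinearMap.rTensor_comp, LinearMap.coe_comp]
  exact (l1_rTensor_injective (R := B') (S := A') L' (P := ↥V) (Q := ↥W) (Submodule.inclusion hVW)
    (Submodule.inclusion_injective hVW)).comp (rTensor_injective_of_bijective L' ζ hζ)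

/-- Flatness descends along a Milnor square. -/
theorem flat_of_milnor (hsq : EtMil.IsFibreSquare B' B A' A) (L' : Type u) [AddCommGroup L']
    [Module B' L'] [Module.Flat B (B ⊗[B'] L')] [Module.Flat A' (A' ⊗[B'] L')] :
    Module.Flat B' L' := by
  rw [Module.Flat.iff_rTensor_injective']
  intro 𝔞
  apply lemD hsq L' 𝔞.subtype
  apply step3 hsq L'
  · intro x y hxy
    exact Subtype.ext (Subtype.ext hxy)
  · intro x
    have key : ∀ y ∈ (RingHom.ker (algebraMap B' B)) • (⊤ : Submodule B' B'),
        y ∈ RingHom.ker (algebraMap B' B) := by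
      intro y hy
      refine Submodule.smul_induction_on hy (fun j hj n _ => ?_) (fun a b ha hb => ?_)
      · exact Ideal.mul_mem_right n _ hj
      · exact Ideal.add_mem _ ha hb
    exact key _ x.2

end Groth.Agent.H10
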