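import Mathlib
import Groth.Prelude.Def_EtMil
import Groth.Agent.H10.FibreSquare
import Groth.Agent.H10.FlatLemmas
import Groth.Agent.H10.MilnorFlat

/-!
Descent of finiteness and finite presentation along a Milnor square (helper10).
-/

set_option autoImplicit false
set_option linter.unusedSectionVars false
set_option maxHeartbeats 400000
universe u

namespace Groth.Agent.H10

open TensorProduct

theorem exists_fg_lTensor_surjective {R S : Type u} [CommRing R] [CommRing S] [Algebra R S]
    (M : Type u) [AddCommGroup M] [Module R M] [hfin : Module.Finite S (S ⊗[R] M)] :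
    ∃ N : Submodule R M, N.FG ∧ ∀ N' : Submodule R M, N ≤ N' →
      Function.Surjective (N'.subtype.lTensor S) := by
  obtain ⟨s, hs⟩ := Module.finite_def.mp hfin
  obtain ⟨N1, hN1fin, hN1⟩ :=
    TensorProduct.exists_finite_submodule_right_of_setFinite (s : Set (S ⊗[R] M)) s.finite_toSet
  refine ⟨N1, Module.Finite.iff_fg.mp hN1fin, fun N' hle => ?_⟩
  have h1 : (s : Set (S ⊗[R] M)) ⊆ LinearMap.range (N'.subtype.baseChange S) := by
    intro t ht
    obtain ⟨t', ht'⟩ := hN1 ht
    refine ⟨(Submodule.inclusion hle).lTensor S t', ?_⟩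
    rw [LinearMap.baseChange_eq_ltensor, ← LinearMap.lTensor_comp_apply,
      Submodule.subtype_comp_inclusion]
    exact ht'
  have h2 : (⊤ : Submodule S (S ⊗[R] M)) ≤ LinearMap.range (N'.subtype.baseChange S) := by
    rw [← hs]
    exact Submodule.span_le.mpr h1
  intro t
  obtain ⟨t', ht'⟩ := h2 (Submodule.mem_top : t ∈ ⊤)
  exact ⟨t', ht'⟩

theorem finite_baseChange_ker {R S : Type u} [CommRing R] [CommRing S] [Algebra R S]
    {F L : Type u} [AddCommGroup F] [Module R F] [Module.Finite R F]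
    [AddCommGroup L] [Module R L] [Module.Flat R L]
    (π : F →ₗ[R] L) (hπ : Function.Surjective π) [Module.FinitePresentation S (S ⊗[R] L)] :
    Module.Finite S (S ⊗[R] ↥(LinearMap.ker π)) := by
  have hex : Function.Exact (LinearMap.ker π).subtype π := LinearMap.exact_subtype_ker_map π
  have hinj : Function.Injective ((LinearMap.ker π).subtype.lTensor S) := by
    rw [LinearMap.lTensor_inj_iff_rTensor_inj]
    exact rTensor_injective_of_flat_coker (LinearMap.ker π).subtype π
      (LinearMap.ker π).injective_subtype hex hπ S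
  have hexS : Function.Exact ((LinearMap.ker π).subtype.lTensor S) (π.lTensor S) :=
    lTensor_exact S hex hπ
  have hsurjS : Function.Surjective (π.baseChange S) := LinearMap.lTensor_surjective S hπ
  have hker : (LinearMap.ker (π.baseChange S)).FG :=
    Module.FinitePresentation.fg_ker (π.baseChange S) hsurjS
  have hrange : LinearMap.range ((LinearMap.ker π).subtype.baseChange S) =
      LinearMap.ker (π.baseChange S) := by
    ext t
    rw [LinearMap.mem_range, LinearMap.mem_ker]
    exact (hexS t).symm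
  have : Module.Finite S ↥(LinearMap.ker (π.baseChange S)) := Module.Finite.iff_fg.mpr hker
  let e : (S ⊗[R] ↥(LinearMap.ker π)) ≃ₗ[S] ↥(LinearMap.ker (π.baseChange S)) :=
    (LinearEquiv.ofInjective ((LinearMap.ker π).subtype.baseChange S) hinj).trans
      (LinearEquiv.ofEq _ _ hrange)
  exact Module.Finite.equiv e.symm

variable {B' B A' A : Type u} [CommRing B'] [CommRing B] [CommRing A'] [CommRing A]
  [Algebra B' B] [Algebra B' A'] [Algebra B A] [Algebra A' A] [Algebra B' A]
  [IsScalarTower B' B A] [IsScalarTower B' A' A]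

/-- Finite generation descends along a Milnor square. -/
theorem finite_of_milnor (hsq : EtMil.IsFibreSquare B' B A' A) (M : Type u) [AddCommGroup M]
    [Module B' M] [Module.Finite B (B ⊗[B'] M)] [Module.Finite A' (A' ⊗[B'] M)] :
    Module.Finite B' M := by
  obtain ⟨N1, hN1, hN1s⟩ := exists_fg_lTensor_surjective (R := B') (S := B) M
  obtain ⟨N2, hN2, hN2s⟩ := exists_fg_lTensor_surjective (R := B') (S := A') M
  have hNfg : (N1 ⊔ N2).FG := hN1.sup hN2
  have hsB : Function.Surjective ((N1 ⊔ N2).subtype.lTensor B) := hN1s _ le_sup_left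
  have hsA : Function.Surjective ((N1 ⊔ N2).subtype.lTensor A') := hN2s _ le_sup_right
  have hcomp : (N1 ⊔ N2).mkQ ∘ₗ (N1 ⊔ N2).subtype = 0 :=
    LinearMap.ext fun x => (Submodule.Quotient.mk_eq_zero _).mpr x.2
  have hB0 : ∀ y : M ⧸ (N1 ⊔ N2), (1 : B) ⊗ₜ[B'] y = (0 : B ⊗[B'] (M ⧸ (N1 ⊔ N2))) := by
    intro y
    obtain ⟨l, rfl⟩ := (N1 ⊔ N2).mkQ_surjective y
    obtain ⟨t', ht'⟩ := hsB ((1 : B) ⊗ₜ[B'] l)
    have h1 : (1 : B) ⊗ₜ[B'] ((N1 ⊔ N2).mkQ l) = (N1 ⊔ N2).mkQ.lTensor B ((1 : B) ⊗ₜ[B'] l) :=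
      (LinearMap.lTensor_tmul _ _ _ _).symm
    rw [h1, ← ht', ← LinearMap.lTensor_comp_apply, hcomp, LinearMap.lTensor_zero,
      LinearMap.zero_apply]
  have hA0 : ∀ y : M ⧸ (N1 ⊔ N2), (1 : A') ⊗ₜ[B'] y = (0 : A' ⊗[B'] (M ⧸ (N1 ⊔ N2))) := by
    intro y
    obtain ⟨l, rfl⟩ := (N1 ⊔ N2).mkQ_surjective y
    obtain ⟨t', ht'⟩ := hsA ((1 : A') ⊗ₜ[B'] l)
    have h1 : (1 : A') ⊗ₜ[B'] ((N1 ⊔ N2).mkQ l) =
        (N1 ⊔ N2).mkQ.lTensor A' ((1 : A') ⊗ₜ[B'] l) :=
      (LinearMap.lTensor_tmul _ _ _ _).symm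
    rw [h1, ← ht', ← LinearMap.lTensor_comp_apply, hcomp, LinearMap.lTensor_zero,
      LinearMap.zero_apply]
  have hQ : ∀ y : M ⧸ (N1 ⊔ N2), y = 0 := by
    intro y
    have hy := fs_mem_smul_top hsq (M ⧸ (N1 ⊔ N2)) y (hB0 y)
    refine Submodule.smul_induction_on hy (fun j hj q _ => ?_) (fun a b ha hb => ?_)
    · exact fs_smul_eq_zero hsq (M ⧸ (N1 ⊔ N2)) j (RingHom.mem_ker.mp hj) q (hA0 q)
    · rw [ha, hb, add_zero]
  have htop : N1 ⊔ N2 = ⊤ := by
    rw [eq_top_iff]
    intro l _
    exact (Submodule.Quotient.mk_eq_zero _).mp (hQ (Submodule.Quotient.mk l))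
  rw [Module.finite_def, ← htop]
  exact hNfg

/-- Finite presentation descends along a Milnor square (for flat modules). -/
theorem fp_of_milnor (hsq : EtMil.IsFibreSquare B' B A' A) (L' : Type u) [AddCommGroup L']
    [Module B' L']
    [Module.Flat B (B ⊗[B'] L')] [Module.FinitePresentation B (B ⊗[B'] L')]
    [Module.Flat A' (A' ⊗[B'] L')] [Module.FinitePresentation A' (A' ⊗[B'] L')] :
    Module.FinitePresentation B' L' := by
  have : Module.Flat B' L' := flat_of_milnor hsq L'
  have : Module.Finite B (B ⊗[B'] L') := inferInstance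
  have : Module.Finite A' (A' ⊗[B'] L') := inferInstance
  have : Module.Finite B' L' := finite_of_milnor hsq L'
  obtain ⟨n, π, hπ⟩ := Module.Finite.exists_fin' B' L'
  have : Module.Finite B (B ⊗[B'] ↥(LinearMap.ker π)) := finite_baseChange_ker π hπ
  have : Module.Finite A' (A' ⊗[B'] ↥(LinearMap.ker π)) := finite_baseChange_ker π hπ
  have : Module.Finite B' ↥(LinearMap.ker π) := finite_of_milnor hsq _
  exact Module.finitePresentation_of_surjective π hπ (Module.Finite.iff_fg.mp inferInstance)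

end Groth.Agent.H10
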