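import Mathlib

/-!
# Sheaves of modules on a small ringed site form a Grothendieck abelian category (helper10)
-/

set_option autoImplicit false
universe u
open CategoryTheory CategoryTheory.Limits

namespace Groth.Agent.H10.SheafModGA

variable {C : Type u} [SmallCategory C] {J : GrothendieckTopology C} (R : Sheaf J RingCat.{u})

theorem toSheaf_preservesColimit {K : Type u} [Category.{u} K] (F : K ⥤ SheafOfModules.{u} R) :
    PreservesColimit F (SheafOfModules.toSheaf.{u} R) := by
  let G := F ⋙ SheafOfModules.forget R
  let a := PresheafOfModules.sheafification.{u} (𝟙 R.obj)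
  let e : F ≅ (F ⋙ SheafOfModules.forget R) ⋙
      PresheafOfModules.sheafification (𝟙 R.obj) :=
    Functor.isoWhiskerLeft F
      (asIso (PresheafOfModules.sheafificationAdjunction (𝟙 R.obj)).counit).symm
  have h1 : PreservesColimit G a := inferInstance
  have h2 : PreservesColimit G (a ⋙ SheafOfModules.toSheaf R) := by
    have h0 : PreservesColimit G (PresheafOfModules.toPresheaf R.obj ⋙
        presheafToSheaf J AddCommGrpCat.{u}) := inferInstance
    exact preservesColimit_of_natIso G
      (PresheafOfModules.sheafificationCompToSheaf (𝟙 R.obj)).symm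
  have h3 : PreservesColimit (G ⋙ a) (SheafOfModules.toSheaf R) := by
    apply preservesColimit_of_preserves_colimit_cocone
      (isColimitOfPreserves a (colimit.isColimit G))
    exact isColimitOfPreserves (a ⋙ SheafOfModules.toSheaf R)
      (colimit.isColimit G)
  exact preservesColimit_of_iso_diagram _ e.symm

instance toSheaf_preservesColimitsOfShape (K : Type u) [Category.{u} K] :
    PreservesColimitsOfShape K (SheafOfModules.toSheaf.{u} R) :=
  ⟨fun {F} => toSheaf_preservesColimit R F⟩

theorem hasExactColimitsOfShape (K : Type u) [Category.{u} K] [IsFiltered K] :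
    HasExactColimitsOfShape K (SheafOfModules.{u} R) :=
  HasExactColimitsOfShape.domain_of_functor K (SheafOfModules.toSheaf.{u} R)

/-- the generators -/
noncomputable def gen (X : C) : SheafOfModules.{u} R :=
  (PresheafOfModules.sheafification.{u} (𝟙 R.obj)).obj
    ((PresheafOfModules.free R.obj).obj (yoneda.obj X))

theorem isSeparating : ObjectProperty.IsSeparating (.ofObj (gen R)) := by
  intro M N f g hfg
  refine (SheafOfModules.forget.{u} R ⋙
    PresheafOfModules.restrictScalars (𝟙 R.obj)).map_injective
    (PresheafOfModules.freeYoneda.isSeparating R.obj _ _ ?_)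
  rintro _ ⟨X⟩ b
  apply ((PresheafOfModules.sheafificationAdjunction.{u} (𝟙 R.obj)).homEquiv _ _).symm.injective
  have h := hfg _ (ObjectProperty.ofObj_apply _ X)
    (((PresheafOfModules.sheafificationAdjunction.{u} (𝟙 R.obj)).homEquiv _ _).symm b)
  rw [Adjunction.homEquiv_naturality_right_symm, Adjunction.homEquiv_naturality_right_symm]
  exact h

theorem hasSeparator : HasSeparator (SheafOfModules.{u} R) :=
  ⟨⟨_, (isSeparating R).isSeparator_coproduct⟩⟩

theorem isGrothendieckAbelian : IsGrothendieckAbelian.{u} (SheafOfModules.{u} R) where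
  ab5OfSize := ⟨fun K _ _ => hasExactColimitsOfShape R K⟩
  hasSeparator := hasSeparator R

end Groth.Agent.H10.SheafModGA
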