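import Groth.Agent.H10.SheafHomEx
import Groth.Agent.H10.SheafModGA

/-!
# Flat sheaves of modules on a small ringed site (helper10)
-/

set_option autoImplicit false
universe u
open CategoryTheory CategoryTheory.Limits Opposite MonoidalCategory

namespace Groth.Agent.H10.ModFlat

open Groth.Agent.H10.SheafHomEx

variable {C : Type u} [SmallCategory C] {J : GrothendieckTopology C}
  (O : Sheaf J CommRingCat.{u})

/-- tensoring on the right with `F` -/
noncomputable abbrev T (F : ModSite.Mod O) : ModSite.Mod O ⥤ ModSite.Mod O :=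
  (ModSite.tensorBi O).flip.obj F

theorem T_isLeftAdjoint (F : ModSite.Mod O) : (T O F).IsLeftAdjoint := hasSheafHom O F

theorem T_additive (F : ModSite.Mod O) : (T O F).Additive := by
  haveI := T_isLeftAdjoint O F
  haveI : PreservesBinaryBiproducts (T O F) :=
    preservesBinaryBiproducts_of_preservesBinaryCoproducts _
  exact Functor.additive_of_preservesBinaryBiproducts _

theorem isFlat_iff (F : ModSite.Mod O) :
    ModSite.IsFlat F ↔ (T O F).PreservesMonomorphisms := by
  haveI := T_isLeftAdjoint O F
  haveI := T_additive O F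
  constructor
  · rintro ⟨h, -⟩
    haveI := h
    infer_instance
  · intro h
    haveI := h
    have hc : PreservesFiniteColimits (T O F) := inferInstance
    refine ⟨?_, hc⟩
    have h0 := ((Functor.preservesFiniteColimits_tfae (T O F)).out 3 0).mp hc
    refine ((Functor.preservesFiniteLimits_tfae (T O F)).out 0 3).mp ?_
    intro S hS
    haveI := hS.mono_f
    exact ⟨(h0 S hS).1, inferInstance⟩

/-- symmetry of the tensor product of sheaves of modules -/
noncomputable def sigma (M : ModSite.Mod O) : (ModSite.tensorBi O).obj M ≅ T O M :=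
  NatIso.ofComponents
    (fun X =>
      let MV : PM O.obj := M.val
      let XV : PM O.obj := X.val
      (aF O).mapIso (β_ MV XV))
    (by
      intro X X' f
      let MV : PM O.obj := M.val
      let XV : PM O.obj := X.val
      let XV' : PM O.obj := X'.val
      let fv : XV ⟶ XV' := f.val
      show (aF O).map (MV ◁ fv) ≫ (aF O).map (β_ MV XV').hom =
        (aF O).map (β_ MV XV).hom ≫ (aF O).map (fv ▷ MV)
      rw [← Functor.map_comp, ← Functor.map_comp, BraidedCategory.braiding_naturality_right])

theorem tensorBi_obj_preservesColimit {K : Type u} [Category.{u} K] (D : K ⥤ ModSite.Mod O)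
    (M : ModSite.Mod O) : PreservesColimit D ((ModSite.tensorBi O).obj M) := by
  haveI := T_isLeftAdjoint O M
  exact preservesColimit_of_natIso D (sigma O M).symm

theorem mono_app_of_isColimit {K : Type u} [Category.{u} K]
    [HasExactColimitsOfShape K (ModSite.Mod O)]
    {B : Type*} [Category B] (D : K ⥤ B) (c : Cocone D) (hc : IsColimit c)
    (L L' : B ⥤ ModSite.Mod O) (τ : L' ⟶ L) [PreservesColimit D L] [PreservesColimit D L']
    (hτ : ∀ k, Mono (τ.app (D.obj k))) : Mono (τ.app c.pt) := by
  let h₁ := isColimitOfPreserves L' hc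
  let h₂ := isColimitOfPreserves L hc
  let α : D ⋙ L' ⟶ D ⋙ L := Functor.whiskerLeft D τ
  haveI : ∀ k, Mono (α.app k) := fun k => hτ k
  haveI : Mono α := NatTrans.mono_of_mono_app α
  haveI : Mono (colimMap α) := by
    have h : colimMap α = colim.map α := rfl
    rw [h]
    infer_instance
  let e₁ := h₁.coconePointUniqueUpToIso (colimit.isColimit (D ⋙ L'))
  let e₂ := h₂.coconePointUniqueUpToIso (colimit.isColimit (D ⋙ L))
  have key : τ.app c.pt ≫ e₂.hom = e₁.hom ≫ colimMap α := by
    apply h₁.hom_ext
    intro k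
    have a1 : (L'.mapCocone c).ι.app k ≫ e₁.hom = colimit.ι (D ⋙ L') k :=
      IsColimit.comp_coconePointUniqueUpToIso_hom h₁ _ k
    have a2 : (L.mapCocone c).ι.app k ≫ e₂.hom = colimit.ι (D ⋙ L) k :=
      IsColimit.comp_coconePointUniqueUpToIso_hom h₂ _ k
    have a3 : (L'.mapCocone c).ι.app k ≫ τ.app c.pt =
        τ.app (D.obj k) ≫ (L.mapCocone c).ι.app k := τ.naturality (c.ι.app k)
    calc (L'.mapCocone c).ι.app k ≫ τ.app c.pt ≫ e₂.hom
        = τ.app (D.obj k) ≫ (L.mapCocone c).ι.app k ≫ e₂.hom := by
          rw [← Category.assoc, a3, Category.assoc]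
      _ = τ.app (D.obj k) ≫ colimit.ι (D ⋙ L) k := by rw [a2]
      _ = colimit.ι (D ⋙ L') k ≫ colimMap α := (ι_colimMap α k).symm
      _ = (L'.mapCocone c).ι.app k ≫ e₁.hom ≫ colimMap α := by
          rw [← Category.assoc, a1]
  have h : τ.app c.pt = e₁.hom ≫ colimMap α ≫ e₂.inv := by
    rw [← Category.assoc, ← key, Category.assoc, Iso.hom_inv_id, Category.comp_id]
  rw [h]
  infer_instance

theorem isFlat_of_isColimit {K : Type u} [Category.{u} K]
    [HasExactColimitsOfShape K (ModSite.Mod O)] (D : K ⥤ ModSite.Mod O)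
    (hD : ∀ k, ModSite.IsFlat (D.obj k)) (c : Cocone D) (hc : IsColimit c) :
    ModSite.IsFlat c.pt := by
  rw [isFlat_iff]
  constructor
  intro M' M m hm
  have hτ : ∀ k : K, Mono (((ModSite.tensorBi O).map m).app (D.obj k)) := fun k => by
    haveI := (isFlat_iff O (D.obj k)).mp (hD k)
    exact inferInstanceAs (Mono ((T O (D.obj k)).map m))
  haveI := tensorBi_obj_preservesColimit O D M
  haveI := tensorBi_obj_preservesColimit O D M'
  exact mono_app_of_isColimit O D c hc _ _ ((ModSite.tensorBi O).map m) hτ

end Groth.Agent.H10.ModFlat
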