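import Mathlib

/-! Perfect closure of a ring with a p-basis is faithfully flat. -/

namespace Groth.Agent.H10.PBasis

open PerfectClosure TensorProduct

universe u

variable (p : ℕ) [Fact p.Prime] (R : Type u) [CommRing R] [CharP R p]

/-- The algebra structure on the perfect closure. -/
@[reducible] def pcAlg : Algebra R (PerfectClosure R p) := (PerfectClosure.of R p).toAlgebra

attribute [local instance] pcAlg

theorem mk_pow_eq_of (n : ℕ) (x : R) : (mk R p (n, x)) ^ (p ^ n) = of R p x := by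
  rw [← iterate_frobenius, PerfectClosure.iterate_frobenius_mk]

theorem pc_pow_inj (n : ℕ) {s t : PerfectClosure R p} (h : s ^ (p ^ n) = t ^ (p ^ n)) :
    s = t := by
  apply (frobenius_inj (PerfectClosure R p) p).iterate n
  rw [iterate_frobenius, iterate_frobenius, h]

theorem mk_succ_sum {Λ : Type*} (n : ℕ) (T : Finset Λ) (g m : Λ → R) :
    mk R p (n + 1, ∑ e ∈ T, (g e) ^ p * m e)
      = ∑ e ∈ T, mk R p (n, g e) * mk R p (n + 1, m e) := by
  apply pc_pow_inj p R (n + 1)
  rw [mk_pow_eq_of, sum_pow_char_pow, map_sum]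
  refine Finset.sum_congr rfl fun e _ => ?_
  rw [mul_pow, mk_pow_eq_of, pow_succ, pow_mul, mk_pow_eq_of, map_mul, map_pow]

theorem mk_eq_mk_add (n k : ℕ) (z : R) : mk R p (n, z) = mk R p (n + k, z ^ (p ^ k)) := by
  apply pc_pow_inj p R (n + k)
  rw [mk_pow_eq_of, pow_add, pow_mul, mk_pow_eq_of, map_pow]

theorem frob_inj_of_pbasis {ι : Type u} (x : ι → R)
    (hx : Function.Injective
      (fun c : {e : ι →₀ ℕ // ∀ i, e i < p} →₀ R =>
        c.sum (fun e r => r ^ p * e.1.prod (fun i n => x i ^ n)))) :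
    Function.Injective (frobenius R p) := by
  have hp : 0 < p := (Fact.out : p.Prime).pos
  let e₀ : {e : ι →₀ ℕ // ∀ i, e i < p} := ⟨0, fun i => by simpa using hp⟩
  have key : ∀ r : R, r ^ p = 0 → r = 0 := by
    intro r hr
    have h1 : (Finsupp.single e₀ r : {e : ι →₀ ℕ // ∀ i, e i < p} →₀ R) = 0 := by
      apply hx
      simp only [Finsupp.sum_zero_index]
      rw [Finsupp.sum_single_index]
      · rw [hr, zero_mul]
      · rw [zero_pow hp.ne', zero_mul]
    simpa using h1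
  intro a b hab
  rw [frobenius_def, frobenius_def] at hab
  have : (a - b) ^ p = 0 := by rw [sub_pow_char, hab, sub_self]
  exact sub_eq_zero.mp (key _ this)

theorem of_injective (hF : Function.Injective (frobenius R p)) :
    Function.Injective (of R p) := by
  intro a b hab
  rw [of_apply, of_apply, mk_eq_iff] at hab
  obtain ⟨z, hz⟩ := hab
  dsimp only at hz
  rw [zero_add] at hz
  exact (hF.iterate z) hz

theorem indep {ι : Type u} (x : ι → R)
    (hx : Function.Injective
      (fun c : {e : ι →₀ ℕ // ∀ i, e i < p} →₀ R =>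
        c.sum (fun e r => r ^ p * e.1.prod (fun i n => x i ^ n))))
    (T : Finset {e : ι →₀ ℕ // ∀ i, e i < p}) (g : {e : ι →₀ ℕ // ∀ i, e i < p} → R)
    (h : ∑ e ∈ T, (g e) ^ p * e.1.prod (fun i n => x i ^ n) = 0) : ∀ e ∈ T, g e = 0 := by
  classical
  have hp : 0 < p := (Fact.out : p.Prime).pos
  let c : {e : ι →₀ ℕ // ∀ i, e i < p} →₀ R :=
    Finsupp.onFinset T (fun e => if e ∈ T then g e else 0) (by
      intro e he
      by_contra hne
      simp [hne] at he)
  have hc : c = 0 := by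
    apply hx
    simp only [Finsupp.sum_zero_index]
    rw [Finsupp.sum_of_support_subset c Finsupp.support_onFinset_subset _ (by
      intro e _; rw [zero_pow hp.ne', zero_mul])]
    rw [← h]
    refine Finset.sum_congr rfl fun e he => ?_
    simp [c, he]
  intro e he
  have : c e = 0 := by rw [hc]; rfl
  simpa [c, he] using this

theorem tensor_rel {Λ : Type*} (m : Λ → R)
    (hInd : ∀ (T : Finset Λ) (g : Λ → R), ∑ e ∈ T, (g e) ^ p * m e = 0 → ∀ e ∈ T, g e = 0)
    (hSpan : ∀ r : R, ∃ c : Λ →₀ R, c.sum (fun e r => r ^ p * m e) = r)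
    (I : Ideal R) {κ : Type*} (J : Finset κ) (a : κ → I) (n : ℕ) :
    ∀ (y : κ → R), ∑ j ∈ J, (a j : R) ^ (p ^ n) * y j = 0 →
      ∑ j ∈ J, a j ⊗ₜ[R] mk R p (n, y j) = (0 : I ⊗[R] PerfectClosure R p) := by
  classical
  have hp : 0 < p := (Fact.out : p.Prime).pos
  induction n with
  | zero =>
    intro y hy
    have h1 : ∀ j, mk R p (0, y j) = (y j) • (1 : PerfectClosure R p) := by
      intro j
      rw [Algebra.smul_def, mul_one]; rfl
    have h2 : ∑ j ∈ J, y j • a j = 0 := by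
      apply Subtype.ext
      rw [Submodule.coe_sum, Submodule.coe_zero]
      calc ∑ j ∈ J, ((y j • a j : I) : R) = ∑ j ∈ J, (a j : R) ^ (p ^ 0) * y j := by
            refine Finset.sum_congr rfl fun j _ => ?_
            rw [Submodule.coe_smul, smul_eq_mul, pow_zero, pow_one, mul_comm]
        _ = 0 := hy
    calc ∑ j ∈ J, a j ⊗ₜ[R] mk R p (0, y j)
        = ∑ j ∈ J, (y j • a j) ⊗ₜ[R] (1 : PerfectClosure R p) := by
          refine Finset.sum_congr rfl fun j _ => ?_
          rw [h1, ← TensorProduct.smul_tmul]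
      _ = (∑ j ∈ J, y j • a j) ⊗ₜ[R] (1 : PerfectClosure R p) := by
          rw [TensorProduct.sum_tmul]
      _ = 0 := by rw [h2, TensorProduct.zero_tmul]
  | succ n ih =>
    intro y hy
    choose c hc using fun j => hSpan (y j)
    let T : Finset Λ := J.biUnion fun j => (c j).support
    have hy' : ∀ j ∈ J, y j = ∑ e ∈ T, (c j e) ^ p * m e := by
      intro j hj
      rw [← hc j]
      exact Finsupp.sum_of_support_subset _
        (Finset.subset_biUnion_of_mem (fun j => (c j).support) hj) _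
        (fun e _ => by rw [zero_pow hp.ne', zero_mul])
    have hrel : ∑ e ∈ T, (∑ j ∈ J, (a j : R) ^ (p ^ n) * c j e) ^ p * m e = 0 := by
      calc ∑ e ∈ T, (∑ j ∈ J, (a j : R) ^ (p ^ n) * c j e) ^ p * m e
          = ∑ e ∈ T, ∑ j ∈ J, (a j : R) ^ (p ^ (n + 1)) * ((c j e) ^ p * m e) := by
            refine Finset.sum_congr rfl fun e _ => ?_
            rw [sum_pow_char, Finset.sum_mul]
            refine Finset.sum_congr rfl fun j _ => ?_
            rw [mul_pow, ← pow_mul, ← pow_succ, mul_assoc]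
        _ = ∑ j ∈ J, ∑ e ∈ T, (a j : R) ^ (p ^ (n + 1)) * ((c j e) ^ p * m e) :=
            Finset.sum_comm
        _ = ∑ j ∈ J, (a j : R) ^ (p ^ (n + 1)) * y j := by
            refine Finset.sum_congr rfl fun j hj => ?_
            rw [hy' j hj, Finset.mul_sum]
        _ = 0 := hy
    have hzero := hInd T _ hrel
    have hlev : ∀ e ∈ T,
        ∑ j ∈ J, a j ⊗ₜ[R] mk R p (n, c j e) = (0 : I ⊗[R] PerfectClosure R p) :=
      fun e he => ih (fun j => c j e) (hzero e he)
    calc ∑ j ∈ J, a j ⊗ₜ[R] mk R p (n + 1, y j)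
        = ∑ j ∈ J, ∑ e ∈ T, a j ⊗ₜ[R] (mk R p (n, c j e) * mk R p (n + 1, m e)) := by
          refine Finset.sum_congr rfl fun j hj => ?_
          rw [hy' j hj, mk_succ_sum p R n T (c j) m, TensorProduct.tmul_sum]
      _ = ∑ e ∈ T, ∑ j ∈ J, a j ⊗ₜ[R] (mk R p (n, c j e) * mk R p (n + 1, m e)) :=
          Finset.sum_comm
      _ = ∑ e ∈ T, (LinearMap.lTensor I (LinearMap.mulRight R (mk R p (n + 1, m e))))
            (∑ j ∈ J, a j ⊗ₜ[R] mk R p (n, c j e)) := by
          refine Finset.sum_congr rfl fun e _ => ?_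
          rw [map_sum]
          refine Finset.sum_congr rfl fun j _ => ?_
          rw [LinearMap.lTensor_tmul, LinearMap.mulRight_apply]
      _ = 0 := by
          refine Finset.sum_eq_zero fun e he => ?_
          rw [hlev e he, map_zero]

theorem flat_of_pbasis {Λ : Type*} (m : Λ → R)
    (hInd : ∀ (T : Finset Λ) (g : Λ → R), ∑ e ∈ T, (g e) ^ p * m e = 0 → ∀ e ∈ T, g e = 0)
    (hSpan : ∀ r : R, ∃ c : Λ →₀ R, c.sum (fun e r => r ^ p * m e) = r)
    (hof : Function.Injective (of R p)) :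
    Module.Flat R (PerfectClosure R p) := by
  classical
  have hp : 0 < p := (Fact.out : p.Prime).pos
  rw [Module.Flat.iff_rTensor_injective']
  intro I
  rw [injective_iff_map_eq_zero]
  intro t ht
  obtain ⟨F, rfl⟩ := TensorProduct.exists_finset t
  have hsurj : ∀ s : PerfectClosure R p, ∃ n z, mk R p (n, z) = s := fun s => by
    obtain ⟨⟨n, z⟩, h⟩ := mk_surjective R p s
    exact ⟨n, z, h⟩
  choose lv z hz using hsurj
  obtain ⟨N, w, hw⟩ : ∃ (N : ℕ) (w : I × PerfectClosure R p → R),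
      ∀ i ∈ F, i.2 = mk R p (N, w i) := by
    refine ⟨F.sup (fun i => lv i.2), fun i => (z i.2) ^ (p ^ (F.sup (fun i => lv i.2) - lv i.2)),
      fun i hi => ?_⟩
    have hle : lv i.2 ≤ F.sup (fun i => lv i.2) := Finset.le_sup (f := fun i => lv i.2) hi
    calc i.2 = mk R p (lv i.2, z i.2) := (hz _).symm
      _ = mk R p (lv i.2 + (F.sup (fun i => lv i.2) - lv i.2),
            (z i.2) ^ (p ^ (F.sup (fun i => lv i.2) - lv i.2))) := mk_eq_mk_add p R _ _ _
      _ = mk R p (F.sup (fun i => lv i.2),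
            (z i.2) ^ (p ^ (F.sup (fun i => lv i.2) - lv i.2))) := by
          rw [Nat.add_sub_of_le hle]
  have h3 : ∑ i ∈ F, ((i.1 : I) : R) • i.2 = 0 := by
    have := congrArg (TensorProduct.lid R (PerfectClosure R p)) ht
    simpa using this
  have h4 : ∑ i ∈ F, ((i.1 : I) : R) ^ (p ^ N) * w i = 0 := by
    apply hof
    rw [map_zero, map_sum]
    have h5 := congrArg (fun s => s ^ (p ^ N)) h3
    rw [sum_pow_char_pow, zero_pow (pow_pos hp N).ne'] at h5
    calc ∑ i ∈ F, of R p (((i.1 : I) : R) ^ (p ^ N) * w i)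
        = ∑ i ∈ F, (((i.1 : I) : R) • i.2) ^ (p ^ N) := by
          refine Finset.sum_congr rfl fun i hi => ?_
          calc of R p (((i.1 : I) : R) ^ (p ^ N) * w i)
              = (of R p (i.1 : R)) ^ (p ^ N) * (mk R p (N, w i)) ^ (p ^ N) := by
                rw [map_mul, map_pow, mk_pow_eq_of]
            _ = (((i.1 : I) : R) • i.2) ^ (p ^ N) := by
                rw [← hw i hi, Algebra.smul_def, mul_pow, RingHom.algebraMap_toAlgebra]
      _ = 0 := h5
  have h6 := tensor_rel p R m hInd hSpan I F (fun i => i.1) N w h4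
  calc ∑ i ∈ F, i.1 ⊗ₜ[R] i.2 = ∑ i ∈ F, i.1 ⊗ₜ[R] mk R p (N, w i) :=
        Finset.sum_congr rfl fun i hi => by rw [← hw i hi]
    _ = 0 := h6

theorem smul_top_ne_top (hof : Function.Injective (of R p)) (𝔪 : Ideal R) (h𝔪 : 𝔪.IsMaximal) :
    𝔪 • (⊤ : Submodule R (PerfectClosure R p)) ≠ ⊤ := by
  have hp : 0 < p := (Fact.out : p.Prime).pos
  intro htop
  have hW : ∀ s ∈ 𝔪 • (⊤ : Submodule R (PerfectClosure R p)),
      ∃ n, ∃ z ∈ 𝔪, s ^ (p ^ n) = of R p z := by
    intro s hs
    refine Submodule.smul_induction_on hs (fun r hr s' _ => ?_) (fun s₁ s₂ h₁ h₂ => ?_)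
    · obtain ⟨⟨n, z'⟩, rfl⟩ := mk_surjective R p s'
      refine ⟨n, r ^ (p ^ n) * z',
        Ideal.mul_mem_right _ _ (Ideal.pow_mem_of_mem 𝔪 hr _ (pow_pos hp n)), ?_⟩
      rw [Algebra.smul_def, mul_pow, mk_pow_eq_of, map_mul, map_pow,
        RingHom.algebraMap_toAlgebra]
    · obtain ⟨n₁, z₁, hz₁, e₁⟩ := h₁
      obtain ⟨n₂, z₂, hz₂, e₂⟩ := h₂
      refine ⟨n₁ + n₂, z₁ ^ (p ^ n₂) + z₂ ^ (p ^ n₁),
        𝔪.add_mem (Ideal.pow_mem_of_mem 𝔪 hz₁ _ (pow_pos hp _))
          (Ideal.pow_mem_of_mem 𝔪 hz₂ _ (pow_pos hp _)), ?_⟩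
      rw [add_pow_char_pow, map_add, map_pow, map_pow, ← e₁, ← e₂, ← pow_mul, ← pow_mul,
        ← pow_add, ← pow_add, add_comm n₂ n₁]
  obtain ⟨n, z, hz, e⟩ := hW 1 (by rw [htop]; trivial)
  rw [one_pow, ← map_one (of R p)] at e
  have h1 := hof e
  exact h𝔪.ne_top ((Ideal.eq_top_iff_one _).mpr (by rw [h1]; exact hz))

theorem faithfullyFlat_of_pbasis {ι : Type u} (x : ι → R)
    (hx : Function.Bijective
      (fun c : {e : ι →₀ ℕ // ∀ i, e i < p} →₀ R =>
        c.sum (fun e r => r ^ p * e.1.prod (fun i n => x i ^ n)))) :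
    (PerfectClosure.of R p).FaithfullyFlat := by
  have hF := frob_inj_of_pbasis p R x hx.1
  have hof := of_injective p R hF
  have hInd := indep p R x hx.1
  have hSpan : ∀ r : R, ∃ c : {e : ι →₀ ℕ // ∀ i, e i < p} →₀ R,
      c.sum (fun e r => r ^ p * e.1.prod (fun i n => x i ^ n)) = r := fun r => hx.2 r
  have hflat := flat_of_pbasis p R
    (fun e : {e : ι →₀ ℕ // ∀ i, e i < p} => e.1.prod (fun i n => x i ^ n)) hInd hSpan hof
  show Module.FaithfullyFlat R (PerfectClosure R p)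
  exact { toFlat := hflat, submodule_ne_top := fun 𝔪 h𝔪 => smul_top_ne_top p R hof 𝔪 h𝔪 }

end Groth.Agent.H10.PBasis
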