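import Mathlib
import Groth.Prelude.Def_ProEtS

set_option autoImplicit false
open CategoryTheory CategoryTheory.Limits AlgebraicGeometry Opposite
universe u

namespace Groth.Agent.H10.ProEtC

set_option backward.isDefEq.respectTransparency false in
theorem epsCont (X : Scheme.{u}) : ProEtS.EpsCont X := by
  haveI h1 : PreservesFiniteLimits (ProEtS.eps X ⋙ Scheme.ProEt.forget X) :=
    inferInstanceAs (PreservesFiniteLimits (Scheme.Etale.forget X))
  haveI h2 : PreservesFiniteLimits (ProEtS.eps X) :=
    preservesFiniteLimits_of_reflects_of_preserves (ProEtS.eps X) (Scheme.ProEt.forget X)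
  haveI : RepresentablyFlat (ProEtS.eps X) := flat_of_preservesFiniteLimits _
  show (ProEtS.eps X).IsContinuous X.smallEtaleTopology (Scheme.ProEt.topology X)
  rw [Functor.isContinuous_iff_coverPreserving]
  constructor
  intro U S hS
  obtain ⟨𝒰, h𝒰, hp, hle⟩ := (Scheme.mem_smallGrothendieckTopology (P := @Etale) U S).1 hS
  let R : Presieve ((ProEtS.eps X).obj U) :=
    Presieve.ofArrows (fun i => (ProEtS.eps X).obj ((𝒰.X i).asOverProp X (hp i)))
      (fun i => (ProEtS.eps X).map ((𝒰.f i).asOverProp X))
  have hR : R ∈ Scheme.ProEt.precoverage X ((ProEtS.eps X).obj U) := by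
    show R.map (Scheme.ProEt.forget X ⋙ Over.forget X) ∈ Scheme.proetalePrecoverage _
    rw [Presieve.map_ofArrows]
    exact Scheme.etalePrecoverage_le_proetalePrecoverage _ 𝒰.mem₀
  have hgen : Sieve.generate R ∈ Scheme.ProEt.topology X _ :=
    Precoverage.generate_mem_toGrothendieck hR
  refine GrothendieckTopology.superset_covering _ ?_ hgen
  rw [Sieve.generate_le_iff]
  rintro _ _ ⟨i⟩
  exact ⟨_, (𝒰.f i).asOverProp X, 𝟙 _, hle _ _ ⟨i⟩, (Category.id_comp _).symm⟩

set_option backward.isDefEq.respectTransparency false in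
theorem pCont {X Y : Scheme.{u}} (f : X ⟶ Y) : ProEtS.PCont f := by
  haveI : (Scheme.ProEt.precoverage Y).IsStableUnderBaseChange := by
    unfold Scheme.ProEt.precoverage; infer_instance
  haveI : (Scheme.ProEt.precoverage X).IsStableUnderBaseChange := by
    unfold Scheme.ProEt.precoverage; infer_instance
  haveI hfl : PreservesFiniteLimits (ProEtS.bcP f) :=
    inferInstanceAs (PreservesFiniteLimits (MorphismProperty.Over.pullback (@WeaklyEtale) ⊤ f))
  haveI hcs : PreservesLimitsOfShape WalkingCospan (ProEtS.bcP f) := inferInstance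
  show (ProEtS.bcP f).IsContinuous (Scheme.ProEt.precoverage Y).toGrothendieck
    (Scheme.ProEt.precoverage X).toGrothendieck
  apply Functor.isContinuous_toGrothendieck_of_pullbacksPreservedBy
  intro V R hR
  obtain ⟨ι, W, g, rfl⟩ := R.exists_eq_ofArrows
  change (Presieve.ofArrows W g).map (Scheme.ProEt.forget Y ⋙ Over.forget Y) ∈
    Scheme.proetalePrecoverage _ at hR
  rw [Presieve.map_ofArrows] at hR
  change ((Presieve.ofArrows W g).map (ProEtS.bcP f)).map (Scheme.ProEt.forget X ⋙ Over.forget X) ∈
    Scheme.proetalePrecoverage _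
  rw [Presieve.map_ofArrows, Presieve.map_ofArrows]
  have hpb : ∀ i, IsPullback (((ProEtS.bcP f).map (g i)).left) (pullback.fst (W i).hom f)
      (pullback.fst V.hom f) (g i).left := by
    intro i
    have e1 : ((ProEtS.bcP f).map (g i)).left ≫ pullback.snd V.hom f =
        pullback.snd (W i).hom f := pullback.lift_snd _ _ _
    have e2 : (g i).left ≫ V.hom = (W i).hom := MorphismProperty.Over.w (g i)
    have comm : pullback.fst (W i).hom f ≫ (g i).left =
        ((ProEtS.bcP f).map (g i)).left ≫ pullback.fst V.hom f :=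
      (pullback.lift_fst _ _ _).symm
    have H : IsPullback (pullback.fst (W i).hom f)
        (((ProEtS.bcP f).map (g i)).left ≫ pullback.snd V.hom f) ((g i).left ≫ V.hom) f := by
      rw [e1, e2]
      exact IsPullback.of_hasPullback (W i).hom f
    exact (IsPullback.of_bot H comm (IsPullback.of_hasPullback V.hom f)).flip
  exact Precoverage.mem_coverings_of_isPullback (fun i => (g i).left) hR (pullback.fst V.hom f)
    (fun i => ((ProEtS.bcP f).map (g i)).left) (fun i => pullback.fst (W i).hom f) hpb

end Groth.Agent.H10.ProEtC
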