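import Mathlib

set_option autoImplicit false
set_option linter.unusedSectionVars false
universe u v w t
open CategoryTheory CategoryTheory.Limits CategoryTheory.Abelian

namespace Groth.Agent.H10.ProdAcyc

variable {𝒜 : Type u} [Category.{v} 𝒜] [Abelian 𝒜] [HasExt.{w} 𝒜]
  (𝒢 : 𝒜 → Prop)

/-- acyclic with respect to the test objects -/
def Acyc (F : 𝒜) : Prop := ∀ A, 𝒢 A → ∀ p : ℕ, Subsingleton (Ext.{w} A F (p + 1))

variable {𝒢}

lemma lift_of_acyc {S : ShortComplex 𝒜} (hS : S.ShortExact) (h₁ : Acyc 𝒢 S.X₁)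
    {A : 𝒜} (hA : 𝒢 A) (m : A ⟶ S.X₃) : ∃ n : A ⟶ S.X₂, n ≫ S.g = m := by
  have := h₁ A hA 0
  obtain ⟨x₂, hx₂⟩ := Ext.covariant_sequence_exact₃ A hS (Ext.mk₀ m) (zero_add 1)
    (Subsingleton.elim _ _)
  obtain ⟨n, rfl⟩ := (Ext.mk₀_bijective A S.X₂).2 x₂
  refine ⟨n, ?_⟩
  apply (Ext.mk₀_bijective A S.X₃).1
  rw [← hx₂, Ext.mk₀_comp_mk₀]

lemma acyc_X₃ {S : ShortComplex 𝒜} (hS : S.ShortExact) (h₁ : Acyc 𝒢 S.X₁)
    [Injective S.X₂] : Acyc 𝒢 S.X₃ := by
  intro A hA p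
  refine ⟨fun x y => ?_⟩
  have key : ∀ x₃ : Ext.{w} A S.X₃ (p + 1), x₃ = 0 := by
    intro x₃
    have := h₁ A hA (p + 1)
    obtain ⟨x₂, hx₂⟩ := Ext.covariant_sequence_exact₃ A hS x₃ (rfl : p + 1 + 1 = p + 2)
      (Subsingleton.elim _ _)
    rw [← hx₂, Ext.eq_zero_of_injective x₂, Ext.zero_comp]
  rw [key x, key y]

section Prod

variable [EnoughInjectives 𝒜] {T : Type t} [HasProductsOfShape T 𝒜] (F : T → 𝒜)

/-- the short exact sequence `0 ⟶ F t ⟶ I t ⟶ Q t ⟶ 0` -/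
noncomputable def St (t : T) : ShortComplex 𝒜 :=
  ShortComplex.mk (Injective.ι (F t)) (cokernel.π _) (cokernel.condition _)

lemma St_shortExact (t : T) : (St F t).ShortExact where
  exact := ShortComplex.exact_of_g_is_cokernel _ (cokernelIsCokernel _)
  mono_f := by dsimp [St]; infer_instance
  epi_g := by dsimp [St]; infer_instance

instance (t : T) : Injective (St F t).X₂ := by dsimp [St]; infer_instance

instance (t : T) : Mono (St F t).f := by dsimp [St]; infer_instance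

/-- the product sequence -/
noncomputable def SP : ShortComplex 𝒜 :=
  ShortComplex.mk (X₁ := ∏ᶜ fun t => (St F t).X₁) (X₂ := ∏ᶜ fun t => (St F t).X₂)
    (X₃ := ∏ᶜ fun t => (St F t).X₃)
    (Limits.Pi.map fun t => (St F t).f) (Limits.Pi.map fun t => (St F t).g) (by
    apply Limits.Pi.hom_ext
    intro t
    simp)

/-- the first map of the product sequence is a kernel of the second -/
noncomputable def SP_fIsKernel : IsLimit (KernelFork.ofι (SP F).f (SP F).zero) :=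
  KernelFork.IsLimit.ofι _ _
    (fun {W'} g' eq' => Limits.Pi.lift fun t =>
      (St_shortExact F t).exact.lift (g' ≫ Limits.Pi.π _ t) (by
        have h : (g' ≫ (SP F).g) ≫ Limits.Pi.π _ t = 0 := by rw [eq', zero_comp]
        simpa [SP] using h))
    (fun {W'} g' eq' => by
      apply Limits.Pi.hom_ext
      intro t
      simp [SP])
    (fun {W'} g' eq' m hm => by
      apply Limits.Pi.hom_ext
      intro t
      rw [← cancel_mono (St F t).f]
      have h : (m ≫ (SP F).f) ≫ Limits.Pi.π _ t = g' ≫ Limits.Pi.π _ t := by rw [hm]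
      simp only [SP, Category.assoc, Limits.Pi.map_π] at h
      rw [Category.assoc, h, Limits.Pi.lift_π, ShortComplex.Exact.lift_f]
      rfl)

include 𝒢 in
lemma SP_shortExact
    (hE : ∀ {X Y : 𝒜} (φ : X ⟶ Y),
      (∀ A, 𝒢 A → ∀ m : A ⟶ Y, ∃ n : A ⟶ X, n ≫ φ = m) → Epi φ)
    (hF : ∀ t, Acyc.{u, v, w} 𝒢 (F t)) : (SP F).ShortExact where
  exact := ShortComplex.exact_of_f_is_kernel _ (SP_fIsKernel F)
  mono_f := mono_of_isLimit_fork (SP_fIsKernel F)
  epi_g := by
    apply hE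
    intro A hA m
    choose n hn using fun t => lift_of_acyc (St_shortExact F t) (hF t) hA (m ≫ Limits.Pi.π _ t)
    refine ⟨Limits.Pi.lift n, ?_⟩
    apply Limits.Pi.hom_ext
    intro t
    simp [SP, hn]

instance : Injective (SP F).X₂ := by dsimp [SP]; infer_instance

include 𝒢 in
/-- products of acyclic objects are acyclic -/
theorem prod_acyc
    (hE : ∀ {X Y : 𝒜} (φ : X ⟶ Y),
      (∀ A, 𝒢 A → ∀ m : A ⟶ Y, ∃ n : A ⟶ X, n ≫ φ = m) → Epi φ) :
    ∀ (p : ℕ) (F : T → 𝒜), (∀ t, Acyc.{u, v, w} 𝒢 (F t)) → ∀ A, 𝒢 A →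
      Subsingleton (Ext.{w} A (∏ᶜ F) (p + 1)) := by
  intro p
  induction p with
  | zero =>
    intro F hF A hA
    have hS := SP_shortExact F hE hF
    have key : ∀ x : Ext.{w} A (∏ᶜ F) (0 + 1), x = 0 := by
      intro x
      have hx : x.comp (Ext.mk₀ (SP F).f) (add_zero 1) = 0 := Ext.eq_zero_of_injective _
      obtain ⟨x₃, hx₃⟩ := Ext.covariant_sequence_exact₁ A hS x hx (zero_add 1)
      obtain ⟨m, rfl⟩ := (Ext.mk₀_bijective A (SP F).X₃).2 x₃
      have hQ : ∀ t, Acyc.{u, v, w} 𝒢 (St F t).X₁ := hF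
      have hepi := hS.epi_g
      -- lift `m`
      choose n hn using fun t => lift_of_acyc (St_shortExact F t) (hF t) hA (m ≫ Limits.Pi.π _ t)
      let l : A ⟶ (SP F).X₂ := Limits.Pi.lift n
      have hm : m = l ≫ (SP F).g := by
        apply Limits.Pi.hom_ext
        intro t
        simp [SP, hn, l]
      have h1 : Ext.mk₀ m = (Ext.mk₀ l).comp (Ext.mk₀ (SP F).g) (add_zero 0) := by
        rw [Ext.mk₀_comp_mk₀, ← hm]
      rw [← hx₃, h1, Ext.comp_assoc_of_second_deg_zero, hS.comp_extClass, Ext.comp_zero]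
      rfl
    exact ⟨fun x y => (key x).trans (key y).symm⟩
  | succ p ih =>
    intro F hF A hA
    have hS := SP_shortExact F hE hF
    have hQ : ∀ t, Acyc.{u, v, w} 𝒢 (St F t).X₃ := fun t => acyc_X₃ (St_shortExact F t) (hF t)
    have hsub : Subsingleton (Ext.{w} A (SP F).X₃ (p + 1)) := ih (fun t => (St F t).X₃) hQ A hA
    have key : ∀ x : Ext.{w} A (∏ᶜ F) (p + 1 + 1), x = 0 := by
      intro x
      have hx : x.comp (Ext.mk₀ (SP F).f) (add_zero _) = 0 := Ext.eq_zero_of_injective _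
      obtain ⟨x₃, hx₃⟩ := Ext.covariant_sequence_exact₁ A hS x hx (rfl : p + 1 + 1 = p + 1 + 1)
      have h0 : x₃ = 0 := Subsingleton.elim _ _
      rw [← hx₃, h0]
      exact Ext.zero_comp _ _ _ _ _
    exact ⟨fun x y => (key x).trans (key y).symm⟩

end Prod

end Groth.Agent.H10.ProdAcyc
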