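import Mathlib
import Groth.Prelude.Def_CohCx
import Groth.Agent.H10.ProdAcyc
import Groth.Agent.H10.CohSiteA

set_option autoImplicit false
universe u
open CategoryTheory CategoryTheory.Limits CategoryTheory.Abelian

namespace Groth.Agent.H10.ProdAcycSh

variable {C : Type u} [SmallCategory C] (J : GrothendieckTopology C)

/-- test objects: free abelian sheaves on sheaves of sets -/
def G (A : Sheaf J AddCommGrpCat.{u}) : Prop :=
  ∃ K : Sheaf J (Type u),
    A = (presheafToSheaf J AddCommGrpCat.{u}).obj (K.obj ⋙ AddCommGrpCat.free.{u})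

lemma epi_of_lift {X Y : Sheaf J AddCommGrpCat.{u}} (φ : X ⟶ Y)
    (h : ∀ A, G J A → ∀ m : A ⟶ Y, ∃ n : A ⟶ X, n ≫ φ = m) : Epi φ := by
  have hR : (sheafToPresheaf J AddCommGrpCat.{u} ⋙
      (Functor.whiskeringRight Cᵒᵖ _ _).obj (forget AddCommGrpCat.{u})).Faithful := inferInstance
  let K : Sheaf J (Type u) := (sheafCompose J (forget AddCommGrpCat.{u})).obj Y
  let c := (CohSiteA.freeAdj J).counit.app Y
  have hc : Epi c := Adjunction.counit_epi_of_R_faithful (CohSiteA.freeAdj J) Y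
  obtain ⟨n, hn⟩ := h _ ⟨K, rfl⟩ c
  exact @epi_of_epi_fac _ _ _ _ _ n φ c hc hn

theorem main {T : Type u} (F : T → Sheaf J AddCommGrpCat.{u})
    (hF : ∀ t, CohCx.IsTotallyAcyclic (F t)) : CohCx.IsTotallyAcyclic (∏ᶜ F) := by
  intro K p
  have hF' : ∀ t, ProdAcyc.Acyc.{u + 1, u, u} (G J) (F t) := by
    rintro t A ⟨K', rfl⟩ q
    exact hF t K' q
  exact ProdAcyc.prod_acyc.{u + 1, u, u, u} (𝒢 := G J) (fun φ h => epi_of_lift J φ h) p F hF' _
    ⟨K, rfl⟩

end Groth.Agent.H10.ProdAcycSh
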