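import Mathlib
import Groth.Prelude.Def_CohCx
import Groth.Prelude.Def_CohSite
import Groth.Agent.H10.ProdAcyc
import Groth.Agent.H10.ProdAcycSh
import Groth.Agent.H10.FlatLan

set_option autoImplicit false
set_option linter.unusedSectionVars false
set_option linter.style.haveILetI false
universe u
open CategoryTheory CategoryTheory.Limits CategoryTheory.Abelian

namespace Groth.Agent.H10.PushAcyc

variable {C D : Type u} [SmallCategory C] [SmallCategory D]
  (J : GrothendieckTopology C) (K : GrothendieckTopology D) (u : D ⥤ C)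
  [u.IsContinuous K J]

/-- free abelian sheaf on a sheaf of sets -/
noncomputable abbrev Zf {E : Type u} [SmallCategory E] (L : GrothendieckTopology E) :
    Sheaf L (Type u) ⥤ Sheaf L AddCommGrpCat.{u} :=
  Sheaf.composeAndSheafify L AddCommGrpCat.free.{u}

/-- the free/forget adjunction on sheaves -/
noncomputable abbrev ZfAdj {E : Type u} [SmallCategory E] (L : GrothendieckTopology E) :
    Zf L ⊣ sheafCompose L (forget AddCommGrpCat.{u}) :=
  Sheaf.adjunction L AddCommGrpCat.adj.{u}

noncomputable abbrev pullAb : Sheaf K AddCommGrpCat.{u} ⥤ Sheaf J AddCommGrpCat.{u} :=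
  u.sheafPullback AddCommGrpCat.{u} K J

noncomputable abbrev pullSet : Sheaf K (Type u) ⥤ Sheaf J (Type u) :=
  u.sheafPullback (Type u) K J

noncomputable abbrev adjAb : pullAb J K u ⊣ CohSite.push J K u :=
  u.sheafAdjunctionContinuous AddCommGrpCat.{u} K J

noncomputable abbrev adjSet : pullSet J K u ⊣ u.sheafPushforwardContinuous (Type u) K J :=
  u.sheafAdjunctionContinuous (Type u) K J

/-- push commutes with forgetting -/
noncomputable def pushForgetIso :
    CohSite.push J K u ⋙ sheafCompose K (forget AddCommGrpCat.{u}) ≅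
      sheafCompose J (forget AddCommGrpCat.{u}) ⋙ u.sheafPushforwardContinuous (Type u) K J :=
  NatIso.ofComponents (fun F => Iso.refl _) (by
    intro F G f
    rfl)

/-- pullback commutes with free abelian sheaves -/
noncomputable def pullFreeIso : Zf K ⋙ pullAb J K u ≅ pullSet J K u ⋙ Zf J :=
  ((ZfAdj K).comp (adjAb J K u)).leftAdjointUniq
    (((adjSet J K u).comp (ZfAdj J)).ofNatIsoRight (pushForgetIso J K u).symm)

section General

variable {𝒜 : Type (u + 1)} [Category.{u} 𝒜] [Abelian 𝒜] [HasExt.{u} 𝒜]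

lemma ext_one_subsingleton {S : ShortComplex 𝒜} (hS : S.ShortExact) [Injective S.X₂] (A : 𝒜)
    (hl : ∀ m : A ⟶ S.X₃, ∃ n : A ⟶ S.X₂, n ≫ S.g = m) :
    Subsingleton (Ext.{u} A S.X₁ (0 + 1)) := by
  have key : ∀ x : Ext.{u} A S.X₁ (0 + 1), x = 0 := by
    intro x
    have hx : x.comp (Ext.mk₀ S.f) (add_zero 1) = 0 := Ext.eq_zero_of_injective _
    obtain ⟨x₃, hx₃⟩ := Ext.covariant_sequence_exact₁ A hS x hx (zero_add 1)
    obtain ⟨m, rfl⟩ := (Ext.mk₀_bijective A S.X₃).2 x₃
    obtain ⟨l, hl'⟩ := hl m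
    have h1 : Ext.mk₀ m = (Ext.mk₀ l).comp (Ext.mk₀ S.g) (add_zero 0) := by
      rw [Ext.mk₀_comp_mk₀, hl']
    rw [← hx₃, h1, Ext.comp_assoc_of_second_deg_zero, hS.comp_extClass, Ext.comp_zero]
  exact ⟨fun x y => (key x).trans (key y).symm⟩

lemma ext_succ_subsingleton {S : ShortComplex 𝒜} (hS : S.ShortExact) [Injective S.X₂] (A : 𝒜)
    (p : ℕ) (h3 : Subsingleton (Ext.{u} A S.X₃ (p + 1))) :
    Subsingleton (Ext.{u} A S.X₁ (p + 1 + 1)) := by
  have key : ∀ x : Ext.{u} A S.X₁ (p + 1 + 1), x = 0 := by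
    intro x
    have hx : x.comp (Ext.mk₀ S.f) (add_zero _) = 0 := Ext.eq_zero_of_injective _
    obtain ⟨x₃, hx₃⟩ := Ext.covariant_sequence_exact₁ A hS x hx (rfl : p + 1 + 1 = p + 1 + 1)
    have h0 : x₃ = 0 := Subsingleton.elim _ _
    rw [← hx₃, h0]
    exact Ext.zero_comp _ _ _ _ _
  exact ⟨fun x y => (key x).trans (key y).symm⟩

end General

variable [HasFiniteLimits D] [PreservesFiniteLimits u]

include u in
theorem pullAb_lex : PreservesFiniteLimits (pullAb J K u) := by
  haveI : RepresentablyFlat u := flat_of_preservesFiniteLimits u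
  exact FlatLan.sheafPullback_preservesFiniteLimits_of_flat u AddCommGrpCat.{u} K J

/-- the sequence `0 ⟶ F ⟶ I ⟶ Q ⟶ 0` -/
noncomputable abbrev SC (F : Sheaf J AddCommGrpCat.{u}) : ShortComplex (Sheaf J AddCommGrpCat.{u}) :=
  ProdAcyc.St (fun _ : PUnit.{1} => F) PUnit.unit

lemma SC_shortExact (F : Sheaf J AddCommGrpCat.{u}) : (SC J F).ShortExact :=
  ProdAcyc.St_shortExact _ _

lemma push_shortExact (F : Sheaf J AddCommGrpCat.{u}) (hF : CohCx.IsTotallyAcyclic F) :
    ((SC J F).map (CohSite.push J K u)).ShortExact := by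
  have hlim : PreservesLimitsOfSize.{0, 0} (CohSite.push J K u) :=
    (adjAb J K u).rightAdjoint_preservesLimits
  have hlex : PreservesFiniteLimits (CohSite.push J K u) :=
    PreservesLimitsOfSize.preservesFiniteLimits _
  have hS := SC_shortExact J F
  have hm : Mono (SC J F).f := hS.mono_f
  have hF' : ProdAcyc.Acyc.{u + 1, u, u} (ProdAcycSh.G J) (SC J F).X₁ := by
    rintro A ⟨K', rfl⟩ q
    exact hF K' q
  refine
    { exact := hS.exact.map_of_mono_of_preservesKernel _ hm inferInstance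
      mono_f := by
        have : Mono ((CohSite.push J K u).map (SC J F).f) := inferInstance
        exact this
      epi_g := ?_ }
  apply ProdAcycSh.epi_of_lift K
  rintro A ⟨K'', rfl⟩ m
  let A := (Zf K).obj K''
  let e : (pullAb J K u).obj A ≅ (Zf J).obj ((pullSet J K u).obj K'') :=
    (pullFreeIso J K u).app K''
  let m' : (pullAb J K u).obj A ⟶ (SC J F).X₃ := ((adjAb J K u).homEquiv A _).symm m
  obtain ⟨n'', hn''⟩ := ProdAcyc.lift_of_acyc hS hF' ⟨(pullSet J K u).obj K'', rfl⟩ (e.inv ≫ m')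
  refine ⟨(adjAb J K u).homEquiv A _ (e.hom ≫ n''), ?_⟩
  have h1 : (e.hom ≫ n'') ≫ (SC J F).g = m' := by
    rw [Category.assoc, hn'', Iso.hom_inv_id_assoc]
  have h2 := (adjAb J K u).homEquiv_naturality_right (e.hom ≫ n'') (SC J F).g
  rw [h1] at h2
  rw [← Equiv.apply_symm_apply ((adjAb J K u).homEquiv A _) m]
  exact h2.symm

include u in
lemma push_injective (I : Sheaf J AddCommGrpCat.{u}) [Injective I] :
    Injective ((CohSite.push J K u).obj I) := by
  have hlex := pullAb_lex J K u
  have hpm : (pullAb J K u).PreservesMonomorphisms := inferInstance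
  exact Injective.injective_of_adjoint (adjAb J K u) I

theorem main : ∀ (p : ℕ) (F : Sheaf J AddCommGrpCat.{u}), CohCx.IsTotallyAcyclic F →
    ∀ K' : Sheaf K (Type u), Subsingleton (CohCx.HK K' ((CohSite.push J K u).obj F) (p + 1)) := by
  intro p
  induction p with
  | zero =>
    intro F hF K'
    have hS := push_shortExact J K u F hF
    haveI : Injective ((SC J F).map (CohSite.push J K u)).X₂ :=
      push_injective J K u (SC J F).X₂
    have hepi := hS.epi_g
    refine ext_one_subsingleton hS _ ?_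
    intro m
    -- lifting, as in `push_shortExact`
    have hSC := SC_shortExact J F
    have hF' : ProdAcyc.Acyc.{u + 1, u, u} (ProdAcycSh.G J) (SC J F).X₁ := by
      rintro A ⟨K'', rfl⟩ q
      exact hF K'' q
    let A := (Zf K).obj K'
    let e : (pullAb J K u).obj A ≅ (Zf J).obj ((pullSet J K u).obj K') :=
      (pullFreeIso J K u).app K'
    let m' : (pullAb J K u).obj A ⟶ (SC J F).X₃ := ((adjAb J K u).homEquiv A _).symm m
    obtain ⟨n'', hn''⟩ := ProdAcyc.lift_of_acyc hSC hF' ⟨(pullSet J K u).obj K', rfl⟩ (e.inv ≫ m')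
    refine ⟨(adjAb J K u).homEquiv A _ (e.hom ≫ n''), ?_⟩
    have h1 : (e.hom ≫ n'') ≫ (SC J F).g = m' := by
      rw [Category.assoc, hn'', Iso.hom_inv_id_assoc]
    have h2 := (adjAb J K u).homEquiv_naturality_right (e.hom ≫ n'') (SC J F).g
    rw [h1] at h2
    rw [← Equiv.apply_symm_apply ((adjAb J K u).homEquiv A _) m]
    exact h2.symm
  | succ p ih =>
    intro F hF K'
    have hS := push_shortExact J K u F hF
    haveI : Injective ((SC J F).map (CohSite.push J K u)).X₂ :=
      push_injective J K u (SC J F).X₂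
    have hSC := SC_shortExact J F
    have hF' : ProdAcyc.Acyc.{u + 1, u, u} (ProdAcycSh.G J) (SC J F).X₁ := by
      rintro A ⟨K'', rfl⟩ q
      exact hF K'' q
    have hQ : CohCx.IsTotallyAcyclic (SC J F).X₃ := by
      intro K'' q
      exact ProdAcyc.acyc_X₃ hSC hF' _ ⟨K'', rfl⟩ q
    exact ext_succ_subsingleton hS _ p (ih (SC J F).X₃ hQ K')

end Groth.Agent.H10.PushAcyc
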