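import Mathlib

set_option autoImplicit false
universe u
open CategoryTheory TopologicalSpace Opposite

namespace Groth.Agent.H10.PushEpi

theorem map_map_eq {X : TopCat.{u}} (P : (Opens X)ᵒᵖ ⥤ Type u) {A B C : Opens X}
    (f : A ⟶ B) (g : B ⟶ C) (h : A ⟶ C) (s : P.obj (op C)) :
    P.map f.op (P.map g.op s) = P.map h.op s := by
  have e : h = f ≫ g := Subsingleton.elim _ _
  subst e
  rw [op_comp]
  exact (Functor.map_comp_apply P g.op f.op s).symm

theorem map_congr_hom {X : TopCat.{u}} (P : (Opens X)ᵒᵖ ⥤ Type u) {A B : Opens X}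
    (f g : A ⟶ B) (s : P.obj (op B)) : P.map f.op s = P.map g.op s := by
  rw [Subsingleton.elim f g]

theorem eq_of_bot {X : TopCat.{u}} (F : TopCat.Sheaf (Type u) X) {W : Opens X} (hW : W = ⊥)
    (s t : F.1.obj (op W)) : s = t := by
  refine F.eq_of_locally_eq' (fun i : PEmpty.{u+1} => i.elim) W (fun i => i.elim) ?_ s t
    (fun i => i.elim)
  rw [hW]; exact bot_le

theorem mem_inf_iff {X : TopCat.{u}} {A B : Opens X} {x : X} : x ∈ A ⊓ B ↔ x ∈ A ∧ x ∈ B :=
  Iff.rfl

end Groth.Agent.H10.PushEpi
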