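import Mathlib

set_option autoImplicit false

open CategoryTheory Limits

namespace Groth.Agent.H10.RDLes

universe v₁ v₂ u₁ u₂

variable {A : Type u₁} {A' : Type u₂} [Category.{v₁} A] [Category.{v₂} A'] [Abelian A]
  [Abelian A'] [HasInjectiveResolutions A]

variable {G₁ G₂ G₂' G₃ : A ⥤ A'} [G₁.Additive] [G₂.Additive] [G₂'.Additive] [G₃.Additive]
  (α : G₁ ⟶ G₂) (α' : G₁ ⟶ G₂') (β : G₂ ⟶ G₃) (β' : G₂' ⟶ G₃)

/-- value of a natural transformation on a complex -/
noncomputable abbrev cx {G G' : A ⥤ A'} [G.Additive] [G'.Additive] (γ : G ⟶ G')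
    (K : CochainComplex A ℕ) :
    (G.mapHomologicalComplex (ComplexShape.up ℕ)).obj K ⟶
      (G'.mapHomologicalComplex (ComplexShape.up ℕ)).obj K :=
  (NatTrans.mapHomologicalComplex γ (ComplexShape.up ℕ)).app K

variable (w : ∀ X : A, biprod.lift (α.app X) (α'.app X) ≫ biprod.desc (β.app X) (-β'.app X) = 0)

include w in
lemma cx_zero (K : CochainComplex A ℕ) :
    biprod.lift (cx α K) (cx α' K) ≫ biprod.desc (cx β K) (-(cx β' K)) = 0 := by
  rw [biprod.lift_desc]
  ext n
  have := w (K.X n)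
  rw [biprod.lift_desc] at this
  simp at this ⊢
  exact this

/-- the short complex of complexes -/
noncomputable abbrev SC (K : CochainComplex A ℕ) : ShortComplex (CochainComplex A' ℕ) :=
  ShortComplex.mk (biprod.lift (cx α K) (cx α' K)) (biprod.desc (cx β K) (-(cx β' K)))
    (cx_zero α α' β β' w K)

variable (hS : ∀ I : A, Injective I → (ShortComplex.mk _ _ (w I)).ShortExact)

/-- degreewise iso -/
noncomputable def degIso (K : CochainComplex A ℕ) (n : ℕ) :
    (SC α α' β β' w K).map (HomologicalComplex.eval A' (ComplexShape.up ℕ) n) ≅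
      ShortComplex.mk _ _ (w (K.X n)) :=
  ShortComplex.isoMk (Iso.refl _)
    ((HomologicalComplex.eval A' (ComplexShape.up ℕ) n).mapBiprod _ _) (Iso.refl _)
    (by
      have h := biprod.map_lift_mapBiprod (HomologicalComplex.eval A' (ComplexShape.up ℕ) n) _ _
        (cx α K) (cx α' K)
      change 𝟙 _ ≫ biprod.lift (α.app (K.X n)) (α'.app (K.X n)) =
        (HomologicalComplex.eval A' (ComplexShape.up ℕ) n).map
          (biprod.lift (cx α K) (cx α' K)) ≫ _
      rw [Category.id_comp]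
      exact h.symm)
    (by
      have h := biprod.mapBiprod_hom_desc (HomologicalComplex.eval A' (ComplexShape.up ℕ) n) _ _
        (cx β K) (-(cx β' K))
      change ((HomologicalComplex.eval A' (ComplexShape.up ℕ) n).mapBiprod _ _).hom ≫
          biprod.desc (β.app (K.X n)) (-β'.app (K.X n)) =
        (HomologicalComplex.eval A' (ComplexShape.up ℕ) n).map
          (biprod.desc (cx β K) (-(cx β' K))) ≫ 𝟙 _
      rw [Category.comp_id]
      exact h)

include hS in
lemma SC_shortExact {X : A} (I : InjectiveResolution X) :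
    (SC α α' β β' w I.cocomplex).ShortExact :=
  HomologicalComplex.shortExact_of_degreewise_shortExact _ (fun n =>
    ShortComplex.shortExact_of_iso (degIso α α' β β' w I.cocomplex n).symm
      (hS (I.cocomplex.X n) (I.injective n)))

section LES

/-- homology functor -/
noncomputable abbrev Hn (n : ℕ) : CochainComplex A' ℕ ⥤ A' :=
  HomologicalComplex.homologyFunctor A' (ComplexShape.up ℕ) n

instance instPBB (n : ℕ) : PreservesBinaryBiproducts (Hn (A' := A') n) :=
  preservesBinaryBiproducts_of_preservesBiproducts _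

/-- the complex `G(K)` -/
noncomputable abbrev GK (G : A ⥤ A') [G.Additive] (K : CochainComplex A ℕ) : CochainComplex A' ℕ :=
  (G.mapHomologicalComplex (ComplexShape.up ℕ)).obj K

variable {X : A} (I : InjectiveResolution X)

/-- the iso with homology -/
noncomputable abbrev eG (G : A ⥤ A') [G.Additive] (n : ℕ) :
    (G.rightDerived n).obj X ≅ (Hn n).obj (GK G I.cocomplex) :=
  I.isoRightDerivedObj G n

/-- the middle iso -/
noncomputable def eM (n : ℕ) :
    (G₂.rightDerived n).obj X ⊞ (G₂'.rightDerived n).obj X ≅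
      (Hn n).obj (GK G₂ I.cocomplex ⊞ GK G₂' I.cocomplex) :=
  biprod.mapIso (eG I G₂ n) (eG I G₂' n) ≪≫
    ((Hn n).mapBiprod (GK G₂ I.cocomplex) (GK G₂' I.cocomplex)).symm

/-- first map -/
noncomputable abbrev m₁ (X : A) (n : ℕ) :
    (G₁.rightDerived n).obj X ⟶ (G₂.rightDerived n).obj X ⊞ (G₂'.rightDerived n).obj X :=
  biprod.lift ((NatTrans.rightDerived α n).app X) ((NatTrans.rightDerived α' n).app X)

/-- second map -/
noncomputable abbrev m₂ (X : A) (n : ℕ) :
    (G₂.rightDerived n).obj X ⊞ (G₂'.rightDerived n).obj X ⟶ (G₃.rightDerived n).obj X :=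
  biprod.desc ((NatTrans.rightDerived β n).app X) (-((NatTrans.rightDerived β' n).app X))

lemma rd_eq {G G' : A ⥤ A'} [G.Additive] [G'.Additive] (γ : G ⟶ G') (n : ℕ) :
    (NatTrans.rightDerived γ n).app X =
      (eG I G n).hom ≫ (Hn n).map (cx γ I.cocomplex) ≫ (eG I G' n).inv :=
  InjectiveResolution.rightDerived_app_eq γ I n

lemma E1 (n : ℕ) : m₁ α α' X n ≫ (eM (G₂ := G₂) (G₂' := G₂') I n).hom =
    (eG I G₁ n).hom ≫ (Hn n).map (biprod.lift (cx α I.cocomplex) (cx α' I.cocomplex)) := by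
  apply (cancel_mono ((Hn n).mapBiprod (GK G₂ I.cocomplex) (GK G₂' I.cocomplex)).hom).1
  dsimp only [eM, Iso.trans_hom, Iso.symm_hom, biprod.mapIso_hom]
  simp only [Category.assoc, Iso.inv_hom_id, Category.comp_id]
  rw [biprod.map_lift_mapBiprod]
  ext
  · simp only [m₁, biprod.mapIso_hom, Category.assoc, biprod.map_fst, biprod.lift_fst_assoc,
      biprod.lift_fst]
    rw [rd_eq I α n]
    simp
  · simp only [m₁, biprod.mapIso_hom, Category.assoc, biprod.map_snd, biprod.lift_snd_assoc,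
      biprod.lift_snd]
    rw [rd_eq I α' n]
    simp

lemma E2 (n : ℕ) : (eM (G₂ := G₂) (G₂' := G₂') I n).hom ≫
      (Hn n).map (biprod.desc (cx β I.cocomplex) (-(cx β' I.cocomplex))) ≫ (eG I G₃ n).inv =
    m₂ β β' X n := by
  dsimp only [eM, Iso.trans_hom, Iso.symm_hom, biprod.mapIso_hom]
  simp only [Category.assoc]
  have h := biprod.mapBiprod_inv_map_desc (Hn n) _ _ (cx β I.cocomplex) (-(cx β' I.cocomplex))
  rw [reassoc_of% h]
  ext
  · simp only [m₂, biprod.mapIso_hom, biprod.inl_map_assoc, biprod.inl_desc_assoc,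
      biprod.inl_desc]
    rw [rd_eq I β n]
  · simp only [m₂, biprod.mapIso_hom, biprod.inr_map_assoc, biprod.inr_desc_assoc,
      biprod.inr_desc]
    rw [rd_eq I β' n, Functor.map_neg]
    simp only [Preadditive.neg_comp, Preadditive.comp_neg]

end LES

lemma mono_H0 {K L : CochainComplex A' ℕ} (φ : K ⟶ L) [Mono (φ.f 0)] :
    Mono ((Hn 0).map φ) := by
  change Mono (HomologicalComplex.homologyMap φ 0)
  have hK : IsIso (K.homologyπ 0) :=
    K.isIso_homologyπ 0 0 (by simp) (K.shape _ _ (by simp))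
  have hL : IsIso (L.homologyπ 0) :=
    L.isIso_homologyπ 0 0 (by simp) (L.shape _ _ (by simp))
  have hc : Mono (HomologicalComplex.cyclesMap φ 0) :=
    mono_of_mono_fac (HomologicalComplex.cyclesMap_i φ 0)
  have e : HomologicalComplex.homologyMap φ 0 = inv (K.homologyπ 0) ≫ HomologicalComplex.cyclesMap φ 0 ≫
      L.homologyπ 0 := by
    rw [IsIso.eq_inv_comp]
    exact HomologicalComplex.homologyπ_naturality φ 0
  rw [e]
  infer_instance

include hS in
theorem main (X : A) :
    ∃ δ : ∀ n : ℕ, (G₃.rightDerived n).obj X ⟶ (G₁.rightDerived (n + 1)).obj X,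
      Mono (m₁ α α' X 0) ∧
      ∀ n : ℕ,
        (ComposableArrows.mk₂ (m₁ α α' X n) (m₂ β β' X n)).Exact ∧
        (ComposableArrows.mk₂ (m₂ β β' X n) (δ n)).Exact ∧
        (ComposableArrows.mk₂ (δ n) (m₁ α α' X (n + 1))).Exact := by
  let I : InjectiveResolution X := injectiveResolution X
  have hSE := SC_shortExact α α' β β' w hS I
  refine ⟨fun n => (eG I G₃ n).hom ≫ hSE.δ n (n + 1) rfl ≫ (eG I G₁ (n + 1)).inv, ?_,
    fun n => ⟨?_, ?_, ?_⟩⟩
  · have h0 : Mono ((SC α α' β β' w I.cocomplex).f.f 0) := by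
      have := hSE.mono_f
      exact inferInstanceAs (Mono ((HomologicalComplex.eval A' (ComplexShape.up ℕ) 0).map
        (SC α α' β β' w I.cocomplex).f))
    have hm := mono_H0 (SC α α' β β' w I.cocomplex).f
    have h1 : Mono (m₁ α α' X 0 ≫ (eM (G₂ := G₂) (G₂' := G₂') I 0).hom) := by
      rw [E1]
      infer_instance
    exact mono_of_mono _ (eM (G₂ := G₂) (G₂' := G₂') I 0).hom
  · refine ComposableArrows.exact_of_iso ?_ (hSE.homology_exact₂ n).exact_toComposableArrows
    refine ComposableArrows.isoMk₂ (eG I G₁ n).symm (eM I n).symm (eG I G₃ n).symm ?_ ?_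
    · change (Hn n).map (SC α α' β β' w I.cocomplex).f ≫ (eM I n).inv =
        (eG I G₁ n).inv ≫ m₁ α α' X n
      rw [Iso.comp_inv_eq, Category.assoc, E1, Iso.inv_hom_id_assoc]
    · change (Hn n).map (SC α α' β β' w I.cocomplex).g ≫ (eG I G₃ n).inv =
        (eM I n).inv ≫ m₂ β β' X n
      rw [← E2, Iso.inv_hom_id_assoc]
  · refine ComposableArrows.exact_of_iso ?_
      (hSE.homology_exact₃ n (n + 1) rfl).exact_toComposableArrows
    refine ComposableArrows.isoMk₂ (eM I n).symm (eG I G₃ n).symm (eG I G₁ (n + 1)).symm ?_ ?_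
    · change (Hn n).map (SC α α' β β' w I.cocomplex).g ≫ (eG I G₃ n).inv =
        (eM I n).inv ≫ m₂ β β' X n
      rw [← E2, Iso.inv_hom_id_assoc]
    · change hSE.δ n (n + 1) rfl ≫ (eG I G₁ (n + 1)).inv =
        (eG I G₃ n).inv ≫ (eG I G₃ n).hom ≫ hSE.δ n (n + 1) rfl ≫ (eG I G₁ (n + 1)).inv
      rw [Iso.inv_hom_id_assoc]
      rfl
  · refine ComposableArrows.exact_of_iso ?_
      (hSE.homology_exact₁ n (n + 1) rfl).exact_toComposableArrows
    refine ComposableArrows.isoMk₂ (eG I G₃ n).symm (eG I G₁ (n + 1)).symm (eM I (n + 1)).symm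
      ?_ ?_
    · change hSE.δ n (n + 1) rfl ≫ (eG I G₁ (n + 1)).inv =
        (eG I G₃ n).inv ≫ (eG I G₃ n).hom ≫ hSE.δ n (n + 1) rfl ≫ (eG I G₁ (n + 1)).inv
      rw [Iso.inv_hom_id_assoc]
      rfl
    · change (Hn (n + 1)).map (SC α α' β β' w I.cocomplex).f ≫ (eM I (n + 1)).inv =
        (eG I G₁ (n + 1)).inv ≫ m₁ α α' X (n + 1)
      rw [Iso.comp_inv_eq, Category.assoc, E1, Iso.inv_hom_id_assoc]

end Groth.Agent.H10.RDLes
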