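import Mathlib

/-!
# Recollement: gluing a category from an "open" and a "closed" part (helper10)

Let `jS ⊣ jP` and `L ⊣ ι` be adjunctions out of a category `E` with pullbacks, with `jP` and `ι`
fully faithful, `jS` and `L` preserving pullbacks, `(jS, L)` jointly conservative, and `jS` inverting
every morphism of the image of `ι`.  Then `E` is equivalent to the glued category
`Comma (𝟭 F) (jP ⋙ L)`.
-/

set_option autoImplicit false
universe v₁ v₂ v₃ u₁ u₂ u₃
open CategoryTheory CategoryTheory.Limits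

namespace Groth.Agent.H10.Recoll

variable {E : Type u₁} [Category.{v₁} E] {A : Type u₂} [Category.{v₂} A]
  {F : Type u₃} [Category.{v₃} F]
  {jS : E ⥤ A} {jP : A ⥤ E} (adjJ : jS ⊣ jP)

/-- the comparison functor to the glued category -/
def Φ (L : E ⥤ F) : E ⥤ Comma (𝟭 F) (jP ⋙ L) where
  obj X := { left := L.obj X, right := jS.obj X, hom := L.map (adjJ.unit.app X) }
  map {X Y} m :=
    { left := L.map m
      right := jS.map m
      w := by
        show L.map m ≫ L.map (adjJ.unit.app Y) =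
          L.map (adjJ.unit.app X) ≫ L.map (jP.map (jS.map m))
        rw [← L.map_comp, ← L.map_comp]
        exact congrArg L.map (adjJ.unit.naturality m) }
  map_id X := by
    ext
    · exact L.map_id X
    · exact jS.map_id X
  map_comp f g := by
    ext
    · exact L.map_comp f g
    · exact jS.map_comp f g

variable {L : E ⥤ F} {ι : F ⥤ E} (adjL : L ⊣ ι)
  [HasPullbacks E] [jP.Full] [jP.Faithful] [ι.Full] [ι.Faithful]
  [PreservesLimitsOfShape WalkingCospan jS] [PreservesLimitsOfShape WalkingCospan L]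

omit [jP.Full] [jP.Faithful] [ι.Full] [ι.Faithful] in
theorem isPullback_of_conservative
    (hcons : ∀ {X Y : E} (m : X ⟶ Y), IsIso (jS.map m) → IsIso (L.map m) → IsIso m)
    {X P₁ P₂ P₀ : E} (a : X ⟶ P₁) (b : X ⟶ P₂) (f : P₁ ⟶ P₀) (g : P₂ ⟶ P₀)
    (w : a ≫ f = b ≫ g) (h1 : IsIso (jS.map f)) (h2 : IsIso (jS.map b))
    (h3 : IsIso (L.map g)) (h4 : IsIso (L.map a)) : IsPullback a b f g := by
  have pb := IsPullback.of_hasPullback f g
  have hc1 : pullback.lift a b w ≫ pullback.fst f g = a := pullback.lift_fst _ _ _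
  have hc2 : pullback.lift a b w ≫ pullback.snd f g = b := pullback.lift_snd _ _ _
  have hiso : IsIso (pullback.lift a b w) := by
    apply hcons
    · have i1 : IsIso (jS.map (pullback.snd f g)) := (pb.map jS).isIso_snd_of_isIso
      have i2 : IsIso (jS.map (pullback.lift a b w) ≫ jS.map (pullback.snd f g)) := by
        rw [← jS.map_comp, hc2]; exact h2
      exact IsIso.of_isIso_comp_right _ (jS.map (pullback.snd f g))
    · have i1 : IsIso (L.map (pullback.fst f g)) := (pb.map L).isIso_fst_of_isIso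
      have i2 : IsIso (L.map (pullback.lift a b w) ≫ L.map (pullback.fst f g)) := by
        rw [← L.map_comp, hc1]; exact h4
      exact IsIso.of_isIso_comp_right _ (L.map (pullback.fst f g))
  exact IsPullback.of_iso_pullback ⟨w⟩ (asIso (pullback.lift a b w)) hc1 hc2

theorem fracture
    (hcons : ∀ {X Y : E} (m : X ⟶ Y), IsIso (jS.map m) → IsIso (L.map m) → IsIso m)
    (hterm : ∀ {Y Y' : F} (g : Y ⟶ Y'), IsIso (jS.map (ι.map g))) (X : E) :
    IsPullback (adjL.unit.app X) (adjJ.unit.app X) (ι.map (L.map (adjJ.unit.app X)))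
      (adjL.unit.app (jP.obj (jS.obj X))) :=
  isPullback_of_conservative hcons _ _ _ _
    (adjL.unit.naturality (adjJ.unit.app X)).symm (hterm _) inferInstance inferInstance
    inferInstance

include adjL in
theorem faithful
    (hcons : ∀ {X Y : E} (m : X ⟶ Y), IsIso (jS.map m) → IsIso (L.map m) → IsIso m)
    (hterm : ∀ {Y Y' : F} (g : Y ⟶ Y'), IsIso (jS.map (ι.map g))) :
    (Φ adjJ L).Faithful where
  map_injective {X X₂} m₁ m₂ h := by
    have hl : L.map m₁ = L.map m₂ := congrArg CommaMorphism.left h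
    have hr : jS.map m₁ = jS.map m₂ := congrArg CommaMorphism.right h
    apply (fracture adjJ adjL hcons hterm X₂).hom_ext
    · have n1 : m₁ ≫ adjL.unit.app X₂ = adjL.unit.app X ≫ ι.map (L.map m₁) :=
        adjL.unit.naturality m₁
      have n2 : m₂ ≫ adjL.unit.app X₂ = adjL.unit.app X ≫ ι.map (L.map m₂) :=
        adjL.unit.naturality m₂
      rw [n1, n2, hl]
    · have n1 : m₁ ≫ adjJ.unit.app X₂ = adjJ.unit.app X ≫ jP.map (jS.map m₁) :=
        adjJ.unit.naturality m₁
      have n2 : m₂ ≫ adjJ.unit.app X₂ = adjJ.unit.app X ≫ jP.map (jS.map m₂) :=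
        adjJ.unit.naturality m₂
      rw [n1, n2, hr]

include adjL in
theorem full
    (hcons : ∀ {X Y : E} (m : X ⟶ Y), IsIso (jS.map m) → IsIso (L.map m) → IsIso m)
    (hterm : ∀ {Y Y' : F} (g : Y ⟶ Y'), IsIso (jS.map (ι.map g))) :
    (Φ adjJ L).Full where
  map_surjective {X X₂} φ := by
    obtain ⟨a, ha⟩ : ∃ a : L.obj X ⟶ L.obj X₂, a = φ.left := ⟨_, rfl⟩
    obtain ⟨b, hb⟩ : ∃ b : jS.obj X ⟶ jS.obj X₂, b = φ.right := ⟨_, rfl⟩
    have hw : a ≫ L.map (adjJ.unit.app X₂) =
        L.map (adjJ.unit.app X) ≫ L.map (jP.map b) := by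
      subst ha
      subst hb
      exact φ.w
    have fr := fracture adjJ adjL hcons hterm X₂
    have compat : (adjL.unit.app X ≫ ι.map a) ≫ ι.map (L.map (adjJ.unit.app X₂)) =
        (adjJ.unit.app X ≫ jP.map b) ≫ adjL.unit.app (jP.obj (jS.obj X₂)) := by
      have n : (adjJ.unit.app X ≫ jP.map b) ≫ adjL.unit.app (jP.obj (jS.obj X₂)) =
          adjL.unit.app X ≫ ι.map (L.map (adjJ.unit.app X ≫ jP.map b)) :=
        adjL.unit.naturality (adjJ.unit.app X ≫ jP.map b)
      rw [Category.assoc, ← ι.map_comp, hw, ← L.map_comp]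
      exact n.symm
    have hm1 : fr.lift _ _ compat ≫ adjL.unit.app X₂ = adjL.unit.app X ≫ ι.map a :=
      fr.lift_fst _ _ _
    have hm2 : fr.lift _ _ compat ≫ adjJ.unit.app X₂ = adjJ.unit.app X ≫ jP.map b :=
      fr.lift_snd _ _ _
    refine ⟨fr.lift _ _ compat, ?_⟩
    ext
    · show L.map (fr.lift _ _ compat) = φ.left
      refine Eq.trans ?_ ha
      apply (adjL.homEquiv X (L.obj X₂)).injective
      rw [adjL.homEquiv_unit, adjL.homEquiv_unit]
      have n : fr.lift _ _ compat ≫ adjL.unit.app X₂ =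
          adjL.unit.app X ≫ ι.map (L.map (fr.lift _ _ compat)) :=
        adjL.unit.naturality _
      exact n.symm.trans hm1
    · show jS.map (fr.lift _ _ compat) = φ.right
      refine Eq.trans ?_ hb
      apply (adjJ.homEquiv X (jS.obj X₂)).injective
      rw [adjJ.homEquiv_unit, adjJ.homEquiv_unit]
      have n : fr.lift _ _ compat ≫ adjJ.unit.app X₂ =
          adjJ.unit.app X ≫ jP.map (jS.map (fr.lift _ _ compat)) :=
        adjJ.unit.naturality _
      exact n.symm.trans hm2

omit [jP.Full] [jP.Faithful] in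
include adjL in
theorem ess_core (hterm : ∀ {Y Y' : F} (g : Y ⟶ Y'), IsIso (jS.map (ι.map g)))
    {Y : F} {X' : A} (h : Y ⟶ L.obj (jP.obj X')) [IsIso (adjJ.counit.app X')] :
    ∃ (P : E) (a : L.obj P ≅ Y) (b : jS.obj P ≅ X'),
      a.hom ≫ h = L.map (adjJ.unit.app P) ≫ L.map (jP.map b.hom) := by
  have pb := IsPullback.of_hasPullback (ι.map h) (adjL.unit.app (jP.obj X'))
  have hLfst : IsIso (L.map (pullback.fst (ι.map h) (adjL.unit.app (jP.obj X')))) :=
    (pb.map L).isIso_fst_of_isIso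
  have hJf : IsIso (jS.map (ι.map h)) := hterm h
  have hJsnd : IsIso (jS.map (pullback.snd (ι.map h) (adjL.unit.app (jP.obj X')))) :=
    (pb.map jS).isIso_snd_of_isIso
  obtain ⟨a, ha⟩ : ∃ a : L.obj (pullback (ι.map h) (adjL.unit.app (jP.obj X'))) ⟶ Y,
      a = L.map (pullback.fst (ι.map h) (adjL.unit.app (jP.obj X'))) ≫ adjL.counit.app Y :=
    ⟨_, rfl⟩
  obtain ⟨b, hb⟩ : ∃ b : jS.obj (pullback (ι.map h) (adjL.unit.app (jP.obj X'))) ⟶ X',
      b = jS.map (pullback.snd (ι.map h) (adjL.unit.app (jP.obj X'))) ≫ adjJ.counit.app X' :=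
    ⟨_, rfl⟩
  have ia : IsIso a := by rw [ha]; infer_instance
  have ib : IsIso b := by rw [hb]; infer_instance
  have e1 : adjJ.unit.app (pullback (ι.map h) (adjL.unit.app (jP.obj X'))) ≫ jP.map b =
      pullback.snd (ι.map h) (adjL.unit.app (jP.obj X')) := by
    have n : pullback.snd (ι.map h) (adjL.unit.app (jP.obj X')) ≫ adjJ.unit.app (jP.obj X') =
        adjJ.unit.app (pullback (ι.map h) (adjL.unit.app (jP.obj X'))) ≫
          jP.map (jS.map (pullback.snd (ι.map h) (adjL.unit.app (jP.obj X')))) :=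
      adjJ.unit.naturality _
    have t : adjJ.unit.app (jP.obj X') ≫ jP.map (adjJ.counit.app X') = 𝟙 _ :=
      adjJ.right_triangle_components X'
    rw [hb, jP.map_comp, ← Category.assoc, ← n, Category.assoc, t, Category.comp_id]
  have e2 : a ≫ h = L.map (pullback.snd (ι.map h) (adjL.unit.app (jP.obj X'))) := by
    have n : L.map (ι.map h) ≫ adjL.counit.app (L.obj (jP.obj X')) = adjL.counit.app Y ≫ h :=
      adjL.counit.naturality h
    have t : L.map (adjL.unit.app (jP.obj X')) ≫ adjL.counit.app (L.obj (jP.obj X')) = 𝟙 _ :=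
      adjL.left_triangle_components _
    have c : pullback.fst (ι.map h) (adjL.unit.app (jP.obj X')) ≫ ι.map h =
        pullback.snd (ι.map h) (adjL.unit.app (jP.obj X')) ≫ adjL.unit.app (jP.obj X') :=
      pullback.condition
    rw [ha, Category.assoc, ← n, ← Category.assoc, ← L.map_comp, c, L.map_comp, Category.assoc,
      t, Category.comp_id]
  refine ⟨_, asIso a, asIso b, ?_⟩
  show a ≫ h = L.map (adjJ.unit.app _) ≫ L.map (jP.map b)
  rw [← L.map_comp, e1, e2]

include adjL in
theorem essSurj (hterm : ∀ {Y Y' : F} (g : Y ⟶ Y'), IsIso (jS.map (ι.map g))) :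
    (Φ adjJ L).EssSurj where
  mem_essImage T := by
    obtain ⟨P, a, b, w⟩ := ess_core adjJ adjL hterm T.hom
    exact ⟨P, ⟨Comma.isoMk a b w⟩⟩

include adjL in
theorem isEquivalence
    (hcons : ∀ {X Y : E} (m : X ⟶ Y), IsIso (jS.map m) → IsIso (L.map m) → IsIso m)
    (hterm : ∀ {Y Y' : F} (g : Y ⟶ Y'), IsIso (jS.map (ι.map g))) :
    (Φ adjJ L).IsEquivalence :=
  { faithful := faithful adjJ adjL hcons hterm
    full := full adjJ adjL hcons hterm
    essSurj := essSurj adjJ adjL hterm }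

end Groth.Agent.H10.Recoll
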