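import Mathlib
import Groth.Prelude.Def_CohCx

set_option autoImplicit false
universe u
open CategoryTheory CategoryTheory.Limits TopologicalSpace Opposite

namespace Groth.Agent.H10.ShEx

variable {C : Type u} [SmallCategory C] (J : GrothendieckTopology C)

lemma exact_of_eval (S : ShortComplex (Cᵒᵖ ⥤ AddCommGrpCat.{u}))
    (h : ∀ c, (S.map ((evaluation Cᵒᵖ AddCommGrpCat.{u}).obj c)).Exact) : S.Exact := by
  rw [ShortComplex.exact_iff_isZero_homology]
  apply Functor.isZero
  intro c
  exact IsZero.of_iso ((ShortComplex.exact_iff_isZero_homology _).1 (h c))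
    (S.mapHomologyIso ((evaluation Cᵒᵖ AddCommGrpCat.{u}).obj c)).symm

lemma exact_of_presheaf (S : ShortComplex (Sheaf J AddCommGrpCat.{u}))
    (h : (S.map (sheafToPresheaf J AddCommGrpCat.{u})).Exact) : S.Exact := by
  have h1 : ((S.map (sheafToPresheaf J AddCommGrpCat.{u})).map
      (presheafToSheaf J AddCommGrpCat.{u})).Exact := h.map _
  have hi : ∀ P : Sheaf J AddCommGrpCat.{u},
      IsIso ((sheafificationAdjunction J AddCommGrpCat.{u}).counit.app P) := fun P =>
    isIso_sheafificationAdjunction_counit P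
  have e : (S.map (sheafToPresheaf J AddCommGrpCat.{u})).map
      (presheafToSheaf J AddCommGrpCat.{u}) ≅ S :=
    ShortComplex.isoMk (@asIso _ _ _ _ _ (hi S.X₁))
      (@asIso _ _ _ _ _ (hi S.X₂))
      (@asIso _ _ _ _ _ (hi S.X₃))
      ((sheafificationAdjunction J AddCommGrpCat.{u}).counit.naturality S.f).symm
      ((sheafificationAdjunction J AddCommGrpCat.{u}).counit.naturality S.g).symm
  exact ShortComplex.exact_of_iso e h1

end Groth.Agent.H10.ShEx
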