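import Mathlib
import Groth.Prelude.Def_CohCx
import Groth.Prelude.Def_CohTop
import Groth.Agent.H10.RDLes
import Groth.Agent.H10.ShEx
import Groth.Agent.H10.KerFlasque
import Groth.Agent.H10.CohTopB

set_option autoImplicit false
universe u
open CategoryTheory CategoryTheory.Limits TopologicalSpace Opposite

namespace Groth.Agent.H10.RelMV

variable {X Y : TopCat.{u}} (f : X ⟶ Y)

/-- the functor `F ↦ (f|_U)_* (F|_U)` -/
noncomputable abbrev GU (U : Opens X) : CohTop.Ab X ⥤ CohTop.Ab Y :=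
  CohTop.restrFunctor U ⋙ CohTop.push (CohCx.incl U ≫ f)

/-- the open `U ∩ f⁻¹ W` -/
noncomputable abbrev PU (U : Opens X) (W : Opens Y) : Opens X :=
  (U.isOpenEmbedding.isOpenMap.functor).obj ((Opens.map (CohCx.incl U ≫ f)).obj W)

lemma mem_PU (U : Opens X) (W : Opens Y) (x : X) : x ∈ PU f U W ↔ x ∈ U ∧ f x ∈ W := by
  constructor
  · rintro ⟨y, hy, rfl⟩
    exact ⟨y.2, hy⟩
  · rintro ⟨hx, hfx⟩
    exact ⟨⟨x, hx⟩, hfx, rfl⟩

lemma PU_le (U : Opens X) (W : Opens Y) : PU f U W ≤ (Opens.map f).obj W := by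
  intro x hx
  exact ((mem_PU f U W x).1 hx).2

lemma PU_mono {U V : Opens X} (h : V ≤ U) (W : Opens Y) : PU f V W ≤ PU f U W := by
  intro x hx
  rw [mem_PU] at hx ⊢
  exact ⟨h hx.1, hx.2⟩

lemma cover {U V : Opens X} (hUV : U ⊔ V = ⊤) (W : Opens Y) :
    (Opens.map f).obj W ≤ PU f U W ⊔ PU f V W := by
  intro x hx
  have hx' : x ∈ U ⊔ V := by rw [hUV]; trivial
  rcases hx' with h | h
  · exact Or.inl ((mem_PU f U W x).2 ⟨h, hx⟩)
  · exact Or.inr ((mem_PU f V W x).2 ⟨h, hx⟩)

lemma inf_PU_le (U V : Opens X) (W : Opens Y) : PU f U W ⊓ PU f V W ≤ PU f (U ⊓ V) W := by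
  rintro x ⟨h1, h2⟩
  have h1' := (mem_PU f U W x).1 h1
  have h2' := (mem_PU f V W x).1 h2
  exact (mem_PU f (U ⊓ V) W x).2 ⟨⟨h1'.1, h2'.1⟩, h1'.2⟩

lemma a_app (U : Opens X) (F : CohTop.Ab X) (W : Opens Y)
    (s : F.obj.obj (op ((Opens.map f).obj W))) :
    ((CohCx.pushToRestrPush f U).app F).hom.app (op W) s =
      F.obj.map (homOfLE (PU_le f U W)).op s := rfl

lemma b_app {U V : Opens X} (h : V ≤ U) (F : CohTop.Ab X) (W : Opens Y)
    (s : F.obj.obj (op (PU f U W))) :
    ((CohCx.restrPushToRestrPush f h).app F).hom.app (op W) s =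
      F.obj.map (homOfLE (PU_mono f h W)).op s := rfl

variable (U V : Opens X)

/-- restriction to `U` -/
noncomputable abbrev α : CohTop.push f ⟶ GU f U := CohCx.pushToRestrPush f U
/-- restriction from `U` to `U ⊓ V` -/
noncomputable abbrev β : GU f U ⟶ GU f (U ⊓ V) :=
  CohCx.restrPushToRestrPush f (inf_le_left : U ⊓ V ≤ U)
/-- restriction from `V` to `U ⊓ V` -/
noncomputable abbrev β' : GU f V ⟶ GU f (U ⊓ V) :=
  CohCx.restrPushToRestrPush f (inf_le_right : U ⊓ V ≤ V)

lemma comm (F : CohTop.Ab X) :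
    (α f U).app F ≫ (β f U V).app F = (α f V).app F ≫ (β' f U V).app F := by
  apply Sheaf.hom_ext
  refine NatTrans.ext (funext fun W => ?_)
  induction W using Opposite.rec with | _ W => ?_
  refine ConcreteCategory.hom_ext _ _ (fun s => ?_)
  change F.obj.map _ (F.obj.map _ s) = F.obj.map _ (F.obj.map _ s)
  rw [← ConcreteCategory.comp_apply, ← ConcreteCategory.comp_apply, ← F.obj.map_comp,
    ← F.obj.map_comp]
  rfl

lemma w (F : CohTop.Ab X) :
    biprod.lift ((α f U).app F) ((α f V).app F) ≫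
      biprod.desc ((β f U V).app F) (-(β' f U V).app F) = 0 := by
  rw [biprod.lift_desc, Preadditive.comp_neg, ← sub_eq_add_neg, sub_eq_zero]
  exact comm f U V F

lemma mono_lift (hUV : U ⊔ V = ⊤) (F : CohTop.Ab X) :
    Mono (biprod.lift ((α f U).app F) ((α f V).app F)) := by
  refine Preadditive.mono_of_cancel_zero _ (fun {T} g hg => ?_)
  have h1 : g ≫ (α f U).app F = 0 := by
    have := congrArg (· ≫ biprod.fst) hg
    simpa using this
  have h2 : g ≫ (α f V).app F = 0 := by
    have := congrArg (· ≫ biprod.snd) hg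
    simpa using this
  apply Sheaf.hom_ext
  refine NatTrans.ext (funext fun W => ?_)
  induction W using Opposite.rec with | _ W => ?_
  refine ConcreteCategory.hom_ext _ _ (fun t => ?_)
  change g.hom.app (op W) t = 0
  refine TopCat.Sheaf.eq_of_locally_eq₂ F (homOfLE (PU_le f U W)) (homOfLE (PU_le f V W))
    (cover f hUV W) _ _ ?_ ?_
  · have := congrArg (fun φ => φ.hom.app (op W) t) h1
    refine Eq.trans ?_ (map_zero _).symm
    exact this
  · have := congrArg (fun φ => φ.hom.app (op W) t) h2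
    refine Eq.trans ?_ (map_zero _).symm
    exact this

lemma epi_desc (I : CohTop.Ab X) [TopCat.Sheaf.IsFlasque I] :
    Epi (biprod.desc ((β f U V).app I) (-(β' f U V).app I)) := by
  have hβ : Epi ((β f U V).app I) := by
    refine (TopCat.Sheaf.isLocallySurjective_iff_epi _).mp ?_
    refine (TopCat.Presheaf.isLocallySurjective_iff _).mpr ?_
    intro W t y hy
    have hepi : Epi (I.obj.map (homOfLE (PU_mono f (inf_le_left : U ⊓ V ≤ U) W)).op) :=
      TopCat.Presheaf.IsFlasque.epi _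
    have hsurj := (AddCommGrpCat.epi_iff_surjective _).mp hepi
    obtain ⟨s, hs⟩ := hsurj t
    refine ⟨W, le_rfl, ⟨s, ?_⟩, hy⟩
    refine hs.trans ?_
    change t = ((GU f (U ⊓ V)).obj I).obj.map (homOfLE (le_refl W)).op t
    rw [show (homOfLE (le_refl W)).op = 𝟙 (op W) from rfl, CategoryTheory.Functor.map_id]
    rfl
  exact epi_of_epi_fac (biprod.inl_desc _ _)

lemma biprod_key {A B : CohTop.Ab Y} (W : Opens Y) (z : (A ⊞ B).obj.obj (op W)) :
    z = (biprod.inl : A ⟶ A ⊞ B).hom.app (op W)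
          ((biprod.fst : A ⊞ B ⟶ A).hom.app (op W) z) +
        (biprod.inr : B ⟶ A ⊞ B).hom.app (op W)
          ((biprod.snd : A ⊞ B ⟶ B).hom.app (op W) z) := by
  have := congrArg (fun φ : A ⊞ B ⟶ A ⊞ B => φ.hom.app (op W) z)
    (biprod.total (X := A) (Y := B))
  exact this.symm

lemma biprod_ext {A B : CohTop.Ab Y} (W : Opens Y) (y y' : (A ⊞ B).obj.obj (op W))
    (h1 : (biprod.fst : A ⊞ B ⟶ A).hom.app (op W) y =
      (biprod.fst : A ⊞ B ⟶ A).hom.app (op W) y')
    (h2 : (biprod.snd : A ⊞ B ⟶ B).hom.app (op W) y =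
      (biprod.snd : A ⊞ B ⟶ B).hom.app (op W) y') : y = y' := by
  rw [biprod_key W y, biprod_key W y', h1, h2]

lemma exact_mid (hUV : U ⊔ V = ⊤) (F : CohTop.Ab X) :
    (ShortComplex.mk _ _ (w f U V F)).Exact := by
  apply ShEx.exact_of_presheaf
  apply ShEx.exact_of_eval
  intro W
  induction W using Opposite.rec with | _ W => ?_
  rw [ShortComplex.ab_exact_iff]
  intro x₂ hx₂
  let p₁ : F.obj.obj (op (PU f U W)) :=
    (biprod.fst : (GU f U).obj F ⊞ (GU f V).obj F ⟶ _).hom.app (op W) x₂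
  let p₂ : F.obj.obj (op (PU f V W)) :=
    (biprod.snd : (GU f U).obj F ⊞ (GU f V).obj F ⟶ _).hom.app (op W) x₂
  have hx₂' : (biprod.desc ((β f U V).app F) (-(β' f U V).app F)).hom.app (op W) x₂ = 0 := hx₂
  rw [biprod.desc_eq] at hx₂'
  have h3 : ((β f U V).app F).hom.app (op W) p₁ + (-((β' f U V).app F).hom.app (op W) p₂) = 0 :=
    hx₂'
  have hcompat : F.obj.map (homOfLE (PU_mono f (inf_le_left : U ⊓ V ≤ U) W)).op p₁ =
      F.obj.map (homOfLE (PU_mono f (inf_le_right : U ⊓ V ≤ V) W)).op p₂ :=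
    add_neg_eq_zero.mp h3
  have hcompat' : F.obj.map (homOfLE (inf_le_left : PU f U W ⊓ PU f V W ≤ PU f U W)).op p₁ =
      F.obj.map (homOfLE (inf_le_right : PU f U W ⊓ PU f V W ≤ PU f V W)).op p₂ := by
    have := congrArg (F.obj.map (homOfLE (inf_PU_le f U V W)).op) hcompat
    rw [KerFlasque.map_map_apply F _ _ (homOfLE inf_le_left),
      KerFlasque.map_map_apply F _ _ (homOfLE inf_le_right)] at this
    exact this
  obtain ⟨s, hs₁, hs₂⟩ := KerFlasque.glue₂ F (PU f U W) (PU f V W) ((Opens.map f).obj W)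
    (homOfLE (PU_le f U W)) (homOfLE (PU_le f V W)) (cover f hUV W) p₁ p₂ hcompat'
  refine ⟨s, ?_⟩
  refine biprod_ext W _ _ ?_ ?_
  · have := congrArg (fun φ => φ.hom.app (op W) s)
      (biprod.lift_fst ((α f U).app F) ((α f V).app F))
    exact this.trans hs₁
  · have := congrArg (fun φ => φ.hom.app (op W) s)
      (biprod.lift_snd ((α f U).app F) ((α f V).app F))
    exact this.trans hs₂

lemma shortExact (hUV : U ⊔ V = ⊤) (I : CohTop.Ab X) (hI : Injective I) :
    (ShortComplex.mk _ _ (w f U V I)).ShortExact := by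
  haveI := hI
  haveI : TopCat.Sheaf.IsFlasque I := CohTopB.isFlasque_of_injective I
  exact
    { exact := exact_mid f U V hUV I
      mono_f := mono_lift f U V hUV I
      epi_g := epi_desc f U V I }

theorem main (hUV : U ⊔ V = ⊤) (F : CohTop.Ab X) :
    ∃ δ : ∀ n : ℕ, (CohCx.RpushOn f (U ⊓ V) n).obj F ⟶ (CohTop.Rpush f (n + 1)).obj F,
      Mono (biprod.lift ((NatTrans.rightDerived (CohCx.pushToRestrPush f U) 0).app F)
        ((NatTrans.rightDerived (CohCx.pushToRestrPush f V) 0).app F)) ∧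
      ∀ n : ℕ,
        (ComposableArrows.mk₂
          (biprod.lift ((NatTrans.rightDerived (CohCx.pushToRestrPush f U) n).app F)
            ((NatTrans.rightDerived (CohCx.pushToRestrPush f V) n).app F))
          (biprod.desc
            ((NatTrans.rightDerived (CohCx.restrPushToRestrPush f (inf_le_left : U ⊓ V ≤ U)) n).app F)
            (-((NatTrans.rightDerived (CohCx.restrPushToRestrPush f (inf_le_right : U ⊓ V ≤ V)) n).app F)))).Exact ∧
        (ComposableArrows.mk₂
          (biprod.desc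
            ((NatTrans.rightDerived (CohCx.restrPushToRestrPush f (inf_le_left : U ⊓ V ≤ U)) n).app F)
            (-((NatTrans.rightDerived (CohCx.restrPushToRestrPush f (inf_le_right : U ⊓ V ≤ V)) n).app F)))
          (δ n)).Exact ∧
        (ComposableArrows.mk₂ (δ n)
          (biprod.lift ((NatTrans.rightDerived (CohCx.pushToRestrPush f U) (n + 1)).app F)
            ((NatTrans.rightDerived (CohCx.pushToRestrPush f V) (n + 1)).app F))).Exact :=
  RDLes.main (α f U) (α f V) (β f U V) (β' f U V) (w f U V) (shortExact f U V hUV) F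

end Groth.Agent.H10.RelMV
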