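import Mathlib
import Groth.Prelude.Def_LocCohZ
import Groth.Agent.H10.ClosedSet

set_option autoImplicit false
universe u
open CategoryTheory CategoryTheory.Limits TopologicalSpace Opposite

namespace Groth.Agent.H10.ShriekSet

variable {X : TopCat.{u}} (U : Opens X)

/-- the inclusion of the open subspace -/
abbrev j : TopCat.of U ⟶ X := TopCat.ofHom ⟨_, continuous_subtype_val⟩

/-- the open-image functor -/
abbrev jF : Opens (TopCat.of U) ⥤ Opens X := U.isOpenEmbedding.isOpenMap.functor

lemma jF_le (W : Opens (TopCat.of U)) : (jF U).obj W ≤ U := by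
  rintro x ⟨y, -, rfl⟩
  exact y.2

lemma exists_of_le (V : Opens X) (hV : V ≤ U) : ∃ W : Opens (TopCat.of U), V = (jF U).obj W := by
  refine ⟨(Opens.map (j U)).obj V, ?_⟩
  ext x
  constructor
  · intro hx
    exact ⟨⟨x, hV hx⟩, hx, rfl⟩
  · rintro ⟨y, hy, rfl⟩
    exact hy

/-- restriction is left adjoint to direct image, general open embedding -/
noncomputable def adjR' {Y : TopCat.{u}} (f : Y ⟶ X) (H : Topology.IsOpenEmbedding f)
    [H.isOpenMap.functor.IsContinuous (Opens.grothendieckTopology Y)
      (Opens.grothendieckTopology X)] :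
    H.isOpenMap.functor.sheafPushforwardContinuous (Type u) (Opens.grothendieckTopology Y)
      (Opens.grothendieckTopology X) ⊣ TopCat.Sheaf.pushforward (Type u) f :=
  (H.isOpenMap.adjunction).sheafPushforwardContinuous (E := Type u)
    (Opens.grothendieckTopology Y) (Opens.grothendieckTopology X)

/-- restriction is left adjoint to direct image -/
noncomputable def adjR : U.sheafRestrict (C := Type u) ⊣ TopCat.Sheaf.pushforward (Type u) (j U) :=
  haveI H : Topology.IsOpenEmbedding (TopCat.Hom.hom (j U)) := U.isOpenEmbedding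
  haveI := H.functor_isContinuous
  adjR' (j U) H

variable (L : (TopCat.of U).Sheaf (Type u) ⥤ X.Sheaf (Type u)) (adj : L ⊣ U.sheafRestrict (C := Type u))

/-- `j_!` is fully faithful -/
noncomputable def ffL : L.FullyFaithful :=
  let t : Adjunction.Triple L (U.sheafRestrict (C := Type u))
    (TopCat.Sheaf.pushforward (Type u) (j U)) := ⟨adj, adjR U⟩
  t.fullyFaithfulEquiv.symm (ClosedSet.ffPush (j U) U.isOpenEmbedding.isInducing)

/-- the canonical map from a sheaf on `U` to the restriction of `h_U` -/
def toRestr (F : (TopCat.of U).Sheaf (Type u)) :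
    F ⟶ (U.sheafRestrict (C := Type u)).obj (LocCohZ.openSh U) :=
  ⟨{ app := fun W => TypeCat.ofHom fun _ => homOfLE (jF_le U W.unop)
     naturality := fun W W' f => by
       apply TypeCat.homEquiv.injective
       funext x
       exact Subsingleton.elim (α := (jF U).obj W'.unop ⟶ U) _ _ }⟩

include adj in
/-- sections of `j_! F` over opens not contained in `U` are empty -/
lemma isEmpty_sections (F : (TopCat.of U).Sheaf (Type u)) (V : Opens X) (hV : ¬ V ≤ U) :
    IsEmpty ((L.obj F).obj.obj (op V)) := by
  refine ⟨fun s => hV ?_⟩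
  let φ : L.obj F ⟶ LocCohZ.openSh U := (adj.homEquiv F (LocCohZ.openSh U)).symm (toRestr U F)
  exact leOfHom (φ.hom.app (op V) s : V ⟶ U)

/-- if the sections over opens not contained in `U` are empty, so are the stalks outside `U` -/
lemma isEmpty_stalk (G : X.Sheaf (Type u))
    (h : ∀ V : Opens X, ¬ V ≤ U → IsEmpty (G.obj.obj (op V))) (x : X) (hx : x ∉ U) :
    IsEmpty (G.presheaf.stalk x) := by
  refine ⟨fun t => ?_⟩
  obtain ⟨V, m, s, -⟩ := TopCat.Presheaf.exists_germ_eq G.obj t
  exact (h V (fun hV => hx (hV m))).false s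

/-- conversely -/
lemma isEmpty_sections_of_stalk (G : X.Sheaf (Type u))
    (h : ∀ x : X, x ∉ U → IsEmpty (G.presheaf.stalk x)) (V : Opens X) (hV : ¬ V ≤ U) :
    IsEmpty (G.obj.obj (op V)) := by
  refine ⟨fun s => ?_⟩
  obtain ⟨x, hxV, hxU⟩ := Set.not_subset.mp hV
  exact (h x hxU).false (G.presheaf.germ V x hxV s)

include adj in
theorem essImage_iff (G : X.Sheaf (Type u)) :
    L.essImage G ↔ ∀ x : X, x ∉ U → IsEmpty (G.presheaf.stalk x) := by
  constructor
  · rintro ⟨F, ⟨e⟩⟩ x hx
    apply isEmpty_stalk U G _ x hx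
    intro V hV
    have := isEmpty_sections U L adj F V hV
    let ε : (L.obj F).obj.obj (op V) ≅ G.obj.obj (op V) :=
      ((sheafToPresheaf _ _).mapIso e).app (op V)
    exact ⟨fun s => this.false (ε.inv s)⟩
  · intro h
    let ff := ffL U L adj
    have hfull : L.Full := ff.full
    have hfaith : L.Faithful := ff.faithful
    let ε := adj.counit.app G
    have hu : IsIso adj.unit := inferInstance
    have hη : IsIso (adj.unit.app ((U.sheafRestrict (C := Type u)).obj G)) :=
      NatIso.isIso_app_of_isIso adj.unit _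
    have hRε : IsIso ((U.sheafRestrict (C := Type u)).map ε) := by
      have h1 := adj.right_triangle_components G
      have h4 : IsIso (adj.unit.app ((U.sheafRestrict (C := Type u)).obj G) ≫
          (U.sheafRestrict (C := Type u)).map (adj.counit.app G)) := by
        rw [h1]
        exact IsIso.id _
      exact @IsIso.of_isIso_comp_left _ _ _ _ _ _ _ hη h4
    have hG : ∀ V : Opens X, ¬ V ≤ U → IsEmpty (G.obj.obj (op V)) :=
      isEmpty_sections_of_stalk U G h
    have hA : ∀ V : Opens X, ¬ V ≤ U →
        IsEmpty ((L.obj ((U.sheafRestrict (C := Type u)).obj G)).obj.obj (op V)) :=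
      isEmpty_sections U L adj _
    have hW : ∀ W : Opens (TopCat.of U), IsIso (ε.hom.app (op ((jF U).obj W))) := by
      intro W
      have h2 : IsIso (((U.sheafRestrict (C := Type u)).map ε).hom) :=
        inferInstanceAs (IsIso ((sheafToPresheaf _ _).map ((U.sheafRestrict (C := Type u)).map ε)))
      have h3 : IsIso ((((U.sheafRestrict (C := Type u)).map ε).hom).app (op W)) := inferInstance
      exact h3
    have h1 : ∀ V : (Opens X)ᵒᵖ, IsIso (ε.hom.app V) := by
      intro V
      by_cases hV : V.unop ≤ U
      · obtain ⟨W, hW'⟩ := exists_of_le U V.unop hV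
        have : V = op ((jF U).obj W) := by
          rw [← hW']
        rw [this]
        exact hW W
      · rw [ConcreteCategory.isIso_iff_bijective]
        have hA' := hA V.unop hV
        have hG' := hG V.unop hV
        constructor
        · intro a
          exact (hA'.false a).elim
        · intro b
          exact (hG'.false b).elim
    have h2 : IsIso ε.hom := NatIso.isIso_of_isIso_app _
    have h3 : IsIso ε := ⟨⟨⟨inv ε.hom⟩, Sheaf.hom_ext (IsIso.hom_inv_id ε.hom),
      Sheaf.hom_ext (IsIso.inv_hom_id ε.hom)⟩⟩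
    exact ⟨_, ⟨asIso ε⟩⟩

end Groth.Agent.H10.ShriekSet
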