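import Mathlib
import Groth.Prelude.Def_ModSite2

/-!
# Units in stalks of a sheaf of rings at a point of a site (helper10)
-/

set_option autoImplicit false
universe u
open CategoryTheory CategoryTheory.Limits Opposite

namespace Groth.Agent.H10.StalkUnit

variable {C : Type u} [SmallCategory C] {J : GrothendieckTopology C}

theorem exists_isUnit_of_isUnit_germ (p : GrothendieckTopology.Point.{u} J)
    (O : Sheaf J CommRingCat.{u}) (X : C) (x : p.fiber.obj X) (r : O.obj.obj (op X))
    (h : IsUnit ((p.toPresheafFiber X x O.obj).hom r)) :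
    ∃ (Y : C) (g : Y ⟶ X) (y : p.fiber.obj Y), p.fiber.map g y = x ∧
      IsUnit ((O.obj.map g.op).hom r) := by
  obtain ⟨b, hb⟩ := h.exists_right_inv
  obtain ⟨W, w, b0, rfl⟩ := p.toPresheafFiber_jointly_surjective (P := O.obj) b
  let V := IsCofiltered.min (Functor.elementsMk p.fiber X x) (Functor.elementsMk p.fiber W w)
  let gX := IsCofiltered.minToLeft (Functor.elementsMk p.fiber X x) (Functor.elementsMk p.fiber W w)
  let gW := IsCofiltered.minToRight (Functor.elementsMk p.fiber X x) (Functor.elementsMk p.fiber W w)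
  have hX : ∀ t : O.obj.obj (op X), (p.toPresheafFiber X x O.obj).hom t =
      (p.toPresheafFiber V.1 V.2 O.obj).hom ((O.obj.map gX.1.op).hom t) := fun t =>
    ((congrArg (fun s => (p.toPresheafFiber X s O.obj).hom t) gX.2).symm).trans
      (p.toPresheafFiber_w_apply gX.1 V.2 O.obj t).symm
  have hW : ∀ t : O.obj.obj (op W), (p.toPresheafFiber W w O.obj).hom t =
      (p.toPresheafFiber V.1 V.2 O.obj).hom ((O.obj.map gW.1.op).hom t) := fun t =>
    ((congrArg (fun s => (p.toPresheafFiber W s O.obj).hom t) gW.2).symm).trans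
      (p.toPresheafFiber_w_apply gW.1 V.2 O.obj t).symm
  have hb' : (p.toPresheafFiber X x O.obj).hom r * (p.toPresheafFiber W w O.obj).hom b0 = 1 := hb
  have h1 : (p.toPresheafFiber V.1 V.2 O.obj).hom
      ((O.obj.map gX.1.op).hom r * (O.obj.map gW.1.op).hom b0) =
      (p.toPresheafFiber V.1 V.2 O.obj).hom 1 := by
    rw [map_mul, ← hX, ← hW, map_one]
    exact hb'
  obtain ⟨Y, f, y, hy, hf⟩ := (p.toPresheafFiber_eq_iff' V.1 V.2 _ _).mp h1
  have hf' : (O.obj.map f.op).hom ((O.obj.map gX.1.op).hom r * (O.obj.map gW.1.op).hom b0) =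
      (O.obj.map f.op).hom 1 := hf
  rw [map_mul, map_one] at hf'
  refine ⟨Y, f ≫ gX.1, y, ?_, ?_⟩
  · have e1 := FunctorToTypes.map_comp_apply p.fiber f gX.1 y
    rw [e1, hy]
    exact gX.2
  · have e2 : (O.obj.map (f ≫ gX.1).op).hom r =
        (O.obj.map f.op).hom ((O.obj.map gX.1.op).hom r) := by
      rw [op_comp, Functor.map_comp]
      rfl
    rw [e2]
    exact IsUnit.of_mul_eq_one _ hf'

end Groth.Agent.H10.StalkUnit
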