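import Mathlib

set_option autoImplicit false
open CategoryTheory CategoryTheory.Limits

namespace Groth.Agent.H10.ThirdIso

/-- Third isomorphism theorem in an abelian category: for `f : X ⟶ Y` and a mono `g : Y ⟶ Z`,
`0 → coker f → coker (f ≫ g) → coker g → 0` is short exact (stated up to propositional equalities). -/
theorem third_iso {C : Type*} [Category C] [Abelian C] {X Y Z : C} (f : X ⟶ Y) (g : Y ⟶ Z) [Mono g]
    (h : X ⟶ Z) (i : X ⟶ X) (k : Z ⟶ Z) (eh : h = f ≫ g) (ei : i = 𝟙 X) (ek : k = 𝟙 Z)
    (w₁ : f ≫ g = i ≫ h) (w₂ : h ≫ k = f ≫ g) :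
    ∃ w : cokernel.map f h i g w₁ ≫ cokernel.map h g f k w₂ = 0,
      (ShortComplex.mk _ _ w).ShortExact := by
  subst eh ei ek
  have hex := kernelCokernelCompSequence_exact f g
  have h3 := hex.exact 3
  have h2 := hex.exact 2
  refine ⟨(ComposableArrows.sc (kernelCokernelCompSequence f g) hex.toIsComplex 3).zero, ?_⟩
  refine ShortComplex.ShortExact.mk' h3 ?_ ?_
  · have hz : (ComposableArrows.sc (kernelCokernelCompSequence f g) hex.toIsComplex 2).f = 0 := by
      change kernelCokernelCompSequence.δ f g = 0
      rw [kernelCokernelCompSequence.δ_fac]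
      have : kernel.ι g = 0 := by
        rw [← cancel_mono g, kernel.condition, zero_comp]
      simp [this]
    exact h2.mono_g hz
  · exact inferInstanceAs (Epi ((kernelCokernelCompSequence f g).map' 4 5))

end Groth.Agent.H10.ThirdIso
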