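import Mathlib
import Groth.Prelude.Def_CohTop
import Groth.Agent.H10.RDBase

set_option autoImplicit false
universe u
open CategoryTheory CategoryTheory.Limits TopologicalSpace

namespace Groth.Agent.H10.TopBC

/-- base change of higher direct images along open embeddings, general form -/
theorem baseChange_open {X Y X' Y' : TopCat.{u}} (f : X ⟶ Y) (g : X' ⟶ Y') (jX : X' ⟶ X)
    (jY : Y' ⟶ Y) (hX : Topology.IsOpenEmbedding jX) (hY : Topology.IsOpenEmbedding jY)
    [hcX : hX.isOpenMap.functor.IsContinuous (Opens.grothendieckTopology X')
      (Opens.grothendieckTopology X)]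
    [hcY : hY.isOpenMap.functor.IsContinuous (Opens.grothendieckTopology Y')
      (Opens.grothendieckTopology Y)]
    (e : hY.isOpenMap.functor ⋙ Opens.map f ≅ Opens.map g ⋙ hX.isOpenMap.functor)
    (hlimX : PreservesFiniteLimits (hX.isOpenMap.functor.sheafPushforwardContinuous
      AddCommGrpCat.{u} (Opens.grothendieckTopology X') (Opens.grothendieckTopology X)))
    (hcolimX : PreservesFiniteColimits (hX.isOpenMap.functor.sheafPushforwardContinuous
      AddCommGrpCat.{u} (Opens.grothendieckTopology X') (Opens.grothendieckTopology X)))
    (hinjX : ∀ I : CohTop.Ab X, Injective I →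
      Injective ((hX.isOpenMap.functor.sheafPushforwardContinuous
        AddCommGrpCat.{u} (Opens.grothendieckTopology X') (Opens.grothendieckTopology X)).obj I))
    (hlimY : PreservesFiniteLimits (hY.isOpenMap.functor.sheafPushforwardContinuous
      AddCommGrpCat.{u} (Opens.grothendieckTopology Y') (Opens.grothendieckTopology Y)))
    (hcolimY : PreservesFiniteColimits (hY.isOpenMap.functor.sheafPushforwardContinuous
      AddCommGrpCat.{u} (Opens.grothendieckTopology Y') (Opens.grothendieckTopology Y)))
    (F : CohTop.Ab X) (p : ℕ) :
    Nonempty ((hY.isOpenMap.functor.sheafPushforwardContinuous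
        AddCommGrpCat.{u} (Opens.grothendieckTopology Y') (Opens.grothendieckTopology Y)).obj
          ((CohTop.Rpush f p).obj F) ≅
      (CohTop.Rpush g p).obj ((hX.isOpenMap.functor.sheafPushforwardContinuous
        AddCommGrpCat.{u} (Opens.grothendieckTopology X') (Opens.grothendieckTopology X)).obj F)) := by
  haveI c1 : (Opens.map g ⋙ hX.isOpenMap.functor).IsContinuous (Opens.grothendieckTopology Y')
      (Opens.grothendieckTopology X) :=
    Functor.isContinuous_comp _ _ _ (Opens.grothendieckTopology X') _
  let φ : CohTop.push f ⋙ hY.isOpenMap.functor.sheafPushforwardContinuous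
        AddCommGrpCat.{u} (Opens.grothendieckTopology Y') (Opens.grothendieckTopology Y) ≅
      hX.isOpenMap.functor.sheafPushforwardContinuous
        AddCommGrpCat.{u} (Opens.grothendieckTopology X') (Opens.grothendieckTopology X) ⋙
        CohTop.push g :=
    (Functor.sheafPushforwardContinuousComp' (F := hY.isOpenMap.functor) (G := Opens.map f)
      e AddCommGrpCat.{u} (Opens.grothendieckTopology Y') (Opens.grothendieckTopology Y)
      (Opens.grothendieckTopology X)) ≪≫
    (Functor.sheafPushforwardContinuousComp' (F := Opens.map g) (G := hX.isOpenMap.functor)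
      (Iso.refl _) AddCommGrpCat.{u} (Opens.grothendieckTopology Y')
      (Opens.grothendieckTopology X') (Opens.grothendieckTopology X)).symm
  haveI : (hX.isOpenMap.functor.sheafPushforwardContinuous
        AddCommGrpCat.{u} (Opens.grothendieckTopology X') (Opens.grothendieckTopology X)).Additive :=
    Functor.additive_of_preserves_binary_products _
  haveI : (hY.isOpenMap.functor.sheafPushforwardContinuous
        AddCommGrpCat.{u} (Opens.grothendieckTopology Y') (Opens.grothendieckTopology Y)).Additive :=
    Functor.additive_of_preserves_binary_products _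
  exact RDBase.nonempty_rightDerived_baseChange (CohTop.push f) (CohTop.push g) _ _ hinjX φ F p

end Groth.Agent.H10.TopBC
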