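import Mathlib
import Groth.Prelude.Def_CohTop
import Groth.Agent.H10.CohTopE
import Groth.Agent.H10.ShriekEx

set_option autoImplicit false
universe v₁ u₁ u
open CategoryTheory CategoryTheory.Limits Opposite TopologicalSpace

namespace Groth.Agent.H10.TopRestr

section General

variable {𝒞 : Type u₁} [Category.{v₁} 𝒞] (U : 𝒞)

/-- `Over.forget U` is a discrete fibration. -/
def liftsOverForget (V : 𝒞) : ShriekEx.Lifts.{v₁} (Over.forget U) V where
  I := V ⟶ U
  c i := Over.mk i
  e i := 𝟙 V
  uniq W g := by
    refine ⟨⟨g ≫ W.hom, Over.homMk g rfl⟩, Category.id_comp _, ?_⟩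
    rintro ⟨i, p⟩ hp
    have h1 : p.left = g := by simpa using hp
    have h2 : i = g ≫ W.hom := by
      rw [← h1]
      exact (Over.w p).symm
    subst h2
    congr 1
    ext
    exact h1

end General

variable {X : TopCat.{u}} (U : Opens X)

theorem restr_exact : PreservesFiniteLimits (CohTop.restrFunctor U) ∧
    PreservesFiniteColimits (CohTop.restrFunctor U) := by
  refine ((Functor.exact_tfae (CohTop.restrFunctor U)).out 0 3).1 ?_
  intro S hS
  exact CohTopB.restr_shortExact U S hS

instance : PreservesFiniteLimits (CohTop.restrFunctor U) := (restr_exact U).1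

instance : PreservesFiniteColimits (CohTop.restrFunctor U) := (restr_exact U).2

theorem overPullback_injective (F : CohTop.Ab X) [Injective F] :
    Injective (((Opens.grothendieckTopology X).overPullback AddCommGrpCat.{u} U).obj F) := by
  have h : PreservesFiniteLimits ((Over.forget U).sheafPullback AddCommGrpCat.{u}
      ((Opens.grothendieckTopology X).over U) (Opens.grothendieckTopology X)) :=
    ShriekEx.sheafPullback_preservesFiniteLimits.{u} (Over.forget U) AddCommGrpCat.{u} _ _
      (fun V => liftsOverForget U V)
  exact Injective.injective_of_adjoint ((Over.forget U).sheafAdjunctionContinuous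
    AddCommGrpCat.{u} ((Opens.grothendieckTopology X).over U) (Opens.grothendieckTopology X)) F

theorem restr_injective (F : CohTop.Ab X) [Injective F] :
    Injective ((CohTop.restrFunctor U).obj F) := by
  have := overPullback_injective U F
  show Injective ((U.sheafEquivOver (A := AddCommGrpCat.{u})).functor.obj
    (((Opens.grothendieckTopology X).overPullback AddCommGrpCat.{u} U).obj F))
  exact Injective.injective_of_adjoint (U.sheafEquivOver (A := AddCommGrpCat.{u})).symm.toAdjunction _

end Groth.Agent.H10.TopRestr
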