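import Mathlib
import Groth.Prelude.Def_ZClos
import Groth.Agent.H10.SheafModGA

/-!
# Helper library for the Z-closure functor `ZClos.H0`
-/

set_option autoImplicit false
universe u
open CategoryTheory CategoryTheory.Limits AlgebraicGeometry TopologicalSpace Opposite

namespace Groth.Agent.H10.ZClosLib
open ZClos

variable {X : Scheme.{u}}

/-- `V ↦ U ∩ V` in the form used by `resPush`. -/
noncomputable abbrev capF (U : X.Opens) : X.Opens ⥤ X.Opens :=
  Opens.map U.ι.base ⋙ U.ι.opensFunctor

noncomputable def resPushIso (U : X.Opens) :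
    resPush U ⋙ Scheme.Modules.toPresheaf X ≅
      Scheme.Modules.toPresheaf X ⋙ (Functor.whiskeringLeft _ _ _).obj (capF U).op :=
  NatIso.ofComponents (fun _ => Iso.refl _)
    (fun _ => (Category.comp_id _).trans (Category.id_comp _).symm)

theorem resPush_preservesLimitsOfShape (U : X.Opens) (J : Type u) [Category.{u} J] :
    PreservesLimitsOfShape J (resPush U) := by
  haveI : ReflectsLimitsOfShape J (Scheme.Modules.toPresheaf X) :=
    reflectsLimitsOfShape_of_reflectsIsomorphisms
  haveI h1 : PreservesLimitsOfShape J (Scheme.Modules.toPresheaf X) :=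
    PreservesLimitsOfSize.preservesLimitsOfShape
  haveI h2 : PreservesLimitsOfShape J
      ((Functor.whiskeringLeft (Opens ↥X)ᵒᵖ (Opens ↥X)ᵒᵖ Ab.{u}).obj (capF U).op) :=
    inferInstance
  haveI h3 : PreservesLimitsOfShape J (Scheme.Modules.toPresheaf X ⋙
      (Functor.whiskeringLeft (Opens ↥X)ᵒᵖ (Opens ↥X)ᵒᵖ Ab.{u}).obj (capF U).op) :=
    comp_preservesLimitsOfShape _ _
  haveI : PreservesLimitsOfShape J (resPush U ⋙ Scheme.Modules.toPresheaf X) :=
    preservesLimitsOfShape_of_natIso (resPushIso U).symm
  exact preservesLimitsOfShape_of_reflects_of_preserves (resPush U) (Scheme.Modules.toPresheaf X)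

instance resPush_preservesLimits (U : X.Opens) : PreservesLimitsOfSize.{u, u} (resPush U) :=
  ⟨fun {J} _ => resPush_preservesLimitsOfShape U J⟩

noncomputable def diagramEvalIso (Z : Set X) (T : Cl Z) :
    resPush T.U ≅ diagram Z ⋙ (evaluation _ _).obj T :=
  NatIso.ofComponents (fun _ => Iso.refl _)
    (fun _ => (Category.comp_id _).trans (Category.id_comp _).symm)

instance diagram_preservesLimits (Z : Set X) : PreservesLimitsOfSize.{u, u} (diagram Z) :=
  preservesLimits_of_evaluation _ fun T => preservesLimits_of_natIso (diagramEvalIso Z T)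

instance diagram_preservesFiniteLimits (Z : Set X) : PreservesFiniteLimits (diagram Z) :=
  PreservesLimitsOfSize.preservesFiniteLimits.{u, u} _

instance exactColim (Z : Set X) : HasExactColimitsOfShape (Cl Z) X.Modules :=
  Groth.Agent.H10.SheafModGA.hasExactColimitsOfShape X.ringCatSheaf (Cl Z)

instance colim_pfl (Z : Set X) :
    PreservesFiniteLimits (colim : (Cl Z ⥤ X.Modules) ⥤ X.Modules) :=
  HasExactColimitsOfShape.preservesFiniteLimits

theorem H0_preservesFiniteLimits (Z : Set X) : PreservesFiniteLimits (H0 Z) := by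
  unfold H0
  exact comp_preservesFiniteLimits _ _

/-- the units as a natural transformation from the constant diagram -/
noncomputable def unitNat (Z : Set X) (F : X.Modules) :
    (Functor.const (Cl Z)).obj F ⟶ (diagram Z).obj F where
  app T := toDiagram Z F T
  naturality _ _ f := (Category.id_comp _).trans (toDiagram_map Z F f).symm

instance isConn (Z : Set X) : IsConnected (Cl Z) := IsFiltered.isConnected (Cl Z)

theorem isIso_ι_const (Z : Set X) (F : X.Modules) (T : Cl Z) :
    IsIso (colimit.ι ((Functor.const (Cl Z)).obj F) T) := by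
  have h := (isColimitConstCocone (Cl Z) F).comp_coconePointUniqueUpToIso_hom
    (colimit.isColimit _) T
  have h2 : colimit.ι ((Functor.const (Cl Z)).obj F) T =
      ((isColimitConstCocone (Cl Z) F).coconePointUniqueUpToIso (colimit.isColimit _)).hom :=
    h.symm.trans (Category.id_comp _)
  rw [h2]; infer_instance

theorem rhoApp_eq_colimMap (Z : Set X) (F : X.Modules) :
    rhoApp Z F = colimit.ι ((Functor.const (Cl Z)).obj F) ⊥ ≫ colimMap (unitNat Z F) :=
  (rhoApp_eq Z F ⊥).trans (ι_colimMap (unitNat Z F) ⊥).symm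

theorem isZPure_iff (Z : Set X) (F : X.Modules) :
    IsZPure Z F ↔ ∀ T : Cl Z, Mono (toDiagram Z F T) := by
  constructor
  · intro h T
    have h' : Mono (rhoApp Z F) := h
    rw [rhoApp_eq Z F T] at h'
    exact @mono_of_mono _ _ _ _ _ (toDiagram Z F T) (colimit.ι ((diagram Z).obj F) T) h'
  · intro h
    show Mono (rhoApp Z F)
    rw [rhoApp_eq_colimMap]
    have hι := isIso_ι_const Z F ⊥
    haveI : ∀ T, Mono ((unitNat Z F).app T) := h
    haveI : Mono (unitNat Z F) := NatTrans.mono_of_mono_app _
    haveI : (colim : (Cl Z ⥤ X.Modules) ⥤ X.Modules).PreservesMonomorphisms :=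
      preservesMonomorphisms_of_preservesLimitsOfShape _
    have hm : Mono (colimMap (unitNat Z F)) :=
      (colim : (Cl Z ⥤ X.Modules) ⥤ X.Modules).map_mono (unitNat Z F)
    exact @mono_comp _ _ _ _ _ _ inferInstance _ hm

/-- the unit `G ⟶ j_*j^*G` is "epi for targets of the form `j_*j^*N`". -/
theorem unit_cancel (U : X.Opens) (F : X.Modules) {N : X.Modules}
    (φ ψ : (resPush U).obj F ⟶ (resPush U).obj N)
    (h : (resPushUnit U).app F ≫ φ = (resPushUnit U).app F ≫ ψ) : φ = ψ := by
  haveI : IsIso ((Scheme.Modules.restrictFunctor U.ι).map ((resPushUnit U).app F)) := by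
    have tri := (Scheme.Modules.restrictAdjunction U.ι).left_triangle_components F
    haveI : IsIso ((Scheme.Modules.restrictFunctor U.ι).map ((resPushUnit U).app F) ≫
        (Scheme.Modules.restrictAdjunction U.ι).counit.app
          ((Scheme.Modules.restrictFunctor U.ι).obj F)) := by
      rw [tri]; infer_instance
    exact IsIso.of_isIso_comp_right _ ((Scheme.Modules.restrictAdjunction U.ι).counit.app _)
  haveI : IsIso ((resPush U).map ((resPushUnit U).app F)) :=
    inferInstanceAs (IsIso ((Scheme.Modules.pushforward U.ι).map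
      ((Scheme.Modules.restrictFunctor U.ι).map ((resPushUnit U).app F))))
  have h1 : (resPush U).map φ = (resPush U).map ψ := by
    have := congrArg (fun t => (resPush U).map t) h
    simp only [Functor.map_comp] at this
    exact (cancel_epi _).mp this
  haveI := isIso_unit_resPush (le_refl U) N
  have n1 := (resPushUnit U).naturality φ
  have n2 := (resPushUnit U).naturality ψ
  simp only [Functor.id_map] at n1 n2
  rw [← cancel_mono ((resPushUnit U).app ((resPush U).obj N)), n1, n2, h1]

theorem isZClosed_iff (Z : Set X) (F : X.Modules) :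
    IsZClosed Z F ↔ ∀ T : Cl Z, IsIso (toDiagram Z F T) := by
  constructor
  · intro h T
    have h' : IsIso (rhoApp Z F) := h
    let r : ((diagram Z).obj F).obj T ⟶ F :=
      colimit.ι ((diagram Z).obj F) T ≫ @inv _ _ _ _ (rhoApp Z F) h'
    have h1 : toDiagram Z F T ≫ r = 𝟙 F := by
      simp only [r]
      rw [← Category.assoc, ← rhoApp_eq Z F T]
      exact @IsIso.hom_inv_id _ _ _ _ (rhoApp Z F) h'
    have h2 : r ≫ toDiagram Z F T = 𝟙 _ := by
      refine unit_cancel T.U F _ _ ?_
      change toDiagram Z F T ≫ r ≫ toDiagram Z F T = toDiagram Z F T ≫ 𝟙 _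
      rw [← Category.assoc, h1, Category.id_comp, Category.comp_id]
    exact ⟨r, h1, h2⟩
  · intro h
    show IsIso (rhoApp Z F)
    rw [rhoApp_eq_colimMap]
    have hι := isIso_ι_const Z F ⊥
    haveI : ∀ T, IsIso ((unitNat Z F).app T) := h
    haveI : IsIso (unitNat Z F) := NatIso.isIso_of_isIso_app _
    have hm : IsIso (colimMap (unitNat Z F)) :=
      Functor.map_isIso (colim : (Cl Z ⥤ X.Modules) ⥤ X.Modules) (unitNat Z F)
    exact @IsIso.comp_isIso _ _ _ _ _ _ _ hι hm

/-- closed subsets inside `Z'` are closed subsets inside `Z`. -/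
def clIncl {Z Z' : Set X} (h : Z' ⊆ Z) (T : Cl Z') : Cl Z := ⟨T.1, T.2.trans h⟩

theorem isZPure_mono_set {Z Z' : Set X} (h : Z' ⊆ Z) (F : X.Modules) (hp : IsZPure Z F) :
    IsZPure Z' F := by
  rw [isZPure_iff] at hp ⊢
  intro T
  exact hp (clIncl h T)

theorem isZClosed_mono_set {Z Z' : Set X} (h : Z' ⊆ Z) (F : X.Modules) (hp : IsZClosed Z F) :
    IsZClosed Z' F := by
  rw [isZClosed_iff] at hp ⊢
  intro T
  exact hp (clIncl h T)

end Groth.Agent.H10.ZClosLib
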