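import Mathlib
import Groth.Prelude.Def_ZClos
import Groth.Agent.H10.ZClosLib

/-!
# Section-wise criteria for Z-pure / Z-closed modules
-/

set_option autoImplicit false
universe u
open CategoryTheory CategoryTheory.Limits AlgebraicGeometry TopologicalSpace Opposite

namespace Groth.Agent.H10.ZClosSec
open ZClos Groth.Agent.H10.ZClosLib

variable {X : Scheme.{u}}

theorem mono_iff_injective_app {M N : X.Modules} (φ : M ⟶ N) :
    Mono φ ↔ ∀ V : X.Opens, Function.Injective (φ.app V) := by
  constructor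
  · intro h V
    haveI : Mono ((Scheme.Modules.toPresheaf X).map φ) := inferInstance
    have h2 : Mono (((Scheme.Modules.toPresheaf X).map φ).app (op V)) :=
      (NatTrans.mono_iff_mono_app _).mp inferInstance (op V)
    exact (AddCommGrpCat.mono_iff_injective _).mp h2
  · intro h
    haveI : ∀ c, Mono (((Scheme.Modules.toPresheaf X).map φ).app c) := fun c =>
      (AddCommGrpCat.mono_iff_injective _).mpr (h c.unop)
    haveI : Mono ((Scheme.Modules.toPresheaf X).map φ) := NatTrans.mono_of_mono_app _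
    exact Functor.mono_of_mono_map (Scheme.Modules.toPresheaf X) inferInstance

theorem isIso_iff_bijective_app {M N : X.Modules} (φ : M ⟶ N) :
    IsIso φ ↔ ∀ V : X.Opens, Function.Bijective (φ.app V) := by
  rw [Scheme.Modules.Hom.isIso_iff_isIso_app]
  exact forall_congr' fun V => ConcreteCategory.isIso_iff_bijective _

theorem inj_congr (F : X.Modules) {A B V : X.Opens} (e : A = B) (hA : A ≤ V) (hB : B ≤ V) :
    Function.Injective (F.presheaf.map (homOfLE hA).op) ↔
      Function.Injective (F.presheaf.map (homOfLE hB).op) := by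
  subst e; exact Iff.rfl

theorem bij_congr (F : X.Modules) {A B V : X.Opens} (e : A = B) (hA : A ≤ V) (hB : B ≤ V) :
    Function.Bijective (F.presheaf.map (homOfLE hA).op) ↔
      Function.Bijective (F.presheaf.map (homOfLE hB).op) := by
  subst e; exact Iff.rfl

theorem unit_inj_iff (F : X.Modules) (U V : X.Opens) :
    Function.Injective (((resPushUnit U).app F).app V) ↔
      Function.Injective (F.presheaf.map (homOfLE (inf_le_left : V ⊓ U ≤ V)).op) :=
  inj_congr F ((ι_image_preimage U V).trans (inf_comm U V)) (U.ι.image_preimage_le V) inf_le_left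

theorem unit_bij_iff (F : X.Modules) (U V : X.Opens) :
    Function.Bijective (((resPushUnit U).app F).app V) ↔
      Function.Bijective (F.presheaf.map (homOfLE (inf_le_left : V ⊓ U ≤ V)).op) :=
  bij_congr F ((ι_image_preimage U V).trans (inf_comm U V)) (U.ι.image_preimage_le V) inf_le_left

theorem map_map_eq (F : X.Modules) {A B B' C : X.Opens} (h1 : B ≤ A) (h2 : C ≤ B)
    (h1' : B' ≤ A) (h2' : C ≤ B') (a : F.presheaf.obj (op A)) :
    F.presheaf.map (homOfLE h2).op (F.presheaf.map (homOfLE h1).op a) =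
      F.presheaf.map (homOfLE h2').op (F.presheaf.map (homOfLE h1').op a) := by
  rw [← ConcreteCategory.comp_apply, ← ConcreteCategory.comp_apply, ← Functor.map_comp,
    ← Functor.map_comp]
  rfl

theorem exists_affine_cover (V : X.Opens) :
    ∃ W : V → X.Opens, (∀ x, IsAffineOpen (W x)) ∧ (∀ x : V, (x : X) ∈ W x) ∧ ∀ x, W x ≤ V := by
  have hb : ∀ x : V, ∃ W : X.Opens, IsAffineOpen W ∧ (x : X) ∈ W ∧ W ≤ V := fun x => by
    obtain ⟨W, hW, hxW, hWV⟩ := Opens.isBasis_iff_nbhd.mp X.isBasis_affineOpens x.2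
    exact ⟨W, hW, hxW, hWV⟩
  choose W hWa hxW hWV using hb
  exact ⟨W, hWa, hxW, hWV⟩

theorem inj_of_compact (F : X.Modules) (U : X.Opens)
    (h : ∀ W : X.Opens, IsCompact (W : Set X) →
      Function.Injective (F.presheaf.map (homOfLE (inf_le_left : W ⊓ U ≤ W)).op))
    (V : X.Opens) :
    Function.Injective (F.presheaf.map (homOfLE (inf_le_left : V ⊓ U ≤ V)).op) := by
  intro s t hst
  obtain ⟨W, hWa, hxW, hWV⟩ := exists_affine_cover V
  refine TopCat.Sheaf.eq_of_locally_eq' (⟨F.presheaf, F.isSheaf⟩ : TopCat.Sheaf _ _) W V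
    (fun x => homOfLE (hWV x)) ?_ s t ?_
  · intro x hx
    exact Opens.mem_iSup.mpr ⟨⟨x, hx⟩, hxW ⟨x, hx⟩⟩
  · intro x
    apply h (W x) (hWa x).isCompact
    refine (map_map_eq F (hWV x) inf_le_left (inf_le_left : V ⊓ U ≤ V)
      (inf_le_inf_right U (hWV x)) s).trans ?_
    refine Eq.trans ?_ (map_map_eq F (hWV x) inf_le_left (inf_le_left : V ⊓ U ≤ V)
      (inf_le_inf_right U (hWV x)) t).symm
    exact congrArg _ hst

theorem surj_of_compact (F : X.Modules) (U : X.Opens)
    (h : ∀ W : X.Opens, IsCompact (W : Set X) →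
      Function.Bijective (F.presheaf.map (homOfLE (inf_le_left : W ⊓ U ≤ W)).op))
    (V : X.Opens) :
    Function.Surjective (F.presheaf.map (homOfLE (inf_le_left : V ⊓ U ≤ V)).op) := by
  have hinj := inj_of_compact F U (fun W hW => (h W hW).1)
  intro t
  obtain ⟨W, hWa, hxW, hWV⟩ := exists_affine_cover V
  have hs : ∀ x : V, ∃ s : F.presheaf.obj (op (W x)),
      F.presheaf.map (homOfLE (inf_le_left : W x ⊓ U ≤ W x)).op s =
        F.presheaf.map (homOfLE (inf_le_inf_right U (hWV x))).op t :=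
    fun x => (h (W x) (hWa x).isCompact).2 _
  choose sf hsf using hs
  let Fs : TopCat.Sheaf _ _ := ⟨F.presheaf, F.isSheaf⟩
  have hcover : V ≤ iSup W := by
    intro x hx
    exact Opens.mem_iSup.mpr ⟨⟨x, hx⟩, hxW ⟨x, hx⟩⟩
  have hcompat : TopCat.Presheaf.IsCompatible Fs.1 W sf := by
    intro x y
    apply hinj (W x ⊓ W y)
    refine (map_map_eq F (A := W x) (B := W x ⊓ W y) (B' := W x ⊓ U) (C := (W x ⊓ W y) ⊓ U)
      inf_le_left inf_le_left inf_le_left (inf_le_inf_right U inf_le_left) (sf x)).trans ?_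
    refine Eq.trans ?_ (map_map_eq F (A := W y) (B := W x ⊓ W y) (B' := W y ⊓ U)
      (C := (W x ⊓ W y) ⊓ U)
      inf_le_right inf_le_left inf_le_left (inf_le_inf_right U inf_le_right) (sf y)).symm
    rw [hsf x, hsf y]
    exact map_map_eq F _ _ _ _ t
  obtain ⟨s, hs, -⟩ := Fs.existsUnique_gluing' W V (fun x => homOfLE (hWV x)) hcover sf hcompat
  refine ⟨s, ?_⟩
  refine Fs.eq_of_locally_eq' (fun x => W x ⊓ U) (V ⊓ U)
    (fun x => homOfLE (inf_le_inf_right U (hWV x))) ?_ _ _ ?_
  · intro y hy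
    exact Opens.mem_iSup.mpr ⟨⟨y, hy.1⟩, ⟨hxW ⟨y, hy.1⟩, hy.2⟩⟩
  · intro x
    rw [← hsf x, ← hs x]
    exact map_map_eq F _ _ _ _ s

theorem isZPure_iff_sections (Z : Set X) (F : X.Modules) :
    IsZPure Z F ↔ ∀ (T : Cl Z) (V : X.Opens), IsCompact (V : Set X) →
      Function.Injective (F.presheaf.map (homOfLE (inf_le_left : V ⊓ T.U ≤ V)).op) := by
  rw [isZPure_iff]
  constructor
  · intro h T V _
    exact (unit_inj_iff F T.U V).mp ((mono_iff_injective_app _).mp (h T) V)
  · intro h T
    apply (mono_iff_injective_app _).mpr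
    intro V
    exact (unit_inj_iff F T.U V).mpr (inj_of_compact F T.U (h T) V)

theorem isZClosed_iff_sections (Z : Set X) (F : X.Modules) :
    IsZClosed Z F ↔ ∀ (T : Cl Z) (V : X.Opens), IsCompact (V : Set X) →
      Function.Bijective (F.presheaf.map (homOfLE (inf_le_left : V ⊓ T.U ≤ V)).op) := by
  rw [isZClosed_iff]
  constructor
  · intro h T V _
    exact (unit_bij_iff F T.U V).mp ((isIso_iff_bijective_app _).mp (h T) V)
  · intro h T
    apply (isIso_iff_bijective_app _).mpr
    intro V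
    exact (unit_bij_iff F T.U V).mpr
      ⟨inj_of_compact F T.U (fun W hW => (h T W hW).1) V, surj_of_compact F T.U (h T) V⟩

end Groth.Agent.H10.ZClosSec
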