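import Mathlib
import Groth.Prelude.Def_ZClos
import Groth.Agent.H10.ZClosSec

/-!
# Z-pure / Z-closed are local on an open cover (locally Noetherian schemes)
-/

set_option autoImplicit false
universe u
open CategoryTheory CategoryTheory.Limits AlgebraicGeometry TopologicalSpace Opposite

namespace Groth.Agent.H10.ZClosLoc
open ZClos Groth.Agent.H10.ZClosLib Groth.Agent.H10.ZClosSec

/-! ### a topological lemma -/

theorem closure_image_subset_of_noetherian {N Y : Type*} [TopologicalSpace N] [TopologicalSpace Y]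
    [NoetherianSpace N] [QuasiSober Y] (f : N → Y) (hf : Topology.IsOpenEmbedding f)
    (Z : Set Y) (hZ : StableUnderSpecialization Z) (C : Set N) (hC : IsClosed C)
    (hCZ : f '' C ⊆ Z) : closure (f '' C) ⊆ Z := by
  obtain ⟨S, hSf, hScl, hSirr, rfl⟩ := NoetherianSpace.exists_finite_set_isClosed_irreducible hC
  rw [Set.sUnion_eq_biUnion, Set.image_iUnion₂, hSf.closure_biUnion]
  intro y hy
  simp only [Set.mem_iUnion] at hy
  obtain ⟨t, ht, hyt⟩ := hy
  have hirr : IsIrreducible (f '' t) := (hSirr t ht).image f hf.continuous.continuousOn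
  have hgen := hirr.isGenericPoint_genericPoint_closure
  have hη : hirr.genericPoint ∈ Set.range f := by
    rw [hgen.mem_open_set_iff hf.isOpen_range]
    obtain ⟨a, ha⟩ := (hSirr t ht).nonempty
    exact ⟨f a, subset_closure ⟨a, ha, rfl⟩, ⟨a, rfl⟩⟩
  obtain ⟨a, ha⟩ := hη
  have hat : a ∈ t := by
    have h1 : a ∈ closure t := by
      rw [hf.isEmbedding.isInducing.closure_eq_preimage_closure_image]
      show f a ∈ closure (f '' t)
      rw [ha]; exact hgen.mem
    rwa [(hScl t ht).closure_eq] at h1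
  have hηZ : hirr.genericPoint ∈ Z := by
    rw [← ha]
    exact hCZ ⟨a, Set.mem_sUnion.mpr ⟨t, ht, hat⟩, rfl⟩
  have hsp : hirr.genericPoint ⤳ y := by
    rw [specializes_iff_mem_closure, hgen.def]; exact hyt
  exact hZ hsp hηZ

variable {X : Scheme.{u}}

/-! ### basis versions of the gluing lemmas -/

theorem exists_basis_cover (P : X.Opens → Prop)
    (hP : ∀ (V : X.Opens) (x : X), x ∈ V → ∃ W : X.Opens, P W ∧ x ∈ W ∧ W ≤ V) (V : X.Opens) :
    ∃ W : V → X.Opens, (∀ x, P (W x)) ∧ (∀ x : V, (x : X) ∈ W x) ∧ ∀ x, W x ≤ V := by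
  have hb : ∀ x : V, ∃ W : X.Opens, P W ∧ (x : X) ∈ W ∧ W ≤ V := fun x => hP V x x.2
  choose W hWa hxW hWV using hb
  exact ⟨W, hWa, hxW, hWV⟩

theorem inj_of_basis (F : X.Modules) (U : X.Opens) (P : X.Opens → Prop)
    (hP : ∀ (V : X.Opens) (x : X), x ∈ V → ∃ W : X.Opens, P W ∧ x ∈ W ∧ W ≤ V)
    (h : ∀ W : X.Opens, P W →
      Function.Injective (F.presheaf.map (homOfLE (inf_le_left : W ⊓ U ≤ W)).op))
    (V : X.Opens) :
    Function.Injective (F.presheaf.map (homOfLE (inf_le_left : V ⊓ U ≤ V)).op) := by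
  intro s t hst
  obtain ⟨W, hWa, hxW, hWV⟩ := exists_basis_cover P hP V
  refine TopCat.Sheaf.eq_of_locally_eq' (⟨F.presheaf, F.isSheaf⟩ : TopCat.Sheaf _ _) W V
    (fun x => homOfLE (hWV x)) ?_ s t ?_
  · intro x hx
    exact Opens.mem_iSup.mpr ⟨⟨x, hx⟩, hxW ⟨x, hx⟩⟩
  · intro x
    apply h (W x) (hWa x)
    refine (map_map_eq F (hWV x) inf_le_left (inf_le_left : V ⊓ U ≤ V)
      (inf_le_inf_right U (hWV x)) s).trans ?_
    refine Eq.trans ?_ (map_map_eq F (hWV x) inf_le_left (inf_le_left : V ⊓ U ≤ V)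
      (inf_le_inf_right U (hWV x)) t).symm
    exact congrArg _ hst

theorem surj_of_basis (F : X.Modules) (U : X.Opens) (P : X.Opens → Prop)
    (hP : ∀ (V : X.Opens) (x : X), x ∈ V → ∃ W : X.Opens, P W ∧ x ∈ W ∧ W ≤ V)
    (h : ∀ W : X.Opens, P W →
      Function.Bijective (F.presheaf.map (homOfLE (inf_le_left : W ⊓ U ≤ W)).op))
    (V : X.Opens) :
    Function.Surjective (F.presheaf.map (homOfLE (inf_le_left : V ⊓ U ≤ V)).op) := by
  have hinj := inj_of_basis F U P hP (fun W hW => (h W hW).1)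
  intro t
  obtain ⟨W, hWa, hxW, hWV⟩ := exists_basis_cover P hP V
  have hs : ∀ x : V, ∃ s : F.presheaf.obj (op (W x)),
      F.presheaf.map (homOfLE (inf_le_left : W x ⊓ U ≤ W x)).op s =
        F.presheaf.map (homOfLE (inf_le_inf_right U (hWV x))).op t :=
    fun x => (h (W x) (hWa x)).2 _
  choose sf hsf using hs
  let Fs : TopCat.Sheaf _ _ := ⟨F.presheaf, F.isSheaf⟩
  have hcover : V ≤ iSup W := by
    intro x hx
    exact Opens.mem_iSup.mpr ⟨⟨x, hx⟩, hxW ⟨x, hx⟩⟩
  have hcompat : TopCat.Presheaf.IsCompatible Fs.1 W sf := by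
    intro x y
    apply hinj (W x ⊓ W y)
    refine (map_map_eq F (A := W x) (B := W x ⊓ W y) (B' := W x ⊓ U) (C := (W x ⊓ W y) ⊓ U)
      inf_le_left inf_le_left inf_le_left (inf_le_inf_right U inf_le_left) (sf x)).trans ?_
    refine Eq.trans ?_ (map_map_eq F (A := W y) (B := W x ⊓ W y) (B' := W y ⊓ U)
      (C := (W x ⊓ W y) ⊓ U)
      inf_le_right inf_le_left inf_le_left (inf_le_inf_right U inf_le_right) (sf y)).symm
    rw [hsf x, hsf y]
    exact map_map_eq F _ _ _ _ t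
  obtain ⟨s, hs, -⟩ := Fs.existsUnique_gluing' W V (fun x => homOfLE (hWV x)) hcover sf hcompat
  refine ⟨s, ?_⟩
  refine Fs.eq_of_locally_eq' (fun x => W x ⊓ U) (V ⊓ U)
    (fun x => homOfLE (inf_le_inf_right U (hWV x))) ?_ _ _ ?_
  · intro y hy
    exact Opens.mem_iSup.mpr ⟨⟨y, hy.1⟩, ⟨hxW ⟨y, hy.1⟩, hy.2⟩⟩
  · intro x
    rw [← hsf x, ← hs x]
    exact map_map_eq F _ _ _ _ s

/-! ### the generic statement -/

/-- the "basis principle" for a property `Q` of restriction maps. -/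
def BP (Q : ∀ {α β : Type u}, (α → β) → Prop) : Prop :=
  ∀ (Y : Scheme.{u}) (G : Y.Modules) (U : Y.Opens) (P : Y.Opens → Prop),
    (∀ (V : Y.Opens) (x : Y), x ∈ V → ∃ W : Y.Opens, P W ∧ x ∈ W ∧ W ≤ V) →
    (∀ W : Y.Opens, P W → Q (G.presheaf.map (homOfLE (inf_le_left : W ⊓ U ≤ W)).op)) →
    ∀ V : Y.Opens, Q (G.presheaf.map (homOfLE (inf_le_left : V ⊓ U ≤ V)).op)

theorem bp_injective : BP.{u} (fun f => Function.Injective f) :=
  fun _ G U P hP h V => inj_of_basis G U P hP h V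

theorem bp_bijective : BP.{u} (fun f => Function.Bijective f) :=
  fun _ G U P hP h V =>
    ⟨inj_of_basis G U P hP (fun W hW => (h W hW).1) V, surj_of_basis G U P hP h V⟩

theorem Q_congr (Q : ∀ {α β : Type u}, (α → β) → Prop) (F : X.Modules) {A A' B B' : X.Opens}
    (eA : A = A') (eB : B = B') (h : B ≤ A) (h' : B' ≤ A') :
    Q (F.presheaf.map (homOfLE h).op) ↔ Q (F.presheaf.map (homOfLE h').op) := by
  subst eA; subst eB; exact Iff.rfl

theorem Q_restrict (Q : ∀ {α β : Type u}, (α → β) → Prop) (F : X.Modules) (V : X.Opens)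
    {A B : V.toScheme.Opens} (h : B ≤ A) :
    Q (((Scheme.Modules.restrictFunctor V.ι).obj F).presheaf.map (homOfLE h).op) ↔
      Q (F.presheaf.map (homOfLE (V.ι.image_mono h)).op) := Iff.rfl

theorem openCover_iff (Q : ∀ {α β : Type u}, (α → β) → Prop) (hQ : BP.{u} Q)
    [IsLocallyNoetherian X] (Z : Set X) (hZ : StableUnderSpecialization Z) (F : X.Modules)
    {ι : Type u} (V : ι → X.Opens) (hV : iSup V = ⊤) :
    (∀ (T : Cl Z) (A : X.Opens),
      Q (F.presheaf.map (homOfLE (inf_le_left : A ⊓ T.U ≤ A)).op)) ↔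
    ∀ i, ∀ (T' : Cl ((V i).ι.base ⁻¹' Z)) (W' : (V i).toScheme.Opens),
      Q (((Scheme.Modules.restrictFunctor (V i).ι).obj F).presheaf.map
        (homOfLE (inf_le_left : W' ⊓ T'.U ≤ W')).op) := by
  constructor
  · intro h i T'
    refine hQ (V i).toScheme _ T'.U (fun W' => IsAffineOpen W') ?_ ?_
    · intro A x hx
      obtain ⟨W, hW, hxW, hWA⟩ :=
        Opens.isBasis_iff_nbhd.mp (V i).toScheme.isBasis_affineOpens hx
      exact ⟨W, hW, hxW, hWA⟩
    · intro W' hW'
      refine (Q_restrict Q F (V i) _).mpr ?_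
      haveI : IsNoetherianRing Γ((V i).toScheme, W') :=
        IsLocallyNoetherian.component_noetherian ⟨W', hW'⟩
      haveI : NoetherianSpace {y : (V i).toScheme // y ∈ W'} :=
        noetherianSpace_of_isAffineOpen W' hW'
      let f : W' → X := fun y => (V i).ι.base y.1
      have hf : Topology.IsOpenEmbedding f :=
        (V i).ι.isOpenEmbedding.comp W'.isOpenEmbedding'
      let C : Set W' := Subtype.val ⁻¹' (T'.1 : Set (V i).toScheme)
      have hC : IsClosed C := T'.1.isClosed.preimage continuous_subtype_val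
      have hCZ : f '' C ⊆ Z := by
        rintro _ ⟨y, hy, rfl⟩
        exact T'.2 hy
      let T : Cl Z := ⟨⟨closure (f '' C), isClosed_closure⟩,
        closure_image_subset_of_noetherian f hf Z hZ C hC hCZ⟩
      have pre_eq : f ⁻¹' closure (f '' C) = C :=
        (hf.isEmbedding.isInducing.closure_eq_preimage_closure_image C).symm.trans hC.closure_eq
      have eB : (V i).ι ''ᵁ W' ⊓ T.U = (V i).ι ''ᵁ (W' ⊓ T'.U) := by
        apply Opens.ext
        ext x
        constructor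
        · rintro ⟨⟨y, hyW, rfl⟩, hxT⟩
          exact ⟨y, ⟨hyW, fun hyT => hxT (subset_closure ⟨⟨y, hyW⟩, hyT, rfl⟩)⟩, rfl⟩
        · rintro ⟨y, ⟨hyW, hyT⟩, rfl⟩
          refine ⟨⟨y, hyW, rfl⟩, fun hx => hyT ?_⟩
          have h1 : (⟨y, hyW⟩ : W') ∈ f ⁻¹' closure (f '' C) := hx
          rw [pre_eq] at h1
          exact h1
      exact (Q_congr Q F (A := (V i).ι ''ᵁ W') rfl eB inf_le_left
        ((V i).ι.image_mono inf_le_left)).mp (h T _)
  · intro h T
    refine hQ X F T.U (fun W => ∃ i, W ≤ V i) ?_ ?_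
    · intro A x hx
      have hx' : x ∈ iSup V := by rw [hV]; trivial
      obtain ⟨i, hi⟩ := Opens.mem_iSup.mp hx'
      exact ⟨A ⊓ V i, ⟨i, inf_le_right⟩, ⟨hx, hi⟩, inf_le_left⟩
    · rintro W ⟨i, hW⟩
      let Ti : Cl ((V i).ι.base ⁻¹' Z) :=
        ⟨⟨(V i).ι.base ⁻¹' (T.1 : Set X), T.1.isClosed.preimage (V i).ι.continuous⟩,
          fun y hy => T.2 hy⟩
      have h1 := (Q_restrict Q F (V i)
        (inf_le_left : (V i).ι ⁻¹ᵁ W ⊓ Ti.U ≤ (V i).ι ⁻¹ᵁ W)).mp (h i Ti ((V i).ι ⁻¹ᵁ W))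
      have eA : (V i).ι ''ᵁ ((V i).ι ⁻¹ᵁ W) = W :=
        (ι_image_preimage (V i) W).trans (inf_eq_right.mpr hW)
      have eB : (V i).ι ''ᵁ ((V i).ι ⁻¹ᵁ W ⊓ Ti.U) = W ⊓ T.U := by
        have e0 : (V i).ι ⁻¹ᵁ W ⊓ Ti.U = (V i).ι ⁻¹ᵁ (W ⊓ T.U) := Opens.ext rfl
        rw [e0]
        exact (ι_image_preimage (V i) (W ⊓ T.U)).trans
          (inf_eq_right.mpr (inf_le_left.trans hW))
      exact (Q_congr Q F eA eB _ inf_le_left).mp h1

theorem isZPure_iff_allOpens (Z : Set X) (F : X.Modules) :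
    IsZPure Z F ↔ ∀ (T : Cl Z) (A : X.Opens),
      Function.Injective (F.presheaf.map (homOfLE (inf_le_left : A ⊓ T.U ≤ A)).op) := by
  rw [isZPure_iff]
  exact forall_congr' fun T =>
    (mono_iff_injective_app _).trans (forall_congr' fun A => unit_inj_iff F T.U A)

theorem isZClosed_iff_allOpens (Z : Set X) (F : X.Modules) :
    IsZClosed Z F ↔ ∀ (T : Cl Z) (A : X.Opens),
      Function.Bijective (F.presheaf.map (homOfLE (inf_le_left : A ⊓ T.U ≤ A)).op) := by
  rw [isZClosed_iff]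
  exact forall_congr' fun T =>
    (isIso_iff_bijective_app _).trans (forall_congr' fun A => unit_bij_iff F T.U A)

theorem isZPure_iff_openCover [IsLocallyNoetherian X] (Z : Set X)
    (hZ : StableUnderSpecialization Z) (F : X.Modules) {ι : Type u} (V : ι → X.Opens)
    (hV : iSup V = ⊤) :
    IsZPure Z F ↔
      ∀ i, IsZPure ((V i).ι.base ⁻¹' Z) ((Scheme.Modules.restrictFunctor (V i).ι).obj F) := by
  rw [isZPure_iff_allOpens]
  refine (openCover_iff (fun f => Function.Injective f) bp_injective Z hZ F V hV).trans ?_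
  exact forall_congr' fun i => (isZPure_iff_allOpens _ _).symm

theorem isZClosed_iff_openCover [IsLocallyNoetherian X] (Z : Set X)
    (hZ : StableUnderSpecialization Z) (F : X.Modules) {ι : Type u} (V : ι → X.Opens)
    (hV : iSup V = ⊤) :
    IsZClosed Z F ↔
      ∀ i, IsZClosed ((V i).ι.base ⁻¹' Z) ((Scheme.Modules.restrictFunctor (V i).ι).obj F) := by
  rw [isZClosed_iff_allOpens]
  refine (openCover_iff (fun f => Function.Bijective f) bp_bijective Z hZ F V hV).trans ?_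
  exact forall_congr' fun i => (isZClosed_iff_allOpens _ _).symm

end Groth.Agent.H10.ZClosLoc
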