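import Mathlib
import Groth.Prelude.Def_ZClos
import Groth.Agent.H10.SheafModGA
import Groth.Agent.H10.FiltSec
import Groth.Agent.H10.ZClosLoc

/-!
# Sections and stalks of the Z-closure `H0` over Noetherian opens (helper10)
-/

universe u
open CategoryTheory CategoryTheory.Limits AlgebraicGeometry TopologicalSpace Opposite

namespace Groth.Agent.H10.ZClosCol
open ZClos

variable {X : Scheme.{u}}

/-- forget to abelian sheaves -/
noncomputable def toSh (X : Scheme.{u}) : X.Modules ⥤ TopCat.Sheaf AddCommGrpCat.{u} X :=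
  SheafOfModules.toSheaf X.ringCatSheaf

instance toSh_preservesColimitsOfShape (K : Type u) [Category.{u} K] :
    PreservesColimitsOfShape K (toSh X) :=
  Groth.Agent.H10.SheafModGA.toSheaf_preservesColimitsOfShape X.ringCatSheaf K

section Filt

variable {K : Type u} [SmallCategory K] [IsFiltered K] (D : K ⥤ X.Modules) (c : Cocone D)
  (hc : IsColimit c)
include hc

theorem mod_surj (V : X.Opens) (hV : ∀ W : X.Opens, W ≤ V → IsCompact (W : Set X))
    (t : ToType (c.pt.presheaf.obj (op V))) :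
    ∃ (k : K) (s : ToType ((D.obj k).presheaf.obj (op V))), (c.ι.app k).app V s = t :=
  FiltSec.surj_of_hc (D ⋙ toSh X) ((toSh X).mapCocone c) (isColimitOfPreserves (toSh X) hc) V hV t

theorem mod_inj (V : X.Opens) (hV : IsCompact (V : Set X)) (k : K)
    (s : ToType ((D.obj k).presheaf.obj (op V))) (hs : (c.ι.app k).app V s = 0) :
    ∃ (k' : K) (f : k ⟶ k'), (D.map f).app V s = 0 :=
  FiltSec.inj_of_isCompact (D ⋙ toSh X) ((toSh X).mapCocone c)
    (isColimitOfPreserves (toSh X) hc) V hV k s hs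

theorem mod_stalk_surj (x : X) (b : ToType (c.pt.presheaf.stalk x)) :
    ∃ (k : K) (b' : ToType ((D.obj k).presheaf.stalk x)),
      (TopCat.Presheaf.stalkFunctor AddCommGrpCat.{u} x).map (c.ι.app k).mapPresheaf b' = b :=
  FiltSec.stalk_surj (D ⋙ toSh X) ((toSh X).mapCocone c) (isColimitOfPreserves (toSh X) hc) x b

theorem mod_stalk_inj (x : X) (k : K) (a : ToType ((D.obj k).presheaf.stalk x))
    (ha : (TopCat.Presheaf.stalkFunctor AddCommGrpCat.{u} x).map (c.ι.app k).mapPresheaf a = 0) :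
    ∃ (k' : K) (f : k ⟶ k'),
      (TopCat.Presheaf.stalkFunctor AddCommGrpCat.{u} x).map (D.map f).mapPresheaf a = 0 :=
  FiltSec.stalk_inj (D ⋙ toSh X) ((toSh X).mapCocone c) (isColimitOfPreserves (toSh X) hc)
    x k a ha

end Filt

theorem res_res (F : X.Modules) {A B C : X.Opens} (m1 : B ⟶ A) (m2 : C ⟶ B) (m3 : C ⟶ A)
    (a : ToType (F.presheaf.obj (op A))) :
    F.presheaf.map m2.op (F.presheaf.map m1.op a) = F.presheaf.map m3.op a :=
  FiltSec.pres_res_res F.presheaf m1 m2 m3 a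

theorem app_res {M N : X.Modules} (φ : M ⟶ N) {A B : X.Opens} (i : B ⟶ A)
    (a : ToType (M.presheaf.obj (op A))) :
    φ.app B (M.presheaf.map i.op a) = N.presheaf.map i.op (φ.app A a) :=
  NatTrans.naturality_apply φ.mapPresheaf i.op a

theorem unit_stalk_bijective (U : X.Opens) (F : X.Modules) (x : X) (hx : x ∈ U) :
    Function.Bijective ((TopCat.Presheaf.stalkFunctor AddCommGrpCat.{u} x).map
      ((resPushUnit U).app F).mapPresheaf) := by
  constructor
  · rw [injective_iff_map_eq_zero]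
    intro a ha
    obtain ⟨V, hxV, s, rfl⟩ := TopCat.Presheaf.exists_germ_eq F.presheaf a
    have ha' : ((resPush U).obj F).presheaf.germ V x hxV
        (F.presheaf.map (homOfLE (U.ι.image_preimage_le V)).op s) =
        ((resPush U).obj F).presheaf.germ V x hxV 0 := by
      rw [map_zero]
      exact (TopCat.Presheaf.stalkFunctor_map_germ_apply V x hxV
        ((resPushUnit U).app F).mapPresheaf s).symm.trans ha
    obtain ⟨W, hxW, iU, iV, e⟩ :=
      TopCat.Presheaf.germ_eq ((resPush U).obj F).presheaf x hxV hxV _ _ ha'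
    rw [map_zero] at e
    have hxc : x ∈ U.ι ''ᵁ U.ι ⁻¹ᵁ W := by rw [ι_image_preimage]; exact ⟨hx, hxW⟩
    have hle : U.ι ''ᵁ U.ι ⁻¹ᵁ W ≤ V := (U.ι.image_preimage_le W).trans iU.le
    have e' : F.presheaf.map (homOfLE hle).op s = 0 := by
      refine Eq.trans ?_ e
      exact (res_res F (homOfLE (U.ι.image_preimage_le V))
        (U.ι.opensFunctor.map ((Opens.map U.ι.base).map iU)) (homOfLE hle) s).symm
    refine (TopCat.Presheaf.germ_res_apply F.presheaf (homOfLE hle) x hxc s).symm.trans ?_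
    rw [e']
    exact map_zero _
  · intro b
    obtain ⟨V, hxV, s, rfl⟩ := TopCat.Presheaf.exists_germ_eq ((resPush U).obj F).presheaf b
    have hxc : x ∈ U.ι ''ᵁ U.ι ⁻¹ᵁ V := by rw [ι_image_preimage]; exact ⟨hx, hxV⟩
    refine ⟨F.presheaf.germ (U.ι ''ᵁ U.ι ⁻¹ᵁ V) x hxc s, ?_⟩
    refine (TopCat.Presheaf.stalkFunctor_map_germ_apply (U.ι ''ᵁ U.ι ⁻¹ᵁ V) x hxc
      ((resPushUnit U).app F).mapPresheaf s).trans ?_
    refine Eq.trans ?_ (TopCat.Presheaf.germ_res_apply ((resPush U).obj F).presheaf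
      (homOfLE (U.ι.image_preimage_le V)) x hxc s)
    refine congrArg (fun z => ((resPush U).obj F).presheaf.germ (U.ι ''ᵁ U.ι ⁻¹ᵁ V) x hxc z) ?_
    have eL : ((resPushUnit U).app F).mapPresheaf.app (op (U.ι ''ᵁ U.ι ⁻¹ᵁ V)) =
        F.presheaf.map (homOfLE (U.ι.image_preimage_le (U.ι ''ᵁ U.ι ⁻¹ᵁ V))).op :=
      resPushUnit_app_app U F (U.ι ''ᵁ U.ι ⁻¹ᵁ V)
    have eR : ((resPush U).obj F).presheaf.map (homOfLE (U.ι.image_preimage_le V)).op =
        F.presheaf.map (U.ι.opensFunctor.map ((Opens.map U.ι.base).map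
          (homOfLE (U.ι.image_preimage_le V)))).op :=
      resPush_presheaf_map U F (homOfLE (U.ι.image_preimage_le V))
    refine (ConcreteCategory.congr_hom eL s).trans
      (Eq.trans ?_ (ConcreteCategory.congr_hom eR s).symm)
    exact congrArg
      (fun m : (U.ι ''ᵁ U.ι ⁻¹ᵁ (U.ι ''ᵁ U.ι ⁻¹ᵁ V)) ⟶ (U.ι ''ᵁ U.ι ⁻¹ᵁ V) =>
        F.presheaf.map m.op s) (Subsingleton.elim _ _)

section H0

variable (Z : Set X) (F : X.Modules)

theorem H0_surj (V : X.Opens) (hV : ∀ W : X.Opens, W ≤ V → IsCompact (W : Set X))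
    (t : ToType (((H0 Z).obj F).presheaf.obj (op V))) :
    ∃ (T : Cl Z) (s : ToType (F.presheaf.obj (op (T.U.ι ''ᵁ T.U.ι ⁻¹ᵁ V)))),
      (colimit.ι ((diagram Z).obj F) T).app V s = t := by
  obtain ⟨T, s, hs⟩ := mod_surj ((diagram Z).obj F) (colimit.cocone ((diagram Z).obj F))
    (colimit.isColimit ((diagram Z).obj F)) V hV t
  exact ⟨T, s, hs⟩

theorem H0_inj (V : X.Opens) (hV : IsCompact (V : Set X)) (T : Cl Z)
    (s : ToType (F.presheaf.obj (op (T.U.ι ''ᵁ T.U.ι ⁻¹ᵁ V))))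
    (hs : (colimit.ι ((diagram Z).obj F) T).app V s = 0) :
    ∃ (T' : Cl Z) (h : T ≤ T'), F.presheaf.map (trIncl (Cl.U_anti h) V).op s = 0 := by
  obtain ⟨T', f, hf⟩ := mod_inj ((diagram Z).obj F) (colimit.cocone _) (colimit.isColimit _)
    V hV T s hs
  refine ⟨T', f.le, ?_⟩
  exact (ConcreteCategory.congr_hom (resPushMapApp_app (Cl.U_anti f.le) F V) s).symm.trans hf

theorem H0_ι_trans (V : X.Opens) {T T' : Cl Z} (h : T ≤ T')
    (s : ToType (F.presheaf.obj (op (T.U.ι ''ᵁ T.U.ι ⁻¹ᵁ V)))) :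
    (colimit.ι ((diagram Z).obj F) T').app V (F.presheaf.map (trIncl (Cl.U_anti h) V).op s) =
      (colimit.ι ((diagram Z).obj F) T).app V s := by
  have w := colimit.w ((diagram Z).obj F) (homOfLE h)
  have e : (((diagram Z).obj F).map (homOfLE h)).app V s =
      F.presheaf.map (trIncl (Cl.U_anti h) V).op s :=
    ConcreteCategory.congr_hom (resPushMapApp_app (Cl.U_anti h) F V) s
  rw [← e]
  exact congrArg (fun φ : ((diagram Z).obj F).obj T ⟶ colimit ((diagram Z).obj F) =>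
    φ.app V s) w

theorem cap_le {T T3 T2 : Cl Z} (hT : T ≤ T3) (hT2 : T2 ≤ T3) (W : X.Opens) :
    T3.U.ι ''ᵁ T3.U.ι ⁻¹ᵁ W ≤ T2.U.ι ''ᵁ T2.U.ι ⁻¹ᵁ (W ⊓ T.U) := by
  rw [ι_image_preimage, ι_image_preimage]
  intro y hy
  exact ⟨Cl.U_anti hT2 hy.1, hy.2, Cl.U_anti hT hy.1⟩

theorem H0_bij (T : Cl Z) (W : X.Opens)
    (hW : ∀ W' : X.Opens, W' ≤ W → IsCompact (W' : Set X)) :
    Function.Bijective
      (((H0 Z).obj F).presheaf.map (homOfLE (inf_le_left : W ⊓ T.U ≤ W)).op) := by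
  constructor
  · rw [injective_iff_map_eq_zero]
    intro t ht
    obtain ⟨T1, s, rfl⟩ := H0_surj Z F W hW t
    have h1 : (colimit.ι ((diagram Z).obj F) T1).app (W ⊓ T.U)
        ((((diagram Z).obj F).obj T1).presheaf.map
          (homOfLE (inf_le_left : W ⊓ T.U ≤ W)).op s) = 0 :=
      (app_res (colimit.ι ((diagram Z).obj F) T1) (homOfLE (inf_le_left : W ⊓ T.U ≤ W)) s).trans ht
    obtain ⟨T2, h12, h2⟩ := H0_inj Z F (W ⊓ T.U) (hW _ inf_le_left) T1 _ h1
    have h13 : T1 ≤ T ⊔ T2 := h12.trans le_sup_right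
    have hle := cap_le Z (le_sup_left : T ≤ T ⊔ T2) (le_sup_right : T2 ≤ T ⊔ T2) W
    have h2' : F.presheaf.map (trIncl (Cl.U_anti h12) (W ⊓ T.U)).op
        (F.presheaf.map (T1.U.ι.opensFunctor.map ((Opens.map T1.U.ι.base).map
          (homOfLE (inf_le_left : W ⊓ T.U ≤ W)))).op s) = 0 := h2
    have h3 : F.presheaf.map (trIncl (Cl.U_anti h13) W).op s = 0 := by
      have e1 := res_res F (T1.U.ι.opensFunctor.map ((Opens.map T1.U.ι.base).map
          (homOfLE (inf_le_left : W ⊓ T.U ≤ W)))) (trIncl (Cl.U_anti h12) (W ⊓ T.U))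
        (trIncl (Cl.U_anti h12) (W ⊓ T.U) ≫ T1.U.ι.opensFunctor.map
          ((Opens.map T1.U.ι.base).map (homOfLE (inf_le_left : W ⊓ T.U ≤ W)))) s
      have e2 := res_res F (trIncl (Cl.U_anti h12) (W ⊓ T.U) ≫ T1.U.ι.opensFunctor.map
          ((Opens.map T1.U.ι.base).map (homOfLE (inf_le_left : W ⊓ T.U ≤ W))))
        (homOfLE hle) (trIncl (Cl.U_anti h13) W) s
      rw [← e2, ← e1, h2', map_zero]
    exact (H0_ι_trans Z F W h13 s).symm.trans ((congrArg
      (fun z => (colimit.ι ((diagram Z).obj F) (T ⊔ T2)).app W z) h3).trans (map_zero _))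
  · intro t'
    obtain ⟨T1, s, rfl⟩ :=
      H0_surj Z F (W ⊓ T.U) (fun W' h => hW W' (h.trans inf_le_left)) t'
    have h13 : T1 ≤ T ⊔ T1 := le_sup_right
    have hle := cap_le Z (le_sup_left : T ≤ T ⊔ T1) (le_sup_right : T1 ≤ T ⊔ T1) W
    refine ⟨(colimit.ι ((diagram Z).obj F) (T ⊔ T1)).app W
      (F.presheaf.map (homOfLE hle).op s), ?_⟩
    refine (app_res (colimit.ι ((diagram Z).obj F) (T ⊔ T1))
      (homOfLE (inf_le_left : W ⊓ T.U ≤ W)) (F.presheaf.map (homOfLE hle).op s)).symm.trans ?_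
    refine Eq.trans ?_ (H0_ι_trans Z F (W ⊓ T.U) h13 s)
    refine congrArg (fun z => (colimit.ι ((diagram Z).obj F) (T ⊔ T1)).app (W ⊓ T.U) z) ?_
    exact res_res F (homOfLE hle) ((T ⊔ T1).U.ι.opensFunctor.map
      ((Opens.map (T ⊔ T1).U.ι.base).map (homOfLE (inf_le_left : W ⊓ T.U ≤ W))))
      (trIncl (Cl.U_anti h13) (W ⊓ T.U)) s

end H0

theorem hc_of_affine [IsLocallyNoetherian X] (W : X.Opens) (hW : IsAffineOpen W) :
    ∀ W' : X.Opens, W' ≤ W → IsCompact (W' : Set X) := by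
  intro W' hW'
  haveI : IsNoetherianRing Γ(X, W) := IsLocallyNoetherian.component_noetherian ⟨W, hW⟩
  haveI : NoetherianSpace {y : X // y ∈ W} := noetherianSpace_of_isAffineOpen W hW
  have h1 : IsCompact ((Subtype.val : {y : X // y ∈ W} → X) ⁻¹' (W' : Set X)) :=
    NoetherianSpace.isCompact _
  have h2 := h1.image continuous_subtype_val
  have e : (Subtype.val : {y : X // y ∈ W} → X) ''
      ((Subtype.val : {y : X // y ∈ W} → X) ⁻¹' (W' : Set X)) = (W' : Set X) := by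
    ext y
    constructor
    · rintro ⟨z, hz, rfl⟩; exact hz
    · intro hy; exact ⟨⟨y, hW' hy⟩, hy, rfl⟩
  rw [e] at h2
  exact h2

theorem affine_basis (V : X.Opens) (x : X) (hx : x ∈ V) :
    ∃ W : X.Opens, IsAffineOpen W ∧ x ∈ W ∧ W ≤ V := by
  obtain ⟨W, hW, hxW, hWV⟩ := Opens.isBasis_iff_nbhd.mp X.isBasis_affineOpens hx
  exact ⟨W, hW, hxW, hWV⟩

theorem noetherianSpace_of_hc (O : X.Opens)
    (hO : ∀ W' : X.Opens, W' ≤ O → IsCompact (W' : Set X)) :
    NoetherianSpace {y : X // y ∈ O} := by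
  rw [noetherianSpace_iff_opens]
  intro s
  rw [Topology.IsInducing.subtypeVal.isCompact_iff]
  have hop : IsOpen ((Subtype.val : {y : X // y ∈ O} → X) '' (s : Set {y : X // y ∈ O})) :=
    O.isOpen.isOpenMap_subtype_val _ s.isOpen
  exact hO ⟨_, hop⟩ (by rintro _ ⟨y, _, rfl⟩; exact y.2)

theorem exists_vanish (Z : Set X) (hZ : StableUnderSpecialization Z) (F : X.Modules)
    (hF : ∀ x : X, x ∉ Z → Subsingleton (F.presheaf.stalk x))
    (O : X.Opens) (hO : ∀ W' : X.Opens, W' ≤ O → IsCompact (W' : Set X))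
    (s : ToType (F.presheaf.obj (op O))) :
    ∃ T' : Cl Z, ∀ (O' : X.Opens) (h : O' ≤ O), O' ≤ T'.U →
      F.presheaf.map (homOfLE h).op s = 0 := by
  let A : Set X := {y | ∃ W' : X.Opens, y ∈ W' ∧
    ∃ h : W' ≤ O, F.presheaf.map (homOfLE h).op s = 0}
  have hA : IsOpen A := by
    rw [isOpen_iff_forall_mem_open]
    rintro y ⟨W', hy, h, e⟩
    exact ⟨W', fun z hz => ⟨W', hz, h, e⟩, W'.isOpen, hy⟩
  haveI : NoetherianSpace {y : X // y ∈ O} := noetherianSpace_of_hc O hO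
  let f : {y : X // y ∈ O} → X := Subtype.val
  have hf : Topology.IsOpenEmbedding f := O.isOpenEmbedding'
  let C : Set {y : X // y ∈ O} := f ⁻¹' Aᶜ
  have hC : IsClosed C := hA.isClosed_compl.preimage continuous_subtype_val
  have hCZ : f '' C ⊆ Z := by
    rintro _ ⟨y, hy, rfl⟩
    by_contra hyZ
    haveI := hF y.1 hyZ
    have hg : F.presheaf.germ O y.1 y.2 s = F.presheaf.germ O y.1 y.2 0 :=
      Subsingleton.elim _ _
    obtain ⟨W', hyW', iU, iV, e⟩ := TopCat.Presheaf.germ_eq F.presheaf y.1 y.2 y.2 s 0 hg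
    rw [map_zero] at e
    exact hy ⟨W', hyW', iU.le,
      (congrArg (fun m : W' ⟶ O => F.presheaf.map m.op s)
        (Subsingleton.elim (homOfLE iU.le) iU)).trans e⟩
  refine ⟨⟨⟨closure (f '' C), isClosed_closure⟩,
    ZClosLoc.closure_image_subset_of_noetherian f hf Z hZ C hC hCZ⟩, ?_⟩
  intro O' h hO'
  have hyA : ∀ y : O', ∃ W' : X.Opens, (y : X) ∈ W' ∧
      ∃ h' : W' ≤ O, F.presheaf.map (homOfLE h').op s = 0 := by
    intro y
    by_contra hcon
    have hyC : (⟨y.1, h y.2⟩ : {y : X // y ∈ O}) ∈ C := hcon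
    exact hO' y.2 (subset_closure ⟨⟨y.1, h y.2⟩, hyC, rfl⟩)
  choose W' hyW' hW'O hW's using hyA
  refine TopCat.Sheaf.eq_of_locally_eq' (⟨F.presheaf, F.isSheaf⟩ : TopCat.Sheaf _ _)
    (fun y : O' => W' y ⊓ O') O' (fun y => homOfLE inf_le_right) ?_ _ _ (fun y => ?_)
  · intro z hz
    exact Opens.mem_iSup.mpr ⟨⟨z, hz⟩, hyW' ⟨z, hz⟩, hz⟩
  · rw [map_zero]
    have e1 := res_res F (homOfLE h) (homOfLE (inf_le_right : W' y ⊓ O' ≤ O'))
      (homOfLE (inf_le_left.trans (hW'O y))) s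
    have e2 := res_res F (homOfLE (hW'O y)) (homOfLE (inf_le_left : W' y ⊓ O' ≤ W' y))
      (homOfLE (inf_le_left.trans (hW'O y))) s
    exact e1.trans (e2.symm.trans ((congrArg
      (fun z => F.presheaf.map (homOfLE (inf_le_left : W' y ⊓ O' ≤ W' y)).op z)
      (hW's y)).trans (map_zero _)))

end Groth.Agent.H10.ZClosCol
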