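import Mathlib
import Groth.Prelude.Def_ZClos
import Groth.Agent.H10.ZClosLib

set_option autoImplicit false
universe u
open CategoryTheory CategoryTheory.Limits AlgebraicGeometry TopologicalSpace Opposite

namespace Groth.Agent.H10.ZClosFac
open ZClos Groth.Agent.H10.ZClosLib

variable {X : Scheme.{u}}

theorem rhoApp_cancel (Z : Set X) (F F' : X.Modules) (hF' : IsZClosed Z F')
    (v v' : (H0 Z).obj F ⟶ F') (h : rhoApp Z F ≫ v = rhoApp Z F ≫ v') : v = v' := by
  have hT := (isZClosed_iff Z F').mp hF'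
  refine colimit.hom_ext (F := (diagram Z).obj F) (fun T => ?_)
  haveI := hT T
  rw [← cancel_mono (toDiagram Z F' T)]
  refine unit_cancel T.U F _ _ ?_
  change toDiagram Z F T ≫ (colimit.ι ((diagram Z).obj F) T ≫ v) ≫ toDiagram Z F' T =
    toDiagram Z F T ≫ (colimit.ι ((diagram Z).obj F) T ≫ v') ≫ toDiagram Z F' T
  have e : ∀ w : (H0 Z).obj F ⟶ F',
      toDiagram Z F T ≫ (colimit.ι ((diagram Z).obj F) T ≫ w) ≫ toDiagram Z F' T =
        (rhoApp Z F ≫ w) ≫ toDiagram Z F' T := fun w =>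
    ((Category.assoc (toDiagram Z F T) (colimit.ι ((diagram Z).obj F) T ≫ w)
      (toDiagram Z F' T)).symm.trans
      (congrArg (fun t => t ≫ toDiagram Z F' T)
        (Category.assoc (toDiagram Z F T) (colimit.ι ((diagram Z).obj F) T) w).symm)).trans
      (congrArg (fun t => (t ≫ w) ≫ toDiagram Z F' T) (rhoApp_eq Z F T).symm)
  exact (e v).trans ((congrArg (fun t => t ≫ toDiagram Z F' T) h).trans (e v').symm)

theorem existsUnique_fac (Z : Set X) (F F' : X.Modules) (hF' : IsZClosed Z F') (u : F ⟶ F') :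
    ∃! v : (H0 Z).obj F ⟶ F', rhoApp Z F ≫ v = u := by
  have h' : IsIso (rhoApp Z F') := hF'
  have nat : u ≫ rhoApp Z F' = rhoApp Z F ≫ (H0 Z).map u := (rho Z).naturality u
  have key : rhoApp Z F ≫ (H0 Z).map u ≫ @inv _ _ _ _ (rhoApp Z F') h' = u :=
    calc rhoApp Z F ≫ (H0 Z).map u ≫ @inv _ _ _ _ (rhoApp Z F') h'
        = (rhoApp Z F ≫ (H0 Z).map u) ≫ @inv _ _ _ _ (rhoApp Z F') h' :=
          (Category.assoc _ _ _).symm
      _ = (u ≫ rhoApp Z F') ≫ @inv _ _ _ _ (rhoApp Z F') h' := by rw [nat]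
      _ = u ≫ (rhoApp Z F' ≫ @inv _ _ _ _ (rhoApp Z F') h') := Category.assoc _ _ _
      _ = u ≫ 𝟙 _ := by rw [@IsIso.hom_inv_id _ _ _ _ (rhoApp Z F') h']
      _ = u := Category.comp_id _
  exact ⟨_, key, fun v hv => rhoApp_cancel Z F F' hF' _ _ (hv.trans key.symm)⟩

end Groth.Agent.H10.ZClosFac
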