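import Mathlib
import Groth.Prelude.Def_ZClos
import Groth.Agent.H10.ZClosCol

/-!
# A map with kernel and cokernel supported in `Z` into a `Z`-closed module induces an
isomorphism from the `Z`-closure (helper10)
-/

universe u
open CategoryTheory CategoryTheory.Limits AlgebraicGeometry TopologicalSpace Opposite

namespace Groth.Agent.H10.ZClosIso
open ZClos Groth.Agent.H10.ZClosCol

variable {X : Scheme.{u}}

theorem exists_vanish' (Z : Set X) (hZ : StableUnderSpecialization Z) (F : X.Modules)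
    (O : X.Opens) (hO : ∀ W' : X.Opens, W' ≤ O → IsCompact (W' : Set X))
    (s : ToType (F.presheaf.obj (op O)))
    (hs : ∀ (y : X) (hy : y ∈ O), y ∉ Z → F.presheaf.germ O y hy s = 0) :
    ∃ T' : Cl Z, ∀ (O' : X.Opens) (h : O' ≤ O), O' ≤ T'.U →
      F.presheaf.map (homOfLE h).op s = 0 := by
  let A : Set X := {y | ∃ W' : X.Opens, y ∈ W' ∧
    ∃ h : W' ≤ O, F.presheaf.map (homOfLE h).op s = 0}
  have hA : IsOpen A := by
    rw [isOpen_iff_forall_mem_open]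
    rintro y ⟨W', hy, h, e⟩
    exact ⟨W', fun z hz => ⟨W', hz, h, e⟩, W'.isOpen, hy⟩
  haveI : NoetherianSpace {y : X // y ∈ O} := noetherianSpace_of_hc O hO
  let f : {y : X // y ∈ O} → X := Subtype.val
  have hf : Topology.IsOpenEmbedding f := O.isOpenEmbedding'
  let C : Set {y : X // y ∈ O} := f ⁻¹' Aᶜ
  have hC : IsClosed C := hA.isClosed_compl.preimage continuous_subtype_val
  have hCZ : f '' C ⊆ Z := by
    rintro _ ⟨y, hy, rfl⟩
    by_contra hyZ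
    have hg : F.presheaf.germ O y.1 y.2 s = F.presheaf.germ O y.1 y.2 0 :=
      (hs y.1 y.2 hyZ).trans (map_zero _).symm
    obtain ⟨W', hyW', iU, iV, e⟩ := TopCat.Presheaf.germ_eq F.presheaf y.1 y.2 y.2 s 0 hg
    rw [map_zero] at e
    exact hy ⟨W', hyW', iU.le,
      (congrArg (fun m : W' ⟶ O => F.presheaf.map m.op s)
        (Subsingleton.elim (homOfLE iU.le) iU)).trans e⟩
  refine ⟨⟨⟨closure (f '' C), isClosed_closure⟩,
    ZClosLoc.closure_image_subset_of_noetherian f hf Z hZ C hC hCZ⟩, ?_⟩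
  intro O' h hO'
  have hyA : ∀ y : O', ∃ W' : X.Opens, (y : X) ∈ W' ∧
      ∃ h' : W' ≤ O, F.presheaf.map (homOfLE h').op s = 0 := by
    intro y
    by_contra hcon
    have hyC : (⟨y.1, h y.2⟩ : {y : X // y ∈ O}) ∈ C := hcon
    exact hO' y.2 (subset_closure ⟨⟨y.1, h y.2⟩, hyC, rfl⟩)
  choose W' hyW' hW'O hW's using hyA
  refine TopCat.Sheaf.eq_of_locally_eq' (⟨F.presheaf, F.isSheaf⟩ : TopCat.Sheaf _ _)
    (fun y : O' => W' y ⊓ O') O' (fun y => homOfLE inf_le_right) ?_ _ _ (fun y => ?_)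
  · intro z hz
    exact Opens.mem_iSup.mpr ⟨⟨z, hz⟩, hyW' ⟨z, hz⟩, hz⟩
  · rw [map_zero]
    have e1 := res_res F (homOfLE h) (homOfLE (inf_le_right : W' y ⊓ O' ≤ O'))
      (homOfLE (inf_le_left.trans (hW'O y))) s
    have e2 := res_res F (homOfLE (hW'O y)) (homOfLE (inf_le_left : W' y ⊓ O' ≤ W' y))
      (homOfLE (inf_le_left.trans (hW'O y))) s
    exact e1.trans (e2.symm.trans ((congrArg
      (fun z => F.presheaf.map (homOfLE (inf_le_left : W' y ⊓ O' ≤ W' y)).op z)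
      (hW's y)).trans (map_zero _)))

theorem ker_vanish (Z : Set X) (hZ : StableUnderSpecialization Z) {F F' : X.Modules}
    (u : F ⟶ F')
    (hu : ∀ x : X, x ∉ Z → Function.Injective
      ((TopCat.Presheaf.stalkFunctor AddCommGrpCat.{u} x).map u.mapPresheaf))
    (O : X.Opens) (hO : ∀ W' : X.Opens, W' ≤ O → IsCompact (W' : Set X))
    (s : ToType (F.presheaf.obj (op O))) (hs : u.app O s = 0) :
    ∃ T' : Cl Z, ∀ (O' : X.Opens) (h : O' ≤ O), O' ≤ T'.U →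
      F.presheaf.map (homOfLE h).op s = 0 := by
  refine exists_vanish' Z hZ F O hO s (fun y hy hyZ => ?_)
  apply hu y hyZ
  refine (TopCat.Presheaf.stalkFunctor_map_germ_apply O y hy u.mapPresheaf s).trans ?_
  have h0 : u.mapPresheaf.app (op O) s = 0 := hs
  rw [h0]
  exact (map_zero _).trans (map_zero _).symm

theorem fac_eq (Z : Set X) {F F' : X.Modules} (u : F ⟶ F') (v : (H0 Z).obj F ⟶ F')
    (hv : rhoApp Z F ≫ v = u) (T : Cl Z) :
    colimit.ι ((diagram Z).obj F) T ≫ v ≫ toDiagram Z F' T = (resPush T.U).map u := by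
  have key : toDiagram Z F T ≫ (colimit.ι ((diagram Z).obj F) T ≫ v ≫ toDiagram Z F' T) =
      toDiagram Z F T ≫ (resPush T.U).map u := by
    refine (Category.assoc _ _ _).symm.trans ?_
    refine (congrArg (fun φ : F ⟶ (H0 Z).obj F => φ ≫ v ≫ toDiagram Z F' T)
      (rhoApp_eq Z F T).symm).trans ?_
    refine (Category.assoc _ _ _).symm.trans ?_
    refine (congrArg (fun φ : F ⟶ F' => φ ≫ toDiagram Z F' T) hv).trans ?_
    exact (resPushUnit T.U).naturality u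
  exact ZClosLib.unit_cancel T.U F _ _ key

theorem fac_app (Z : Set X) {F F' : X.Modules} (u : F ⟶ F') (v : (H0 Z).obj F ⟶ F')
    (hv : rhoApp Z F ≫ v = u) (T : Cl Z) (W : X.Opens)
    (s : ToType (F.presheaf.obj (op (T.U.ι ''ᵁ T.U.ι ⁻¹ᵁ W)))) :
    F'.presheaf.map (homOfLE (T.U.ι.image_preimage_le W)).op
      (v.app W ((colimit.ι ((diagram Z).obj F) T).app W s)) =
      u.app (T.U.ι ''ᵁ T.U.ι ⁻¹ᵁ W) s :=
  congrArg (fun φ : (resPush T.U).obj F ⟶ (resPush T.U).obj F' => φ.app W s)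
    (fac_eq Z u v hv T)

theorem closed_bij (Z : Set X) (F' : X.Modules) (hF' : IsZClosed Z F') (T : Cl Z)
    (W : X.Opens) :
    Function.Bijective (F'.presheaf.map (homOfLE (T.U.ι.image_preimage_le W)).op) := by
  have h := (ZClosSec.isIso_iff_bijective_app _).mp ((ZClosLib.isZClosed_iff Z F').mp hF' T) W
  have e : (toDiagram Z F' T).app W =
      F'.presheaf.map (homOfLE (T.U.ι.image_preimage_le W)).op := resPushUnit_app_app T.U F' W
  rw [e] at h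
  exact h

theorem v_inj (Z : Set X) (hZ : StableUnderSpecialization Z) {F F' : X.Modules} (u : F ⟶ F')
    (hu : ∀ x : X, x ∉ Z → Function.Injective
      ((TopCat.Presheaf.stalkFunctor AddCommGrpCat.{u} x).map u.mapPresheaf))
    (v : (H0 Z).obj F ⟶ F') (hv : rhoApp Z F ≫ v = u) (W : X.Opens)
    (hW : ∀ W' : X.Opens, W' ≤ W → IsCompact (W' : Set X)) :
    Function.Injective (v.app W) := by
  rw [injective_iff_map_eq_zero]
  intro t ht
  obtain ⟨T, s, rfl⟩ := H0_surj Z F W hW t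
  have hs : u.app (T.U.ι ''ᵁ T.U.ι ⁻¹ᵁ W) s = 0 :=
    (fac_app Z u v hv T W s).symm.trans ((congrArg
      (fun z => F'.presheaf.map (homOfLE (T.U.ι.image_preimage_le W)).op z) ht).trans
      (map_zero _))
  obtain ⟨T', hT'⟩ := ker_vanish Z hZ u hu (T.U.ι ''ᵁ T.U.ι ⁻¹ᵁ W)
    (fun W' hW' => hW W' (hW'.trans (T.U.ι.image_preimage_le W))) s hs
  have h13 : T ≤ T ⊔ T' := le_sup_left
  have hle : (T ⊔ T').U.ι ''ᵁ (T ⊔ T').U.ι ⁻¹ᵁ W ≤ T'.U := by
    rw [ι_image_preimage]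
    exact inf_le_left.trans (Cl.U_anti (le_sup_right : T' ≤ T ⊔ T'))
  have h3 : F.presheaf.map (trIncl (Cl.U_anti h13) W).op s = 0 :=
    hT' _ (resPush_le (Cl.U_anti h13) W) hle
  exact (H0_ι_trans Z F W h13 s).symm.trans ((congrArg
    (fun z => (colimit.ι ((diagram Z).obj F) (T ⊔ T')).app W z) h3).trans (map_zero _))

theorem glue_lift (Z : Set X) (hZ : StableUnderSpecialization Z) {F F' : X.Modules}
    (u : F ⟶ F')
    (hu : ∀ x : X, x ∉ Z → Function.Injective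
      ((TopCat.Presheaf.stalkFunctor AddCommGrpCat.{u} x).map u.mapPresheaf))
    (O1 : X.Opens) (hO1 : ∀ W' : X.Opens, W' ≤ O1 → IsCompact (W' : Set X))
    (s1 : ToType (F'.presheaf.obj (op O1)))
    (hloc : ∀ y : O1, ∃ W' : X.Opens, (y : X) ∈ W' ∧ ∃ h : W' ≤ O1,
      ∃ a : ToType (F.presheaf.obj (op W')),
        u.app W' a = F'.presheaf.map (homOfLE h).op s1) :
    ∃ T2 : Cl Z, ∀ (O2 : X.Opens) (h2 : O2 ≤ O1), O2 ≤ T2.U →
      ∃ a : ToType (F.presheaf.obj (op O2)),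
        u.app O2 a = F'.presheaf.map (homOfLE h2).op s1 := by
  classical
  choose Wy hyW hWO a ha using hloc
  obtain ⟨fin, hfin⟩ := (hO1 O1 le_rfl).elim_finite_subcover (fun y : O1 => (Wy y : Set X))
    (fun y => (Wy y).isOpen) (fun z hz => Set.mem_iUnion.mpr ⟨⟨z, hz⟩, hyW ⟨z, hz⟩⟩)
  have hd : ∀ p : O1 × O1, ∃ T' : Cl Z, ∀ (O' : X.Opens) (h : O' ≤ Wy p.1 ⊓ Wy p.2),
      O' ≤ T'.U → F.presheaf.map (homOfLE h).op
        (F.presheaf.map (Opens.infLELeft (Wy p.1) (Wy p.2)).op (a p.1) -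
         F.presheaf.map (Opens.infLERight (Wy p.1) (Wy p.2)).op (a p.2)) = 0 := by
    intro p
    refine ker_vanish Z hZ u hu (Wy p.1 ⊓ Wy p.2)
      (fun W' hW' => hO1 W' (hW'.trans (inf_le_left.trans (hWO p.1)))) _ ?_
    have e1 := app_res u (Opens.infLELeft (Wy p.1) (Wy p.2)) (a p.1)
    have e2 := app_res u (Opens.infLERight (Wy p.1) (Wy p.2)) (a p.2)
    rw [map_sub, e1, e2, ha p.1, ha p.2, sub_eq_zero]
    exact (res_res F' _ _ (homOfLE (inf_le_left.trans (hWO p.1))) s1).trans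
      (res_res F' _ _ _ s1).symm
  choose Tp hTp using hd
  refine ⟨(fin ×ˢ fin).sup Tp, fun O2 h2 hO2 => ?_⟩
  have hcompat : TopCat.Presheaf.IsCompatible F.presheaf
      (fun y : {y // y ∈ fin} => Wy y.1 ⊓ O2)
      (fun y => F.presheaf.map (homOfLE (inf_le_left : Wy y.1 ⊓ O2 ≤ Wy y.1)).op (a y.1)) := by
    intro y z
    have hle : (Wy y.1 ⊓ O2) ⊓ (Wy z.1 ⊓ O2) ≤ Wy y.1 ⊓ Wy z.1 :=
      inf_le_inf inf_le_left inf_le_left
    have hT : (Wy y.1 ⊓ O2) ⊓ (Wy z.1 ⊓ O2) ≤ (Tp (y.1, z.1)).U :=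
      (inf_le_left.trans inf_le_right).trans (hO2.trans (Cl.U_anti
        (Finset.le_sup (f := Tp) (Finset.mk_mem_product y.2 z.2))))
    have h0 := hTp (y.1, z.1) _ hle hT
    rw [map_sub, sub_eq_zero] at h0
    have eL : F.presheaf.map (Opens.infLELeft (Wy y.1 ⊓ O2) (Wy z.1 ⊓ O2)).op
        (F.presheaf.map (homOfLE (inf_le_left : Wy y.1 ⊓ O2 ≤ Wy y.1)).op (a y.1)) =
        F.presheaf.map (homOfLE hle).op
          (F.presheaf.map (Opens.infLELeft (Wy y.1) (Wy z.1)).op (a y.1)) :=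
      (res_res F _ _ (homOfLE (hle.trans inf_le_left)) (a y.1)).trans
        (res_res F _ _ _ (a y.1)).symm
    have eR : F.presheaf.map (Opens.infLERight (Wy y.1 ⊓ O2) (Wy z.1 ⊓ O2)).op
        (F.presheaf.map (homOfLE (inf_le_left : Wy z.1 ⊓ O2 ≤ Wy z.1)).op (a z.1)) =
        F.presheaf.map (homOfLE hle).op
          (F.presheaf.map (Opens.infLERight (Wy y.1) (Wy z.1)).op (a z.1)) :=
      (res_res F _ _ (homOfLE (hle.trans inf_le_right)) (a z.1)).trans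
        (res_res F _ _ _ (a z.1)).symm
    exact eL.trans (h0.trans eR.symm)
  have hcover : O2 ≤ iSup (fun y : {y // y ∈ fin} => Wy y.1 ⊓ O2) := by
    intro z hz
    obtain ⟨y, hy, hzy⟩ := Set.mem_iUnion₂.mp (hfin (h2 hz))
    exact Opens.mem_iSup.mpr ⟨⟨y, hy⟩, hzy, hz⟩
  obtain ⟨g, hg, -⟩ := TopCat.Sheaf.existsUnique_gluing'
    (⟨F.presheaf, F.isSheaf⟩ : TopCat.Sheaf _ _)
    (fun y : {y // y ∈ fin} => Wy y.1 ⊓ O2) O2 (fun y => homOfLE inf_le_right) hcover _ hcompat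
  refine ⟨g, ?_⟩
  refine TopCat.Sheaf.eq_of_locally_eq' (⟨F'.presheaf, F'.isSheaf⟩ : TopCat.Sheaf _ _)
    (fun y : {y // y ∈ fin} => Wy y.1 ⊓ O2) O2 (fun y => homOfLE inf_le_right) hcover _ _
    (fun y => ?_)
  refine (app_res u (homOfLE (inf_le_right : Wy y.1 ⊓ O2 ≤ O2)) g).symm.trans ?_
  refine (congrArg (fun z => u.app (Wy y.1 ⊓ O2) z) (hg y)).trans ?_
  refine (app_res u (homOfLE (inf_le_left : Wy y.1 ⊓ O2 ≤ Wy y.1)) (a y.1)).trans ?_
  refine (congrArg (fun z => F'.presheaf.map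
    (homOfLE (inf_le_left : Wy y.1 ⊓ O2 ≤ Wy y.1)).op z) (ha y.1)).trans ?_
  exact (res_res F' _ _ (homOfLE (inf_le_right.trans h2)) s1).trans
    (res_res F' _ _ _ s1).symm

theorem v_surj (Z : Set X) (hZ : StableUnderSpecialization Z) {F F' : X.Modules}
    (hF' : IsZClosed Z F') (u : F ⟶ F')
    (hu : ∀ x : X, x ∉ Z → Function.Bijective
      ((TopCat.Presheaf.stalkFunctor AddCommGrpCat.{u} x).map u.mapPresheaf))
    (v : (H0 Z).obj F ⟶ F') (hv : rhoApp Z F ≫ v = u) (W : X.Opens)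
    (hW : ∀ W' : X.Opens, W' ≤ W → IsCompact (W' : Set X)) :
    Function.Surjective (v.app W) := by
  classical
  intro s'
  let A : Set X := {y | ∃ W' : X.Opens, y ∈ W' ∧ ∃ h : W' ≤ W,
    ∃ a : ToType (F.presheaf.obj (op W')), u.app W' a = F'.presheaf.map (homOfLE h).op s'}
  have hA : IsOpen A := by
    rw [isOpen_iff_forall_mem_open]
    rintro y ⟨W', hy, h, a, e⟩
    exact ⟨W', fun z hz => ⟨W', hz, h, a, e⟩, W'.isOpen, hy⟩
  have hAZ : ∀ y : X, y ∈ W → y ∉ Z → y ∈ A := by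
    intro y hyW hyZ
    obtain ⟨α, hα⟩ := (hu y hyZ).2 (F'.presheaf.germ W y hyW s')
    obtain ⟨V, hyV, a, rfl⟩ := TopCat.Presheaf.exists_germ_eq F.presheaf α
    have h1 : F'.presheaf.germ V y hyV (u.app V a) = F'.presheaf.germ W y hyW s' :=
      (TopCat.Presheaf.stalkFunctor_map_germ_apply V y hyV u.mapPresheaf a).symm.trans hα
    obtain ⟨W'', hyW'', iU, iV, e⟩ := TopCat.Presheaf.germ_eq F'.presheaf y hyV hyW _ _ h1
    refine ⟨W'', hyW'', iV.le, F.presheaf.map iU.op a, ?_⟩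
    refine (app_res u iU a).trans (e.trans ?_)
    exact congrArg (fun m : W'' ⟶ W => F'.presheaf.map m.op s')
      (Subsingleton.elim iV (homOfLE iV.le))
  haveI : NoetherianSpace {y : X // y ∈ W} := noetherianSpace_of_hc W hW
  let f : {y : X // y ∈ W} → X := Subtype.val
  have hf : Topology.IsOpenEmbedding f := W.isOpenEmbedding'
  let C : Set {y : X // y ∈ W} := f ⁻¹' Aᶜ
  have hC : IsClosed C := hA.isClosed_compl.preimage continuous_subtype_val
  have hCZ : f '' C ⊆ Z := by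
    rintro _ ⟨y, hy, rfl⟩
    by_contra hyZ
    exact hy (hAZ y.1 y.2 hyZ)
  obtain ⟨T1, hT1⟩ : ∃ T1 : Cl Z, (T1.1 : Set X) = closure (f '' C) :=
    ⟨⟨⟨closure (f '' C), isClosed_closure⟩,
      ZClosLoc.closure_image_subset_of_noetherian f hf Z hZ C hC hCZ⟩, rfl⟩
  have hO1W : T1.U.ι ''ᵁ T1.U.ι ⁻¹ᵁ W ≤ W := T1.U.ι.image_preimage_le W
  have hyA : ∀ y : (T1.U.ι ''ᵁ T1.U.ι ⁻¹ᵁ W : X.Opens), ∃ W' : X.Opens, (y : X) ∈ W' ∧
      ∃ h : W' ≤ W, ∃ a : ToType (F.presheaf.obj (op W')),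
        u.app W' a = F'.presheaf.map (homOfLE h).op s' := by
    intro y
    by_contra hcon
    have hyC : (⟨y.1, hO1W y.2⟩ : {y : X // y ∈ W}) ∈ C := hcon
    have hyU : (y : X) ∈ T1.U := ((ι_image_preimage T1.U W).le y.2).1
    have hyT : (y : X) ∈ (T1.1 : Set X) := by
      rw [hT1]
      exact subset_closure ⟨⟨y.1, hO1W y.2⟩, hyC, rfl⟩
    exact hyU hyT
  obtain ⟨T2, hT2⟩ := glue_lift Z hZ u (fun x hx => (hu x hx).1) (T1.U.ι ''ᵁ T1.U.ι ⁻¹ᵁ W)
    (fun W' hW' => hW W' (hW'.trans hO1W)) (F'.presheaf.map (homOfLE hO1W).op s') (by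
      intro y
      obtain ⟨W', hyW', hW'W, a, ha⟩ := hyA y
      refine ⟨W' ⊓ (T1.U.ι ''ᵁ T1.U.ι ⁻¹ᵁ W), ⟨hyW', y.2⟩, inf_le_right,
        F.presheaf.map (homOfLE (inf_le_left : W' ⊓ (T1.U.ι ''ᵁ T1.U.ι ⁻¹ᵁ W) ≤ W')).op a, ?_⟩
      refine (app_res u (homOfLE (inf_le_left : W' ⊓ (T1.U.ι ''ᵁ T1.U.ι ⁻¹ᵁ W) ≤ W')) a).trans ?_
      refine (congrArg (fun z => F'.presheaf.map
        (homOfLE (inf_le_left : W' ⊓ (T1.U.ι ''ᵁ T1.U.ι ⁻¹ᵁ W) ≤ W')).op z) ha).trans ?_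
      exact (res_res F' _ _ (homOfLE (inf_le_left.trans hW'W)) s').trans
        (res_res F' _ _ _ s').symm)
  have h13 : T1 ≤ T1 ⊔ T2 := le_sup_left
  have hO3 : (T1 ⊔ T2).U.ι ''ᵁ (T1 ⊔ T2).U.ι ⁻¹ᵁ W ≤ T1.U.ι ''ᵁ T1.U.ι ⁻¹ᵁ W :=
    resPush_le (Cl.U_anti h13) W
  have hO3' : (T1 ⊔ T2).U.ι ''ᵁ (T1 ⊔ T2).U.ι ⁻¹ᵁ W ≤ T2.U := by
    rw [ι_image_preimage]
    exact inf_le_left.trans (Cl.U_anti (le_sup_right : T2 ≤ T1 ⊔ T2))
  obtain ⟨a3, ha3⟩ := hT2 _ hO3 hO3'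
  refine ⟨(colimit.ι ((diagram Z).obj F) (T1 ⊔ T2)).app W a3, ?_⟩
  apply (closed_bij Z F' hF' (T1 ⊔ T2) W).1
  refine (fac_app Z u v hv (T1 ⊔ T2) W a3).trans (ha3.trans ?_)
  exact res_res F' _ _ (homOfLE ((T1 ⊔ T2).U.ι.image_preimage_le W)) s'

theorem inj_of_basis' {M N : X.Modules} (φ : M ⟶ N) (P : X.Opens → Prop)
    (hP : ∀ (V : X.Opens) (x : X), x ∈ V → ∃ W : X.Opens, P W ∧ x ∈ W ∧ W ≤ V)
    (h : ∀ W, P W → Function.Injective (φ.app W)) (V : X.Opens) :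
    Function.Injective (φ.app V) := by
  intro a b hab
  obtain ⟨W, hWP, hxW, hWV⟩ := ZClosLoc.exists_basis_cover P hP V
  refine TopCat.Sheaf.eq_of_locally_eq' (⟨M.presheaf, M.isSheaf⟩ : TopCat.Sheaf _ _) W V
    (fun x => homOfLE (hWV x)) ?_ a b (fun x => ?_)
  · intro y hy
    exact Opens.mem_iSup.mpr ⟨⟨y, hy⟩, hxW ⟨y, hy⟩⟩
  · apply h (W x) (hWP x)
    exact (app_res φ (homOfLE (hWV x)) a).trans ((congrArg
      (fun z => N.presheaf.map (homOfLE (hWV x)).op z) hab).trans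
      (app_res φ (homOfLE (hWV x)) b).symm)

theorem surj_of_basis' {M N : X.Modules} (φ : M ⟶ N) (P : X.Opens → Prop)
    (hP : ∀ (V : X.Opens) (x : X), x ∈ V → ∃ W : X.Opens, P W ∧ x ∈ W ∧ W ≤ V)
    (hinj : ∀ V, Function.Injective (φ.app V))
    (h : ∀ W, P W → Function.Surjective (φ.app W)) (V : X.Opens) :
    Function.Surjective (φ.app V) := by
  intro s'
  obtain ⟨W, hWP, hxW, hWV⟩ := ZClosLoc.exists_basis_cover P hP V
  choose t ht using fun x : V => h (W x) (hWP x) (N.presheaf.map (homOfLE (hWV x)).op s')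
  have hcompat : TopCat.Presheaf.IsCompatible M.presheaf W t := by
    intro x y
    apply hinj (W x ⊓ W y)
    have e1 := app_res φ (Opens.infLELeft (W x) (W y)) (t x)
    have e2 := app_res φ (Opens.infLERight (W x) (W y)) (t y)
    refine e1.trans (Eq.trans ?_ e2.symm)
    refine (congrArg (fun z => N.presheaf.map (Opens.infLELeft (W x) (W y)).op z)
      (ht x)).trans ?_
    refine Eq.trans ?_ (congrArg (fun z => N.presheaf.map (Opens.infLERight (W x) (W y)).op z)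
      (ht y)).symm
    exact (res_res N _ _ (homOfLE (inf_le_left.trans (hWV x))) s').trans
      (res_res N _ _ _ s').symm
  have hcover : V ≤ iSup W := by
    intro y hy
    exact Opens.mem_iSup.mpr ⟨⟨y, hy⟩, hxW ⟨y, hy⟩⟩
  obtain ⟨g, hg, -⟩ := TopCat.Sheaf.existsUnique_gluing'
    (⟨M.presheaf, M.isSheaf⟩ : TopCat.Sheaf _ _) W V (fun x => homOfLE (hWV x)) hcover t hcompat
  refine ⟨g, ?_⟩
  refine TopCat.Sheaf.eq_of_locally_eq' (⟨N.presheaf, N.isSheaf⟩ : TopCat.Sheaf _ _) W V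
    (fun x => homOfLE (hWV x)) hcover _ _ (fun x => ?_)
  refine (app_res φ (homOfLE (hWV x)) g).symm.trans ?_
  exact (congrArg (fun z => φ.app (W x) z) (hg x)).trans (ht x)

theorem isIso_fac [IsLocallyNoetherian X] (Z : Set X) (hZ : StableUnderSpecialization Z)
    (F F' : X.Modules) (hF' : IsZClosed Z F') (u : F ⟶ F')
    (hu : ∀ x : X, x ∉ Z → Function.Bijective
      ((TopCat.Presheaf.stalkFunctor AddCommGrpCat.{u} x).map u.mapPresheaf))
    (v : (H0 Z).obj F ⟶ F') (hv : rhoApp Z F ≫ v = u) : IsIso v := by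
  rw [ZClosSec.isIso_iff_bijective_app]
  have hinj : ∀ V, Function.Injective (v.app V) :=
    inj_of_basis' v (fun W => IsAffineOpen W) affine_basis (fun W hW =>
      v_inj Z hZ u (fun x hx => (hu x hx).1) v hv W (hc_of_affine W hW))
  intro V
  exact ⟨hinj V, surj_of_basis' v (fun W => IsAffineOpen W) affine_basis hinj (fun W hW =>
    v_surj Z hZ hF' u hu v hv W (hc_of_affine W hW)) V⟩

end Groth.Agent.H10.ZClosIso
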