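import Mathlib
import Groth.Prelude.Def_BigSite
import Groth.Agent.H10.FlatLan

set_option autoImplicit false
universe u
open CategoryTheory Limits Opposite AlgebraicGeometry TopologicalSpace

namespace Groth.Agent.H10.ZarBig

variable (X : Scheme.{u})

theorem zarIncl_map_left {U V : X.Opens} (h : U ⟶ V) :
    ((BigSite.zarIncl X).map h).left = X.homOfLE h.le := rfl

theorem zarIncl_obj_hom (U : X.Opens) : ((BigSite.zarIncl X).obj U).hom = U.ι := rfl

/-- morphisms in `Over X` into an open are unique -/
theorem hom_ext_zarIncl {Y : Over X} {U : X.Opens} (a b : Y ⟶ (BigSite.zarIncl X).obj U) :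
    a = b := by
  apply Over.OverMorphism.ext
  have h : a.left ≫ U.ι = b.left ≫ U.ι := (Over.w a).trans (Over.w b).symm
  exact (cancel_mono U.ι).1 h

theorem range_subset {Y : Over X} {U : X.Opens} (a : Y ⟶ (BigSite.zarIncl X).obj U) :
    Set.range Y.hom ⊆ Set.range U.ι := by
  have h1 : a.left ≫ U.ι = Y.hom := Over.w a
  rw [← h1]
  rintro _ ⟨y, rfl⟩
  exact ⟨a.left y, rfl⟩

/-- the lift of an `X`-scheme into an open containing its image -/
noncomputable def liftTo {Y : Over X} (U : X.Opens) (h : Set.range Y.hom ⊆ Set.range U.ι) :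
    Y ⟶ (BigSite.zarIncl X).obj U :=
  Over.homMk (show Y.left ⟶ U.toScheme from IsOpenImmersion.lift U.ι Y.hom h)
    (IsOpenImmersion.lift_fac U.ι Y.hom h)

instance flat : RepresentablyFlat (BigSite.zarIncl X) := by
  constructor
  intro Y
  have h1 : Nonempty (StructuredArrow Y (BigSite.zarIncl X)) :=
    ⟨StructuredArrow.mk (liftTo X (Y := Y) ⊤ (by simp [Scheme.Opens.range_ι]))⟩
  have h2 : IsCofilteredOrEmpty (StructuredArrow Y (BigSite.zarIncl X)) := by
    constructor
    · intro A B
      have hA := range_subset X A.hom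
      have hB := range_subset X B.hom
      have hW : Set.range Y.hom ⊆ Set.range (A.right ⊓ B.right).ι := by
        rw [Scheme.Opens.range_ι] at hA hB ⊢
        rw [Opens.coe_inf]
        exact Set.subset_inter hA hB
      refine ⟨StructuredArrow.mk (liftTo X (A.right ⊓ B.right) hW),
        StructuredArrow.homMk (homOfLE inf_le_left) (hom_ext_zarIncl X _ _),
        StructuredArrow.homMk (homOfLE inf_le_right) (hom_ext_zarIncl X _ _), trivial⟩
    · intro A B f g
      refine ⟨A, 𝟙 A, ?_⟩
      have : f = g := by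
        apply StructuredArrow.ext
        exact Subsingleton.elim _ _
      rw [this]
  exact @IsCofiltered.mk _ _ h2 h1

instance cocont : (BigSite.zarIncl X).IsCocontinuous (Opens.grothendieckTopology X)
    (QuotSh.J Scheme.zariskiPrecoverage X) where
  cover_lift := by
    intro U S hS
    rw [GrothendieckTopology.mem_over_iff,
      Precoverage.mem_toGrothendieck_iff_of_isStableUnderComposition] at hS
    obtain ⟨R, hR, hle⟩ := hS
    intro x hx
    obtain ⟨Y, g, hg, y, hy⟩ := Scheme.JointlySurjective.exists_eq R hR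
      (show ((BigSite.zarIncl X).obj U).left from (⟨x, hx⟩ : U.toScheme))
    have hgo : IsOpenImmersion g := hR.2 hg
    have hSg := (Sieve.overEquiv_iff _ _).1 (hle _ g hg)
    let g' : Y ⟶ U.toScheme := g
    have hgo' : IsOpenImmersion g' := hgo
    let V : X.Opens := (g' ≫ U.ι).opensRange
    have hVU : V ≤ U := by
      intro z hz
      obtain ⟨w, rfl⟩ := hz
      exact (g' w).2
    let h : (BigSite.zarIncl X).obj V ⟶ Over.mk (g' ≫ U.ι) :=
      Over.homMk (show V.toScheme ⟶ Y from (g' ≫ U.ι).isoOpensRange.inv)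
        (Scheme.Hom.isoOpensRange_inv_comp (g' ≫ U.ι))
    refine ⟨V, homOfLE hVU, ?_, ?_⟩
    · have := S.downward_closed hSg h
      have e : (BigSite.zarIncl X).map (homOfLE hVU) = h ≫ Over.homMk g := hom_ext_zarIncl X _ _
      show S ((BigSite.zarIncl X).map (homOfLE hVU))
      rw [e]
      exact this
    · refine ⟨y, ?_⟩
      have : (g' ≫ U.ι) y = U.ι (g' y) := rfl
      rw [this, show g' y = (⟨x, hx⟩ : U.toScheme) from hy]
      rfl

theorem piZarPull_exact [BigSite.ZarCont Scheme.zariskiPrecoverage X] :
    PreservesFiniteLimits (BigSite.piZarPull Scheme.zariskiPrecoverage X) := by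
  have : AB5OfSize.{u, u} AddCommGrpCat.{u + 1} :=
    AB5OfSize_shrink.{u, u, u + 1, u + 1} _
  have : ∀ K : (Over X)ᵒᵖ,
      HasExactColimitsOfShape (CostructuredArrow (BigSite.zarIncl X).op K)
        AddCommGrpCat.{u + 1} := by
    intro K
    have : IsFiltered (CostructuredArrow (BigSite.zarIncl X).op K) :=
      IsFiltered.of_equivalence (structuredArrowOpEquivalence (BigSite.zarIncl X) (unop K))
    exact AB5OfSize.ofShape _
  exact FlatLan.sheafPullback_preservesFiniteLimits_of_flat (BigSite.zarIncl X)
    AddCommGrpCat.{u + 1} (Opens.grothendieckTopology X) (QuotSh.J Scheme.zariskiPrecoverage X)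

/-- the image of the top open is terminal in `Over X` -/
noncomputable def isTerminalTop : IsTerminal ((BigSite.zarIncl X).obj ⊤) :=
  IsTerminal.ofIso Over.mkIdTerminal
    (Over.isoMk X.topIso.symm (X.toIso_inv_ι))

end Groth.Agent.H10.ZarBig
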