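import Mathlib
import Groth.Prelude.Def_LocCohZ
import Groth.Agent.H10.CohTopB
import Groth.Agent.H10.KerFlasque

universe u

open CategoryTheory CategoryTheory.Limits TopologicalSpace Opposite

namespace Groth.Agent.H10.ZqMV

variable {X : TopCat.{u}}

/-- the free sheaf on the whole space -/
noncomputable abbrev Zt (X : TopCat.{u}) : CohTop.Ab X :=
  CohCx.freeSheaf (Opens.grothendieckTopology X) (⊤ : Opens X)

noncomputable abbrev m (W : Opens X) :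
    CohCx.freeSheaf (Opens.grothendieckTopology X) W ⟶ Zt X :=
  CohCx.freeSheafMap (Opens.grothendieckTopology X) (homOfLE (le_top : W ≤ ⊤))

noncomputable abbrev zqc (W : Opens X) : CohTop.Ab X := LocCohZ.zq (le_top : W ≤ ⊤)

noncomputable abbrev π (W : Opens X) : Zt X ⟶ zqc W := cokernel.π (m W)

noncomputable abbrev zm {W W' : Opens X} (hW : W' ≤ W) : zqc W' ⟶ zqc W :=
  LocCohZ.zqMap (le_top : W ≤ ⊤) (le_top : W' ≤ ⊤) hW le_rfl

lemma π_zm {W W' : Opens X} (hW : W' ≤ W) : π W' ≫ zm hW = π W := by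
  dsimp only [zm, LocCohZ.zqMap, cokernel.map]
  rw [cokernel.π_desc]
  have e : homOfLE (le_rfl : (⊤ : Opens X) ≤ ⊤) = 𝟙 _ := rfl
  rw [e, CohFree.freeSheafMap_id]
  exact Category.id_comp _

instance epi_zm {W W' : Opens X} (hW : W' ≤ W) : Epi (zm hW) :=
  epi_of_epi_fac (π_zm hW)

lemma zm_comp {W W' W'' : Opens X} (h : W' ≤ W) (h' : W'' ≤ W') :
    zm h' ≫ zm h = zm (h'.trans h) := by
  rw [← cancel_epi (π W''), ← Category.assoc, π_zm, π_zm, π_zm]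

noncomputable abbrev sec (T : CohTop.Ab X) (φ : Zt X ⟶ T) : T.obj.obj (op (⊤ : Opens X)) :=
  CohFree.evalGen (Opens.grothendieckTopology X) ⊤ T φ

lemma m_comp_eq_zero_iff (W : Opens X) (T : CohTop.Ab X) (φ : Zt X ⟶ T) :
    m W ≫ φ = 0 ↔ T.obj.map (homOfLE (le_top : W ≤ ⊤)).op (sec T φ) = 0 := by
  have e := CohFree.evalGen_freeSheafMap_comp (Opens.grothendieckTopology X)
    (homOfLE (le_top : W ≤ ⊤)) T φ
  constructor
  · intro h
    rw [h, map_zero] at e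
    exact e.symm
  · intro h
    apply (CohFree.homEquivSect (Opens.grothendieckTopology X) W T).injective
    rw [map_zero]
    exact e.trans h

lemma sep (U U' : Opens X) (T : CohTop.Ab X) (φ : Zt X ⟶ T) (h₁ : m U ≫ φ = 0)
    (h₂ : m U' ≫ φ = 0) : m (U ⊔ U') ≫ φ = 0 := by
  rw [m_comp_eq_zero_iff] at h₁ h₂ ⊢
  refine TopCat.Sheaf.eq_of_locally_eq₂ T (homOfLE (le_sup_left : U ≤ U ⊔ U'))
    (homOfLE (le_sup_right : U' ≤ U ⊔ U')) le_rfl _ 0 ?_ ?_
  · rw [map_zero]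
    exact (KerFlasque.map_map_apply T _ _ (homOfLE le_top) _).trans h₁
  · rw [map_zero]
    exact (KerFlasque.map_map_apply T _ _ (homOfLE le_top) _).trans h₂

variable (U U' : Opens X)

noncomputable abbrev a₁ : zqc (U ⊓ U') ⟶ zqc U := zm inf_le_left
noncomputable abbrev a₂ : zqc (U ⊓ U') ⟶ zqc U' := zm inf_le_right
noncomputable abbrev b₁ : zqc U ⟶ zqc (U ⊔ U') := zm le_sup_left
noncomputable abbrev b₂ : zqc U' ⟶ zqc (U ⊔ U') := zm le_sup_right

lemma w : biprod.lift (a₁ U U') (-(a₂ U U')) ≫ biprod.desc (b₁ U U') (b₂ U U') = 0 := by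
  rw [biprod.lift_desc, Preadditive.neg_comp, zm_comp, zm_comp]
  exact add_neg_cancel _

/-- the Mayer–Vietoris short complex of the sheaves `ℤ_X/ℤ_W` -/
noncomputable def S : ShortComplex (CohTop.Ab X) :=
  ShortComplex.mk _ _ (w U U')

instance : Epi (S U U').g := by
  dsimp [S]
  exact epi_of_epi_fac (biprod.inl_desc (b₁ U U') (b₂ U U'))

variable {U U'} in
lemma key {T : CohTop.Ab X} (k : zqc U ⊞ zqc U' ⟶ T)
    (hk : biprod.lift (a₁ U U') (-(a₂ U U')) ≫ k = 0) :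
    π U ≫ biprod.inl ≫ k = π U' ≫ biprod.inr ≫ k := by
  have hk' : a₁ U U' ≫ biprod.inl ≫ k = a₂ U U' ≫ biprod.inr ≫ k := by
    rw [biprod.lift_eq, Preadditive.add_comp, Preadditive.neg_comp, Preadditive.neg_comp,
      add_neg_eq_zero, Category.assoc, Category.assoc] at hk
    exact hk
  calc π U ≫ biprod.inl ≫ k = (π (U ⊓ U') ≫ a₁ U U') ≫ biprod.inl ≫ k := by rw [π_zm]
    _ = π (U ⊓ U') ≫ a₁ U U' ≫ biprod.inl ≫ k := Category.assoc _ _ _
    _ = π (U ⊓ U') ≫ a₂ U U' ≫ biprod.inr ≫ k := by rw [hk']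
    _ = (π (U ⊓ U') ≫ a₂ U U') ≫ biprod.inr ≫ k := (Category.assoc _ _ _).symm
    _ = π U' ≫ biprod.inr ≫ k := by rw [π_zm]

variable {U U'} in
lemma dsc_cond {T : CohTop.Ab X} (k : zqc U ⊞ zqc U' ⟶ T)
    (hk : biprod.lift (a₁ U U') (-(a₂ U U')) ≫ k = 0) :
    m (U ⊔ U') ≫ π U ≫ biprod.inl ≫ k = 0 := by
  refine sep U U' T _ ?_ ?_
  · rw [← Category.assoc, cokernel.condition, zero_comp]
  · rw [key k hk, ← Category.assoc, cokernel.condition, zero_comp]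

variable {U U'} in
noncomputable def dsc {T : CohTop.Ab X} (k : zqc U ⊞ zqc U' ⟶ T)
    (hk : biprod.lift (a₁ U U') (-(a₂ U U')) ≫ k = 0) : zqc (U ⊔ U') ⟶ T :=
  cokernel.desc (m (U ⊔ U')) (π U ≫ biprod.inl ≫ k) (dsc_cond k hk)

variable {U U'} in
lemma π_dsc {T : CohTop.Ab X} (k : zqc U ⊞ zqc U' ⟶ T)
    (hk : biprod.lift (a₁ U U') (-(a₂ U U')) ≫ k = 0) :
    π (U ⊔ U') ≫ dsc k hk = π U ≫ biprod.inl ≫ k :=
  cokernel.π_desc _ _ _

variable {U U'} in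
lemma g_dsc {T : CohTop.Ab X} (k : zqc U ⊞ zqc U' ⟶ T)
    (hk : biprod.lift (a₁ U U') (-(a₂ U U')) ≫ k = 0) :
    biprod.desc (b₁ U U') (b₂ U U') ≫ dsc k hk = k := by
  apply biprod.hom_ext'
  · rw [biprod.inl_desc_assoc, ← cancel_epi (π U)]
    calc π U ≫ b₁ U U' ≫ dsc k hk = (π U ≫ b₁ U U') ≫ dsc k hk := (Category.assoc _ _ _).symm
      _ = π (U ⊔ U') ≫ dsc k hk := by rw [π_zm]
      _ = _ := π_dsc k hk
  · rw [biprod.inr_desc_assoc, ← cancel_epi (π U')]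
    calc π U' ≫ b₂ U U' ≫ dsc k hk = (π U' ≫ b₂ U U') ≫ dsc k hk := (Category.assoc _ _ _).symm
      _ = π (U ⊔ U') ≫ dsc k hk := by rw [π_zm]
      _ = _ := (π_dsc k hk).trans (key k hk)

lemma exact : (S U U').Exact := by
  refine ShortComplex.exact_of_g_is_cokernel _ ?_
  refine CokernelCofork.IsColimit.ofπ _ _
    (fun {T} k hk => dsc (U := U) (U' := U') k hk) (fun {T} k hk => g_dsc (U := U) (U' := U') k hk) ?_
  intro T k hk b hb
  rw [← cancel_epi (S U U').g]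
  exact hb.trans (g_dsc (U := U) (U' := U') k hk).symm

lemma split (I : CohTop.Ab X) [TopCat.Sheaf.IsFlasque I] (r : I.obj.obj (op (⊤ : Opens X)))
    (hr : I.obj.map (homOfLE (le_top : U ⊓ U' ≤ ⊤)).op r = 0) :
    ∃ s : I.obj.obj (op (⊤ : Opens X)), I.obj.map (homOfLE (le_top : U ≤ ⊤)).op s = 0 ∧
      I.obj.map (homOfLE (le_top : U' ≤ ⊤)).op s =
        I.obj.map (homOfLE (le_top : U' ≤ ⊤)).op r := by
  obtain ⟨s₁, h1, h2⟩ := KerFlasque.glue₂ I U U' (U ⊔ U') (homOfLE le_sup_left)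
    (homOfLE le_sup_right) le_rfl 0 (I.obj.map (homOfLE (le_top : U' ≤ ⊤)).op r) (by
      rw [map_zero, KerFlasque.map_map_apply I _ _ (homOfLE le_top)]
      exact hr.symm)
  have hepi : Epi (I.obj.map (homOfLE (le_top : U ⊔ U' ≤ ⊤)).op) :=
    TopCat.Presheaf.IsFlasque.epi _
  obtain ⟨s, hs⟩ := (AddCommGrpCat.epi_iff_surjective _).mp hepi s₁
  refine ⟨s, ?_, ?_⟩
  · rw [← h1, ← hs]
    exact (KerFlasque.map_map_apply I _ _ _ s).symm
  · rw [← h2, ← hs]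
    exact (KerFlasque.map_map_apply I _ _ _ s).symm

lemma mono_f : Mono (S U U').f := by
  let A : CohTop.Ab X := zqc (U ⊓ U')
  let I : CohTop.Ab X := Injective.under A
  let ι : A ⟶ I := Injective.ι A
  have hι : Mono ι := Injective.ι_mono A
  have : TopCat.Sheaf.IsFlasque I := CohTopB.isFlasque_of_injective I
  let ρ : Zt X ⟶ I := π (U ⊓ U') ≫ ι
  have hρ : m (U ⊓ U') ≫ ρ = 0 := by
    rw [← Category.assoc, cokernel.condition, zero_comp]
  obtain ⟨s, hs₁, hs₂⟩ := split U U' I (sec I ρ) ((m_comp_eq_zero_iff _ _ _).mp hρ)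
  let σ : Zt X ⟶ I := CohFree.ofSect (Opens.grothendieckTopology X) ⊤ I s
  have hσs : sec I σ = s := CohFree.evalGen_ofSect _ _ _ _
  have hσ : m U ≫ σ = 0 := (m_comp_eq_zero_iff _ _ _).mpr (by rw [hσs]; exact hs₁)
  have hτ : m U' ≫ (σ - ρ) = 0 := (m_comp_eq_zero_iff _ _ _).mpr (by
    have e : sec I (σ - ρ) = s - sec I ρ := by
      rw [← hσs]
      exact map_sub (CohFree.evalGen (Opens.grothendieckTopology X) ⊤ I) σ ρ
    rw [e, map_sub, hs₂, sub_self])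
  let ψ₁ : zqc U ⟶ I := cokernel.desc (m U) σ hσ
  let ψ₂ : zqc U' ⟶ I := cokernel.desc (m U') (σ - ρ) hτ
  have e1 : π (U ⊓ U') ≫ a₁ U U' ≫ ψ₁ = σ := by
    rw [← Category.assoc, π_zm]
    exact cokernel.π_desc _ _ _
  have e2 : π (U ⊓ U') ≫ a₂ U U' ≫ ψ₂ = σ - ρ := by
    rw [← Category.assoc, π_zm]
    exact cokernel.π_desc _ _ _
  have fac : (S U U').f ≫ biprod.desc ψ₁ ψ₂ = ι := by
    change biprod.lift (a₁ U U') (-(a₂ U U')) ≫ biprod.desc ψ₁ ψ₂ = ι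
    rw [biprod.lift_desc, Preadditive.neg_comp, ← cancel_epi (π (U ⊓ U')),
      Preadditive.comp_add, Preadditive.comp_neg, e1, e2]
    change σ + -(σ - ρ) = ρ
    abel
  have h2 : Mono ((S U U').f ≫ biprod.desc ψ₁ ψ₂) := by
    rw [fac]
    exact hι
  exact mono_of_mono _ (biprod.desc ψ₁ ψ₂)

theorem shortExact : (S U U').ShortExact where
  exact := exact U U'
  mono_f := mono_f U U'
  epi_g := inferInstance

end Groth.Agent.H10.ZqMV
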